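import Groth.Agent.L03.GeomReduced2
import Groth.Agent.L21.Smooth.EtaleRegular
import Groth.Prelude.Def_Found
import Mathlib.RingTheory.Unramified.LocalStructure
import Mathlib.RingTheory.Smooth.Basic
import Mathlib.RingTheory.Localization.LocalizationLocalization
import Mathlib.LinearAlgebra.TensorProduct.RightExactness
import Mathlib.LinearAlgebra.FreeModule.Basic
import Mathlib.RingTheory.IntegralClosure.IsIntegral.Basic
import Mathlib.RingTheory.IsTensorProduct
import Mathlib.RingTheory.TensorProduct.Finite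
import Mathlib.FieldTheory.IntermediateField.Adjoin.Basic

/-!
Geometric regularity: smooth algebras over regular rings are regular, base change, directed unions of
subfields, separable algebraic change of the base field.
-/

set_option autoImplicit false
universe u

namespace Groth.L03.GeomRegular
open TensorProduct

/-- An algebra smooth over a regular ring is regular. -/
theorem isRegularRing_of_smooth (A B : Type u) [CommRing A] [CommRing B] [Algebra A B]
    [IsRegularRing A] [Algebra.Smooth A B] : IsRegularRing B := by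
  haveI : IsNoetherianRing B := Algebra.FiniteType.isNoetherianRing A B
  refine isRegularRing_iff.2 fun p hp => ?_
  haveI : Algebra.IsSmoothAt A p := inferInstance
  obtain ⟨f, hf, n, alg, htow, hstd⟩ := Algebra.IsSmoothAt.exists_isStandardEtale_mvPolynomial (R := A) (p := p)
  let Q : Ideal (Localization.Away f) := p.map (algebraMap B (Localization.Away f))
  have hdisj : Disjoint (Submonoid.powers f : Set B) p :=
    (Ideal.disjoint_powers_iff_notMem_of_isPrime f).2 hf
  haveI : Q.IsPrime := IsLocalization.isPrime_of_isPrime_disjoint _ _ p hp hdisj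
  have hreg := (Groth.L21.Smooth.regular_localization_of_etale (MvPolynomial (Fin n) A) (Localization.Away f) Q).1
  have hcomap : Q.comap (algebraMap B (Localization.Away f)) = p :=
    IsLocalization.comap_map_of_isPrime_disjoint _ _ hp hdisj
  haveI : IsLocalization.AtPrime (Localization.AtPrime Q) p := by
    have h1 := IsLocalization.isLocalization_isLocalization_atPrime_isLocalization (Submonoid.powers f)
      (Localization.AtPrime Q) Q
    simp only [IsLocalization.AtPrime, Ideal.primeCompl, hcomap] at h1 ⊢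
    exact h1
  exact IsRegularLocalRing.of_ringEquiv
    (IsLocalization.algEquiv p.primeCompl (Localization.AtPrime Q) (Localization.AtPrime p)).toRingEquiv

/-- A surjection whose kernel is killed away from a prime induces an isomorphism of local rings. -/
theorem nonempty_localEquiv {T T' : Type u} [CommRing T] [CommRing T'] (π : T →+* T') (hπ : Function.Surjective π)
    (P : Ideal T') [P.IsPrime] (h : ∀ z, π z = 0 → ∃ s, π s ∉ P ∧ s * z = 0) :
    Nonempty (Localization.AtPrime (P.comap π) ≃+* Localization.AtPrime P) := by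
  let φ := Localization.localRingHom (P.comap π) P π rfl
  refine ⟨RingEquiv.ofBijective φ ⟨?_, ?_⟩⟩
  · rw [injective_iff_map_eq_zero]
    intro x hx
    obtain ⟨z, t, rfl⟩ := IsLocalization.exists_mk'_eq (P.comap π).primeCompl x
    rw [Localization.localRingHom_mk', IsLocalization.mk'_eq_zero_iff] at hx
    obtain ⟨⟨u, hu⟩, huz⟩ := hx
    obtain ⟨u', rfl⟩ := hπ u
    obtain ⟨s, hs, hsz⟩ := h (u' * z) (by rw [map_mul]; exact huz)
    rw [IsLocalization.mk'_eq_zero_iff]
    exact ⟨⟨s * u', fun hh => (‹P.IsPrime›.mem_or_mem (by rw [← map_mul]; exact hh)).elim hs hu⟩,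
      by rw [mul_assoc]; exact hsz⟩
  · intro y
    obtain ⟨z, ⟨t, ht⟩, rfl⟩ := IsLocalization.exists_mk'_eq P.primeCompl y
    obtain ⟨z', rfl⟩ := hπ z
    obtain ⟨t', rfl⟩ := hπ t
    exact ⟨IsLocalization.mk' _ z' (⟨t', ht⟩ : (P.comap π).primeCompl), Localization.localRingHom_mk' _ _ _ _ _ _⟩

/-- In a reduced ring, every element of a minimal prime is killed by an element outside it. -/
theorem exists_notMem_mul_eq_zero {T : Type u} [CommRing T] [_root_.IsReduced T] (m : Ideal T) [hm : m.IsPrime]
    (hmin : ∀ q : Ideal T, q.IsPrime → q ≤ m → m ≤ q) {t : T} (ht : t ∈ m) : ∃ s ∉ m, s * t = 0 := by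
  have h1 : IsNilpotent (algebraMap _ (Localization.AtPrime m) t) := by
    refine nilpotent_iff_mem_prime.2 fun Q hQ => ?_
    have h2 : Q.comap (algebraMap _ (Localization.AtPrime m)) ≤ m := fun w hw => by
      by_contra hwm
      exact hQ.ne_top (Ideal.eq_top_of_isUnit_mem _ hw (IsLocalization.map_units _ (⟨w, hwm⟩ : m.primeCompl)))
    exact hmin _ (Ideal.IsPrime.comap _) h2 ht
  obtain ⟨j, hj⟩ := h1
  rw [← map_pow] at hj
  obtain ⟨⟨c, hc⟩, hcj⟩ := (IsLocalization.map_eq_zero_iff m.primeCompl _ _).1 hj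
  refine ⟨c, hc, IsReduced.eq_zero _ ⟨j + 1, ?_⟩⟩
  rw [mul_pow, pow_succ c, pow_succ t]
  linear_combination (c ^ j * t) * hcj

/-- Geometric regularity passes to finite extensions of the base field. -/
theorem isGeometricallyRegular_baseChange (k A K : Type u) [Field k] [CommRing A] [Algebra k A] [Field K]
    [Algebra k K] [Module.Finite k K] (h : CAlg.IsGeometricallyRegular k A) :
    CAlg.IsGeometricallyRegular K (K ⊗[k] A) := by
  intro k' _ _ hk'
  haveI := hk'
  letI : Algebra k k' := ((algebraMap K k').comp (algebraMap k K)).toAlgebra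
  haveI : IsScalarTower k K k' := IsScalarTower.of_algebraMap_eq fun _ => rfl
  haveI : Module.Finite k k' := Module.Finite.trans K k'
  haveI := h k' inferInstance
  exact IsRegularRing.of_ringEquiv (Algebra.TensorProduct.cancelBaseChange k K K k' A).symm.toRingEquiv

/-- A finite field extension is defined over a member of a directed family of subfields covering the base. -/
theorem exists_subfield_model (k : Type u) [Field k] {ι : Type u} [Nonempty ι]
    (K : ι → Type u) [∀ i, Field (K i)] [∀ i, Algebra (K i) k]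
    (hdir : ∀ i j, ∃ l, Set.range (algebraMap (K i) k) ⊆ Set.range (algebraMap (K l) k) ∧
      Set.range (algebraMap (K j) k) ⊆ Set.range (algebraMap (K l) k))
    (hcov : ∀ x : k, ∃ i, x ∈ Set.range (algebraMap (K i) k))
    (k' : Type u) [Field k'] [Algebra k k'] [Module.Finite k k'] :
    ∃ (i : ι) (F : Type u) (_ : Field F) (_ : Algebra (K i) F), Module.Finite (K i) F ∧
      Nonempty (k ⊗[K i] F ≃ₐ[k] k') := by
  classical
  obtain ⟨n, ⟨b⟩⟩ : ∃ n, Nonempty (Module.Basis (Fin n) k k') := ⟨_, ⟨Module.finBasis k k'⟩⟩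
  let Cs : Finset k := (Finset.univ.image fun j : Fin n => b.repr 1 j) ∪
    Finset.univ.image fun x : Fin n × Fin n × Fin n => b.repr (b x.1 * b x.2.1) x.2.2
  have hfin : ∀ C : Finset k, ∃ i, ∀ x ∈ C, x ∈ Set.range (algebraMap (K i) k) := fun C => by
    induction C using Finset.induction with
    | empty => exact ⟨Classical.arbitrary ι, by simp⟩
    | insert a C _ ih =>
      obtain ⟨i, hi⟩ := ih
      obtain ⟨j, hj⟩ := hcov a
      obtain ⟨l, h1, h2⟩ := hdir i j
      exact ⟨l, fun x hx => (Finset.mem_insert.1 hx).elim (fun h => h2 (h ▸ hj)) (fun h => h1 (hi x h))⟩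
  obtain ⟨i, hi⟩ := hfin Cs
  letI : Algebra (K i) k' := ((algebraMap k k').comp (algebraMap (K i) k)).toAlgebra
  haveI : IsScalarTower (K i) k k' := IsScalarTower.of_algebraMap_eq fun _ => rfl
  let N : Submodule (K i) k' := Submodule.span (K i) (Set.range b)
  have hN : ∀ v : k', (∀ j, b.repr v j ∈ Set.range (algebraMap (K i) k)) → v ∈ N := fun v hv => by
    rw [← b.sum_repr v]
    refine sum_mem fun j _ => ?_
    obtain ⟨c, hc⟩ := hv j
    rw [← hc, algebraMap_smul]
    exact N.smul_mem _ (Submodule.subset_span ⟨j, rfl⟩)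
  have h1 : (1 : k') ∈ N := hN 1 fun j => hi _ (Finset.mem_union_left _ (Finset.mem_image_of_mem _ (Finset.mem_univ j)))
  have hmul : ∀ x y : k', x ∈ N → y ∈ N → x * y ∈ N := by
    intro x y hx hy
    induction hx using Submodule.span_induction with
    | mem x hx =>
      induction hy using Submodule.span_induction with
      | mem y hy =>
        obtain ⟨a, rfl⟩ := hx
        obtain ⟨c, rfl⟩ := hy
        exact hN _ fun l => hi _ (Finset.mem_union_right _ (Finset.mem_image.2 ⟨(a, c, l), Finset.mem_univ _, rfl⟩))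
      | zero => rw [mul_zero]; exact zero_mem _
      | add u v _ _ hu hv => rw [mul_add]; exact add_mem hu hv
      | smul c u _ hu => rw [mul_smul_comm]; exact N.smul_mem _ hu
    | zero => rw [zero_mul]; exact zero_mem _
    | add u v _ _ hu hv => rw [add_mul]; exact add_mem hu hv
    | smul c u _ hu => rw [smul_mul_assoc]; exact N.smul_mem _ hu
  let S : Subalgebra (K i) k' := N.toSubalgebra h1 hmul
  have hbi : LinearIndependent (K i) b :=
    b.linearIndependent.restrict_scalars (by
      intro x y h
      exact (algebraMap (K i) k).injective (by simpa [Algebra.smul_def] using h))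
  haveI : Module.Finite (K i) S := Module.Finite.iff_fg.2 (Submodule.fg_span (Set.finite_range b) : N.FG)
  haveI : IsDomain S := inferInstance
  haveI : Algebra.IsIntegral (K i) S := Algebra.IsIntegral.of_finite (K i) S
  have hF : IsField S := isField_of_isIntegral_of_isField' (Field.toIsField (K i))
  refine ⟨i, S, hF.toField, inferInstance, inferInstance, ⟨?_⟩⟩
  let bS : Module.Basis (Fin n) (K i) S :=
    (Module.Basis.span hbi).map (LinearEquiv.ofEq N S.toSubmodule (by ext; rfl))
  let f : k ⊗[K i] S →ₐ[k] k' := Algebra.TensorProduct.lift (Algebra.ofId k k') S.val (fun _ _ => .all _ _)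
  refine AlgEquiv.ofBijective f ?_
  have hf : f.toLinearMap = ((Algebra.TensorProduct.basis k bS).equiv b (Equiv.refl _)).toLinearMap := by
    refine (Algebra.TensorProduct.basis k bS).ext fun j => ?_
    rw [LinearEquiv.coe_coe, Module.Basis.equiv_apply, Equiv.refl_apply, Algebra.TensorProduct.basis_apply]
    show f ((1 : k) ⊗ₜ bS j) = b j
    rw [Algebra.TensorProduct.lift_tmul, map_one, one_mul]
    show ((bS j : S) : k') = b j
    simp only [bS, Module.Basis.map_apply, Module.Basis.span_apply]; rfl
  have h2 : ⇑f = ⇑((Algebra.TensorProduct.basis k bS).equiv b (Equiv.refl _)) :=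
    funext fun z => LinearMap.congr_fun hf z
  rw [h2]
  exact LinearEquiv.bijective _

/-- Geometric regularity over all members of a directed covering family of subfields. -/
theorem isGeometricallyRegular_of_directed (k : Type u) [Field k] {ι : Type u}
    (K : ι → Type u) [∀ i, Field (K i)] [∀ i, Algebra (K i) k]
    (hdir : ∀ i j, ∃ l, Set.range (algebraMap (K i) k) ⊆ Set.range (algebraMap (K l) k) ∧
      Set.range (algebraMap (K j) k) ⊆ Set.range (algebraMap (K l) k))
    (hcov : ∀ x : k, ∃ i, x ∈ Set.range (algebraMap (K i) k))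
    (A : Type u) [CommRing A] [Algebra k A] [∀ i, Algebra (K i) A] [∀ i, IsScalarTower (K i) k A]
    (h : ∀ i, CAlg.IsGeometricallyRegular (K i) A) : CAlg.IsGeometricallyRegular k A := by
  intro k' _ _ hk'
  haveI := hk'
  haveI : Nonempty ι := ⟨(hcov 0).choose⟩
  obtain ⟨i, F, _, _, hF, ⟨e⟩⟩ := exists_subfield_model k K hdir hcov k'
  haveI := h i F hF
  let e1 : A ⊗[K i] F ≃ₐ[k] A ⊗[k] (k ⊗[K i] F) :=
    (Algebra.TensorProduct.cancelBaseChange (K i) k k A F).symm
  haveI : IsRegularRing (A ⊗[K i] F) :=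
    IsRegularRing.of_ringEquiv (Algebra.TensorProduct.comm (K i) F A).toRingEquiv
  haveI : IsRegularRing (A ⊗[k] (k ⊗[K i] F)) := IsRegularRing.of_ringEquiv e1.toRingEquiv
  haveI : IsRegularRing (A ⊗[k] k') :=
    IsRegularRing.of_ringEquiv (Algebra.TensorProduct.congr (AlgEquiv.refl : A ≃ₐ[k] A) e).toRingEquiv
  exact IsRegularRing.of_ringEquiv (Algebra.TensorProduct.comm k A k').toRingEquiv

/-- For `L/k` separable algebraic and a field `F` over `L`, the map `F ⊗_k A → F ⊗_L A` is surjective and
its kernel is killed by elements becoming units. -/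
theorem separable_kill {k L A : Type u} [Field k] [Field L] [Algebra k L] [Algebra.IsSeparable k L]
    [CommRing A] [Algebra L A] [Algebra k A] [IsScalarTower k L A] (F : Type u) [Field F] [Algebra L F]
    [Algebra k F] [IsScalarTower k L F] :
    ∃ π : F ⊗[k] A →+* F ⊗[L] A, Function.Surjective π ∧ ∀ z, π z = 0 → ∃ s, IsUnit (π s) ∧ s * z = 0 := by
  haveI : Algebra.FormallyEtale k L := Algebra.FormallyEtale.of_isSeparable k L
  haveI : Algebra.IsGeometricallyReduced k L := (Groth.L03.GeomReduced.formallySmooth_iff k L).1 inferInstance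
  haveI : _root_.IsReduced (F ⊗[k] L) := Groth.L03.GeomReduced2.isReduced_of_isGeometricallyReduced F
  let μ : F ⊗[k] L →ₐ[F] F := Algebra.TensorProduct.lift (AlgHom.id F F) (IsScalarTower.toAlgHom k L F) (fun _ _ => .all _ _)
  let m : Ideal (F ⊗[k] L) := RingHom.ker μ.toRingHom
  haveI hm : m.IsPrime := RingHom.ker_isPrime _
  have hmin : ∀ q : Ideal (F ⊗[k] L), q.IsPrime → q ≤ m → m ≤ q := fun q hq hqm => by
    haveI := hq
    have hqmax : q.IsMaximal := Ideal.isMaximal_of_isIntegral_of_isMaximal_comap q (by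
      have h0 : q.comap (algebraMap F (F ⊗[k] L)) = ⊥ :=
        (Ideal.eq_bot_or_top _).resolve_right (Ideal.IsPrime.ne_top inferInstance)
      rw [h0]; exact Ideal.bot_isMaximal)
    exact (hqmax.eq_of_le hm.ne_top hqm).ge
  let Φ : F ⊗[k] L →ₐ[F] F ⊗[k] A := Algebra.TensorProduct.map (AlgHom.id F F) (IsScalarTower.toAlgHom k L A)
  let π : F ⊗[k] A →ₐ[F] F ⊗[L] A := Algebra.TensorProduct.lift (Algebra.ofId F _)
    ((Algebra.TensorProduct.includeRight : A →ₐ[L] F ⊗[L] A).restrictScalars k) (fun _ _ => .all _ _)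
  have hπt : ∀ (a : F) (b : A), π (a ⊗ₜ[k] b) = a ⊗ₜ[L] b := fun a b => by
    simp [π, Algebra.algebraMap_eq_smul_one, TensorProduct.smul_tmul']
  have hπs : Function.Surjective π := fun z => by
    induction z using TensorProduct.induction_on with
    | zero => exact ⟨0, map_zero _⟩
    | tmul a b => exact ⟨a ⊗ₜ b, hπt a b⟩
    | add a b ha hb =>
      obtain ⟨a', rfl⟩ := ha
      obtain ⟨b', rfl⟩ := hb
      exact ⟨a' + b', map_add _ _ _⟩
  have hπΦ : ∀ z, π (Φ z) = algebraMap F (F ⊗[L] A) (μ z) := fun z => by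
    induction z using TensorProduct.induction_on with
    | zero => simp
    | tmul a b =>
      have hb : (1 : F) ⊗ₜ[L] (algebraMap L A b) = algebraMap L F b ⊗ₜ[L] (1 : A) := by
        rw [Algebra.algebraMap_eq_smul_one, Algebra.algebraMap_eq_smul_one, TensorProduct.smul_tmul]
      simp [π, Φ, μ, hb, Algebra.TensorProduct.algebraMap_apply]
    | add a b ha hb => rw [map_add, map_add, ha, hb, map_add, map_add]
  let J : Ideal (F ⊗[k] A) := m.map Φ.toRingHom
  have hker : ∀ z, π z = 0 → z ∈ J := by
    let σ : F ⊗[L] A →+ (F ⊗[k] A) ⧸ J := TensorProduct.liftAddHom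
      { toFun := fun a =>
          { toFun := fun b => Ideal.Quotient.mk J (a ⊗ₜ b)
            map_zero' := by simp
            map_add' := fun b b' => by simp [TensorProduct.tmul_add] }
        map_zero' := by ext; simp
        map_add' := fun a a' => by ext; simp [TensorProduct.add_tmul] }
      (fun c a b => by
        show Ideal.Quotient.mk J ((c • a) ⊗ₜ b) = Ideal.Quotient.mk J (a ⊗ₜ (c • b))
        rw [Ideal.Quotient.eq]
        have h1 : (algebraMap L F c) ⊗ₜ[k] (1 : L) - (1 : F) ⊗ₜ[k] c ∈ m := by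
          show μ _ = 0
          simp [μ]
        have h2 := J.mul_mem_left (a ⊗ₜ[k] b) (Ideal.mem_map_of_mem Φ.toRingHom h1)
        convert h2 using 1
        simp [Φ, mul_sub, Algebra.smul_def, mul_comm a, mul_comm b])
    intro z hz
    have h : ∀ z, σ (π z) = Ideal.Quotient.mk J z := fun z => by
      induction z using TensorProduct.induction_on with
      | zero => simp
      | tmul a b => rw [hπt]; rfl
      | add a b ha hb => rw [map_add, map_add, ha, hb, map_add]
    rw [← Ideal.Quotient.eq_zero_iff_mem, ← h, hz, map_zero]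
  refine ⟨π.toRingHom, hπs, fun z hz => ?_⟩
  obtain ⟨s, hs, hsz⟩ : ∃ s ∉ m, Φ s * z = 0 := by
    refine Submodule.span_induction ?_ ⟨1, fun h => hm.ne_top ((Ideal.eq_top_iff_one _).2 h), by simp⟩ ?_ ?_ (hker z hz)
    · rintro _ ⟨t, ht, rfl⟩
      obtain ⟨s, hs, hst⟩ := exists_notMem_mul_eq_zero m hmin ht
      exact ⟨s, hs, by rw [show (Φ.toRingHom t) = Φ t from rfl, ← map_mul, hst, map_zero]⟩
    · rintro a b _ _ ⟨s, hs, hsa⟩ ⟨s', hs', hsb⟩
      exact ⟨s * s', fun h => (hm.mem_or_mem h).elim hs hs', by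
        rw [map_mul]; linear_combination (Φ s') * hsa + (Φ s) * hsb⟩
    · rintro r a _ ⟨s, hs, hsa⟩
      exact ⟨s, hs, by rw [smul_eq_mul]; linear_combination r * hsa⟩
  refine ⟨Φ s, ?_, hsz⟩
  show IsUnit (π (Φ s))
  rw [hπΦ]
  exact (isUnit_iff_ne_zero.2 fun h => hs h).map _

/-- Geometric regularity descends to a separable algebraic extension of the base field. -/
theorem isGeometricallyRegular_top (k k' A : Type u) [Field k] [Field k'] [Algebra k k'] [Algebra.IsSeparable k k']
    [CommRing A] [Algebra k' A] [Algebra k A] [IsScalarTower k k' A] (h : CAlg.IsGeometricallyRegular k A) :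
    CAlg.IsGeometricallyRegular k' A := by
  let ι := {L : IntermediateField k k' // FiniteDimensional k L}
  refine isGeometricallyRegular_of_directed k' (ι := ι) (fun L => L.1) (fun L L' => ?_) (fun x => ?_) A (fun L => ?_)
  · haveI := L.2; haveI := L'.2
    exact ⟨⟨L.1 ⊔ L'.1, IntermediateField.finiteDimensional_sup L.1 L'.1⟩,
      fun x ⟨y, hy⟩ => ⟨⟨x, hy ▸ (le_sup_left : L.1 ≤ L.1 ⊔ L'.1) y.2⟩, rfl⟩,
      fun x ⟨y, hy⟩ => ⟨⟨x, hy ▸ (le_sup_right : L'.1 ≤ L.1 ⊔ L'.1) y.2⟩, rfl⟩⟩
  · exact ⟨⟨IntermediateField.adjoin k {x}, IntermediateField.adjoin.finiteDimensional (Algebra.IsIntegral.isIntegral x)⟩,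
      ⟨x, IntermediateField.subset_adjoin k _ rfl⟩, rfl⟩
  · haveI := L.2
    haveI : Algebra.IsSeparable k L.1 := Algebra.isSeparable_tower_bot_of_isSeparable k L.1 k'
    intro F _ _ hF
    haveI := hF
    letI : Algebra k F := ((algebraMap L.1 F).comp (algebraMap k L.1)).toAlgebra
    haveI : IsScalarTower k L.1 F := IsScalarTower.of_algebraMap_eq fun _ => rfl
    haveI : Module.Finite k F := Module.Finite.trans L.1 F
    haveI := h F inferInstance
    obtain ⟨π, hπ, hk⟩ := separable_kill (k := k) (L := L.1) (A := A) F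
    haveI : IsNoetherianRing (F ⊗[L.1] A) := isNoetherianRing_of_surjective _ _ π hπ
    refine isRegularRing_iff.2 fun P _ => ?_
    obtain ⟨e⟩ := nonempty_localEquiv π hπ P fun z hz => by
      obtain ⟨s, hs, hsz⟩ := hk z hz
      exact ⟨s, fun hh => Ideal.IsPrime.ne_top inferInstance (P.eq_top_of_isUnit_mem hh hs), hsz⟩
    exact IsRegularLocalRing.of_ringEquiv e

/-- Geometric regularity over a separable algebraic extension implies it over the base. -/
theorem isGeometricallyRegular_bot (k k' A : Type u) [Field k] [Field k'] [Algebra k k'] [Algebra.IsSeparable k k']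
    [CommRing A] [Algebra k' A] [Algebra k A] [IsScalarTower k k' A] [IsNoetherianRing A]
    (h : CAlg.IsGeometricallyRegular k' A) : CAlg.IsGeometricallyRegular k A := by
  intro L _ _ hL
  haveI := hL
  haveI : Algebra.FormallyEtale k k' := Algebra.FormallyEtale.of_isSeparable k k'
  haveI : Algebra.IsGeometricallyReduced k k' := (Groth.L03.GeomReduced.formallySmooth_iff k k').1 inferInstance
  haveI : _root_.IsReduced (L ⊗[k] k') := Groth.L03.GeomReduced2.isReduced_of_isGeometricallyReduced L
  let R0 := k' ⊗[k] L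
  haveI : _root_.IsReduced R0 :=
    isReduced_of_injective (Algebra.TensorProduct.comm k k' L).toAlgHom (Algebra.TensorProduct.comm k k' L).injective
  haveI : IsNoetherianRing (A ⊗[k'] R0) := by
    haveI : Module.Finite A (A ⊗[k'] R0) := inferInstance
    exact IsNoetherianRing.of_finite A _
  suffices IsRegularRing (A ⊗[k'] R0) from
    haveI := this
    haveI : IsRegularRing (A ⊗[k] L) :=
      IsRegularRing.of_ringEquiv (Algebra.TensorProduct.cancelBaseChange k k' A A L).toRingEquiv
    IsRegularRing.of_ringEquiv (Algebra.TensorProduct.comm k A L).toRingEquiv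
  refine isRegularRing_iff.2 fun P hP => ?_
  let m : Ideal R0 := P.comap (Algebra.TensorProduct.includeRight : R0 →ₐ[k'] A ⊗[k'] R0).toRingHom
  haveI : m.IsPrime := Ideal.IsPrime.comap _
  haveI : Algebra.IsIntegral k' R0 := Algebra.IsIntegral.of_finite k' R0
  have hmax : ∀ q : Ideal R0, q.IsPrime → q.IsMaximal := fun q hq => by
    haveI := hq
    refine Ideal.isMaximal_of_isIntegral_of_isMaximal_comap (R := k') q ?_
    have h0 : q.comap (algebraMap k' R0) = ⊥ :=
      (Ideal.eq_bot_or_top _).resolve_right (Ideal.IsPrime.ne_top inferInstance)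
    rw [h0]; exact Ideal.bot_isMaximal
  haveI : m.IsMaximal := hmax m inferInstance
  letI : Field (R0 ⧸ m) := Ideal.Quotient.field m
  haveI := h (R0 ⧸ m) inferInstance
  haveI : IsRegularRing (A ⊗[k'] (R0 ⧸ m)) :=
    IsRegularRing.of_ringEquiv (Algebra.TensorProduct.comm k' (R0 ⧸ m) A).toRingEquiv
  let π : A ⊗[k'] R0 →ₐ[k'] A ⊗[k'] (R0 ⧸ m) :=
    Algebra.TensorProduct.map (AlgHom.id k' A) (Ideal.Quotient.mkₐ k' m)
  have hπ : Function.Surjective π :=
    LinearMap.lTensor_surjective A (g := (Ideal.Quotient.mkₐ k' m).toLinearMap) Ideal.Quotient.mk_surjective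
  have hkerπ : RingHom.ker π.toRingHom = m.map (Algebra.TensorProduct.includeRight : R0 →ₐ[k'] A ⊗[k'] R0).toRingHom := by
    have h1 := Algebra.TensorProduct.map_ker (f := AlgHom.id k' A) (g := Ideal.Quotient.mkₐ k' m)
      Function.surjective_id Ideal.Quotient.mk_surjective
    have h2 : RingHom.ker (AlgHom.id k' A).toRingHom = ⊥ := RingHom.injective_iff_ker_eq_bot _ |>.1 Function.injective_id
    have h3 : RingHom.ker (Ideal.Quotient.mkₐ k' m).toRingHom = m := Ideal.mk_ker
    simp only [AlgHom.toRingHom_eq_coe, RingHom.ker_coe_toRingHom] at h2 h3 h1 ⊢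
    rw [h1, h2, h3, Ideal.map_bot, bot_sup_eq]
    rfl
  have hPle : RingHom.ker π.toRingHom ≤ P := hkerπ.trans_le Ideal.map_comap_le
  let P' : Ideal (A ⊗[k'] (R0 ⧸ m)) := P.map π.toRingHom
  haveI : P'.IsPrime := Ideal.map_isPrime_of_surjective hπ hPle
  have hcomap : P'.comap π.toRingHom = P := by
    show (P.map π.toRingHom).comap π.toRingHom = P
    rw [Ideal.comap_map_of_surjective π.toRingHom hπ, ← RingHom.ker_eq_comap_bot]
    exact sup_eq_left.2 hPle
  obtain ⟨e⟩ := nonempty_localEquiv π.toRingHom hπ P' fun z hz => by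
    have hz' : z ∈ m.map (Algebra.TensorProduct.includeRight : R0 →ₐ[k'] A ⊗[k'] R0).toRingHom := hkerπ ▸ hz
    suffices ∃ s ∉ P, s * z = 0 by
      obtain ⟨s, hs, hsz⟩ := this
      exact ⟨s, fun hh => hs (hcomap ▸ hh), hsz⟩
    refine Submodule.span_induction ?_ ⟨1, fun h => hP.ne_top ((Ideal.eq_top_iff_one _).2 h), by simp⟩ ?_ ?_ hz'
    · rintro _ ⟨t, ht, rfl⟩
      obtain ⟨s, hs, hst⟩ := exists_notMem_mul_eq_zero m
        (fun q hq hqm => ((hmax q hq).eq_of_le (Ideal.IsPrime.ne_top inferInstance) hqm).ge) ht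
      exact ⟨_, hs, by rw [← map_mul, hst, map_zero]⟩
    · rintro a b _ _ ⟨s, hs, hsa⟩ ⟨s', hs', hsb⟩
      exact ⟨s * s', fun h => (hP.mem_or_mem h).elim hs hs', by linear_combination s' * hsa + s * hsb⟩
    · rintro r a _ ⟨s, hs, hsa⟩
      exact ⟨s, hs, by rw [smul_eq_mul]; linear_combination r * hsa⟩
  haveI : IsRegularLocalRing (Localization.AtPrime (P'.comap π.toRingHom)) := IsRegularLocalRing.of_ringEquiv e.symm
  have key : ∀ (Q : Ideal (A ⊗[k'] R0)) [Q.IsPrime], Q = P → IsRegularLocalRing (Localization.AtPrime Q) →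
      IsRegularLocalRing (Localization.AtPrime P) := by
    intro Q _ hQ
    subst hQ
    exact id
  exact key _ hcomap inferInstance

/-- Smooth algebras over geometrically regular algebras are geometrically regular. -/
theorem isGeometricallyRegular_of_smooth (k A B : Type u) [Field k] [CommRing A] [Algebra k A] [CommRing B]
    [Algebra k B] [Algebra A B] [IsScalarTower k A B] [Algebra.Smooth A B] (hA : CAlg.IsGeometricallyRegular k A) :
    CAlg.IsGeometricallyRegular k B := by
  intro k' _ _ hk'
  haveI := hA k' hk'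
  let C := A ⊗[k] k'
  haveI : IsRegularRing C := IsRegularRing.of_ringEquiv (Algebra.TensorProduct.comm k k' A).toRingEquiv
  haveI : IsRegularRing (C ⊗[A] B) := isRegularRing_of_smooth C _
  haveI : IsRegularRing (B ⊗[A] C) := IsRegularRing.of_ringEquiv (Algebra.TensorProduct.comm A C B).toRingEquiv
  haveI : IsRegularRing (B ⊗[k] k') :=
    IsRegularRing.of_ringEquiv (Algebra.TensorProduct.cancelBaseChange k A B B k').toRingEquiv
  exact IsRegularRing.of_ringEquiv (Algebra.TensorProduct.comm k B k').toRingEquiv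

end Groth.L03.GeomRegular
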