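import Groth.Prelude.Def_FlatCA
import Mathlib.RingTheory.Ideal.MinimalPrime.Localization
import Mathlib.RingTheory.Localization.Ideal
import Mathlib.Algebra.Module.LocalizedModule.Basic

/-!
Basic facts on weakly associated primes and associated primes (`FlatCA.weakAss`, `FlatCA.ass`).
-/

namespace Groth.L03.WeakAss

open Submodule

universe u v

variable {R : Type u} [CommRing R] {M : Type v} [AddCommGroup M] [Module R M]

/-- The annihilator of an element. -/
abbrev annE (R : Type u) [CommRing R] {M : Type v} [AddCommGroup M] [Module R M] (m : M) : Ideal R :=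
  (Submodule.span R {m}).annihilator

theorem mem_annE {a : R} {m : M} : a ∈ annE R m ↔ a • m = 0 :=
  Submodule.mem_annihilator_span_singleton m a

theorem mem_weakAss_iff {p : Ideal R} :
    p ∈ FlatCA.weakAss R M ↔ ∃ m : M, p ∈ (annE R m).minimalPrimes := Iff.rfl

theorem mem_ass_iff {p : Ideal R} :
    p ∈ FlatCA.ass R M ↔ p.IsPrime ∧ ∃ m : M, p = annE R m := Iff.rfl

theorem minimalPrimes_iff {I p : Ideal R} :
    p ∈ I.minimalPrimes ↔ p.IsPrime ∧ I ≤ p ∧ ∀ a ∈ p, ∃ s, s ∉ p ∧ ∃ n : ℕ, s * a ^ n ∈ I := by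
  constructor
  · intro hp
    refine ⟨hp.isPrime, hp.le, fun a ha => ?_⟩
    by_contra h
    push Not at h
    haveI := hp.isPrime
    have hdis : Disjoint (I : Set R) (p.primeCompl ⊔ Submonoid.powers a : Submonoid R) := by
      rw [Set.disjoint_left]
      intro x hxI hx
      obtain ⟨s, hs, y, ⟨n, rfl⟩, rfl⟩ := Submonoid.mem_sup.1 hx
      exact h s hs n hxI
    obtain ⟨q, hq, hIq, hqS⟩ := Ideal.exists_le_prime_disjoint _ _ hdis
    have hqp : q ≤ p := fun x hx => by
      by_contra hxp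
      exact Set.disjoint_left.1 hqS hx (Submonoid.mem_sup_left (S := p.primeCompl) hxp)
    have hpq : p ≤ q := hp.2 ⟨hq, hIq⟩ hqp
    exact Set.disjoint_left.1 hqS (hpq ha) (Submonoid.mem_sup_right (Submonoid.mem_powers a))
  · rintro ⟨hp, hIp, h⟩
    refine ⟨⟨hp, hIp⟩, fun q hq hqp a ha => ?_⟩
    obtain ⟨s, hs, n, hsn⟩ := h a ha
    rcases hq.1.mem_or_mem (hq.2 hsn) with h1 | h1
    · exact absurd (hqp h1) hs
    · exact hq.1.mem_of_pow_mem n h1

theorem isPrime_of_mem_weakAss {p : Ideal R} (h : p ∈ FlatCA.weakAss R M) : p.IsPrime := by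
  obtain ⟨m, hm⟩ := h
  exact hm.isPrime

theorem exists_mem_weakAss_of_ne_zero {m : M} (hm : m ≠ 0) :
    ∃ p ∈ FlatCA.weakAss R M, annE R m ≤ p := by
  have : annE R m ≠ ⊤ := by
    rw [Ideal.ne_top_iff_one]
    simpa [mem_annE] using hm
  obtain ⟨⟨p, hp⟩⟩ := Ideal.nonempty_minimalPrimes this
  exact ⟨p, ⟨m, hp⟩, hp.le⟩

theorem not_isSMulRegular_of_mem_weakAss {p : Ideal R} (hp : p ∈ FlatCA.weakAss R M) {f : R}
    (hf : f ∈ p) : ¬ IsSMulRegular M f := by
  obtain ⟨m, hm⟩ := hp
  obtain ⟨-, hle, h⟩ := minimalPrimes_iff.1 hm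
  obtain ⟨s, hs, n, hn⟩ := h f hf
  intro hreg
  have : f ^ n • (s • m) = 0 := by
    rw [smul_smul, mul_comm]
    exact mem_annE.1 hn
  exact hs (hle (mem_annE.2 ((hreg.pow n).right_eq_zero_of_smul this)))

theorem exists_mem_weakAss_of_not_isSMulRegular {f : R} (hf : ¬ IsSMulRegular M f) :
    ∃ p ∈ FlatCA.weakAss R M, f ∈ p := by
  rw [isSMulRegular_iff_right_eq_zero_of_smul] at hf
  push Not at hf
  obtain ⟨m, hfm, hm⟩ := hf
  obtain ⟨p, hp, hle⟩ := exists_mem_weakAss_of_ne_zero (R := R) hm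
  exact ⟨p, hp, hle (mem_annE.2 hfm)⟩

theorem mem_weakAss_of_mem_ass {p : Ideal R} (h : p ∈ FlatCA.ass R M) :
    p ∈ FlatCA.weakAss R M := by
  obtain ⟨hp, m, hm⟩ := h
  exact ⟨m, ⟨hp, hm.ge⟩, fun q hq _ => hm.le.trans hq.2⟩

theorem mem_ass_of_mem_weakAss_of_fg {p : Ideal R} (hfg : p.FG)
    (h : p ∈ FlatCA.weakAss R M) : p ∈ FlatCA.ass R M := by
  classical
  obtain ⟨m, hm⟩ := h
  obtain ⟨hp, hle, hloc⟩ := minimalPrimes_iff.1 hm
  obtain ⟨S, hS⟩ := hfg
  have key : ∀ T : Finset R, (T : Set R) ⊆ p → ∃ x : M, annE R x ≤ p ∧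
      (∀ r : R, r • m = 0 → r • x = 0) ∧ ∀ a ∈ T, ∃ t, t ∉ p ∧ (t * a) • x = 0 := by
    intro T
    induction T using Finset.induction with
    | empty => exact fun _ => ⟨m, hle, fun r hr => hr, by simp⟩
    | insert a T _ ih =>
      intro hT
      rw [Finset.coe_insert, Set.insert_subset_iff] at hT
      obtain ⟨x, hx, hxm, hxT⟩ := ih hT.2
      have hex : ∃ n : ℕ, ∃ t, t ∉ p ∧ (t * a ^ n) • x = 0 := by
        obtain ⟨s, hs, n, hn⟩ := hloc a hT.1
        exact ⟨n, s, hs, hxm _ (mem_annE.1 hn)⟩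
      obtain ⟨t, ht, htx⟩ := Nat.find_spec hex
      have hn0 : Nat.find hex ≠ 0 := by
        intro h0
        rw [h0, pow_zero, mul_one] at htx
        exact ht (hx (mem_annE.2 htx))
      obtain ⟨k, hk⟩ := Nat.exists_eq_succ_of_ne_zero hn0
      refine ⟨a ^ k • x, ?_, fun r hr => by rw [smul_comm, hxm r hr, smul_zero], ?_⟩
      · intro r hr
        rw [mem_annE, smul_smul] at hr
        by_contra hrp
        exact Nat.find_min hex (hk ▸ Nat.lt_succ_self k) ⟨r, hrp, hr⟩
      · intro b hb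
        rcases Finset.mem_insert.1 hb with rfl | hb
        · refine ⟨t, ht, ?_⟩
          rw [smul_smul, mul_assoc, ← pow_succ']
          rwa [hk] at htx
        · obtain ⟨t', ht', htb⟩ := hxT b hb
          exact ⟨t', ht', by rw [smul_comm, htb, smul_zero]⟩
  have hSp : (S : Set R) ⊆ p := by rw [← hS]; exact subset_span
  obtain ⟨x, hx, -, hxS⟩ := key S hSp
  choose t ht htx using hxS
  refine ⟨hp, (∏ a ∈ S.attach, t a.1 a.2) • x, le_antisymm ?_ ?_⟩
  · rw [← hS, span_le]
    intro a ha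
    rw [SetLike.mem_coe, mem_annE, smul_smul, ← Finset.mul_prod_erase S.attach _
      (Finset.mem_attach S ⟨a, ha⟩), ← mul_assoc, mul_comm (a * t a ha), mul_smul, mul_comm a,
      htx a ha, smul_zero]
  · intro r hr
    rw [mem_annE, smul_smul] at hr
    rcases hp.mem_or_mem (hx (mem_annE.2 hr)) with h1 | h1
    · exact h1
    · obtain ⟨a, -, ha⟩ := hp.prod_mem_iff.1 h1
      exact absurd ha (ht a.1 a.2)

theorem annE_map_of_injective {N : Type*} [AddCommGroup N] [Module R N] (f : M →ₗ[R] N)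
    (hf : Function.Injective f) (m : M) : annE R (f m) = annE R m := by
  ext r
  rw [mem_annE, mem_annE, ← map_smul, map_eq_zero_iff f hf]

theorem weakAss_subset_of_injective {N : Type*} [AddCommGroup N] [Module R N] (f : M →ₗ[R] N)
    (hf : Function.Injective f) : FlatCA.weakAss R M ⊆ FlatCA.weakAss R N := by
  rintro p ⟨m, hm⟩
  refine ⟨f m, ?_⟩
  change p ∈ (annE R (f m)).minimalPrimes
  rw [annE_map_of_injective f hf m]
  exact hm

theorem ass_subset_of_injective {N : Type*} [AddCommGroup N] [Module R N] (f : M →ₗ[R] N)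
    (hf : Function.Injective f) : FlatCA.ass R M ⊆ FlatCA.ass R N := by
  rintro p ⟨hp, m, hm⟩
  exact ⟨hp, f m, hm.trans (annE_map_of_injective f hf m).symm⟩

theorem annE_restrict {A : Type*} [CommRing A] [Algebra R A] {N : Type*} [AddCommGroup N]
    [Module A N] [Module R N] [IsScalarTower R A N] (z : N) :
    annE R z = (annE A z).comap (algebraMap R A) := by
  ext r
  rw [mem_annE, Ideal.mem_comap, mem_annE, algebraMap_smul]

theorem image_comap_ass_subset {A : Type*} [CommRing A] [Algebra R A] {N : Type*} [AddCommGroup N]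
    [Module A N] [Module R N] [IsScalarTower R A N] :
    Ideal.comap (algebraMap R A) '' FlatCA.ass A N ⊆ FlatCA.ass R N := by
  rintro _ ⟨q, ⟨hq, z, hz⟩, rfl⟩
  exact ⟨hq.comap _, z, (congrArg (Ideal.comap (algebraMap R A)) hz).trans
    (annE_restrict (A := A) z).symm⟩

section Localized

variable (S : Submonoid R)

theorem smul_eq_zero_of_smul_eq_zero_of_mem {N : Type*} [AddCommGroup N] [Module R N]
    [Module (Localization S) N] [IsScalarTower R (Localization S) N]
    {s : R} (hs : s ∈ S) {z : N} (h : s • z = 0) : z = 0 := by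
  rw [← algebraMap_smul (Localization S) s z] at h
  exact (IsUnit.smul_eq_zero (IsLocalization.map_units (Localization S) (⟨s, hs⟩ : S))).1 h

theorem disjoint_of_annE_le {N : Type*} [AddCommGroup N] [Module R N]
    [Module (Localization S) N] [IsScalarTower R (Localization S) N]
    {p : Ideal R} {z : N} (hp : p ∈ (annE R z).minimalPrimes) :
    Disjoint (S : Set R) (p : Set R) := by
  rw [Set.disjoint_left]
  intro s hs hsp
  obtain ⟨hpp, hle, h⟩ := minimalPrimes_iff.1 hp
  obtain ⟨t, ht, n, hn⟩ := h s hsp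
  rw [mem_annE, mul_comm, mul_smul] at hn
  exact ht (hle (mem_annE.2 (smul_eq_zero_of_smul_eq_zero_of_mem S (S.pow_mem hs n) hn)))

theorem weakAss_restrict_localization {N : Type*} [AddCommGroup N] [Module R N]
    [Module (Localization S) N] [IsScalarTower R (Localization S) N] :
    FlatCA.weakAss R N =
      Ideal.comap (algebraMap R (Localization S)) '' FlatCA.weakAss (Localization S) N := by
  ext p
  constructor
  · rintro ⟨z, hz⟩
    change p ∈ (annE R z).minimalPrimes at hz
    rw [annE_restrict (A := Localization S), IsLocalization.minimalPrimes_comap S] at hz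
    obtain ⟨q, hq, rfl⟩ := hz
    exact ⟨q, ⟨z, hq⟩, rfl⟩
  · rintro ⟨q, ⟨z, hz⟩, rfl⟩
    refine ⟨z, ?_⟩
    change _ ∈ (annE R z).minimalPrimes
    rw [annE_restrict (A := Localization S), IsLocalization.minimalPrimes_comap S]
    exact ⟨q, hz, rfl⟩

theorem ass_restrict_localization {N : Type*} [AddCommGroup N] [Module R N]
    [Module (Localization S) N] [IsScalarTower R (Localization S) N] :
    FlatCA.ass R N =
      Ideal.comap (algebraMap R (Localization S)) '' FlatCA.ass (Localization S) N := by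
  refine Set.Subset.antisymm ?_ image_comap_ass_subset
  rintro p ⟨hp, z, hz⟩
  have hdis : Disjoint (S : Set R) (p : Set R) :=
    disjoint_of_annE_le S (z := z) ⟨⟨hp, hz.ge⟩, fun q hq _ => hz.le.trans hq.2⟩
  refine ⟨p.map (algebraMap R (Localization S)),
    ⟨IsLocalization.isPrime_of_isPrime_disjoint S _ p hp hdis, z, ?_⟩,
    IsLocalization.under_map_of_isPrime_disjoint S _ hp hdis⟩
  have hz' : p = (annE (Localization S) z).comap (algebraMap R _) := hz.trans (annE_restrict z)
  rw [hz', IsLocalization.map_under S]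

variable (M)

theorem mem_annE_mk {r : R} {m : M} {s : S} :
    r ∈ annE R (LocalizedModule.mk m s) ↔ ∃ t ∈ S, (t * r) • m = 0 := by
  rw [mem_annE, LocalizedModule.smul'_mk, ← LocalizedModule.zero_mk (S := S) (M := M) 1,
    LocalizedModule.mk_eq]
  simp only [smul_zero, one_smul, Subtype.exists, Submonoid.mk_smul, exists_prop, mul_smul]

theorem mem_weakAss_localizedModule_iff {p : Ideal R} :
    p ∈ FlatCA.weakAss R (LocalizedModule S M) ↔
      p ∈ FlatCA.weakAss R M ∧ Disjoint (S : Set R) (p : Set R) := by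
  constructor
  · rintro ⟨z, hz⟩
    refine ⟨?_, disjoint_of_annE_le S hz⟩
    induction z using LocalizedModule.induction_on with
    | h m s =>
      obtain ⟨hp, hle, h⟩ := minimalPrimes_iff.1 hz
      refine ⟨m, minimalPrimes_iff.2 ⟨hp, fun r hr => hle ?_, fun a ha => ?_⟩⟩
      · exact (mem_annE_mk (M := M) S).2 ⟨1, one_mem S, by rw [one_mul]; exact mem_annE.1 hr⟩
      · obtain ⟨t, ht, n, hn⟩ := h a ha
        obtain ⟨u, hu, hu'⟩ := (mem_annE_mk (M := M) S).1 hn
        refine ⟨u * t, fun hut => ?_, n, mem_annE.2 (by rwa [mul_assoc])⟩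
        rcases hp.mem_or_mem hut with h1 | h1
        · exact Set.disjoint_left.1 (disjoint_of_annE_le S hz) hu h1
        · exact ht h1
  · rintro ⟨⟨m, hm⟩, hdis⟩
    obtain ⟨hp, hle, h⟩ := minimalPrimes_iff.1 hm
    refine ⟨LocalizedModule.mk m 1, minimalPrimes_iff.2 ⟨hp, fun r hr => ?_, fun a ha => ?_⟩⟩
    · obtain ⟨u, hu, hu'⟩ := (mem_annE_mk (M := M) S).1 hr
      exact (hp.mem_or_mem (hle (mem_annE.2 hu'))).resolve_left (Set.disjoint_left.1 hdis hu)
    · obtain ⟨t, ht, n, hn⟩ := h a ha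
      exact ⟨t, ht, n, (mem_annE_mk (M := M) S).2 ⟨1, one_mem S, by rw [one_mul]; exact mem_annE.1 hn⟩⟩

theorem mem_ass_localizedModule_of_disjoint {p : Ideal R} (hp : p ∈ FlatCA.ass R M)
    (hdis : Disjoint (S : Set R) (p : Set R)) : p ∈ FlatCA.ass R (LocalizedModule S M) := by
  obtain ⟨hpp, m, hm⟩ := hp
  refine ⟨hpp, LocalizedModule.mk m 1, le_antisymm (fun r hr => ?_) (fun r hr => ?_)⟩
  · exact (mem_annE_mk (M := M) S).2
      ⟨1, one_mem S, by rw [one_mul]; exact mem_annE.1 (hm.le hr)⟩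
  · obtain ⟨u, hu, hu'⟩ := (mem_annE_mk (M := M) S).1 hr
    exact (hpp.mem_or_mem (hm.ge (mem_annE.2 hu'))).resolve_left (Set.disjoint_left.1 hdis hu)

theorem annE_mk_of_regular (hS : ∀ s ∈ S, IsSMulRegular M s) (m : M) (s : S) :
    annE R (LocalizedModule.mk m s) = annE R m := by
  ext r
  rw [mem_annE_mk, mem_annE]
  exact ⟨fun ⟨t, ht, h⟩ => (hS t ht).right_eq_zero_of_smul (by rwa [smul_smul]),
    fun h => ⟨1, one_mem S, by rwa [one_mul]⟩⟩

theorem weakAss_localizedModule_of_regular (hS : ∀ s ∈ S, IsSMulRegular M s) :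
    FlatCA.weakAss R (LocalizedModule S M) = FlatCA.weakAss R M := by
  ext p
  rw [mem_weakAss_localizedModule_iff]
  refine ⟨And.left, fun h => ⟨h, ?_⟩⟩
  rw [Set.disjoint_left]
  exact fun s hs hsp => not_isSMulRegular_of_mem_weakAss h hsp (hS s hs)

theorem ass_localizedModule_of_regular (hS : ∀ s ∈ S, IsSMulRegular M s) :
    FlatCA.ass R (LocalizedModule S M) = FlatCA.ass R M := by
  ext p
  constructor
  · rintro ⟨hp, z, hz⟩
    induction z using LocalizedModule.induction_on with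
    | h m s => exact ⟨hp, m, hz.trans (annE_mk_of_regular M S hS m s)⟩
  · intro hp
    refine mem_ass_localizedModule_of_disjoint M S hp ?_
    rw [Set.disjoint_left]
    exact fun s hs hsp => not_isSMulRegular_of_mem_weakAss (mem_weakAss_of_mem_ass hp) hsp (hS s hs)

end Localized

end Groth.L03.WeakAss
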