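import Groth.Prelude.Def_Found
import Mathlib.RingTheory.Spectrum.Prime.Topology
import Mathlib.RingTheory.Spectrum.Prime.RingHom
import Mathlib.RingTheory.Localization.Ideal
import Mathlib.Order.Cover
import Mathlib.RingTheory.EssentialFiniteness
import Mathlib.RingTheory.Noetherian.Basic
import Mathlib.RingTheory.Polynomial.Basic
import Mathlib.RingTheory.FiniteType

/-!
Catenary rings: transfer along order embeddings of spectra with order connected range.
-/

namespace Groth.L03.Catenary

universe u v

open PrimeSpectrum

/-- The order embedding of spectra given by `comap`, when it is injective and reflects order. -/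
noncomputable def comapEmb {A : Type u} {B : Type v} [CommRing A] [CommRing B] (f : A →+* B)
    (h : ∀ x y : PrimeSpectrum B, PrimeSpectrum.comap f x ≤ PrimeSpectrum.comap f y → x ≤ y) :
    PrimeSpectrum B ↪o PrimeSpectrum A :=
  OrderEmbedding.ofMapLEIff (PrimeSpectrum.comap f)
    (fun x y => ⟨h x y, fun hxy => Ideal.comap_mono (f := f) hxy⟩)

theorem isCatenary_of_emb {A : Type u} {B : Type v} [CommRing A] [CommRing B]
    (e : PrimeSpectrum B ↪o PrimeSpectrum A) (he : (Set.range e).OrdConnected)
    (hA : CAlg.IsCatenary A) : CAlg.IsCatenary B := by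
  refine ⟨fun p q hpq => ?_, fun s t hh hl hs ht => ?_⟩
  · obtain ⟨n, hn⟩ := hA.1 (e p) (e q) (e.le_iff_le.2 hpq)
    refine ⟨n, fun s hh hl => ?_⟩
    exact hn (s.map e e.strictMono) (congrArg e hh) (congrArg e hl)
  · exact hA.2 (s.map e e.strictMono) (t.map e e.strictMono) (congrArg e hh) (congrArg e hl)
      (fun i => (he.apply_covBy_apply_iff e).2 (hs i))
      (fun i => (he.apply_covBy_apply_iff e).2 (ht i))

theorem isCatenary_quotient {A : Type u} [CommRing A] (I : Ideal A) (hA : CAlg.IsCatenary A) :
    CAlg.IsCatenary (A ⧸ I) := by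
  let e := comapEmb (Ideal.Quotient.mk I) fun x y h a ha => by
    obtain ⟨b, rfl⟩ := Ideal.Quotient.mk_surjective a
    exact h ha
  refine isCatenary_of_emb e ?_ hA
  have : Set.range e = PrimeSpectrum.zeroLocus (I : Set A) := by
    change Set.range (PrimeSpectrum.comap (Ideal.Quotient.mk I)) = _
    rw [range_comap_of_surjective _ _ Ideal.Quotient.mk_surjective, Ideal.mk_ker]
  rw [this]
  exact ⟨fun x hx y _ z hz => (show (I : Set A) ⊆ x.asIdeal from hx).trans hz.1⟩

theorem isCatenary_localization {A : Type u} [CommRing A] (S : Submonoid A) (B : Type v)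
    [CommRing B] [Algebra A B] [IsLocalization S B] (hA : CAlg.IsCatenary A) :
    CAlg.IsCatenary B := by
  let e : PrimeSpectrum B ↪o PrimeSpectrum A :=
    (IsLocalization.primeSpectrumOrderIso S B).toOrderEmbedding.trans (OrderEmbedding.subtype _)
  refine isCatenary_of_emb e ?_ hA
  have : Set.range e = {p : PrimeSpectrum A | Disjoint (S : Set A) p.asIdeal} := by
    ext p
    constructor
    · rintro ⟨x, rfl⟩
      exact (IsLocalization.primeSpectrumOrderIso S B x).2
    · intro hp
      exact ⟨(IsLocalization.primeSpectrumOrderIso S B).symm ⟨p, hp⟩, by simp [e]⟩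
  rw [this]
  exact ⟨fun x _ y hy z hz => hy.mono_right hz.2⟩

theorem isCatenary_of_essFiniteType {A : Type u} [CommRing A] (hA : CAlg.IsUniversallyCatenary A)
    (B : Type u) [CommRing B] [Algebra A B] [Algebra.EssFiniteType A B] : CAlg.IsCatenary B :=
  isCatenary_localization (Algebra.EssFiniteType.submonoid A B) B
    (hA.2 (Algebra.EssFiniteType.subalgebra A B) inferInstance)

theorem isNoetherianRing_of_essFiniteType {A : Type u} [CommRing A] [IsNoetherianRing A]
    (B : Type u) [CommRing B] [Algebra A B] [Algebra.EssFiniteType A B] : IsNoetherianRing B :=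
  haveI : IsNoetherianRing (Algebra.EssFiniteType.subalgebra A B) :=
    Algebra.FiniteType.isNoetherianRing A _
  IsLocalization.isNoetherianRing (Algebra.EssFiniteType.submonoid A B) B inferInstance

end Groth.L03.Catenary
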