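import Groth.Prelude.Def_Found
import Mathlib.RingTheory.Localization.Integral
import Mathlib.RingTheory.Localization.FractionRing
import Mathlib.RingTheory.Localization.Away.Basic
import Mathlib.RingTheory.Localization.Finiteness
import Mathlib.RingTheory.FiniteType
import Mathlib.RingTheory.IntegralClosure.IntegralRestrict
import Mathlib.RingTheory.IntegralClosure.Algebra.Basic

/-!
N-1, N-2 and universally Japanese rings: localisation and covers.
-/

namespace Groth.L03.Japanese

universe u

/-- A submodule containing a power multiple of `x` on a cover contains `x`. -/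
theorem mem_of_cover {R : Type u} [CommRing R] {ι : Type*} (f : ι → R)
    (hf : Ideal.span (Set.range f) = ⊤) {M : Type*} [AddCommGroup M] [Module R M]
    (N : Submodule R M) (x : M) (h : ∀ i, ∃ k : ℕ, f i ^ k • x ∈ N) : x ∈ N := by
  let C : Ideal R := N.colon {x}
  have hC : C.radical = ⊤ := by
    rw [eq_top_iff, ← hf, Ideal.span_le]
    rintro _ ⟨i, rfl⟩
    obtain ⟨k, hk⟩ := h i
    exact ⟨k, Submodule.mem_colon_singleton.2 hk⟩
  have h1 : (1 : R) ∈ C := by rw [Ideal.radical_eq_top.1 hC]; exact Submodule.mem_top
  simpa [C, Submodule.mem_colon_singleton] using h1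

/-- The integral closure of a localisation is finite if that of the ring is. -/
theorem finite_localization {R : Type u} [CommRing R] (M : Submonoid R) (S : Type u) [CommRing S]
    [Algebra R S] [IsLocalization M S] (L : Type u) [CommRing L] [Algebra R L] [Algebra S L]
    [IsScalarTower R S L] (h : Module.Finite R (integralClosure R L)) :
    Module.Finite S (integralClosure S L) := by
  classical
  have hle : ∀ x : L, x ∈ integralClosure R L → x ∈ integralClosure S L := fun x hx => hx.tower_top
  obtain ⟨G, hG⟩ := h.fg_top
  let emb : integralClosure R L →ₗ[R] integralClosure S L :=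
    { toFun := fun x => ⟨x, hle x x.2⟩
      map_add' := fun _ _ => rfl
      map_smul' := fun r x => rfl }
  refine ⟨⟨G.image emb, ?_⟩⟩
  rw [eq_top_iff]
  rintro ⟨x, hx⟩ -
  obtain ⟨m, hm⟩ := IsIntegral.exists_multiple_integral_of_isLocalization M x hx
  have h1 : emb ⟨m • x, hm⟩ ∈ (Submodule.span S (emb '' (G : Set (integralClosure R L)))).restrictScalars R := by
    refine Submodule.span_le_restrictScalars R S _ ?_
    rw [Submodule.span_image]
    exact Submodule.mem_map_of_mem (by rw [hG]; exact Submodule.mem_top)
  rw [Submodule.restrictScalars_mem] at h1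
  rw [Finset.coe_image]
  have h2 : (⟨x, hx⟩ : integralClosure S L) =
      IsLocalization.mk' S 1 m • emb ⟨m • x, hm⟩ := by
    apply Subtype.ext
    change x = IsLocalization.mk' S 1 m • (m • x)
    rw [Submonoid.smul_def, ← algebraMap_smul S (m : R) x, smul_smul, IsLocalization.mk'_spec,
      map_one, one_smul]
  rw [h2]
  exact Submodule.smul_mem _ _ h1

/-- Finiteness of the integral closure can be checked on a cover. -/
theorem finite_of_cover {R : Type u} [CommRing R] {ι : Type u} [Finite ι] (f : ι → R)
    (hf : Ideal.span (Set.range f) = ⊤) (L : Type u) [CommRing L] [Algebra R L]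
    (Rf : ι → Type u) [∀ i, CommRing (Rf i)] [∀ i, Algebra R (Rf i)]
    [∀ i, IsLocalization.Away (f i) (Rf i)] [∀ i, Algebra (Rf i) L]
    [∀ i, IsScalarTower R (Rf i) L] (h : ∀ i, Module.Finite (Rf i) (integralClosure (Rf i) L)) :
    Module.Finite R (integralClosure R L) := by
  classical
  haveI := Fintype.ofFinite ι
  let IC := integralClosure R L
  choose G hG using fun i => (h i).fg_top
  have hscale : ∀ i (g : integralClosure (Rf i) L), ∃ k : ℕ, IsIntegral R (f i ^ k • (g : L)) := by
    intro i g
    obtain ⟨⟨_, k, rfl⟩, hk⟩ :=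
      IsIntegral.exists_multiple_integral_of_isLocalization (Submonoid.powers (f i)) (g : L) g.2
    exact ⟨k, hk⟩
  choose k hk using hscale
  let T : Finset IC := Finset.univ.biUnion fun i => (G i).image fun g => ⟨_, hk i g⟩
  refine ⟨⟨T, ?_⟩⟩
  rw [eq_top_iff]
  intro x _
  refine mem_of_cover f hf _ x fun i => ?_
  have hx : (⟨x, x.2.tower_top⟩ : integralClosure (Rf i) L) ∈
      Submodule.span (Rf i) (G i : Set (integralClosure (Rf i) L)) := by
    rw [hG]; exact Submodule.mem_top
  suffices ∀ y ∈ Submodule.span (Rf i) (G i : Set (integralClosure (Rf i) L)),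
      ∃ n : ℕ, ∃ z ∈ Submodule.span R (T : Set IC), (z : L) = f i ^ n • (y : L) by
    obtain ⟨n, z, hz, hzx⟩ := this _ hx
    exact ⟨n, by rwa [show f i ^ n • x = z from Subtype.ext hzx.symm]⟩
  intro y hy
  induction hy using Submodule.span_induction with
  | mem g hg =>
    exact ⟨k i g, ⟨_, hk i g⟩, Submodule.subset_span
      (Finset.mem_biUnion.2 ⟨i, Finset.mem_univ i, Finset.mem_image.2 ⟨g, hg, rfl⟩⟩), rfl⟩
  | zero => exact ⟨0, 0, zero_mem _, by simp⟩
  | add a b _ _ ha hb =>
    obtain ⟨n, z, hz, hza⟩ := ha
    obtain ⟨m, w, hw, hwb⟩ := hb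
    refine ⟨n + m, f i ^ m • z + f i ^ n • w,
      add_mem (Submodule.smul_mem _ _ hz) (Submodule.smul_mem _ _ hw), ?_⟩
    push_cast
    rw [hza, hwb, smul_add, smul_smul, smul_smul, ← pow_add, ← pow_add, add_comm m n]
  | smul c a _ ha =>
    obtain ⟨n, z, hz, hza⟩ := ha
    obtain ⟨r, s, rfl⟩ := IsLocalization.exists_mk'_eq (Submonoid.powers (f i)) c
    obtain ⟨m, hm⟩ := s.2
    have hc : f i ^ m • IsLocalization.mk' (Rf i) r s = algebraMap R (Rf i) r := by
      rw [Algebra.smul_def, mul_comm, show f i ^ m = (s : R) from hm, IsLocalization.mk'_spec]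
    refine ⟨m + n, r • z, Submodule.smul_mem _ _ hz, ?_⟩
    push_cast
    rw [hza, pow_add, mul_smul, smul_comm (f i ^ n) (IsLocalization.mk' (Rf i) r s) (a : L),
      ← smul_assoc (f i ^ m), hc, algebraMap_smul]

/-- `IsN1` can be read in any fraction field. -/
theorem isN1_iff {R : Type u} [CommRing R] [IsDomain R] (K : Type u) [Field K] [Algebra R K]
    [IsFractionRing R K] : CAlg.IsN1 R ↔ Module.Finite R (integralClosure R K) := by
  let e := (FractionRing.algEquiv R K).mapIntegralClosure
  exact ⟨fun h => @Module.Finite.equiv _ _ _ _ _ _ _ _ h e.toLinearEquiv,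
    fun h => @Module.Finite.equiv _ _ _ _ _ _ _ _ h e.symm.toLinearEquiv⟩

/-- The fraction field of a localisation which is a domain is the fraction field. -/
theorem isFractionRing_of_localization {R : Type u} [CommRing R] [IsDomain R] (M : Submonoid R)
    (S : Type u) [CommRing S] [IsDomain S] [Algebra R S] [IsLocalization M S] (K : Type u) [Field K]
    [Algebra R K] [Algebra S K] [IsScalarTower R S K] [IsFractionRing S K] : IsFractionRing R K := by
  have hM : M ≤ nonZeroDivisors R := by
    intro m hm
    rw [mem_nonZeroDivisors_iff_ne_zero]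
    rintro rfl
    have := IsLocalization.map_units S (⟨0, hm⟩ : M)
    rw [map_zero] at this
    exact not_isUnit_zero this
  haveI : FaithfulSMul R K := by
    rw [faithfulSMul_iff_algebraMap_injective, IsScalarTower.algebraMap_eq R S K]
    exact (IsFractionRing.injective S K).comp (IsLocalization.injective S hM)
  refine IsFractionRing.of_field R K fun z => ?_
  obtain ⟨a, b, hb, rfl⟩ := IsFractionRing.div_surjective (A := S) z
  obtain ⟨a, s, rfl⟩ := IsLocalization.exists_mk'_eq M a
  obtain ⟨b, t, rfl⟩ := IsLocalization.exists_mk'_eq M b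
  refine ⟨a * t, b * s, ?_⟩
  have hne : algebraMap S K (algebraMap R S (s : R)) ≠ 0 :=
    ((IsLocalization.map_units S s).map (algebraMap S K)).ne_zero
  have hne' : algebraMap S K (algebraMap R S (t : R)) ≠ 0 :=
    ((IsLocalization.map_units S t).map (algebraMap S K)).ne_zero
  have ha := congrArg (algebraMap S K) (IsLocalization.mk'_spec S a s)
  have hb := congrArg (algebraMap S K) (IsLocalization.mk'_spec S b t)
  rw [map_mul] at ha hb
  rw [map_mul, map_mul, IsScalarTower.algebraMap_apply R S K a, IsScalarTower.algebraMap_apply R S K b,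
    IsScalarTower.algebraMap_apply R S K (s : R), IsScalarTower.algebraMap_apply R S K (t : R),
    ← ha, ← hb]
  field_simp

theorem isN1_localization_aux {R : Type u} [CommRing R] [IsDomain R] (M : Submonoid R) (S : Type u)
    [CommRing S] [IsDomain S] [Algebra R S] [IsLocalization M S] (K : Type u) [Field K]
    [Algebra R K] [Algebra S K] [IsScalarTower R S K] [IsFractionRing S K] (h : CAlg.IsN1 R) :
    Module.Finite S (integralClosure S K) := by
  haveI : IsFractionRing R K := isFractionRing_of_localization M S K
  exact finite_localization M S K ((isN1_iff K).1 h)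

theorem isN1_localization {R : Type u} [CommRing R] [IsDomain R] (M : Submonoid R) (S : Type u)
    [CommRing S] [IsDomain S] [Algebra R S] [IsLocalization M S] (h : CAlg.IsN1 R) :
    CAlg.IsN1 S :=
  isN1_localization_aux M S (FractionRing S) h

theorem isN1_of_cover {R : Type u} [CommRing R] [IsDomain R] {ι : Type u} [Finite ι] (f : ι → R)
    (hf : Ideal.span (Set.range f) = ⊤) (Rf : ι → Type u) [∀ i, CommRing (Rf i)]
    [∀ i, IsDomain (Rf i)] [∀ i, Algebra R (Rf i)] [∀ i, IsLocalization.Away (f i) (Rf i)]
    (h : ∀ i, CAlg.IsN1 (Rf i)) : CAlg.IsN1 R := by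
  let K := FractionRing R
  have hu : ∀ i, IsUnit (algebraMap R K (f i)) := fun i => by
    refine IsUnit.mk0 _ fun h0 => ?_
    have hu : IsUnit (algebraMap R (Rf i) (f i)) :=
      IsLocalization.Away.algebraMap_isUnit (f i)
    rw [(map_eq_zero_iff _ (IsFractionRing.injective R K)).1 h0, map_zero] at hu
    exact not_isUnit_zero hu
  letI : ∀ i, Algebra (Rf i) K := fun i => (IsLocalization.Away.lift (f i) (hu i)).toAlgebra
  haveI : ∀ i, IsScalarTower R (Rf i) K := fun i => IsScalarTower.of_algebraMap_eq fun x =>
    (IsLocalization.Away.lift_eq (f i) (hu i) x).symm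
  haveI : ∀ i, IsFractionRing (Rf i) K := fun i =>
    IsFractionRing.isFractionRing_of_isDomain_of_isLocalization (Submonoid.powers (f i)) (Rf i) K
  exact finite_of_cover f hf K Rf fun i => (isN1_iff K).1 (h i)

theorem isN2_localization_aux {R : Type u} [CommRing R] [IsDomain R] (M : Submonoid R) (S : Type u)
    [CommRing S] [IsDomain S] [Algebra R S] [IsLocalization M S] (K : Type u) [Field K]
    [Algebra R K] [Algebra S K] [IsScalarTower R S K] [IsFractionRing S K]
    (L : Type u) [Field L] [Algebra S L] [Algebra K L] [IsScalarTower S K L]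
    [FiniteDimensional K L] (h : CAlg.IsN2 R) : Module.Finite S (integralClosure S L) := by
  haveI : IsFractionRing R K := isFractionRing_of_localization M S K
  letI : Algebra R L := Algebra.compHom L (algebraMap R S)
  haveI : IsScalarTower R S L := IsScalarTower.of_algebraMap_eq fun _ => rfl
  let e := FractionRing.algEquiv R K
  letI : Algebra (FractionRing R) L := Algebra.compHom L (e : FractionRing R →+* K)
  haveI : IsScalarTower R (FractionRing R) L := IsScalarTower.of_algebraMap_eq fun r => by
    change algebraMap S L (algebraMap R S r) =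
      algebraMap K L (e (algebraMap R (FractionRing R) r))
    rw [AlgEquiv.commutes, IsScalarTower.algebraMap_apply R S K,
      ← IsScalarTower.algebraMap_apply S K L]
  haveI : Module.Finite (FractionRing R) L := by
    obtain ⟨G, hG⟩ := Module.Finite.fg_top (R := K) (M := L)
    refine ⟨⟨G, ?_⟩⟩
    rw [eq_top_iff]
    rintro x -
    have hx : x ∈ Submodule.span K (G : Set L) := by rw [hG]; exact Submodule.mem_top
    induction hx using Submodule.span_induction with
    | mem y hy => exact Submodule.subset_span hy
    | zero => exact zero_mem _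
    | add a b _ _ ha hb => exact add_mem ha hb
    | smul c a _ ha =>
      have : c • a = e.symm c • a := by
        rw [Algebra.smul_def, Algebra.smul_def]
        change _ = algebraMap K L (e (e.symm c)) * a
        rw [AlgEquiv.apply_symm_apply]
      rw [this]
      exact Submodule.smul_mem _ _ ha
  exact finite_localization M S L (h L inferInstance)

theorem isN2_localization {R : Type u} [CommRing R] [IsDomain R] (M : Submonoid R) (S : Type u)
    [CommRing S] [IsDomain S] [Algebra R S] [IsLocalization M S] (h : CAlg.IsN2 R) :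
    CAlg.IsN2 S := fun L _ _ _ _ hfd =>
  haveI := hfd
  isN2_localization_aux M S (FractionRing S) L h

theorem isN2_of_cover {R : Type u} [CommRing R] [IsDomain R] {ι : Type u} [Finite ι] (f : ι → R)
    (hf : Ideal.span (Set.range f) = ⊤) (Rf : ι → Type u) [∀ i, CommRing (Rf i)]
    [∀ i, IsDomain (Rf i)] [∀ i, Algebra R (Rf i)] [∀ i, IsLocalization.Away (f i) (Rf i)]
    (h : ∀ i, CAlg.IsN2 (Rf i)) : CAlg.IsN2 R := by
  intro L _ _ _ _ hfd
  let K := FractionRing R
  have hu : ∀ i, IsUnit (algebraMap R K (f i)) := fun i => by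
    refine IsUnit.mk0 _ fun h0 => ?_
    have hu : IsUnit (algebraMap R (Rf i) (f i)) :=
      IsLocalization.Away.algebraMap_isUnit (f i)
    rw [(map_eq_zero_iff _ (IsFractionRing.injective R K)).1 h0, map_zero] at hu
    exact not_isUnit_zero hu
  letI : ∀ i, Algebra (Rf i) K := fun i => (IsLocalization.Away.lift (f i) (hu i)).toAlgebra
  haveI : ∀ i, IsScalarTower R (Rf i) K := fun i => IsScalarTower.of_algebraMap_eq fun x =>
    (IsLocalization.Away.lift_eq (f i) (hu i) x).symm
  letI : ∀ i, Algebra (Rf i) L := fun i => Algebra.compHom L (algebraMap (Rf i) K)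
  haveI : ∀ i, IsScalarTower R (Rf i) L := fun i => IsScalarTower.of_algebraMap_eq fun x => by
    change _ = algebraMap K L (algebraMap (Rf i) K (algebraMap R (Rf i) x))
    rw [← IsScalarTower.algebraMap_apply R (Rf i) K, ← IsScalarTower.algebraMap_apply R K L]
  refine finite_of_cover f hf L Rf fun i => ?_
  haveI : IsFractionRing (Rf i) K :=
    IsFractionRing.isFractionRing_of_isDomain_of_isLocalization (Submonoid.powers (f i)) (Rf i) K
  let e := FractionRing.algEquiv (Rf i) K
  letI : Algebra (FractionRing (Rf i)) L :=
    Algebra.compHom L (e : FractionRing (Rf i) →+* K)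
  haveI : IsScalarTower (Rf i) (FractionRing (Rf i)) L := IsScalarTower.of_algebraMap_eq fun r => by
    change algebraMap K L (algebraMap (Rf i) K r) = algebraMap K L (e (algebraMap _ _ r))
    rw [AlgEquiv.commutes]
  haveI : Module.Finite (FractionRing (Rf i)) L := by
    obtain ⟨G, hG⟩ := hfd.fg_top
    refine ⟨⟨G, ?_⟩⟩
    rw [eq_top_iff]
    rintro x -
    have hx : x ∈ Submodule.span K (G : Set L) := by rw [hG]; exact Submodule.mem_top
    induction hx using Submodule.span_induction with
    | mem y hy => exact Submodule.subset_span hy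
    | zero => exact zero_mem _
    | add a b _ _ ha hb => exact add_mem ha hb
    | smul c a _ ha =>
      have : c • a = e.symm c • a := by
        rw [Algebra.smul_def, Algebra.smul_def]
        change _ = algebraMap K L (e (e.symm c)) * a
        rw [AlgEquiv.apply_symm_apply]
      rw [this]
      exact Submodule.smul_mem _ _ ha
  exact h i L inferInstance

theorem isN2_of_bijective {A B : Type u} [CommRing A] [IsDomain A] [CommRing B] [IsDomain B]
    [Algebra A B] (hb : Function.Bijective (algebraMap A B)) (h : CAlg.IsN2 A) : CAlg.IsN2 B := by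
  haveI : IsLocalization (⊥ : Submonoid A) A := IsLocalization.self bot_le
  haveI : IsLocalization (⊥ : Submonoid A) B :=
    IsLocalization.isLocalization_of_algEquiv ⊥ (AlgEquiv.ofBijective (Algebra.ofId A B) hb)
  exact isN2_localization ⊥ B h

end Groth.L03.Japanese
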