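import Groth.Agent.L03.Japanese
import Mathlib.RingTheory.Localization.Integral
import Mathlib.RingTheory.EssentialFiniteness
import Mathlib.RingTheory.Algebraic.Integral
import Mathlib.RingTheory.Noetherian.Basic
import Mathlib.RingTheory.Ideal.Quotient.Operations

/-!
Universally Japanese and Nagata rings on covers.
-/

namespace Groth.L03.Japanese

universe u

theorem finiteType_away {R : Type u} [CommRing R] (f : R) (S : Type u) [CommRing S] [Algebra R S]
    [IsLocalization.Away f S] : Algebra.FiniteType R S := by
  classical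
  refine ⟨⟨{IsLocalization.Away.invSelf f}, ?_⟩⟩
  rw [eq_top_iff]
  rintro x -
  obtain ⟨a, s, rfl⟩ := IsLocalization.exists_mk'_eq (Submonoid.powers f) x
  obtain ⟨n, hn⟩ := s.2
  have h : IsLocalization.mk' S a s = algebraMap R S a * IsLocalization.Away.invSelf f ^ n := by
    rw [IsLocalization.mk'_eq_iff_eq_mul, mul_assoc, show (s : R) = f ^ n from hn.symm, map_pow,
      ← mul_pow, mul_comm (IsLocalization.Away.invSelf f), IsLocalization.Away.mul_invSelf, one_pow,
      mul_one]
  rw [h]
  refine mul_mem (Subalgebra.algebraMap_mem _ a) (pow_mem (Algebra.subset_adjoin ?_) n)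
  simp

theorem isUniversallyJapanese_of_isN1 {R : Type u} [CommRing R]
    (h : ∀ (S : Type u) [CommRing S] [IsDomain S] [Algebra R S],
      Algebra.FiniteType R S → CAlg.IsN1 S) : CAlg.IsUniversallyJapanese R := by
  classical
  intro S _ _ _ hS L _ _ _ _ hfd
  let K := FractionRing S
  haveI := hfd
  haveI : Algebra.IsAlgebraic S L :=
    (IsFractionRing.comap_isAlgebraic_iff (A := S) (K := K) (C := L)).2 inferInstance
  have hinj : Function.Injective (algebraMap S L) := by
    rw [IsScalarTower.algebraMap_eq S K L]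
    exact (algebraMap K L).injective.comp (IsFractionRing.injective S K)
  obtain ⟨G, hG⟩ := Module.Finite.fg_top (R := K) (M := L)
  choose y hy0 hy using fun g : L => (Algebra.IsAlgebraic.isAlgebraic (R := S) g).exists_integral_multiple
  let T : Finset L := G.image fun g => y g • g
  let S' : Subalgebra S L := Algebra.adjoin S (T : Set L)
  have hTint : ∀ t ∈ (T : Set L), IsIntegral S t := by
    intro t ht
    obtain ⟨g, -, rfl⟩ := Finset.mem_image.1 ht
    exact hy g
  haveI : Module.Finite S S' := Module.Finite.iff_fg.2 (fg_adjoin_of_finite T.finite_toSet hTint)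
  letI : Algebra R L := Algebra.compHom L (algebraMap R S)
  haveI : IsScalarTower R S L := IsScalarTower.of_algebraMap_eq fun _ => rfl
  haveI : Algebra.FiniteType R S' := by
    haveI := hS
    exact Algebra.FiniteType.trans hS inferInstance
  haveI : IsFractionRing S' L := by
    refine IsFractionRing.of_field S' L fun z => ?_
    have hz : z ∈ Submodule.span K (G : Set L) := by rw [hG]; exact Submodule.mem_top
    suffices ∃ a b : S', (b : L) ≠ 0 ∧ z * (b : L) = a by
      obtain ⟨a, b, hb, hab⟩ := this
      exact ⟨a, b, (eq_div_iff hb).2 hab⟩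
    induction hz using Submodule.span_induction with
    | mem g hg =>
      refine ⟨⟨y g • g, Algebra.subset_adjoin (Finset.mem_image_of_mem _ hg)⟩, algebraMap S S' (y g),
        ?_, ?_⟩
      · exact (map_ne_zero_iff _ hinj).2 (hy0 g)
      · change g * algebraMap S L (y g) = y g • g
        rw [Algebra.smul_def, mul_comm]
    | zero => exact ⟨0, 1, one_ne_zero, by simp⟩
    | add p q _ _ hp hq =>
      obtain ⟨a, b, hb, hab⟩ := hp
      obtain ⟨c, d, hd, hcd⟩ := hq
      refine ⟨a * d + c * b, b * d, mul_ne_zero hb hd, ?_⟩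
      push_cast
      rw [add_mul, ← mul_assoc p, hab, mul_comm (b : L) d, ← mul_assoc q, hcd]
    | smul c p _ hp =>
      obtain ⟨a, b, hb, hab⟩ := hp
      obtain ⟨r, s, hs, rfl⟩ := IsFractionRing.div_surjective (A := S) c
      have hs' : algebraMap S L s ≠ 0 :=
        (map_ne_zero_iff _ hinj).2 (nonZeroDivisors.ne_zero hs)
      refine ⟨algebraMap S S' r * a, algebraMap S S' s * b, mul_ne_zero hs' hb, ?_⟩
      push_cast
      rw [Algebra.smul_def, map_div₀, ← IsScalarTower.algebraMap_apply,
        ← IsScalarTower.algebraMap_apply, ← hab]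
      change _ / _ * p * (algebraMap S L s * _) = algebraMap S L r * (p * _)
      field_simp
  have h1 : Module.Finite S' (integralClosure S' L) := (isN1_iff L).1 (h S' inferInstance)
  haveI : Module.Finite S (integralClosure S' L) := Module.Finite.trans S' _
  let e : (integralClosure S' L) →ₗ[S] (integralClosure S L) :=
    { toFun := fun x => ⟨x, isIntegral_trans (R := S) (A := S') x.1 x.2⟩
      map_add' := fun _ _ => rfl
      map_smul' := fun _ _ => rfl }
  exact Module.Finite.of_surjective e fun x => ⟨⟨x, x.2.tower_top⟩, rfl⟩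

theorem isUniversallyJapanese_of_essFiniteType {R : Type u} [CommRing R]
    (hR : CAlg.IsUniversallyJapanese R) (T : Type u) [CommRing T] [Algebra R T]
    [Algebra.EssFiniteType R T] : CAlg.IsUniversallyJapanese T := by
  intro S _ _ _ hS
  letI : Algebra R S := Algebra.compHom S (algebraMap R T)
  haveI : IsScalarTower R T S := IsScalarTower.of_algebraMap_eq' rfl
  haveI := hS
  haveI : Algebra.EssFiniteType R S := Algebra.EssFiniteType.comp R T S
  exact isN2_localization (Algebra.EssFiniteType.submonoid R S) S
    (hR (Algebra.EssFiniteType.subalgebra R S) inferInstance)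

theorem isUniversallyJapanese_of_cover {R : Type u} [CommRing R] {ι : Type u} [Finite ι]
    (f : ι → R) (hf : Ideal.span (Set.range f) = ⊤)
    (h : ∀ i, CAlg.IsUniversallyJapanese (Localization.Away (f i))) :
    CAlg.IsUniversallyJapanese R := by
  intro S _ _ _ hS
  haveI := hS
  let ι' := {i // algebraMap R S (f i) ≠ 0}
  let g : ι' → S := fun i => algebraMap R S (f i.1)
  have hg : Ideal.span (Set.range g) = ⊤ := by
    rw [eq_top_iff, ← Ideal.map_top (algebraMap R S), ← hf, Ideal.map_span, Ideal.span_le]
    rintro _ ⟨_, ⟨i, rfl⟩, rfl⟩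
    by_cases hi : algebraMap R S (f i) = 0
    · rw [hi]; exact zero_mem _
    · exact Ideal.subset_span ⟨⟨i, hi⟩, rfl⟩
  haveI : ∀ i : ι', IsDomain (Localization.Away (g i)) := fun i =>
    IsLocalization.isDomain_localization (powers_le_nonZeroDivisors_of_noZeroDivisors i.2)
  refine isN2_of_cover g hg (fun i => Localization.Away (g i)) fun i => ?_
  have hu : IsUnit (algebraMap R (Localization.Away (g i)) (f i.1)) := by
    rw [IsScalarTower.algebraMap_apply R S (Localization.Away (g i))]
    exact IsLocalization.Away.algebraMap_isUnit (g i)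
  letI : Algebra (Localization.Away (f i.1)) (Localization.Away (g i)) :=
    (IsLocalization.Away.lift (S := Localization.Away (f i.1)) (f i.1) hu).toAlgebra
  haveI : IsScalarTower R (Localization.Away (f i.1)) (Localization.Away (g i)) :=
    IsScalarTower.of_algebraMap_eq fun x => (IsLocalization.Away.lift_eq (f i.1) hu x).symm
  haveI : Algebra.FiniteType S (Localization.Away (g i)) := finiteType_away (g i) _
  haveI : Algebra.FiniteType R (Localization.Away (g i)) := Algebra.FiniteType.trans hS inferInstance
  exact h i.1 _ (Algebra.FiniteType.of_restrictScalars_finiteType R _ _)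

theorem isNoetherianRing_of_cover {R : Type u} [CommRing R] {ι : Type u} [Finite ι] (f : ι → R)
    (hf : Ideal.span (Set.range f) = ⊤) (h : ∀ i, IsNoetherianRing (Localization.Away (f i))) :
    IsNoetherianRing R := by
  classical
  haveI := Fintype.ofFinite ι
  refine isNoetherianRing_iff_ideal_fg R |>.2 fun I => ?_
  have hT : ∀ i, ∃ T : Finset R, (T : Set R) ⊆ I ∧
      I.map (algebraMap R (Localization.Away (f i))) =
        Ideal.span (algebraMap R (Localization.Away (f i)) '' (T : Set R)) := by
    intro i
    obtain ⟨T, hT, hTe⟩ := Submodule.fg_span_iff_fg_span_finset_subset _ |>.1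
      ((isNoetherianRing_iff_ideal_fg _).1 (h i)
        (I.map (algebraMap R (Localization.Away (f i)))))
    obtain ⟨T', hT', rfl⟩ := Finset.subset_set_image_iff.1 hT
    exact ⟨T', hT', by rw [← Finset.coe_image]; exact hTe⟩
  choose T hTI hTe using hT
  refine ⟨Finset.univ.biUnion T, le_antisymm ?_ fun x hx => ?_⟩
  · rw [Submodule.span_le]
    intro x hx
    obtain ⟨i, -, hi⟩ := Finset.mem_biUnion.1 hx
    exact hTI i hi
  · refine mem_of_cover f hf _ x fun i => ?_
    have hm : algebraMap R (Localization.Away (f i)) x ∈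
        (Ideal.span (T i : Set R)).map (algebraMap R (Localization.Away (f i))) := by
      rw [Ideal.map_span, ← hTe i]
      exact Ideal.mem_map_of_mem _ hx
    rw [IsLocalization.algebraMap_mem_map_algebraMap_iff (Submonoid.powers (f i))] at hm
    obtain ⟨_, ⟨k, rfl⟩, hk⟩ := hm
    refine ⟨k, ?_⟩
    refine Submodule.span_mono ?_ hk
    exact Finset.coe_subset.2 (Finset.subset_biUnion_of_mem T (Finset.mem_univ i))

theorem isNagata_of_cover {R : Type u} [CommRing R] {ι : Type u} [Finite ι] (f : ι → R)
    (hf : Ideal.span (Set.range f) = ⊤) (h : ∀ i, CAlg.IsNagata (Localization.Away (f i))) :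
    CAlg.IsNagata R := by
  refine ⟨isNoetherianRing_of_cover f hf fun i => (h i).1, fun p _ => ?_⟩
  let ι' := {i // f i ∉ p}
  let g : ι' → R ⧸ p := fun i => Ideal.Quotient.mk p (f i.1)
  have hg : Ideal.span (Set.range g) = ⊤ := by
    rw [eq_top_iff, ← Ideal.map_top (Ideal.Quotient.mk p), ← hf, Ideal.map_span, Ideal.span_le]
    rintro _ ⟨_, ⟨i, rfl⟩, rfl⟩
    by_cases hi : f i ∈ p
    · rw [Ideal.Quotient.eq_zero_iff_mem.2 hi]; exact zero_mem _
    · exact Ideal.subset_span ⟨⟨i, hi⟩, rfl⟩
  have hg0 : ∀ i : ι', g i ≠ 0 := fun i h0 => i.2 (Ideal.Quotient.eq_zero_iff_mem.1 h0)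
  haveI : ∀ i : ι', IsDomain (Localization.Away (g i)) := fun i =>
    IsLocalization.isDomain_localization (powers_le_nonZeroDivisors_of_noZeroDivisors (hg0 i))
  refine isN2_of_cover g hg (fun i => Localization.Away (g i)) fun i => ?_
  let B := Localization.Away (g i)
  have hu : IsUnit (algebraMap R B (f i.1)) := by
    rw [IsScalarTower.algebraMap_apply R (R ⧸ p) B]
    exact IsLocalization.Away.algebraMap_isUnit (g i)
  let φ : Localization.Away (f i.1) →+* B := IsLocalization.Away.lift (f i.1) hu
  have hφ : Function.Surjective φ := by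
    intro b
    obtain ⟨a, s, rfl⟩ := IsLocalization.exists_mk'_eq (Submonoid.powers (g i)) b
    obtain ⟨a, rfl⟩ := Ideal.Quotient.mk_surjective a
    obtain ⟨n, hn⟩ := s.2
    refine ⟨IsLocalization.mk' (Localization.Away (f i.1)) a
      (⟨f i.1 ^ n, n, rfl⟩ : Submonoid.powers (f i.1)), ?_⟩
    have h2 : φ (IsLocalization.mk' (Localization.Away (f i.1)) a
        (⟨f i.1 ^ n, n, rfl⟩ : Submonoid.powers (f i.1))) *
          φ (algebraMap R (Localization.Away (f i.1)) (f i.1 ^ n)) =
        φ (algebraMap R (Localization.Away (f i.1)) a) := by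
      rw [← map_mul]
      congr 1
      exact IsLocalization.mk'_spec (Localization.Away (f i.1)) a _
    simp only [φ, IsLocalization.Away.lift_eq] at h2
    refine (IsUnit.mul_left_inj (b := IsLocalization.Away.lift (f i.1) hu _) (hu.pow n)).1 ?_
    rw [← map_pow, h2, map_pow, IsScalarTower.algebraMap_apply R (R ⧸ p) B,
      IsScalarTower.algebraMap_apply R (R ⧸ p) B, ← map_pow,
      show algebraMap R (R ⧸ p) (f i.1) ^ n = (s : R ⧸ p) from hn, IsLocalization.mk'_spec]
    rfl
  haveI : (RingHom.ker φ).IsPrime := RingHom.ker_isPrime φ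
  letI : Algebra (Localization.Away (f i.1) ⧸ RingHom.ker φ) B :=
    (RingHom.kerLift φ).toAlgebra
  exact isN2_of_bijective
    ⟨RingHom.kerLift_injective φ, fun b => by
      obtain ⟨x, hx⟩ := hφ b
      exact ⟨Ideal.Quotient.mk _ x, hx⟩⟩
    ((h i.1).2 (RingHom.ker φ))

end Groth.L03.Japanese
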