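import Groth.Agent.L07.OrderValuation
import Mathlib.RingTheory.IntegralClosure.IsIntegral.AlmostIntegral
import Mathlib.RingTheory.IntegralClosure.IntegrallyClosed
import Mathlib.RingTheory.Polynomial.UniqueFactorization
import Mathlib.RingTheory.Polynomial.RationalRoot
import Mathlib.RingTheory.Polynomial.Basic

/-!
A regular local ring is integrally closed, by comparing leading forms.
-/

namespace Groth.L03.RegularNormal

open MvPolynomial IsLocalRing

universe u

/-- In a Noetherian integrally closed domain, `S ^ N ∣ c * Y ^ N` for all `N` forces `S ∣ Y`. -/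
theorem dvd_of_forall_pow_dvd {P : Type*} [CommRing P] [IsDomain P] [IsNoetherianRing P]
    [IsIntegrallyClosed P] {c S Y : P} (hc : c ≠ 0) (hS : S ≠ 0)
    (h : ∀ N, S ^ N ∣ c * Y ^ N) : S ∣ Y := by
  let K := FractionRing P
  have hS' : algebraMap P K S ≠ 0 := (map_ne_zero_iff _ (IsFractionRing.injective P K)).2 hS
  have halm : IsAlmostIntegral P (algebraMap P K Y / algebraMap P K S) := by
    refine ⟨c, mem_nonZeroDivisors_of_ne_zero hc, fun n => ?_⟩
    obtain ⟨t, ht⟩ := h n
    refine ⟨t, ?_⟩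
    rw [Algebra.smul_def, div_pow, mul_div_assoc', eq_div_iff (pow_ne_zero _ hS'), ← map_pow,
      ← map_pow, ← map_mul, ← map_mul, ht, mul_comm t]
  obtain ⟨t, ht⟩ := IsIntegrallyClosed.isIntegral_iff.1 halm.isIntegral
  refine ⟨t, IsFractionRing.injective P K ?_⟩
  rw [map_mul, ht, mul_div_cancel₀ _ hS']

theorem map_homogeneousComponent {R S σ : Type*} [CommSemiring R] [CommSemiring S] (f : R →+* S)
    (n : ℕ) (p : MvPolynomial σ R) :
    MvPolynomial.map f (homogeneousComponent n p) = homogeneousComponent n (MvPolynomial.map f p) := by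
  classical
  ext d
  rw [coeff_map, coeff_homogeneousComponent, coeff_homogeneousComponent, coeff_map, apply_ite f,
    map_zero]

/-- The degree `j` part of a product with a homogeneous polynomial of degree `a`. -/
theorem exists_homogeneous_factor {k σ : Type*} [CommRing k] {F Y Q : MvPolynomial σ k} {a j : ℕ}
    (hF : F.IsHomogeneous a) (hY : Y.IsHomogeneous j) (haj : a ≤ j) (h : Y = F * Q) :
    Y = F * homogeneousComponent (j - a) Q := by
  classical
  conv_lhs => rw [← homogeneousComponent_eq_self hY, h, ← sum_homogeneousComponent Q, Finset.mul_sum, map_sum]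
  have hterm : ∀ l, homogeneousComponent j (F * homogeneousComponent l Q) =
      if a + l = j then F * homogeneousComponent l Q else 0 := by
    intro l
    rw [homogeneousComponent_of_mem (hF.mul (homogeneousComponent_isHomogeneous l Q))]
    simp [eq_comm]
  simp only [hterm]
  have hcond : ∀ l, (a + l = j) = (j - a = l) := fun l => propext ⟨fun h => by omega, fun h => by omega⟩
  simp only [hcond, Finset.sum_ite_eq]
  split_ifs with hmem
  · rfl
  · rw [homogeneousComponent_eq_zero _ _ (by rw [Finset.mem_range] at hmem; omega), mul_zero]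

variable {A : Type u} [CommRing A] [IsRegularLocalRing A]

theorem hasOrd_pow {y : A} {a : ℕ} (hy : Groth.L07.Order.HasOrd y a) :
    ∀ N, Groth.L07.Order.HasOrd (y ^ N) (N * a)
  | 0 => by simpa using Groth.L07.Order.hasOrd_one
  | N + 1 => by
    rw [pow_succ, Nat.add_mul, one_mul]
    exact (hasOrd_pow hy N).mul hy

theorem exists_step {s c y : A} (hs : s ≠ 0) (hc : c ≠ 0) (h : ∀ N, s ^ N ∣ c * y ^ N) {j : ℕ}
    (hy : y ∈ maximalIdeal A ^ j) : ∃ a, y - s * a ∈ maximalIdeal A ^ (j + 1) := by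
  classical
  haveI : IsDomain A := Groth.L01.isDomain_of_regular A
  by_cases hyj : y ∈ maximalIdeal A ^ (j + 1)
  · exact ⟨0, by simpa using hyj⟩
  obtain ⟨d, x, -, hx, hq⟩ := Groth.L07.Order.exists_regular_parameters A
  have hordy : Groth.L07.Order.HasOrd y j := ⟨hy, hyj⟩
  obtain ⟨a, ha⟩ := Groth.L07.Order.exists_hasOrd hs
  obtain ⟨b, hb⟩ := Groth.L07.Order.exists_hasOrd hc
  choose t ht using h
  have hdeg : ∀ N, ∃ e, Groth.L07.Order.HasOrd (t N) e ∧ b + N * j = N * a + e := by
    intro N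
    have h1 := hb.mul (hasOrd_pow hordy N)
    have ht0 : t N ≠ 0 := fun h0 => h1.ne_zero (by rw [ht, h0, mul_zero])
    obtain ⟨e, he⟩ := Groth.L07.Order.exists_hasOrd ht0
    have h2 := (hasOrd_pow ha N).mul he
    rw [← ht] at h2
    exact ⟨e, he, le_antisymm (h2.le_of_mem h1.1) (h1.le_of_mem h2.1)⟩
  choose e he hej using hdeg
  have haj : a ≤ j := by
    by_contra hlt
    have h1 := hej (b + 1)
    have h2 : (b + 1) * j + (b + 1) ≤ (b + 1) * a := by
      calc (b + 1) * j + (b + 1) = (b + 1) * (j + 1) := by ring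
        _ ≤ (b + 1) * a := Nat.mul_le_mul_left _ (by omega)
    omega
  obtain ⟨Fc, hFc, hFce⟩ := Groth.L07.QReg.exists_homogeneous_of_mem_span_pow x b (hx ▸ hb.1)
  obtain ⟨Fy, hFy, hFye⟩ := Groth.L07.QReg.exists_homogeneous_of_mem_span_pow x j (hx ▸ hy)
  obtain ⟨Fs, hFs, hFse⟩ := Groth.L07.QReg.exists_homogeneous_of_mem_span_pow x a (hx ▸ ha.1)
  let π := MvPolynomial.map (σ := Fin d) (residue A)
  have hne : ∀ {n : ℕ} {P : MvPolynomial (Fin d) A}, P.IsHomogeneous n →
      eval x P ∉ maximalIdeal A ^ (n + 1) → π P ≠ 0 := by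
    intro n P hP hn h0
    refine hn ?_
    rw [pow_succ', ← hx]
    refine Groth.L07.QReg.eval_mem_mul_span_pow x _ hP fun f => ?_
    rw [hx, ← IsLocalRing.residue_eq_zero_iff, ← coeff_map]
    exact (congrArg (fun p => MvPolynomial.coeff f p) h0).trans (coeff_zero _)
  have hzero : ∀ {n : ℕ} {P : MvPolynomial (Fin d) A}, P.IsHomogeneous n →
      eval x P ∈ maximalIdeal A ^ (n + 1) → π P = 0 := by
    intro n P hP hn
    ext f
    rw [coeff_map, coeff_zero, IsLocalRing.residue_eq_zero_iff, ← hx]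
    exact hq n P hP (hx ▸ hn) f
  have hdvd : ∀ N, π Fs ^ N ∣ π Fc * π Fy ^ N := by
    intro N
    obtain ⟨Ft, hFt, hFte⟩ := Groth.L07.QReg.exists_homogeneous_of_mem_span_pow x (e N) (hx ▸ (he N).1)
    have h1 : (Fc * Fy ^ N - Fs ^ N * Ft).IsHomogeneous (b + N * j) := by
      refine (hFc.mul ?_).sub ?_
      · rw [mul_comm]; exact hFy.pow N
      · rw [hej N, mul_comm N a]; exact (hFs.pow N).mul hFt
    have h2 : π (Fc * Fy ^ N - Fs ^ N * Ft) = 0 := hzero h1 (by
      rw [map_sub, map_mul, map_mul, map_pow, map_pow, hFce, hFye, hFse, hFte, ht N, sub_self]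
      exact zero_mem _)
    rw [map_sub, map_mul, map_mul, map_pow, map_pow, sub_eq_zero] at h2
    exact ⟨π Ft, h2⟩
  obtain ⟨Q, hQ⟩ := dvd_of_forall_pow_dvd (hne hFc (hFce ▸ hb.2)) (hne hFs (hFse ▸ ha.2)) hdvd
  obtain ⟨G, rfl⟩ := MvPolynomial.map_surjective (residue A) IsLocalRing.residue_surjective Q
  have hfac := exists_homogeneous_factor (hFs.map (residue A)) (hFy.map (residue A)) haj hQ
  let G' := homogeneousComponent (j - a) G
  have hG' : G'.IsHomogeneous (j - a) := homogeneousComponent_isHomogeneous _ _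
  have h3 : (Fy - Fs * G').IsHomogeneous j := by
    have := hFs.mul hG'
    rw [Nat.add_sub_cancel' haj] at this
    exact hFy.sub this
  have h4 : π (Fy - Fs * G') = 0 := by
    rw [map_sub, map_mul, sub_eq_zero, map_homogeneousComponent]
    exact hfac
  refine ⟨eval x G', ?_⟩
  rw [← hFye, ← hFse, ← eval_mul, ← map_sub, pow_succ', ← hx]
  refine Groth.L07.QReg.eval_mem_mul_span_pow x _ h3 fun f => ?_
  rw [hx, ← IsLocalRing.residue_eq_zero_iff, ← coeff_map]
  exact (congrArg (fun p => MvPolynomial.coeff f p) h4).trans (coeff_zero _)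

theorem isIntegrallyClosed (A : Type u) [CommRing A] [IsRegularLocalRing A] :
    IsIntegrallyClosed A := by
  haveI : IsDomain A := Groth.L01.isDomain_of_regular A
  let K := FractionRing A
  refine (isIntegrallyClosed_iff K).2 fun {z} hz => ?_
  obtain ⟨y, s, hs, rfl⟩ := IsFractionRing.div_surjective (A := A) z
  have hs0 : s ≠ 0 := nonZeroDivisors.ne_zero hs
  have hs' : algebraMap A K s ≠ 0 := (map_ne_zero_iff _ (IsFractionRing.injective A K)).2 hs0
  have key : ∀ n, ∃ a, y - s * a ∈ maximalIdeal A ^ n := by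
    intro n
    induction n with
    | zero => exact ⟨0, by simp⟩
    | succ n ih =>
      obtain ⟨a, ha⟩ := ih
      have hz' : IsIntegral A (algebraMap A K (y - s * a) / algebraMap A K s) := by
        rw [map_sub, map_mul, sub_div, mul_div_cancel_left₀ _ hs']
        exact hz.sub isIntegral_algebraMap
      obtain ⟨c, hc, hcn⟩ := hz'.isAlmostIntegral
      have hdvd : ∀ N, s ^ N ∣ c * (y - s * a) ^ N := by
        intro N
        obtain ⟨t, ht⟩ := hcn N
        refine ⟨t, IsFractionRing.injective A K ?_⟩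
        rw [Algebra.smul_def, div_pow, mul_div_assoc', eq_div_iff (pow_ne_zero _ hs')] at ht
        rw [map_mul, map_mul, map_pow, map_pow, ← ht, mul_comm]
      obtain ⟨a', ha'⟩ := exists_step hs0 (nonZeroDivisors.ne_zero hc) hdvd ha
      exact ⟨a + a', by rwa [mul_add, ← sub_sub]⟩
  by_cases hu : IsUnit s
  · obtain ⟨u, rfl⟩ := hu
    refine ⟨y * ↑u⁻¹, ?_⟩
    rw [eq_div_iff hs', ← map_mul, mul_assoc, Units.inv_mul, mul_one]
  have hmem : y ∈ Ideal.span {s} := by
    haveI : Nontrivial (A ⧸ Ideal.span {s}) := Ideal.Quotient.nontrivial_iff.2 fun h =>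
      hu (Ideal.span_singleton_eq_top.1 h)
    haveI : IsLocalRing (A ⧸ Ideal.span {s}) :=
      IsLocalRing.of_surjective' (Ideal.Quotient.mk _) Ideal.Quotient.mk_surjective
    haveI : IsNoetherianRing (A ⧸ Ideal.span {s}) := inferInstance
    rw [← Ideal.Quotient.eq_zero_iff_mem]
    set M := (maximalIdeal A).map (Ideal.Quotient.mk (Ideal.span {s})) with hM
    have hMne : M ≠ ⊤ := fun h => hu <| by
      have hle : Ideal.span {s} ≤ maximalIdeal A :=
        IsLocalRing.le_maximalIdeal fun h => hu (Ideal.span_singleton_eq_top.1 h)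
      have := congrArg (Ideal.comap (Ideal.Quotient.mk (Ideal.span {s}))) h
      rw [Ideal.comap_top, hM, Ideal.comap_map_of_surjective _ Ideal.Quotient.mk_surjective,
        ← RingHom.ker_eq_comap_bot, Ideal.mk_ker, sup_eq_left.2 hle] at this
      exact absurd this (maximalIdeal.isMaximal A).ne_top
    rw [← Submodule.mem_bot (A ⧸ Ideal.span {s}), ← Ideal.iInf_pow_eq_bot_of_isLocalRing M hMne,
      Submodule.mem_iInf]
    intro n
    obtain ⟨a, ha⟩ := key n
    rw [hM, ← Ideal.map_pow]
    have : Ideal.Quotient.mk (Ideal.span {s}) y = Ideal.Quotient.mk (Ideal.span {s}) (y - s * a) := by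
      rw [map_sub, map_mul, Ideal.Quotient.mk_singleton_self, zero_mul, sub_zero]
    rw [this]
    exact Ideal.mem_map_of_mem _ ha
  obtain ⟨t, ht⟩ := Ideal.mem_span_singleton'.1 hmem
  exact ⟨t, by rw [eq_div_iff hs', ← map_mul, ht]⟩

end Groth.L03.RegularNormal
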