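import Mathlib.RingTheory.Nakayama
import Mathlib.LinearAlgebra.TensorProduct.Quotient
import Mathlib.RingTheory.TensorProduct.Basic
import Mathlib.Algebra.Module.Projective
import Mathlib.RingTheory.Finiteness.Basic
import Mathlib.RingTheory.Jacobson.Ideal

/-!
Maps of finite projective modules which are bijective modulo an ideal in the Jacobson radical.
-/

namespace Groth.L03.ModJac

open TensorProduct

universe u

variable {R : Type u} [CommRing R] {I : Ideal R}

theorem one_tmul_eq_zero_iff {M : Type*} [AddCommGroup M] [Module R M] (x : M) :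
    (1 : R ⧸ I) ⊗ₜ[R] x = 0 ↔ x ∈ I • (⊤ : Submodule R M) := by
  rw [← (TensorProduct.quotTensorEquivQuotSMul M I).map_eq_zero_iff,
    TensorProduct.quotTensorEquivQuotSMul_mk_one_tmul, Submodule.Quotient.mk_eq_zero]

theorem exists_one_tmul {M : Type*} [AddCommGroup M] [Module R M] (z : (R ⧸ I) ⊗[R] M) :
    ∃ x : M, (1 : R ⧸ I) ⊗ₜ[R] x = z :=
  TensorProduct.mk_surjective R M (R ⧸ I) Ideal.Quotient.mk_surjective z

theorem surjective_of_mod (hI : I ≤ Ideal.jacobson (⊥ : Ideal R)) {P P' : Type*}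
    [AddCommGroup P] [Module R P] [AddCommGroup P'] [Module R P'] [Module.Finite R P']
    (φ : P →ₗ[R] P') (h : Function.Surjective (φ.baseChange (R ⧸ I))) :
    Function.Surjective φ := by
  refine LinearMap.surjective_of_surjective_comp_mkQ φ I hI fun z => ?_
  obtain ⟨y, rfl⟩ := Submodule.mkQ_surjective _ z
  obtain ⟨w, hw⟩ := h (1 ⊗ₜ y)
  obtain ⟨x, rfl⟩ := exists_one_tmul w
  refine ⟨x, ?_⟩
  rw [LinearMap.baseChange_tmul] at hw
  rw [LinearMap.comp_apply, Submodule.mkQ_apply, Submodule.mkQ_apply, Submodule.Quotient.eq,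
    ← one_tmul_eq_zero_iff, TensorProduct.tmul_sub, hw, sub_self]

theorem mem_smul_range {M N : Type*} [AddCommGroup M] [Module R M] [AddCommGroup N] [Module R N]
    (f : M →ₗ[R] N) {x : M} (hx : x ∈ I • (⊤ : Submodule R M)) :
    f x ∈ I • LinearMap.range f := by
  rw [← Submodule.map_top, ← Submodule.map_smul'']
  exact Submodule.mem_map_of_mem hx

theorem bijective_of_mod (hI : I ≤ Ideal.jacobson (⊥ : Ideal R)) {P P' : Type*}
    [AddCommGroup P] [Module R P] [Module.Finite R P] [AddCommGroup P'] [Module R P']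
    [Module.Finite R P'] [Module.Projective R P'] (φ : P →ₗ[R] P')
    (h : Function.Bijective (φ.baseChange (R ⧸ I))) : Function.Bijective φ := by
  have hs := surjective_of_mod hI φ h.2
  refine ⟨?_, hs⟩
  obtain ⟨t, ht⟩ := Module.projective_lifting_property φ LinearMap.id hs
  set p : P →ₗ[R] P := LinearMap.id - t ∘ₗ φ
  have ht' : ∀ y, φ (t y) = y := LinearMap.congr_fun ht
  have hker : ∀ x, φ x = 0 → p x = x := fun x hx => by simp [p, hx]
  have hp : ∀ x, φ (p x) = 0 := fun x => by simp [p, ht']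
  have hbot : LinearMap.range p = ⊥ := by
    refine Submodule.eq_bot_of_le_smul_of_le_jacobson_bot I _
      (Module.Finite.iff_fg.1 inferInstance) ?_ hI
    rintro _ ⟨x, rfl⟩
    have h0 : (1 : R ⧸ I) ⊗ₜ[R] p x = 0 := h.1 (by rw [map_zero, LinearMap.baseChange_tmul, hp, TensorProduct.tmul_zero])
    rw [one_tmul_eq_zero_iff] at h0
    have := mem_smul_range p h0
    rwa [hker _ (hp x)] at this
  rw [← LinearMap.ker_eq_bot, LinearMap.ker_eq_bot']
  intro x hx
  have : p x ∈ LinearMap.range p := LinearMap.mem_range_self _ _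
  rwa [hbot, Submodule.mem_bot, hker x hx] at this

end Groth.L03.ModJac
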