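import Mathlib.RingTheory.MvPolynomial.Homogeneous
import Mathlib.RingTheory.MvPolynomial.Basic
import Mathlib.Algebra.Order.Antidiag.FinsuppEquiv
import Mathlib.LinearAlgebra.FiniteDimensional.Lemmas
import Mathlib.LinearAlgebra.Basis.VectorSpace
import Mathlib.LinearAlgebra.Dual.Lemmas
import Mathlib.Algebra.Module.SpanRank
import Mathlib.RingTheory.Polynomial.Basic
import Mathlib.RingTheory.MvPolynomial.Tower
import Mathlib.Algebra.MvPolynomial.Division
import Mathlib.Algebra.MvPolynomial.NoZeroDivisors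
import Mathlib.RingTheory.Ideal.Quotient.Operations

/-!
Homogeneous forms vanishing on finite sets of points of the projective plane.
-/

set_option autoImplicit false
set_option linter.style.haveILetI false

universe u

namespace Groth.L03.PlanePoints

open MvPolynomial Module

variable {F : Type u} [Field F]

theorem finrank_homogeneous (r n : ℕ) :
    Module.Finite F (homogeneousSubmodule (Fin (r + 1)) F n) ∧
      finrank F (homogeneousSubmodule (Fin (r + 1)) F n) = Nat.choose (n + r) r := by
  have hset : ∀ d : Fin (r + 1) →₀ ℕ, d.degree = n ↔ d ∈ Finset.univ.finsuppAntidiag n := fun d => by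
    rw [Finset.mem_finsuppAntidiag, Finsupp.degree_eq_sum]
    simp
  haveI : Fintype {d : Fin (r + 1) →₀ ℕ | d.degree = n} :=
    Fintype.ofFinset (Finset.univ.finsuppAntidiag n) fun d => (hset d).symm
  let b : Module.Basis {d : Fin (r + 1) →₀ ℕ | d.degree = n} F
      (homogeneousSubmodule (Fin (r + 1)) F n) :=
    (basisRestrictSupport F _).map
      (LinearEquiv.ofEq _ _
        (homogeneousSubmodule_eq_finsupp_supported (σ := Fin (r + 1)) (R := F) n).symm)
  refine ⟨Module.Finite.of_basis b, ?_⟩
  rw [Module.finrank_eq_nat_card_basis b]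
  refine (Nat.subtype_card (Finset.univ.finsuppAntidiag n) fun d => (hset d).symm).trans ?_
  rw [Finset.card_finsuppAntidiag_nat_eq_choose]
  simp only [Finset.card_univ, Fintype.card_fin]
  rw [show r + 1 + n - 1 = n + r by omega, Nat.choose_symm_add]

/-- A linear functional as a linear form. -/
noncomputable def toForm (ℓ : (Fin 3 → F) →ₗ[F] F) : MvPolynomial (Fin 3) F :=
  ∑ i, C (ℓ (Pi.single i 1)) * X i

theorem isHomogeneous_toForm (ℓ : (Fin 3 → F) →ₗ[F] F) : (toForm ℓ).IsHomogeneous 1 :=
  IsHomogeneous.sum _ _ _ fun i _ => (isHomogeneous_X F i).C_mul _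

theorem aeval_toForm (ℓ : (Fin 3 → F) →ₗ[F] F) (v : Fin 3 → F) :
    aeval v (toForm ℓ) = ℓ v := by
  conv_rhs => rw [show v = ∑ i, v i • (Pi.single i 1 : Fin 3 → F) by
    funext j; simp [Finset.sum_apply, Pi.single_apply]]
  rw [toForm, map_sum, map_sum]
  refine Finset.sum_congr rfl fun i _ => ?_
  simp [mul_comm]

/-- The forms of degree `n` vanishing on `Z`. -/
noncomputable def V (Z : Finset (Fin 3 → F)) (n : ℕ) : Submodule F (MvPolynomial (Fin 3) F) :=
  homogeneousSubmodule (Fin 3) F n ⊓ ⨅ p ∈ Z, LinearMap.ker (aeval p).toLinearMap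

theorem mem_V {Z : Finset (Fin 3 → F)} {n : ℕ} {f : MvPolynomial (Fin 3) F} :
    f ∈ V Z n ↔ f.IsHomogeneous n ∧ ∀ p ∈ Z, aeval p f = 0 := by
  simp [V, Submodule.mem_iInf, mem_homogeneousSubmodule]

instance finite_homogeneous (r n : ℕ) : Module.Finite F (homogeneousSubmodule (Fin (r + 1)) F n) :=
  (finrank_homogeneous r n).1

instance finite_V (Z : Finset (Fin 3 → F)) (n : ℕ) : Module.Finite F (V Z n) := by
  haveI : FiniteDimensional F (homogeneousSubmodule (Fin 3) F n) := finite_homogeneous 2 n
  exact Submodule.finiteDimensional_of_le (inf_le_left)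

section Separation

/-- Lines through points of `Λ` avoiding a vector, multiplied. -/
theorem exists_prod {v : Fin 3 → F} (s : Finset (Fin 3 → F))
    (hs : ∀ w ∈ s, v ∉ Submodule.span F {w}) :
    ∃ f : MvPolynomial (Fin 3) F, f.IsHomogeneous s.card ∧ aeval v f ≠ 0 ∧
      ∀ w ∈ s, aeval w f = 0 := by
  classical
  have hl : ∀ w : s, ∃ ℓ : (Fin 3 → F) →ₗ[F] F, ℓ v ≠ 0 ∧ ℓ w = 0 := fun w => by
    obtain ⟨ℓ, h1, h2⟩ := Submodule.exists_le_ker_of_notMem (hs w w.2)
    exact ⟨ℓ, h1, h2 (Submodule.mem_span_singleton_self _)⟩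
  choose ℓ h1 h2 using hl
  refine ⟨∏ w : s, toForm (ℓ w), ?_, ?_, fun w hw => ?_⟩
  · simpa using IsHomogeneous.prod Finset.univ (fun w : s => toForm (ℓ w)) (fun _ => 1)
      fun w _ => isHomogeneous_toForm (ℓ w)
  · rw [map_prod, Finset.prod_ne_zero_iff]
    exact fun w _ => by rw [aeval_toForm]; exact h1 w
  · rw [map_prod]
    exact Finset.prod_eq_zero (Finset.mem_univ ⟨w, hw⟩) (by rw [aeval_toForm]; exact h2 _)

theorem notMem_span_of_linearIndependent {v w : Fin 3 → F}
    (h : LinearIndependent F ![v, w]) : v ∉ Submodule.span F {w} := by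
  intro hmem
  obtain ⟨c, hc⟩ := Submodule.mem_span_singleton.1 hmem
  exact absurd ((LinearIndependent.pair_iff.1 h 1 (-c) (by rw [one_smul, neg_smul, hc, add_neg_cancel])).1) one_ne_zero

theorem finrank_V_card_sub_one (Λ : Finset (Fin 3 → F))
    (hdist : ∀ v ∈ Λ, ∀ w ∈ Λ, v ≠ w → LinearIndependent F ![v, w]) :
    finrank F (V Λ (Λ.card - 1)) + Λ.card = Nat.choose (Λ.card - 1 + 2) 2 := by
  classical
  set m := Λ.card - 1
  haveI : FiniteDimensional F (homogeneousSubmodule (Fin 3) F m) := finite_homogeneous 2 m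
  let ev : homogeneousSubmodule (Fin 3) F m →ₗ[F] (Λ → F) :=
    LinearMap.pi fun v => (aeval (v : Fin 3 → F)).toLinearMap ∘ₗ Submodule.subtype _
  have hker : (LinearMap.ker ev).map (Submodule.subtype _) = V Λ m := by
    ext f
    simp only [Submodule.mem_map, LinearMap.mem_ker, Submodule.subtype_apply, mem_V]
    constructor
    · rintro ⟨g, hg, rfl⟩
      exact ⟨g.2, fun p hp => congrFun hg ⟨p, hp⟩⟩
    · rintro ⟨hf, hz⟩
      exact ⟨⟨f, hf⟩, funext fun p => hz p p.2, rfl⟩
  have hsurj : LinearMap.range ev = ⊤ := by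
    rw [eq_top_iff]
    intro y _
    rw [show y = ∑ v, y v • (Pi.single v 1 : Λ → F) by
      funext j; simp [Finset.sum_apply, Pi.single_apply]]
    refine Submodule.sum_mem _ fun v _ => Submodule.smul_mem _ _ ?_
    obtain ⟨f, hf, hv, hz⟩ := exists_prod (v := (v : Fin 3 → F)) (Λ.erase v) fun w hw =>
      notMem_span_of_linearIndependent (hdist _ v.2 _ (Finset.mem_of_mem_erase hw)
        (Finset.ne_of_mem_erase hw).symm)
    rw [Finset.card_erase_of_mem v.2] at hf
    refine ⟨⟨(aeval (v : Fin 3 → F) f)⁻¹ • f, Submodule.smul_mem _ _ hf⟩, funext fun w => ?_⟩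
    show aeval (w : Fin 3 → F) ((aeval (v : Fin 3 → F) f)⁻¹ • f) = _
    rw [map_smul, smul_eq_mul]
    by_cases h : w = v
    · subst h
      rw [Pi.single_eq_same, inv_mul_cancel₀ hv]
    · rw [Pi.single_eq_of_ne h,
        hz w (Finset.mem_erase.2 ⟨fun e => h (Subtype.ext e), w.2⟩), mul_zero]
  have h := LinearMap.finrank_range_add_finrank_ker ev
  rw [hsurj, finrank_top, Module.finrank_fintype_fun_eq_card, Fintype.card_coe,
    (finrank_homogeneous 2 m).2] at h
  rw [← hker, Submodule.finrank_map_subtype_eq]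
  omega

theorem exists_mem_span_of_V_le (Λ : Finset (Fin 3 → F))
    (hline : ¬ ∃ ℓ : (Fin 3 → F) →ₗ[F] F, ℓ ≠ 0 ∧ ∀ w ∈ Λ, ℓ w = 0)
    (hdist : ∀ v ∈ Λ, ∀ w ∈ Λ, v ≠ w → LinearIndependent F ![v, w])
    (v : Fin 3 → F) (hv : ∀ f ∈ V Λ (Λ.card - 1), aeval v f = 0) :
    ∃ w ∈ Λ, ∃ c : F, v = c • w := by
  classical
  by_contra hne
  have hspan : ∀ w ∈ Λ, v ∉ Submodule.span F {w} := fun w hw h => by
    obtain ⟨c, hc⟩ := Submodule.mem_span_singleton.1 h
    exact hne ⟨w, hw, c, hc.symm⟩
  obtain ⟨a, ha, b, hb, hab, hvab⟩ : ∃ a ∈ Λ, ∃ b ∈ Λ, a ≠ b ∧ v ∉ Submodule.span F {a, b} := by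
    by_contra h
    simp only [not_exists, not_and, not_not] at h
    rcases Λ.eq_empty_or_nonempty with rfl | ⟨a, ha⟩
    · exact hline ⟨LinearMap.proj 0, fun h0 => one_ne_zero
        (congrFun (congrArg DFunLike.coe h0) (Pi.single 0 1) |>.symm.trans rfl |>.symm.trans (by simp)),
        fun w hw => absurd hw (Finset.notMem_empty w)⟩
    have hlt : Submodule.span F {v, a} < ⊤ := by
      refine lt_top_iff_ne_top.2 fun htop => ?_
      have h1 := finrank_span_finset_le_card (R := F) ({v, a} : Finset (Fin 3 → F))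
      rw [Set.finrank, Finset.coe_pair, htop, finrank_top, Module.finrank_fin_fun] at h1
      exact absurd (h1.trans Finset.card_le_two) (by norm_num)
    obtain ⟨ℓ, hℓ, hle⟩ := Submodule.exists_le_ker_of_lt_top _ hlt
    refine hline ⟨ℓ, hℓ, fun w hw => ?_⟩
    have hla : ℓ a = 0 := hle (Submodule.subset_span (by simp))
    by_cases hwa : a = w
    · rw [← hwa]; exact hla
    obtain ⟨c, e, hce⟩ := Submodule.mem_span_pair.1 (h a ha w hw hwa)
    have he : e ≠ 0 := fun h0 => hspan a ha
      (Submodule.mem_span_singleton.2 ⟨c, by simpa [h0] using hce⟩)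
    have hlv : ℓ v = 0 := hle (Submodule.subset_span (by simp))
    rw [← hce, map_add, map_smul, map_smul, hla, smul_zero, zero_add, smul_eq_mul] at hlv
    exact (mul_eq_zero.1 hlv).resolve_left he
  obtain ⟨ℓ, hℓv, hℓ⟩ := Submodule.exists_le_ker_of_notMem hvab
  obtain ⟨f, hf, hfv, hfz⟩ := exists_prod (v := v) ((Λ.erase a).erase b) fun w hw =>
    hspan w (Finset.mem_of_mem_erase (Finset.mem_of_mem_erase hw))
  have h2 : 2 ≤ Λ.card := Finset.one_lt_card.2 ⟨a, ha, b, hb, hab⟩
  have hmem : toForm ℓ * f ∈ V Λ (Λ.card - 1) := by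
    refine mem_V.2 ⟨?_, fun p hp => ?_⟩
    · have := (isHomogeneous_toForm ℓ).mul hf
      rw [Finset.card_erase_of_mem (Finset.mem_erase.2 ⟨hab.symm, hb⟩), Finset.card_erase_of_mem ha,
        show 1 + (Λ.card - 1 - 1) = Λ.card - 1 by omega] at this
      exact this
    · rw [map_mul, aeval_toForm]
      by_cases hpa : p = a
      · subst hpa; rw [show ℓ p = 0 from hℓ (Submodule.subset_span (by simp)), zero_mul]
      by_cases hpb : p = b
      · subst hpb; rw [show ℓ p = 0 from hℓ (Submodule.subset_span (by simp)), zero_mul]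
      rw [hfz p (by simp [hpa, hpb, hp]), mul_zero]
  have h0 := hv _ hmem
  rw [map_mul, aeval_toForm] at h0
  exact (mul_eq_zero.1 h0).elim hℓv hfv

end Separation

/-- Multiples of a space of forms by linear forms. -/
noncomputable def X1 {n : ℕ} (W : Submodule F (MvPolynomial (Fin n) F)) :
    Submodule F (MvPolynomial (Fin n) F) :=
  ⨆ i, W.map (LinearMap.mulLeft F (X i))

theorem X1_le (Z : Finset (Fin 3 → F)) (n : ℕ) : X1 (V Z n) ≤ V Z (n + 1) := by
  refine iSup_le fun i => ?_
  rintro _ ⟨f, hf, rfl⟩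
  rw [SetLike.mem_coe, mem_V] at hf
  refine mem_V.2 ⟨?_, fun p hp => ?_⟩
  · rw [add_comm]
    exact (isHomogeneous_X F i).mul hf.1
  · rw [LinearMap.mulLeft_apply, map_mul, hf.2 p hp, mul_zero]

/-- What the previous degree generates. -/
noncomputable def step (Z : Finset (Fin 3 → F)) : ℕ → Submodule F (MvPolynomial (Fin 3) F)
  | 0 => ⊥
  | n + 1 => X1 (V Z n)

theorem step_le (Z : Finset (Fin 3 → F)) : ∀ n, step Z n ≤ V Z n
  | 0 => bot_le
  | n + 1 => X1_le Z n

/-- The number of new generators in degree `n`. -/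
noncomputable def g (Z : Finset (Fin 3 → F)) (n : ℕ) : ℕ :=
  finrank F (V Z n) - finrank F (step Z n)

section TwoVariables

theorem finrank_lt_X1 {m : ℕ} (W : Submodule F (MvPolynomial (Fin 2) F))
    (hW : W ≤ homogeneousSubmodule (Fin 2) F m) (hne : W ≠ ⊥) :
    finrank F W + 1 ≤ finrank F (X1 W) := by
  haveI : FiniteDimensional F (homogeneousSubmodule (Fin 2) F m) := finite_homogeneous 1 m
  haveI : FiniteDimensional F W := Submodule.finiteDimensional_of_le hW
  haveI : FiniteDimensional F (X1 W) := by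
    rw [X1]; infer_instance
  have hX : ∀ i : Fin 2, (X i : MvPolynomial (Fin 2) F) ≠ 0 := fun i => X_ne_zero i
  set A := W.map (LinearMap.mulLeft F (X 0)) with hA
  set B := W.map (LinearMap.mulLeft F (X 1)) with hB
  have hnot : ¬ B ≤ A := by
    intro hle
    have hdiv : ∀ s : ℕ, ∀ w ∈ W, (X 0 : MvPolynomial (Fin 2) F) ^ s ∣ w := by
      intro s
      induction s with
      | zero => intro w _; simp
      | succ s ih =>
        intro w hw
        obtain ⟨w', hw', he⟩ := hle ⟨w, hw, rfl⟩
        have h1 : (X 0 : MvPolynomial (Fin 2) F) ^ (s + 1) ∣ X 1 * w := by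
          rw [show X 1 * w = X 0 * w' from he.symm, pow_succ']
          exact mul_dvd_mul_left _ (ih w' hw')
        have h2 : ¬ (X 0 : MvPolynomial (Fin 2) F) ∣ X 1 := by
          rw [X_dvd_X]
          simp
        exact (MvPolynomial.X_prime).pow_dvd_of_dvd_mul_left _ h2 h1
    obtain ⟨w, hw, hw0⟩ := Submodule.exists_mem_ne_zero_of_ne_bot hne
    obtain ⟨q, hq⟩ := hdiv (w.totalDegree + 1) w hw
    have hq0 : q ≠ 0 := fun h => hw0 (by rw [hq, h, mul_zero])
    have := totalDegree_mul_of_isDomain (pow_ne_zero (w.totalDegree + 1) (hX 0)) hq0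
    rw [← hq, totalDegree_X_pow] at this
    omega
  have hlt : A < A ⊔ B := lt_of_le_of_ne le_sup_left fun h => hnot (h ▸ le_sup_right)
  have hle : A ⊔ B ≤ X1 W := sup_le (le_iSup_of_le 0 le_rfl) (le_iSup_of_le 1 le_rfl)
  have h1 := Submodule.finrank_lt_finrank_of_lt hlt
  have h2 := Submodule.finrank_mono hle
  have h3 : finrank F A = finrank F W :=
    (Submodule.equivMapOfInjective _ (mul_right_injective₀ (hX 0)) W).finrank_eq.symm
  omega

end TwoVariables

section Key

variable (Z : Finset (Fin 3 → F)) (a b : F) (hab : ∀ p ∈ Z, p 0 + a * p 1 + b * p 2 ≠ 0)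

/-- The linear form cutting out the line. -/
noncomputable def L : MvPolynomial (Fin 3) F := X 0 + C a * X 1 + C b * X 2

/-- Restriction to the line. -/
noncomputable def ρ : MvPolynomial (Fin 3) F →ₐ[F] MvPolynomial (Fin 2) F :=
  aeval ![-(C a * X 0 + C b * X 1), X 0, X 1]

theorem dvd_of_ρ {f : MvPolynomial (Fin 3) F} (hf : ρ a b f = 0) : L a b ∣ f := by
  let q := Ideal.Quotient.mkₐ F (Ideal.span {L a b})
  have h : q = (q.comp (rename Fin.succ)).comp (ρ a b) := by
    refine MvPolynomial.algHom_ext fun i => ?_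
    fin_cases i
    · show q (X 0) = q (rename Fin.succ (ρ a b (X 0)))
      rw [← sub_eq_zero, ← map_sub]
      refine Ideal.Quotient.eq_zero_iff_mem.2 (Ideal.mem_span_singleton.2 (dvd_of_eq ?_))
      simp [ρ, L]
      ring
    · simp [ρ]
    · simp [ρ]
  have := AlgHom.congr_fun h f
  rw [AlgHom.comp_apply, hf, map_zero] at this
  exact Ideal.mem_span_singleton.1 (Ideal.Quotient.eq_zero_iff_mem.1 this)

theorem isHomogeneous_L : (L a b).IsHomogeneous 1 :=
  ((isHomogeneous_X F 0).add ((isHomogeneous_X F 1).C_mul a)).add ((isHomogeneous_X F 2).C_mul b)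

theorem L_ne_zero : L a b ≠ 0 := fun h => by
  have := congrArg (aeval ![(1 : F), 0, 0]) h
  simp [L] at this

include hab in
theorem ker_ρ {n : ℕ} {f : MvPolynomial (Fin 3) F} (hf : f ∈ V Z n) (h0 : ρ a b f = 0) :
    f = 0 ∨ ∃ m, n = m + 1 ∧ ∃ q ∈ V Z m, f = L a b * q := by
  obtain ⟨hh, hz⟩ := mem_V.1 hf
  obtain ⟨q, rfl⟩ := dvd_of_ρ a b h0
  by_cases hq : q = 0
  · left; rw [hq, mul_zero]
  right
  have hzero : ∀ i, 1 + i ≠ n → homogeneousComponent i q = 0 := by
    intro i hi
    have hproj : homogeneousComponent (1 + i) (L a b * q) = L a b * homogeneousComponent i q := by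
      conv_lhs => rw [← sum_homogeneousComponent q, Finset.mul_sum]
      rw [map_sum]
      have hterm : ∀ j, homogeneousComponent (1 + i) (L a b * homogeneousComponent j q) =
          if j = i then L a b * homogeneousComponent j q else 0 := fun j => by
        rw [homogeneousComponent_of_mem ((isHomogeneous_L a b).mul
          (homogeneousComponent_isHomogeneous j q))]
        simp [eq_comm]
      simp only [hterm, Finset.sum_ite_eq', Finset.mem_range]
      split
      · rfl
      · rw [homogeneousComponent_eq_zero _ _ (by omega), mul_zero]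
    rw [homogeneousComponent_of_mem hh, if_neg hi] at hproj
    exact (mul_eq_zero.1 hproj.symm).resolve_left (L_ne_zero a b)
  have hn : n ≠ 0 := by
    rintro rfl
    exact hq (by rw [← sum_homogeneousComponent q]; exact Finset.sum_eq_zero fun i _ => hzero i (by omega))
  obtain ⟨m, rfl⟩ := Nat.exists_eq_succ_of_ne_zero hn
  have hqm : q.IsHomogeneous m := by
    rw [← sum_homogeneousComponent q]
    refine IsHomogeneous.sum _ _ _ fun i _ => ?_
    by_cases hi : i = m
    · subst hi; exact homogeneousComponent_isHomogeneous _ _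
    · rw [hzero i (by omega)]; exact isHomogeneous_zero _ _ _
  refine ⟨m, rfl, q, mem_V.2 ⟨hqm, fun p hp => ?_⟩, rfl⟩
  have := hz p hp
  rw [map_mul] at this
  refine (mul_eq_zero.1 this).resolve_left ?_
  simpa [L] using hab p hp

include hab in
theorem finrank_split {n : ℕ} (W : Submodule F (MvPolynomial (Fin 3) F)) (hW : W ≤ V Z (n + 1))
    (hL : (V Z n).map (LinearMap.mulLeft F (L a b)) ≤ W) :
    finrank F W = finrank F (W.map (ρ a b).toLinearMap) + finrank F (V Z n) := by
  haveI : FiniteDimensional F W := Submodule.finiteDimensional_of_le hW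
  have h := LinearMap.finrank_range_add_finrank_ker ((ρ a b).toLinearMap.domRestrict W)
  have hker : LinearMap.ker ((ρ a b).toLinearMap.domRestrict W) =
      Submodule.comap W.subtype ((V Z n).map (LinearMap.mulLeft F (L a b))) := by
    ext ⟨f, hf⟩
    simp only [LinearMap.mem_ker, LinearMap.domRestrict_apply, AlgHom.toLinearMap_apply,
      Submodule.mem_comap, Submodule.subtype_apply, Submodule.mem_map, LinearMap.mulLeft_apply]
    constructor
    · intro h0
      rcases ker_ρ Z a b hab (hW hf) h0 with rfl | ⟨m, hm, q, hq, rfl⟩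
      · exact ⟨0, zero_mem _, mul_zero _⟩
      · obtain rfl : n = m := by omega
        exact ⟨q, hq, rfl⟩
    · rintro ⟨q, -, rfl⟩
      rw [map_mul, show ρ a b (L a b) = 0 by simp [ρ, L], zero_mul]
  rw [hker, (Submodule.comapSubtypeEquivOfLe hL).finrank_eq,
    ← (Submodule.equivMapOfInjective _ (mul_right_injective₀ (L_ne_zero a b)) _).finrank_eq,
    LinearMap.range_domRestrict] at h
  omega

theorem map_ρ_le (n : ℕ) :
    (V Z n).map (ρ a b).toLinearMap ≤ homogeneousSubmodule (Fin 2) F n := by
  rintro _ ⟨f, hf, rfl⟩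
  have := (mem_V.1 hf).1.aeval ![-(C a * X 0 + C b * X 1), X 0, X 1] (n := 1) fun i =>
    match i with
    | 0 => ((isHomogeneous_X F (0 : Fin 2)).C_mul a |>.add ((isHomogeneous_X F 1).C_mul b)).neg
    | 1 => isHomogeneous_X F (0 : Fin 2)
    | 2 => isHomogeneous_X F (1 : Fin 2)
  rw [one_mul] at this
  exact (mem_homogeneousSubmodule _ _).2 this

include hab in
theorem sum_g_le {d : ℕ} (hd : V Z d ≠ ⊥) (N : ℕ) : ∑ n ∈ Finset.range N, g Z n ≤ d + 1 := by
  classical
  have hex : ∃ n, V Z n ≠ ⊥ := ⟨d, hd⟩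
  set e := Nat.find hex with he
  have hzero : ∀ n, n < e → V Z n = ⊥ := fun n hn => not_not.1 (Nat.find_min hex hn)
  have hed : e ≤ d := Nat.find_min' hex hd
  have hgzero : ∀ n, n < e → g Z n = 0 := fun n hn => by
    rw [g, hzero n hn, finrank_bot, Nat.zero_sub]
  have hfin : ∀ n, FiniteDimensional F ((V Z n).map (ρ a b).toLinearMap) := fun n => inferInstance
  have main : ∀ k, (∑ n ∈ Finset.range (e + k + 1), g Z n) + k ≤
      finrank F ((V Z (e + k)).map (ρ a b).toLinearMap) ∧
      (V Z (e + k)).map (ρ a b).toLinearMap ≠ ⊥ := by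
    intro k
    induction k with
    | zero =>
      have hinj : ∀ f ∈ V Z e, ρ a b f = 0 → f = 0 := fun f hf h0 => by
        rcases ker_ρ Z a b hab hf h0 with h | ⟨m, hm, q, hq, rfl⟩
        · exact h
        · rw [hzero m (by omega), Submodule.mem_bot] at hq
          rw [hq, mul_zero]
      have hrank : finrank F ((V Z e).map (ρ a b).toLinearMap) = finrank F (V Z e) := by
        rw [← LinearMap.range_domRestrict]
        refine LinearMap.finrank_range_of_inj ?_
        rw [injective_iff_map_eq_zero]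
        exact fun f h0 => Subtype.ext (hinj f f.2 h0)
      refine ⟨?_, fun h => Nat.find_spec hex ?_⟩
      · show (∑ n ∈ Finset.range (e + 1), g Z n) + 0 ≤ finrank F ((V Z e).map (ρ a b).toLinearMap)
        rw [add_zero, Finset.sum_range_succ, Finset.sum_eq_zero fun n hn =>
          hgzero n (Finset.mem_range.1 hn), zero_add, hrank]
        exact Nat.sub_le _ _
      · rw [eq_bot_iff]
        intro f hf
        rw [add_zero] at h
        rw [Submodule.mem_bot]
        refine hinj f hf ?_
        rw [← Submodule.mem_bot (R := F), ← h]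
        exact ⟨f, hf, rfl⟩
    | succ k ih =>
      obtain ⟨ih1, ih2⟩ := ih
      set m := e + k with hm
      have hLle : (V Z m).map (LinearMap.mulLeft F (L a b)) ≤ X1 (V Z m) := by
        rintro _ ⟨f, hf, rfl⟩
        rw [LinearMap.mulLeft_apply, L, add_mul, add_mul, mul_assoc, mul_assoc, ← smul_eq_C_mul,
          ← smul_eq_C_mul]
        have hmem : ∀ i, X i * f ∈ X1 (V Z m) := fun i =>
          Submodule.mem_iSup_of_mem i ⟨f, hf, rfl⟩
        exact add_mem (add_mem (hmem 0) (Submodule.smul_mem _ _ (hmem 1)))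
          (Submodule.smul_mem _ _ (hmem 2))
      have hA := finrank_split Z a b hab (V Z (m + 1)) le_rfl (hLle.trans (X1_le Z m))
      have hB := finrank_split Z a b hab (X1 (V Z m)) (X1_le Z m) hLle
      have hsub : X1 ((V Z m).map (ρ a b).toLinearMap) ≤
          (X1 (V Z m)).map (ρ a b).toLinearMap := by
        refine iSup_le fun i => ?_
        rintro _ ⟨_, ⟨f, hf, rfl⟩, rfl⟩
        refine ⟨X i.succ * f, Submodule.mem_iSup_of_mem i.succ ⟨f, hf, rfl⟩, ?_⟩
        rw [AlgHom.toLinearMap_apply, LinearMap.mulLeft_apply, map_mul]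
        congr 1
        fin_cases i <;> simp [ρ]
      haveI : FiniteDimensional F (V Z (m + 1)) := finite_V Z (m + 1)
      haveI : FiniteDimensional F (X1 (V Z m)) := Submodule.finiteDimensional_of_le (X1_le Z m)
      have h1 := finrank_lt_X1 _ (map_ρ_le Z a b m) ih2
      have h2 := Submodule.finrank_mono hsub
      have h3 := Submodule.finrank_mono
        (Submodule.map_mono (f := (ρ a b).toLinearMap) (X1_le Z m))
      have hg : g Z (m + 1) = finrank F (V Z (m + 1)) - finrank F (X1 (V Z m)) := rfl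
      refine ⟨?_, fun h => ?_⟩
      · rw [show e + (k + 1) + 1 = (m + 1) + 1 by omega, Finset.sum_range_succ,
          show e + (k + 1) = m + 1 by omega]
        omega
      · rw [show e + (k + 1) = m + 1 by omega] at h
        have h0 : finrank F ((V Z (m + 1)).map (ρ a b).toLinearMap) = 0 := by rw [h]; simp
        omega
  have hbound := (main N).1
  haveI : FiniteDimensional F (homogeneousSubmodule (Fin 2) F (e + N)) := finite_homogeneous 1 _
  have h4 := Submodule.finrank_mono (map_ρ_le Z a b (e + N))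
  rw [(finrank_homogeneous 1 (e + N)).2, Nat.choose_one_right] at h4
  have h5 : ∑ n ∈ Finset.range N, g Z n ≤ ∑ n ∈ Finset.range (e + N + 1), g Z n :=
    Finset.sum_le_sum_of_subset (Finset.range_mono (by omega))
  omega

end Key

section BaseChange

variable {K : Type u} [Field K] [Algebra F K]

/-- Apply a linear functional to the coefficients. -/
noncomputable def cm {σ : Type} (ψ : K →ₗ[F] F) (p : MvPolynomial σ K) : MvPolynomial σ F :=
  ∑ d ∈ p.support, monomial d (ψ (p.coeff d))

theorem coeff_cm {σ : Type} (ψ : K →ₗ[F] F) (p : MvPolynomial σ K) (d : σ →₀ ℕ) :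
    (cm ψ p).coeff d = ψ (p.coeff d) := by
  classical
  rw [cm, coeff_sum, Finset.sum_eq_single d]
  · simp
  · intro e _ he; simp [he]
  · intro hd; simp [notMem_support_iff.1 hd]

theorem span_map_eq (W : Submodule F (MvPolynomial (Fin 3) F)) [FiniteDimensional F W] :
    finrank K (Submodule.span K
        (MvPolynomial.map (algebraMap F K) '' (W : Set (MvPolynomial (Fin 3) F)))) =
      finrank F W := by
  classical
  let b := Module.finBasis F W
  let c : Fin (finrank F W) → MvPolynomial (Fin 3) K := fun i =>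
    MvPolynomial.map (algebraMap F K) (b i : MvPolynomial (Fin 3) F)
  have hli : LinearIndependent K c := by
    rw [Fintype.linearIndependent_iff]
    intro r hr i
    by_contra hne
    obtain ⟨ψ, hψ⟩ := Module.Projective.exists_dual_ne_zero F hne
    have h0 : ∑ j, ψ (r j) • (b j : MvPolynomial (Fin 3) F) = 0 := by
      ext d
      have hd := congrArg (fun p => ψ (p.coeff d)) hr
      simp only [coeff_sum, coeff_smul, c, coeff_map, coeff_zero, map_zero, map_sum, smul_eq_mul,
        mul_comm (r _), ← Algebra.smul_def, map_smul] at hd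
      simpa [coeff_sum, mul_comm] using hd
    have h1 : ∑ j, ψ (r j) • b j = 0 := Subtype.ext (by simpa using h0)
    exact hψ (Fintype.linearIndependent_iff.1 b.linearIndependent _ h1 i)
  have hspan : Submodule.span K (Set.range c) =
      Submodule.span K (MvPolynomial.map (algebraMap F K) '' (W : Set (MvPolynomial (Fin 3) F))) := by
    refine le_antisymm (Submodule.span_mono (by rintro _ ⟨i, rfl⟩; exact ⟨_, (b i).2, rfl⟩))
      (Submodule.span_le.2 ?_)
    rintro _ ⟨w, hw, rfl⟩
    have := congrArg Subtype.val (b.sum_repr ⟨w, hw⟩)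
    simp only [AddSubmonoidClass.coe_finsetSum, SetLike.val_smul] at this
    rw [← this, map_sum]
    refine Submodule.sum_mem _ fun i _ => ?_
    rw [smul_eq_C_mul, map_mul, map_C, ← smul_eq_C_mul]
    exact Submodule.smul_mem _ _ (Submodule.subset_span ⟨i, rfl⟩)
  rw [← hspan, finrank_span_eq_card hli, Fintype.card_fin]

theorem V_baseChange (Z : Finset (Fin 3 → F)) (Z' : Finset (Fin 3 → K))
    (hZ' : ∀ q, q ∈ Z' ↔ ∃ p ∈ Z, algebraMap F K ∘ p = q) (n : ℕ) :
    V Z' n = Submodule.span K (MvPolynomial.map (algebraMap F K) '' (V Z n : Set _)) := by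
  classical
  refine le_antisymm (fun f hf => ?_) (Submodule.span_le.2 ?_)
  · obtain ⟨hh, hz⟩ := mem_V.1 hf
    let β := Module.Free.chooseBasis F K
    let J := f.support.biUnion fun d => (β.repr (f.coeff d)).support
    have hcm : ∀ ψ : K →ₗ[F] F, cm ψ f ∈ V Z n := by
      intro ψ
      refine mem_V.2 ⟨fun d hd => ?_, fun p hp => ?_⟩
      · rw [coeff_cm] at hd
        exact hh (fun h => hd (by rw [h, map_zero]))
      · have h := hz _ ((hZ' _).2 ⟨p, hp, rfl⟩)
        rw [aeval_def, eval₂_eq'] at h
        have h' := congrArg ψ h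
        rw [map_zero, map_sum] at h'
        rw [cm, map_sum, ← h']
        refine Finset.sum_congr rfl fun d _ => ?_
        simp only [aeval_monomial, Function.comp_apply, ← map_pow, ← map_prod, Algebra.algebraMap_self,
          RingHom.id_apply, Finsupp.prod_pow]
        rw [mul_comm (f.coeff d), ← Algebra.smul_def, map_smul, smul_eq_mul, mul_comm]
    have hexp : f = ∑ j ∈ J, β j • MvPolynomial.map (algebraMap F K) (cm (β.coord j) f) := by
      ext d
      simp only [coeff_sum, coeff_smul, coeff_map, coeff_cm, smul_eq_mul, Module.Basis.coord_apply]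
      by_cases hd : d ∈ f.support
      · conv_lhs => rw [← β.linearCombination_repr (f.coeff d)]
        rw [Finsupp.linearCombination_apply,
          Finsupp.sum_of_support_subset (s := J) _ (Finset.subset_biUnion_of_mem (fun d => (β.repr (f.coeff d)).support) hd) _
            (fun i _ => zero_smul F (β i))]
        exact Finset.sum_congr rfl fun j _ => by rw [Algebra.smul_def, mul_comm]
      · rw [notMem_support_iff.1 hd]
        simp
    rw [hexp]
    exact Submodule.sum_mem _ fun j _ =>
      Submodule.smul_mem _ _ (Submodule.subset_span ⟨_, hcm _, rfl⟩)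
  · rintro _ ⟨g, hg, rfl⟩
    obtain ⟨hh, hz⟩ := mem_V.1 hg
    refine mem_V.2 ⟨hh.map _, fun q hq => ?_⟩
    obtain ⟨p, hp, rfl⟩ := (hZ' q).1 hq
    rw [aeval_map_algebraMap, aeval_algebraMap_apply, hz p hp, map_zero]

theorem step_baseChange (Z : Finset (Fin 3 → F)) (Z' : Finset (Fin 3 → K))
    (hZ' : ∀ q, q ∈ Z' ↔ ∃ p ∈ Z, algebraMap F K ∘ p = q) (n : ℕ) :
    step Z' n = Submodule.span K (MvPolynomial.map (algebraMap F K) '' (step Z n : Set _)) := by
  cases n with
  | zero => simp [step]
  | succ n =>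
    simp only [step, X1]
    rw [V_baseChange Z Z' hZ' n]
    refine le_antisymm (iSup_le fun i => ?_) (Submodule.span_le.2 ?_)
    · rw [Submodule.map_span, Submodule.span_le]
      rintro _ ⟨_, ⟨f, hf, rfl⟩, rfl⟩
      refine Submodule.subset_span ⟨X i * f, Submodule.mem_iSup_of_mem i ⟨f, hf, rfl⟩, ?_⟩
      simp
    · rintro _ ⟨f, hf, rfl⟩
      induction hf using Submodule.iSup_induction' with
      | mem i f hf =>
        obtain ⟨f, hf, rfl⟩ := hf
        refine Submodule.mem_iSup_of_mem i
          ⟨MvPolynomial.map (algebraMap F K) f, Submodule.subset_span ⟨f, hf, rfl⟩, ?_⟩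
        simp
      | zero => simp
      | add f f' _ _ hf hf' => rw [map_add]; exact add_mem hf hf'

theorem g_baseChange (Z : Finset (Fin 3 → F)) (Z' : Finset (Fin 3 → K))
    (hZ' : ∀ q, q ∈ Z' ↔ ∃ p ∈ Z, algebraMap F K ∘ p = q) (n : ℕ) : g Z' n = g Z n := by
  haveI : FiniteDimensional F (step Z n) := Submodule.finiteDimensional_of_le (step_le Z n)
  rw [g, g, V_baseChange Z Z' hZ' n, step_baseChange Z Z' hZ' n, span_map_eq, span_map_eq]

end BaseChange

theorem sum_g_le' (Z : Finset (Fin 3 → F)) (hZ : ∀ p ∈ Z, p ≠ 0) {d : ℕ} (hd : V Z d ≠ ⊥)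
    (N : ℕ) : ∑ n ∈ Finset.range N, g Z n ≤ d + 1 := by
  classical
  let K := FractionRing (Polynomial F)
  let Z' : Finset (Fin 3 → K) := Z.image fun p => algebraMap F K ∘ p
  have hZ' : ∀ q, q ∈ Z' ↔ ∃ p ∈ Z, algebraMap F K ∘ p = q := fun q => by simp [Z']
  rw [← Finset.sum_congr rfl fun n _ => g_baseChange Z Z' hZ' n]
  refine sum_g_le Z' (algebraMap (Polynomial F) K Polynomial.X)
    (algebraMap (Polynomial F) K (Polynomial.X ^ 2)) ?_ ?_ N
  · intro q hq h
    obtain ⟨p, hp, rfl⟩ := (hZ' q).1 hq
    refine hZ p hp ?_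
    have h' : algebraMap (Polynomial F) K (Polynomial.C (p 0) + Polynomial.X * Polynomial.C (p 1) +
        Polynomial.X ^ 2 * Polynomial.C (p 2)) = 0 := by
      rw [← h]
      simp [map_add, map_mul, IsScalarTower.algebraMap_apply F (Polynomial F) K,
        Polynomial.algebraMap_eq]
      ring
    have h0 := (map_eq_zero_iff _ (IsFractionRing.injective (Polynomial F) K)).1 h'
    funext i
    fin_cases i
    · simpa using congrArg (fun P : Polynomial F => P.coeff 0) h0
    · simpa [Polynomial.coeff_C] using congrArg (fun P : Polynomial F => P.coeff 1) h0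
    · simpa [Polynomial.coeff_C] using congrArg (fun P : Polynomial F => P.coeff 2) h0
  · intro hbot
    refine hd ((Submodule.eq_bot_iff _).2 fun f hf => ?_)
    have : MvPolynomial.map (algebraMap F K) f ∈ V Z' d := by
      rw [V_baseChange Z Z' hZ' d]
      exact Submodule.subset_span ⟨f, hf, rfl⟩
    rw [hbot, Submodule.mem_bot] at this
    exact MvPolynomial.map_injective _ (algebraMap F K).injective (this.trans (map_zero _).symm)

/-- The vanishing ideal needs no more than `d + 1` generators. -/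
theorem spanFinrank_le (Z : Finset (Fin 3 → F)) (hZ : ∀ p ∈ Z, p ≠ 0)
    (I : Ideal (MvPolynomial (Fin 3) F))
    (hI : ∀ f, f ∈ I ↔ ∀ p ∈ Z, ∀ j : ℕ, eval p (homogeneousComponent j f) = 0)
    {d : ℕ} {f₀ : MvPolynomial (Fin 3) F} (hf₀I : f₀ ∈ I) (hf₀h : f₀.IsHomogeneous d)
    (hf₀ : f₀ ≠ 0) : Submodule.spanFinrank I ≤ d + 1 := by
  classical
  have hV : ∀ f n, f ∈ I → homogeneousComponent n f ∈ V Z n := fun f n hf =>
    mem_V.2 ⟨homogeneousComponent_isHomogeneous n f, fun p hp => by
      simpa [aeval_eq_eval] using (hI f).1 hf p hp n⟩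
  have hVI : ∀ f n, f ∈ V Z n → f ∈ I := fun f n hf => (hI f).2 fun p hp j => by
    rw [homogeneousComponent_of_mem (mem_V.1 hf).1]
    split
    · simpa [aeval_eq_eval] using (mem_V.1 hf).2 p hp
    · simp
  have hd : V Z d ≠ ⊥ := fun h => hf₀ (by
    have := hV f₀ d hf₀I
    rwa [homogeneousComponent_of_mem hf₀h, if_pos rfl, h, Submodule.mem_bot] at this)
  -- complements
  have hC : ∀ n, ∃ B : Finset (MvPolynomial (Fin 3) F), B.card ≤ g Z n ∧ (∀ x ∈ B, x ∈ V Z n) ∧
      V Z n ≤ Submodule.span F (B : Set _) ⊔ step Z n := by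
    intro n
    set S := Submodule.comap (V Z n).subtype (step Z n) with hS
    obtain ⟨Q, hQ⟩ := Submodule.exists_isCompl S
    haveI : Module.Free F Q := Module.Free.of_divisionRing F Q
    let b := Module.finBasis F Q
    refine ⟨Finset.univ.image fun i => ((b i : V Z n) : MvPolynomial (Fin 3) F), ?_, ?_, ?_⟩
    · refine Finset.card_image_le.trans ?_
      rw [Finset.card_univ, Fintype.card_fin, g, ← Submodule.finrank_add_eq_of_isCompl hQ, hS,
        (Submodule.comapSubtypeEquivOfLe (step_le Z n)).finrank_eq]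
      omega
    · intro x hx
      obtain ⟨i, -, rfl⟩ := Finset.mem_image.1 hx
      exact (b i : V Z n).2
    · intro x hx
      have hmem : (⟨x, hx⟩ : V Z n) ∈ S ⊔ Q := by rw [hQ.sup_eq_top]; exact Submodule.mem_top
      obtain ⟨s, hs, q, hq, hsq⟩ := Submodule.mem_sup.1 hmem
      rw [show x = (q : MvPolynomial (Fin 3) F) + s by rw [add_comm]; exact congrArg Subtype.val hsq.symm]
      refine Submodule.add_mem_sup ?_ hs
      have := congrArg (fun z : Q => ((z : V Z n) : MvPolynomial (Fin 3) F)) (b.sum_repr ⟨q, hq⟩)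
      simp only [AddSubmonoidClass.coe_finsetSum, SetLike.val_smul] at this
      rw [← this]
      exact Submodule.sum_mem _ fun i _ => Submodule.smul_mem _ _
        (Submodule.subset_span (by simp))
  choose B hBcard hBV hBspan using hC
  -- a degree bound
  obtain ⟨G, hG⟩ := (inferInstance : IsNoetherianRing (MvPolynomial (Fin 3) F)).noetherian I
  set N := G.sup totalDegree + 1 with hN
  let B' := (Finset.range N).biUnion B
  have hspanV : ∀ n, n < N → ∀ x ∈ V Z n, x ∈ Ideal.span (B' : Set (MvPolynomial (Fin 3) F)) := by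
    intro n
    induction n with
    | zero =>
      intro hn x hx
      have h := hBspan 0 hx
      clear hx
      rw [step, sup_bot_eq] at h
      induction h using Submodule.span_induction with
      | mem y hy => exact Ideal.subset_span (Finset.mem_biUnion.2 ⟨0, Finset.mem_range.2 hn, hy⟩)
      | zero => exact zero_mem _
      | add y z _ _ hy hz => exact add_mem hy hz
      | smul c y _ hy => rw [smul_eq_C_mul]; exact Ideal.mul_mem_left _ _ hy
    | succ n ih =>
      intro hn x hx
      obtain ⟨y, hy, z, hz, rfl⟩ := Submodule.mem_sup.1 (hBspan (n + 1) hx)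
      clear hx
      refine add_mem ?_ ?_
      · induction hy using Submodule.span_induction with
        | mem y hy => exact Ideal.subset_span (Finset.mem_biUnion.2 ⟨n + 1, Finset.mem_range.2 hn, hy⟩)
        | zero => exact zero_mem _
        | add y z _ _ hy hz => exact add_mem hy hz
        | smul c y _ hy => rw [smul_eq_C_mul]; exact Ideal.mul_mem_left _ _ hy
      · simp only [step, X1] at hz
        induction hz using Submodule.iSup_induction' with
        | mem i z hz =>
          obtain ⟨z, hz, rfl⟩ := hz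
          exact Ideal.mul_mem_left _ _ (ih (by omega) z hz)
        | zero => exact zero_mem _
        | add y z _ _ hy hz => exact add_mem hy hz
  have hIeq : I = Ideal.span (B' : Set (MvPolynomial (Fin 3) F)) := by
    refine le_antisymm ?_ (Ideal.span_le.2 fun x hx => ?_)
    · rw [← hG]
      refine Submodule.span_le.2 fun x hx => ?_
      rw [← sum_homogeneousComponent x]
      refine Submodule.sum_mem _ fun n hn => hspanV n ?_ _
        (hV x n (hG ▸ Submodule.subset_span hx))
      have := Finset.le_sup (f := totalDegree) hx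
      rw [Finset.mem_range] at hn
      omega
    · obtain ⟨n, -, hxn⟩ := Finset.mem_biUnion.1 hx
      exact hVI x n (hBV n x hxn)
  rw [hIeq]
  refine (Submodule.spanFinrank_span_le_ncard_of_finite B'.finite_toSet).trans ?_
  rw [Set.ncard_coe_finset]
  exact (Finset.card_biUnion_le.trans (Finset.sum_le_sum fun n _ => hBcard n)).trans
    (sum_g_le' Z hZ hd N)

end Groth.L03.PlanePoints
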