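import Mathlib.RingTheory.Smooth.Field
import Mathlib.RingTheory.Smooth.Kaehler
import Mathlib.RingTheory.Extension.Cotangent.Basic
import Mathlib.Algebra.MvPolynomial.PDeriv
import Mathlib.Algebra.MvPolynomial.CommRing
import Mathlib.RingTheory.MvPolynomial.Basic
import Mathlib.RingTheory.Kaehler.Polynomial
import Mathlib.RingTheory.Smooth.Basic
import Mathlib.RingTheory.Etale.Basic
import Mathlib.FieldTheory.IntermediateField.Adjoin.Basic

/-!
A field extension all of whose finitely generated subextensions are formally smooth is formally smooth;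
in particular every extension of a perfect field is formally smooth.
-/

set_option autoImplicit false
universe u

namespace Groth.L03.FieldFS
open Algebra MvPolynomial TensorProduct

theorem mem_ker_sq_of_pderiv {k A : Type u} [CommRing k] [CommRing A] [Algebra k A]
    [Algebra.FormallySmooth k A] (p : MvPolynomial A k) (hp : aeval (id : A → A) p = 0)
    (hd : ∀ i, aeval (id : A → A) (pderiv i p) = 0) :
    p ∈ RingHom.ker (aeval (id : A → A) : MvPolynomial A k →ₐ[k] A) ^ 2 := by
  let G := Generators.self k A
  haveI : Algebra.FormallySmooth k G.toExtension.Ring := inferInstanceAs (Algebra.FormallySmooth k (MvPolynomial _ k))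
  have hinj : Function.Injective G.toExtension.cotangentComplex :=
    (G.toExtension.cotangentComplex_injective_iff).2 inferInstance
  have hp' : p ∈ G.toExtension.ker := hp
  have h0 : G.toExtension.cotangentComplex (Extension.Cotangent.mk ⟨p, hp'⟩) = 0 := by
    rw [Extension.cotangentComplex_mk]
    refine G.cotangentSpaceBasis.repr.injective (Finsupp.ext fun i => ?_)
    rw [map_zero, Finsupp.zero_apply]
    exact (G.cotangentSpaceBasis_repr_tmul 1 p i).trans (by rw [one_mul]; exact hd i)
  rw [← map_zero G.toExtension.cotangentComplex] at h0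
  exact (Extension.Cotangent.mk_eq_zero_iff _).1 (hinj h0)

theorem subsingleton_h1Cotangent (k L : Type u) [Field k] [Field L] [Algebra k L]
    (H : ∀ L₀ : IntermediateField k L, L₀.FG → Algebra.FormallySmooth k L₀) :
    Subsingleton (Algebra.H1Cotangent k L) := by
  classical
  let G := Generators.self k L
  haveI : Algebra.FormallySmooth k G.toExtension.Ring := inferInstanceAs (Algebra.FormallySmooth k (MvPolynomial _ k))
  rw [← G.toExtension.cotangentComplex_injective_iff, injective_iff_map_eq_zero]
  intro x hx
  obtain ⟨⟨p, hp⟩, rfl⟩ := Extension.Cotangent.mk_surjective x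
  have hd : ∀ i, aeval (id : L → L) (pderiv i p) = 0 := fun i => by
    have h1 := congrArg (fun z => G.cotangentSpaceBasis.repr z i) hx
    simp only [Extension.cotangentComplex_mk, map_zero, Finsupp.zero_apply] at h1
    have h2 := (G.cotangentSpaceBasis_repr_tmul 1 p i).symm.trans h1
    rwa [one_mul] at h2
  let L₀ : IntermediateField k L := IntermediateField.adjoin k (p.vars : Set L)
  haveI := H L₀ (IntermediateField.fg_adjoin_finset _)
  obtain ⟨p₀, hp₀⟩ := exists_rename_eq_of_vars_subset_range p (Subtype.val : L₀ → L) Subtype.val_injective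
    (fun l hl => ⟨⟨l, IntermediateField.subset_adjoin _ _ hl⟩, rfl⟩)
  have hev : ∀ q : MvPolynomial L₀ k, aeval (id : L → L) (rename (Subtype.val : L₀ → L) q) =
      (aeval (id : L₀ → L₀) q : L₀).1 := fun q => by
    rw [aeval_rename]
    exact (DFunLike.congr_fun (comp_aeval (id : L₀ → L₀) L₀.val) q).symm
  have h0 := mem_ker_sq_of_pderiv p₀ (Subtype.ext (by rw [← hev, hp₀]; exact hp)) fun i => Subtype.ext (by
    rw [← hev, ← pderiv_rename Subtype.val_injective, hp₀]
    exact hd i)
  rw [Extension.Cotangent.mk_eq_zero_iff]
  show p ∈ _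
  rw [← hp₀]
  have h1 : Ideal.map (rename (Subtype.val : L₀ → L)).toRingHom
      (RingHom.ker (aeval (id : L₀ → L₀) : MvPolynomial L₀ k →ₐ[k] L₀)) ≤ G.toExtension.ker := by
    refine Ideal.map_le_iff_le_comap.2 fun q hq => ?_
    show aeval (id : L → L) (rename (Subtype.val : L₀ → L) q) = 0
    rw [hev, show aeval (id : L₀ → L₀) q = 0 from hq]
    rfl
  have h2 := Ideal.mem_map_of_mem (rename (Subtype.val : L₀ → L)).toRingHom h0
  rw [Ideal.map_pow] at h2
  exact Ideal.pow_right_mono h1 2 h2

theorem formallySmooth_of_forall_fg (k L : Type u) [Field k] [Field L] [Algebra k L]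
    (H : ∀ L₀ : IntermediateField k L, L₀.FG → Algebra.FormallySmooth k L₀) :
    Algebra.FormallySmooth k L :=
  ⟨inferInstance, subsingleton_h1Cotangent k L H⟩

theorem formallySmooth_of_perfectField (k L : Type u) [Field k] [PerfectField k] [Field L] [Algebra k L] :
    Algebra.FormallySmooth k L :=
  formallySmooth_of_forall_fg k L fun L₀ h => by
    haveI : Algebra.EssFiniteType k L₀ := IntermediateField.essFiniteType_iff.2 h
    infer_instance

end Groth.L03.FieldFS
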