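import Mathlib.RingTheory.Kaehler.JacobiZariski
import Mathlib.RingTheory.Kaehler.Polynomial
import Mathlib.RingTheory.Etale.Kaehler
import Mathlib.RingTheory.Smooth.Field
import Mathlib.RingTheory.Smooth.Basic
import Mathlib.RingTheory.Ideal.Cotangent
import Mathlib.RingTheory.Extension.Cotangent.Basic
import Mathlib.RingTheory.AlgebraicIndependent.TranscendenceBasis
import Mathlib.FieldTheory.FinTrdeg
import Mathlib.FieldTheory.IntermediateField.Adjoin.Algebra
import Mathlib.LinearAlgebra.FiniteDimensional.Basic
import Mathlib.LinearAlgebra.Dimension.Constructions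
import Groth.Agent.S9319

/-!
Cartier's equality: for a finitely generated field extension `L/k` the spaces `Ω[L/k]` and
`H1Cotangent k L` are finite-dimensional with difference of dimensions `trdeg k L`; index calculus
for linear maps of vector spaces.
-/

set_option autoImplicit false
set_option linter.style.haveILetI false
universe u

open TensorProduct

namespace Groth.L03.CartierEq

section Index

variable {F : Type u} [Field F]

theorem finite_middle {A B C : Type u} [AddCommGroup A] [Module F A] [AddCommGroup B] [Module F B]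
    [AddCommGroup C] [Module F C] (f : A →ₗ[F] B) (g : B →ₗ[F] C) (hf : Function.Injective f)
    (hg : Function.Surjective g) (h : Function.Exact f g) [Module.Finite F A] [Module.Finite F C] :
    Module.Finite F B ∧ Module.finrank F B = Module.finrank F A + Module.finrank F C := by
  haveI : Module.Finite F (LinearMap.range f) := inferInstance
  have e : (B ⧸ LinearMap.range f) ≃ₗ[F] C :=
    (Submodule.quotEquivOfEq _ _ (LinearMap.exact_iff.1 h).symm).trans (g.quotKerEquivOfSurjective hg)
  haveI : Module.Finite F (B ⧸ LinearMap.range f) := Module.Finite.equiv e.symm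
  haveI := Module.Finite.of_submodule_quotient (LinearMap.range f)
  refine ⟨inferInstance, ?_⟩
  rw [← e.finrank_eq, ← Submodule.finrank_quotient_add_finrank (LinearMap.range f),
    LinearMap.finrank_range_of_inj hf, add_comm]

/-- finite kernel and cokernel -/
def Fred {X Y : Type u} [AddCommGroup X] [Module F X] [AddCommGroup Y] [Module F Y] (f : X →ₗ[F] Y) : Prop :=
  Module.Finite F (LinearMap.ker f) ∧ Module.Finite F (Y ⧸ LinearMap.range f)

/-- index of a linear map -/
noncomputable def index {X Y : Type u} [AddCommGroup X] [Module F X] [AddCommGroup Y] [Module F Y]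
    (f : X →ₗ[F] Y) : ℤ :=
  (Module.finrank F (LinearMap.ker f) : ℤ) - Module.finrank F (Y ⧸ LinearMap.range f)

theorem index_comp {X Y Z : Type u} [AddCommGroup X] [Module F X] [AddCommGroup Y] [Module F Y]
    [AddCommGroup Z] [Module F Z] (u : X →ₗ[F] Y) (v : Y →ₗ[F] Z) (hu : Fred u) (hv : Fred v) :
    Fred (v.comp u) ∧ index (v.comp u) = index u + index v := by
  obtain ⟨hu1, hu2⟩ := hu
  obtain ⟨hv1, hv2⟩ := hv
  let U := LinearMap.range u
  let N := LinearMap.ker v
  let I : Submodule F N := U.comap N.subtype
  -- kernel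
  let r : LinearMap.ker (v.comp u) →ₗ[F] I :=
    LinearMap.codRestrict I (LinearMap.codRestrict N (u.comp (LinearMap.ker (v.comp u)).subtype) fun x => x.2)
      fun x => ⟨x.1, rfl⟩
  let i : LinearMap.ker u →ₗ[F] LinearMap.ker (v.comp u) :=
    Submodule.inclusion (fun x hx => by simp [LinearMap.mem_ker.1 hx])
  have hA := finite_middle i r (Submodule.inclusion_injective _) (fun z => by
      obtain ⟨⟨y, hy⟩, x, hx⟩ := z
      exact ⟨⟨x, by show v (u x) = 0; rw [hx]; exact hy⟩, Subtype.ext (Subtype.ext hx)⟩)
    (fun x => by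
      constructor
      · intro hx
        exact ⟨⟨x.1, congrArg (fun z : I => ((z : N) : Y)) hx⟩, rfl⟩
      · rintro ⟨y, rfl⟩
        exact Subtype.ext (Subtype.ext y.2))
  haveI := hA.1
  -- the middle quotient
  let W := Y ⧸ (U ⊔ N)
  let q : (Y ⧸ U) →ₗ[F] W := U.mapQ (U ⊔ N) LinearMap.id le_sup_left
  let j : (N ⧸ I) →ₗ[F] (Y ⧸ U) := I.mapQ U N.subtype le_rfl
  have hq : Function.Surjective q := fun w => by
    obtain ⟨y, rfl⟩ := Submodule.Quotient.mk_surjective _ w
    exact ⟨Submodule.Quotient.mk y, rfl⟩
  haveI : Module.Finite F W := Module.Finite.of_surjective q hq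
  have hB := finite_middle j q (fun a b hab => by
      obtain ⟨a, rfl⟩ := Submodule.Quotient.mk_surjective _ a
      obtain ⟨b, rfl⟩ := Submodule.Quotient.mk_surjective _ b
      simp only [j, Submodule.mapQ_apply, Submodule.Quotient.eq] at hab ⊢
      exact hab) hq
    (fun z => by
      obtain ⟨y, rfl⟩ := Submodule.Quotient.mk_surjective _ z
      constructor
      · intro h
        obtain ⟨a, ha, b, hb, hab⟩ := Submodule.mem_sup.1 ((Submodule.Quotient.mk_eq_zero (U ⊔ N)).1 h)
        refine ⟨Submodule.Quotient.mk ⟨b, hb⟩, ?_⟩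
        show Submodule.Quotient.mk b = Submodule.Quotient.mk y
        rw [Submodule.Quotient.eq, show b - y = -a by rw [← show a + b = y from hab]; abel]
        exact neg_mem ha
      · rintro ⟨n, hn⟩
        obtain ⟨n, rfl⟩ := Submodule.Quotient.mk_surjective _ n
        rw [← hn]
        exact (Submodule.Quotient.mk_eq_zero (U ⊔ N)).2 (Submodule.mem_sup_right n.2))
  -- cokernel
  let V := LinearMap.range v
  let T := LinearMap.range (v.comp u)
  have hTV : T ≤ V := LinearMap.range_comp_le_range u v
  have hUN : U ⊔ N ≤ T.comap v := sup_le (fun y hy => by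
      obtain ⟨x, rfl⟩ := LinearMap.mem_range.1 hy; exact ⟨x, rfl⟩) fun y hy => by
      show v y ∈ T
      rw [LinearMap.mem_ker.1 hy]; exact zero_mem _
  let m : W →ₗ[F] (Z ⧸ T) := (U ⊔ N).mapQ T v hUN
  let p : (Z ⧸ T) →ₗ[F] (Z ⧸ V) := T.mapQ V LinearMap.id hTV
  have hC := finite_middle m p (by
      rw [injective_iff_map_eq_zero]
      intro w hw
      obtain ⟨y, rfl⟩ := Submodule.Quotient.mk_surjective _ w
      obtain ⟨x, hx⟩ := LinearMap.mem_range.1 ((Submodule.Quotient.mk_eq_zero T).1 hw)
      refine (Submodule.Quotient.mk_eq_zero (U ⊔ N)).2 (Submodule.mem_sup.2 ⟨u x, ⟨x, rfl⟩, y - u x, ?_, add_sub_cancel _ _⟩)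
      rw [LinearMap.mem_ker, map_sub, ← hx, LinearMap.comp_apply, sub_self])
    (fun w => by
      obtain ⟨z, rfl⟩ := Submodule.Quotient.mk_surjective _ w
      exact ⟨Submodule.Quotient.mk z, rfl⟩)
    (fun w => by
      obtain ⟨z, rfl⟩ := Submodule.Quotient.mk_surjective _ w
      constructor
      · intro h
        obtain ⟨y, hy⟩ := LinearMap.mem_range.1 ((Submodule.Quotient.mk_eq_zero V).1 h)
        refine ⟨Submodule.Quotient.mk y, ?_⟩
        show Submodule.Quotient.mk (v y) = Submodule.Quotient.mk z
        rw [hy]; rfl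
      · rintro ⟨n, hn⟩
        obtain ⟨n, rfl⟩ := Submodule.Quotient.mk_surjective _ n
        rw [← hn]
        exact (Submodule.Quotient.mk_eq_zero V).2 ⟨n, rfl⟩)
  refine ⟨⟨hA.1, hC.1⟩, ?_⟩
  have hI := Submodule.finrank_quotient_add_finrank I
  have e1 := hA.2
  have e2 := hB.2
  have e3 := hC.2
  unfold index
  simp only [N, U, V, T] at hI e1 e2 e3 ⊢
  omega

end Index

/-- Cartier's equality -/
def Cartier (k L : Type u) [Field k] [Field L] [Algebra k L] : Prop :=
  Module.Finite L Ω[L⁄k] ∧ Module.Finite L (Algebra.H1Cotangent k L) ∧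
    Algebra.trdeg k L < Cardinal.aleph0 ∧
    (Module.finrank L Ω[L⁄k] : ℤ) - Module.finrank L (Algebra.H1Cotangent k L) =
      Cardinal.toNat (Algebra.trdeg k L)

section Tower

variable (k K L : Type u) [Field k] [Field K] [Field L] [Algebra k K] [Algebra k L] [Algebra K L]
  [IsScalarTower k K L]

theorem fred_map (hK : Cartier k K) :
    Fred (KaehlerDifferential.map k K L L) ∧ Fred (Algebra.H1Cotangent.map k K L L) ∧
      index (KaehlerDifferential.map k K L L) - index (Algebra.H1Cotangent.map k K L L) =
        (Cardinal.toNat (Algebra.trdeg k K) : ℤ) := by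
  obtain ⟨h1, h2, -, h4⟩ := hK
  set w := KaehlerDifferential.mapBaseChange k K L
  set v := KaehlerDifferential.map k K L L
  set i := (Algebra.H1Cotangent.map k k K L).liftBaseChange L
  set v₁ := Algebra.H1Cotangent.map k K L L
  set δ := Algebra.H1Cotangent.δ k K L
  have hi : Function.Injective i := Groth.Agent.S9319.result
  have hv1 : LinearMap.ker v₁ = LinearMap.range i :=
    (LinearMap.exact_iff.1 (Algebra.H1Cotangent.exact_liftBaseChange_map_of_flat k K L))
  have hδ : LinearMap.ker δ = LinearMap.range v₁ := LinearMap.exact_iff.1 (Algebra.H1Cotangent.exact_map_δ k K L)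
  have hw : LinearMap.ker w = LinearMap.range δ :=
    LinearMap.exact_iff.1 (Algebra.H1Cotangent.exact_δ_mapBaseChange k K L)
  have hv : LinearMap.ker v = LinearMap.range w := LinearMap.exact_iff.1 (KaehlerDifferential.exact_mapBaseChange_map k K L)
  have hvs : LinearMap.range v = ⊤ := LinearMap.range_eq_top.2 (KaehlerDifferential.map_surjective k K L)
  haveI : Module.Finite L (LinearMap.range i) := inferInstance
  let e2 : (Algebra.H1Cotangent K L ⧸ LinearMap.range v₁) ≃ₗ[L] LinearMap.ker w :=
    (Submodule.quotEquivOfEq _ _ hδ.symm).trans (δ.quotKerEquivRange.trans (LinearEquiv.ofEq _ _ hw.symm))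
  haveI : Module.Finite L (LinearMap.ker v) := by rw [hv]; infer_instance
  haveI : Module.Finite L (LinearMap.ker v₁) := by rw [hv1]; infer_instance
  haveI : Module.Finite L (LinearMap.ker w) := inferInstance
  haveI : Subsingleton (Ω[L⁄K] ⧸ LinearMap.range v) := Submodule.Quotient.subsingleton_iff.2 hvs
  haveI : Module.Finite L (Algebra.H1Cotangent K L ⧸ LinearMap.range v₁) := Module.Finite.equiv e2.symm
  refine ⟨⟨inferInstance, inferInstance⟩, ⟨inferInstance, inferInstance⟩, ?_⟩
  unfold index
  rw [Module.finrank_zero_of_subsingleton (M := Ω[L⁄K] ⧸ LinearMap.range v), e2.finrank_eq,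
    (LinearEquiv.ofEq _ _ hv).finrank_eq, (LinearEquiv.ofEq _ _ hv1).finrank_eq,
    LinearMap.finrank_range_of_inj hi, Module.finrank_baseChange, ← h4]
  have := w.finrank_range_add_finrank_ker
  rw [Module.finrank_baseChange] at this
  push_cast
  omega

theorem fred_baseChange (hL : Cartier K L) :
    Fred (KaehlerDifferential.mapBaseChange k K L) ∧ Fred ((Algebra.H1Cotangent.map k k K L).liftBaseChange L) ∧
      index (KaehlerDifferential.mapBaseChange k K L) - index ((Algebra.H1Cotangent.map k k K L).liftBaseChange L) =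
        -(Cardinal.toNat (Algebra.trdeg K L) : ℤ) := by
  obtain ⟨g1, g2, -, g4⟩ := hL
  set w := KaehlerDifferential.mapBaseChange k K L
  set v := KaehlerDifferential.map k K L L
  set i := (Algebra.H1Cotangent.map k k K L).liftBaseChange L
  set v₁ := Algebra.H1Cotangent.map k K L L
  set δ := Algebra.H1Cotangent.δ k K L
  have hi : Function.Injective i := Groth.Agent.S9319.result
  have hv1 : LinearMap.ker v₁ = LinearMap.range i :=
    (LinearMap.exact_iff.1 (Algebra.H1Cotangent.exact_liftBaseChange_map_of_flat k K L))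
  have hδ : LinearMap.ker δ = LinearMap.range v₁ := LinearMap.exact_iff.1 (Algebra.H1Cotangent.exact_map_δ k K L)
  have hw : LinearMap.ker w = LinearMap.range δ :=
    LinearMap.exact_iff.1 (Algebra.H1Cotangent.exact_δ_mapBaseChange k K L)
  have hv : LinearMap.ker v = LinearMap.range w := LinearMap.exact_iff.1 (KaehlerDifferential.exact_mapBaseChange_map k K L)
  let e : (Ω[L⁄k] ⧸ LinearMap.range w) ≃ₗ[L] Ω[L⁄K] :=
    (Submodule.quotEquivOfEq _ _ hv.symm).trans (v.quotKerEquivOfSurjective (KaehlerDifferential.map_surjective k K L))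
  let e1 : (Algebra.H1Cotangent k L ⧸ LinearMap.range i) ≃ₗ[L] LinearMap.ker δ :=
    (Submodule.quotEquivOfEq _ _ hv1.symm).trans (v₁.quotKerEquivRange.trans (LinearEquiv.ofEq _ _ hδ.symm))
  haveI : Module.Finite L (LinearMap.ker w) := by rw [hw]; infer_instance
  haveI : Module.Finite L (Ω[L⁄k] ⧸ LinearMap.range w) := Module.Finite.equiv e.symm
  haveI : Module.Finite L (Algebra.H1Cotangent k L ⧸ LinearMap.range i) := Module.Finite.equiv e1.symm
  haveI : Subsingleton (LinearMap.ker i) := by
    rw [LinearMap.ker_eq_bot.2 hi]; infer_instance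
  refine ⟨⟨inferInstance, inferInstance⟩, ⟨inferInstance, inferInstance⟩, ?_⟩
  unfold index
  rw [Module.finrank_zero_of_subsingleton (M := LinearMap.ker i), e.finrank_eq, e1.finrank_eq,
    (LinearEquiv.ofEq _ _ hw).finrank_eq, ← g4]
  have := δ.finrank_range_add_finrank_ker
  push_cast
  omega

theorem cartier_trans (hK : Cartier k K) (hL : Cartier K L) : Cartier k L := by
  obtain ⟨hf, hf1, hind⟩ := fred_map k K L hK
  obtain ⟨g1, g2, g3, g4⟩ := hL
  obtain ⟨-, -, g5, -⟩ := hK
  haveI := hf.1
  haveI := hf1.1
  haveI := hf1.2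
  set v := KaehlerDifferential.map k K L L
  set v₁ := Algebra.H1Cotangent.map k K L L
  have hA := finite_middle (LinearMap.ker v).subtype v (Submodule.injective_subtype _)
    (KaehlerDifferential.map_surjective k K L) (LinearMap.exact_subtype_ker_map v)
  haveI : Module.Finite L (LinearMap.range v₁) := inferInstance
  have hB := finite_middle (LinearMap.ker v₁).subtype v₁.rangeRestrict (Submodule.injective_subtype _)
    v₁.surjective_rangeRestrict (fun x => by
      constructor
      · intro h; exact ⟨⟨x, congrArg Subtype.val h⟩, rfl⟩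
      · rintro ⟨y, rfl⟩; exact Subtype.ext y.2)
  haveI := hA.1
  haveI := hB.1
  refine ⟨hA.1, hB.1, ?_, ?_⟩
  · rw [← trdeg_add_eq k K]; exact Cardinal.add_lt_aleph0 g5 g3
  · have h6 := Submodule.finrank_quotient_add_finrank (LinearMap.range v₁)
    haveI : Subsingleton (Ω[L⁄K] ⧸ LinearMap.range v) :=
      Submodule.Quotient.subsingleton_iff.2 (LinearMap.range_eq_top.2 (KaehlerDifferential.map_surjective k K L))
    rw [← trdeg_add_eq k K, Cardinal.toNat_add g5 g3, Nat.cast_add, ← g4, ← hind, hA.2, hB.2]
    unfold index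
    rw [Module.finrank_zero_of_subsingleton (M := Ω[L⁄K] ⧸ LinearMap.range v)]
    push_cast
    omega

end Tower

theorem cartier_bijective (k L : Type u) [Field k] [Field L] [Algebra k L]
    (h : Function.Surjective (algebraMap k L)) : Cartier k L := by
  haveI : Algebra.FormallyEtale k L :=
    Algebra.FormallyEtale.of_equiv (AlgEquiv.ofBijective (Algebra.ofId k L) ⟨(algebraMap k L).injective, h⟩)
  haveI : Algebra.IsAlgebraic k L := ⟨fun x => by obtain ⟨y, rfl⟩ := h x; exact isAlgebraic_algebraMap y⟩
  refine ⟨inferInstance, inferInstance, by rw [trdeg_eq_zero]; exact Cardinal.aleph0_pos, ?_⟩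
  rw [Module.finrank_zero_of_subsingleton, Module.finrank_zero_of_subsingleton, trdeg_eq_zero]
  simp

theorem cartier_simple_algebraic (k L : Type u) [Field k] [Field L] [Algebra k L] (x : L)
    (hx : IsIntegral k x) (hgen : Algebra.adjoin k {x} = ⊤) : Cartier k L := by
  classical
  have hsurj : Function.Surjective (MvPolynomial.aeval (R := k) (fun _ : PUnit.{1} => x)) := by
    rw [← AlgHom.range_eq_top, ← Algebra.adjoin_range_eq_range_aeval, Set.range_const, hgen]
  let G : Algebra.Generators k L PUnit.{1} := Algebra.Generators.ofSurjective (fun _ => x) hsurj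
  let P := G.toExtension
  let e : MvPolynomial PUnit.{1} k ≃ₐ[k] Polynomial k := MvPolynomial.uniqueAlgEquiv k PUnit.{1}
  have he : ∀ p : MvPolynomial PUnit.{1} k, algebraMap G.Ring L p = Polynomial.aeval x (e p) := by
    intro p
    show MvPolynomial.aeval (fun _ => x) p = _
    exact AlgHom.congr_fun (MvPolynomial.algHom_ext (f := MvPolynomial.aeval (fun _ => x))
      (g := (Polynomial.aeval x).comp e.toAlgHom) fun i => by simp [e]) p
  let m := minpoly k x
  have hm : e.symm m ∈ RingHom.ker (algebraMap G.Ring L) := by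
    rw [RingHom.mem_ker, he, AlgEquiv.apply_symm_apply, minpoly.aeval]
  let mm : P.ker := ⟨e.symm m, hm⟩
  have hgenC : ∀ w : P.Cotangent, ∃ c : L, c • Algebra.Extension.Cotangent.mk mm = w := fun w => by
    obtain ⟨⟨p, hp⟩, rfl⟩ := Algebra.Extension.Cotangent.mk_surjective w
    let p' : MvPolynomial PUnit.{1} k := p
    have hp0 : Polynomial.aeval x (e p') = 0 := (he p').symm.trans hp
    obtain ⟨q, hq⟩ := minpoly.dvd k x hp0
    let q' : P.Ring := e.symm q
    refine ⟨algebraMap P.Ring L q', ?_⟩
    rw [algebraMap_smul, ← map_smul]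
    refine congrArg _ (Subtype.ext ?_)
    show e.symm q * e.symm m = p'
    rw [← map_mul, mul_comm, ← hq, AlgEquiv.symm_apply_apply]
  have hne : Algebra.Extension.Cotangent.mk mm ≠ 0 := fun h0 => by
    haveI : Subsingleton P.Cotangent := subsingleton_of_forall_eq 0 fun w => by
      obtain ⟨c, rfl⟩ := hgenC w; rw [h0, smul_zero]
    haveI : Subsingleton P.ker.Cotangent := inferInstanceAs (Subsingleton P.Cotangent)
    have hid := P.ker.cotangent_subsingleton_iff.1 inferInstance
    obtain ⟨i, hi, heq⟩ := (Ideal.isIdempotentElem_iff_of_fg _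
      (IsNoetherian.noetherian (show Ideal (MvPolynomial PUnit.{1} k) from P.ker))).1 hid
    haveI : IsDomain P.Ring := inferInstanceAs (IsDomain (MvPolynomial PUnit.{1} k))
    rcases (IsIdempotentElem.iff_eq_zero_or_one.1 hi) with rfl | rfl
    · have : e.symm m ∈ (⊥ : Ideal (MvPolynomial PUnit.{1} k)) := by
        have h' : P.ker = ⊥ := heq.trans (Ideal.span_singleton_eq_bot.2 rfl)
        exact h' ▸ hm
      rw [Ideal.mem_bot, map_eq_zero_iff e.symm e.symm.injective] at this
      exact minpoly.ne_zero hx this
    · have h' : P.ker = Ideal.span {(1 : MvPolynomial PUnit.{1} k)} := heq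
      have : (1 : MvPolynomial PUnit.{1} k) ∈ P.ker := by rw [h']; exact Ideal.mem_span_singleton_self _
      exact one_ne_zero (α := L) ((map_one (algebraMap G.Ring L)).symm.trans this)
  have hC : Module.finrank L P.Cotangent = 1 := finrank_eq_one _ hne hgenC
  haveI : Module.Finite L P.Cotangent := Module.finite_of_finrank_eq_succ hC
  have hS : Module.finrank L P.CotangentSpace = 1 := by
    rw [Module.finrank_eq_card_basis G.cotangentSpaceBasis, Fintype.card_punit]
  haveI : Module.Finite L P.CotangentSpace := Module.finite_of_finrank_eq_succ hS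
  haveI : Module.Finite L P.H1Cotangent := inferInstanceAs (Module.Finite L (LinearMap.ker P.cotangentComplex))
  haveI : Module.Finite L (Algebra.H1Cotangent k L) := Module.Finite.equiv G.equivH1Cotangent
  have eΩ : (P.CotangentSpace ⧸ LinearMap.range P.cotangentComplex) ≃ₗ[L] Ω[L⁄k] :=
    (Submodule.quotEquivOfEq _ _ (LinearMap.exact_iff.1 P.exact_cotangentComplex_toKaehler).symm).trans
      (P.toKaehler.quotKerEquivOfSurjective P.toKaehler_surjective)
  haveI : Module.Finite L Ω[L⁄k] := Module.Finite.equiv eΩ
  have hH : Module.finrank L (Algebra.H1Cotangent k L) = Module.finrank L (LinearMap.ker P.cotangentComplex) :=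
    G.equivH1Cotangent.finrank_eq.symm
  have h1 := P.cotangentComplex.finrank_range_add_finrank_ker
  have h2 := Submodule.finrank_quotient_add_finrank (LinearMap.range P.cotangentComplex)
  haveI : Algebra.IsIntegral k L := Algebra.isIntegral_def.2 fun y => by
    have hy : y ∈ Algebra.adjoin k {x} := hgen ▸ Algebra.mem_top
    exact adjoin_le_integralClosure hx hy
  haveI : Algebra.IsAlgebraic k L := Algebra.IsIntegral.isAlgebraic
  refine ⟨inferInstance, inferInstance, by rw [trdeg_eq_zero]; exact Cardinal.aleph0_pos, ?_⟩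
  rw [hH, ← eΩ.finrank_eq, trdeg_eq_zero, map_zero]
  omega

theorem cartier_simple_transcendental (k L : Type u) [Field k] [Field L] [Algebra k L] (x : L)
    (hx : Transcendental k x) (hgen : IntermediateField.adjoin k {x} = ⊤) : Cartier k L := by
  letI : Algebra (Polynomial k) L := (Polynomial.aeval x : Polynomial k →ₐ[k] L).toRingHom.toAlgebra
  haveI : IsScalarTower k (Polynomial k) L := .of_algebraMap_eq fun r => ((Polynomial.aeval x).commutes r).symm
  have hinj : Function.Injective (algebraMap (Polynomial k) L) := transcendental_iff_injective.1 hx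
  haveI : FaithfulSMul (Polynomial k) L := (faithfulSMul_iff_algebraMap_injective _ _).2 hinj
  haveI : IsFractionRing (Polynomial k) L := by
    refine IsFractionRing.of_field _ _ fun z => ?_
    have hz : z ∈ IntermediateField.adjoin k {x} := hgen ▸ IntermediateField.mem_top
    obtain ⟨r, s, rfl⟩ := IntermediateField.mem_adjoin_simple_iff _ _ |>.1 hz
    exact ⟨r, s, rfl⟩
  haveI : Algebra.FormallyEtale (Polynomial k) L := Algebra.FormallyEtale.of_isLocalization (nonZeroDivisors (Polynomial k))
  haveI : Algebra.FormallySmooth k L := Algebra.FormallySmooth.comp k (Polynomial k) L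
  let e : L ⊗[Polynomial k] Ω[Polynomial k⁄k] ≃ₗ[L] L :=
    (TensorProduct.AlgebraTensorModule.congr (LinearEquiv.refl L L) (KaehlerDifferential.polynomialEquiv k)).trans
      (TensorProduct.AlgebraTensorModule.rid (Polynomial k) L L)
  let e' := (KaehlerDifferential.tensorKaehlerEquivOfFormallyEtale k (Polynomial k) L).symm.trans e
  haveI : Module.Finite L Ω[L⁄k] := Module.Finite.equiv e'.symm
  have htr : Algebra.trdeg k L = 1 := by
    haveI : Algebra.IsAlgebraic (Polynomial k) L := IsLocalization.isAlgebraic L (nonZeroDivisors (Polynomial k))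
    rw [← trdeg_add_eq k (Polynomial k), Polynomial.trdeg_of_isDomain, trdeg_eq_zero, add_zero]
  refine ⟨inferInstance, inferInstance, by rw [htr]; exact Cardinal.one_lt_aleph0, ?_⟩
  rw [htr, e'.finrank_eq, Module.finrank_self, Module.finrank_zero_of_subsingleton]
  simp

/-- Cartier's equality for a finitely generated extension of fields. -/
theorem cartier (k L : Type u) [Field k] [Field L] [Algebra k L] [Algebra.EssFiniteType k L] : Cartier k L := by
  let Q : IntermediateField k L → Prop := fun K => Cartier k K
  have h : Q ⊤ := by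
    refine IntermediateField.induction_on_adjoin_fg Q ?_ ?_ ⊤ (IntermediateField.fg_top_iff.2 inferInstance)
    · exact cartier_bijective k _ fun y => by
        obtain ⟨r, hr⟩ := IntermediateField.mem_bot.1 y.2
        exact ⟨r, Subtype.ext hr⟩
    · intro K x hK
      have hstep : Cartier K (IntermediateField.adjoin K {x}) := by
        let g := IntermediateField.AdjoinSimple.gen K x
        have hgen : IntermediateField.adjoin K {g} = ⊤ := by
          refine IntermediateField.lift_injective _ ?_
          rw [IntermediateField.lift_adjoin_simple, IntermediateField.lift_top]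
          rfl
        by_cases hx : IsIntegral K x
        · have hg : IsIntegral K g := (IntermediateField.AdjoinSimple.isIntegral_gen K x).2 hx
          refine cartier_simple_algebraic K _ g hg ?_
          rw [← IntermediateField.adjoin_simple_toSubalgebra_of_isAlgebraic hg.isAlgebraic, hgen,
            IntermediateField.top_toSubalgebra]
        · refine cartier_simple_transcendental K _ g ?_ hgen
          intro hg
          exact hx ((IntermediateField.AdjoinSimple.isIntegral_gen K x).1 hg.isIntegral)
      exact cartier_trans k K (IntermediateField.adjoin K {x}) hK hstep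
  haveI : Algebra.IsAlgebraic k k := inferInstance
  have h2 : Cartier (⊤ : IntermediateField k L) L := cartier_bijective _ L fun y => ⟨⟨y, trivial⟩, rfl⟩
  exact cartier_trans k (⊤ : IntermediateField k L) L h h2

end Groth.L03.CartierEq
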