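import Mathlib.LinearAlgebra.Matrix.Adjugate
import Mathlib.LinearAlgebra.Matrix.ToLin
import Mathlib.RingTheory.Ideal.AssociatedPrime.Finiteness
import Mathlib.RingTheory.Ideal.Operations
import Groth.Prelude.Def_CAlgX

/-!
McCoy's theorem for rectangular matrices, and grade one criterion in Noetherian rings.
-/

set_option autoImplicit false

universe u

namespace Groth.L03.McCoy

open Matrix CAlgX

variable {R : Type u} [CommRing R]

/-- Minors with a repeated column vanish. -/
theorem det_eq_zero_of_not_injective {r m n : ℕ} (M : Matrix (Fin n) (Fin m) R)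
    (f : Fin r → Fin n) (g : Fin r → Fin m) (hg : ¬ Function.Injective g) :
    (M.submatrix f g).det = 0 := by
  simp only [Function.Injective, not_forall] at hg
  obtain ⟨i, j, hij, hne⟩ := hg
  exact Matrix.det_zero_of_column_eq hne fun k => by simp [hij]

theorem minorIdeal_eq_bot_of_lt {r m n : ℕ} (M : Matrix (Fin n) (Fin m) R) (h : m < r) :
    minorIdeal M r = ⊥ := by
  rw [minorIdeal, Ideal.span_eq_bot]
  rintro _ ⟨⟨f, g⟩, rfl⟩
  refine det_eq_zero_of_not_injective M f g fun hg => ?_
  have := Fintype.card_le_of_injective g hg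
  simp only [Fintype.card_fin] at this
  omega

theorem minorIdeal_zero {m n : ℕ} (M : Matrix (Fin n) (Fin m) R) : minorIdeal M 0 = ⊤ := by
  rw [Ideal.eq_top_iff_one]
  exact Ideal.subset_span ⟨⟨Fin.elim0, Fin.elim0⟩, by simp⟩

theorem mem_annihilator_minorIdeal {r m n : ℕ} (M : Matrix (Fin n) (Fin m) R) (a : R) :
    a ∈ (minorIdeal M r).annihilator ↔
      ∀ (f : Fin r → Fin n) (g : Fin r → Fin m), a * (M.submatrix f g).det = 0 := by
  rw [minorIdeal, Ideal.span, Submodule.mem_annihilator_span]
  constructor
  · intro h f g
    exact h ⟨_, ⟨(f, g), rfl⟩⟩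
  · rintro h ⟨_, ⟨f, g⟩, rfl⟩
    exact h f g

/-- McCoy: a matrix is injective iff nothing nonzero kills its maximal minors. -/
theorem injective_iff {m n : ℕ} (M : Matrix (Fin n) (Fin m) R) :
    Function.Injective M.mulVecLin ↔ (minorIdeal M m).annihilator = ⊥ := by
  classical
  rw [← LinearMap.ker_eq_bot, LinearMap.ker_eq_bot']
  constructor
  · intro hinj
    rw [eq_bot_iff]
    intro a ha
    rw [Submodule.mem_bot]
    by_contra hane
    have hex : ∃ r, a ∈ (minorIdeal M r).annihilator := ⟨m, ha⟩
    have h0 : ∀ b, b ∈ (minorIdeal M 0).annihilator → b = 0 := fun b hb => by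
      simpa using (mem_annihilator_minorIdeal M b).1 hb Fin.elim0 Fin.elim0
    obtain ⟨r, hr⟩ : ∃ r, Nat.find hex = r + 1 := by
      refine ⟨Nat.find hex - 1, ?_⟩
      have : Nat.find hex ≠ 0 := fun h => hane (h0 a (h ▸ Nat.find_spec hex))
      omega
    have hkill := (mem_annihilator_minorIdeal M a).1 (hr ▸ Nat.find_spec hex)
    have hnot : a ∉ (minorIdeal M r).annihilator := Nat.find_min hex (by omega)
    rw [mem_annihilator_minorIdeal] at hnot
    simp only [not_forall] at hnot
    obtain ⟨f, g, hc⟩ := hnot
    have hg : Function.Injective g := by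
      by_contra hg
      exact hc (by rw [det_eq_zero_of_not_injective M f g hg, mul_zero])
    have hrm : r < m := by
      have := Nat.find_min' hex ha
      omega
    obtain ⟨k, hk⟩ : ∃ k, ∀ i, g i ≠ k := by
      by_contra h
      simp only [not_exists, not_forall, not_not] at h
      have := Fintype.card_le_of_surjective g fun k => h k
      simp only [Fintype.card_fin] at this
      omega
    let cg : Fin (r + 1) → Fin m := Fin.cons k g
    have hcg : Function.Injective cg :=
      Fin.cons_injective_iff.2 ⟨fun ⟨i, hi⟩ => hk i hi, hg⟩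
    let w : Fin (r + 1) → R := fun j =>
      a * ((-1) ^ (j : ℕ) * (M.submatrix f (cg ∘ j.succAbove)).det)
    have hv := hinj (∑ j, w j • Pi.single (cg j) 1) ?_
    · apply hc
      have h := congrFun hv k
      rw [Finset.sum_apply, Finset.sum_eq_single (0 : Fin (r + 1))] at h
      · simpa [w, cg, Fin.succAbove_zero, Function.comp_def] using h
      · intro j _ hj
        have : k ≠ cg j := fun e => hj (hcg (show cg j = cg 0 by rw [← e]; simp [cg]))
        simp [this]
      · simp
    · ext i
      have h := hkill (Fin.cons i f) cg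
      rw [Matrix.det_succ_row_zero, Finset.mul_sum] at h
      simp only [map_sum, map_smul, Finset.sum_apply, Pi.smul_apply, Matrix.mulVecLin_apply,
        Matrix.mulVec_single_one, Pi.zero_apply, smul_eq_mul]
      rw [← h]
      refine Finset.sum_congr rfl fun j _ => ?_
      rw [Matrix.submatrix_submatrix, Matrix.submatrix_apply, Fin.cons_zero,
        show (Fin.cons i f : Fin (r + 1) → Fin n) ∘ Fin.succ = f from
          funext fun x => Fin.cons_succ _ _ _]
      simp only [w, Matrix.col_apply]
      ring
  · intro hann v hv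
    funext i
    rw [Pi.zero_apply, ← Submodule.mem_bot (R := R), ← hann, mem_annihilator_minorIdeal]
    intro f g
    by_cases hg : Function.Injective g
    · let e := Equiv.ofBijective g (Finite.injective_iff_bijective.1 hg)
      have h1 : (M.submatrix f g) *ᵥ (v ∘ g) = 0 := by
        ext x
        have h2 := congrFun hv (f x)
        rw [Matrix.mulVecLin_apply, Pi.zero_apply] at h2
        rw [Pi.zero_apply, ← h2]
        exact Fintype.sum_equiv e _ _ fun y => rfl
      have h3 := congrArg ((M.submatrix f g).adjugate *ᵥ ·) h1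
      simp only [Matrix.mulVec_mulVec, Matrix.adjugate_mul, Matrix.smul_mulVec,
        Matrix.one_mulVec, Matrix.mulVec_zero] at h3
      obtain ⟨x, rfl⟩ := (Finite.injective_iff_bijective.1 hg).2 i
      simpa [mul_comm] using congrFun h3 x
    · rw [det_eq_zero_of_not_injective M f g hg, mul_zero]

/-- Injectivity in terms of rank and the determinantal ideal. -/
theorem injective_iff_rank [Nontrivial R] {m n : ℕ} (M : Matrix (Fin n) (Fin m) R) :
    Function.Injective M.mulVecLin ↔
      matrixRank M = m ∧ (detIdeal M).annihilator = ⊥ := by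
  rw [injective_iff]
  constructor
  · intro h
    have hrank : matrixRank M = m := by
      refine IsGreatest.csSup_eq ⟨fun hbot => ?_, fun r hr => ?_⟩
      · rw [hbot, Submodule.annihilator_bot] at h
        exact top_ne_bot h
      · by_contra hlt
        exact hr (minorIdeal_eq_bot_of_lt M (by omega))
    exact ⟨hrank, by rwa [detIdeal, hrank]⟩
  · rintro ⟨hrank, h⟩
    rwa [detIdeal, hrank] at h

/-- In a Noetherian ring an ideal with zero annihilator is the unit ideal or contains a regular
element. -/
theorem annihilator_eq_bot_iff [IsNoetherianRing R] (I : Ideal R) :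
    I.annihilator = ⊥ ↔ I = ⊤ ∨ ∃ a ∈ I, IsRegular a := by
  constructor
  · intro h
    by_contra hcon
    simp only [not_or, not_exists, not_and] at hcon
    have hsub : (I : Set R) ⊆ ⋃ p ∈ associatedPrimes R R, (p : Set R) := by
      rw [biUnion_associatedPrimes_eq_compl_nonZeroDivisors]
      intro a ha hmem
      exact hcon.2 a ha (isRegular_iff_mem_nonZeroDivisors.2 hmem)
    rw [Ideal.subset_union_prime_finite (associatedPrimes.finite R R) ⊥ ⊥
      fun p hp _ _ => hp.isPrime] at hsub
    obtain ⟨p, hp, hle⟩ := hsub
    obtain ⟨hprime, x, hx⟩ := (isAssociatedPrime_iff (R := R) (M := R)).1 hp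
    have hx0 : x = 0 := by
      rw [← Submodule.mem_bot (R := R), ← h, Submodule.mem_annihilator]
      intro b hb
      have := hle hb
      rw [hx, Submodule.mem_colon_singleton, Submodule.mem_bot] at this
      simpa [mul_comm] using this
    exact hprime.ne_top (by simp [hx, hx0])
  · rintro (rfl | ⟨a, ha, hreg⟩) <;> rw [eq_bot_iff] <;> intro b hb
    · simpa using Submodule.mem_annihilator.1 hb 1 Submodule.mem_top
    · exact hreg.left (by simpa [mul_comm] using Submodule.mem_annihilator.1 hb a ha)

end Groth.L03.McCoy
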