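import Mathlib.RingTheory.Flat.Basic
import Mathlib.RingTheory.Ideal.Quotient.Operations
import Mathlib.RingTheory.TensorProduct.Basic
import Mathlib.LinearAlgebra.TensorProduct.Quotient
import Mathlib.LinearAlgebra.TensorProduct.RightExactness
import Mathlib.RingTheory.Flat.Tensor
import Mathlib.RingTheory.Ideal.Colon

/-!
Elementary lemmas on flat modules: intersection of two closed subschemes, and colons.
-/

namespace Groth.L03.FlatLemmas

open TensorProduct

universe u

variable {A : Type u} [CommRing A]

/-- If `B ⊗[A] M` is `B`-flat, tensoring with `M` preserves injective maps of `B`-modules. -/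
theorem rTensor_restrictScalars_injective {B : Type u} [CommRing B] [Algebra A B] {M : Type u}
    [AddCommGroup M] [Module A M] [Module.Flat B (B ⊗[A] M)] {N P : Type u}
    [AddCommGroup N] [Module B N] [Module A N] [IsScalarTower A B N]
    [AddCommGroup P] [Module B P] [Module A P] [IsScalarTower A B P]
    (f : N →ₗ[B] P) (hf : Function.Injective f) :
    Function.Injective ((f.restrictScalars A).rTensor M) := by
  let eN := AlgebraTensorModule.cancelBaseChange A B B N M
  let eP := AlgebraTensorModule.cancelBaseChange A B B P M
  have h : ∀ z, (f.restrictScalars A).rTensor M z = eP (f.rTensor (B ⊗[A] M) (eN.symm z)) := by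
    intro z
    induction z with
    | zero => simp
    | add x y hx hy => simp only [map_add, hx, hy]
    | tmul n m => simp [eN, eP]
  intro x y hxy
  rw [h, h, eP.injective.eq_iff] at hxy
  exact eN.symm.injective (Module.Flat.rTensor_preserves_injective_linearMap f hf hxy)

/-- Injectivity after tensoring, for a submodule of a quotient of the ring. -/
theorem rTensor_subtype_injective {B : Type u} [CommRing B] [Algebra A B]
    (hB : Function.Surjective (algebraMap A B)) {M : Type u} [AddCommGroup M] [Module A M]
    [Module.Flat B (B ⊗[A] M)] (N : Submodule A B) :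
    Function.Injective (N.subtype.rTensor M) := by
  let N' : Submodule B B :=
    { carrier := N
      add_mem' := N.add_mem
      zero_mem' := N.zero_mem
      smul_mem' := fun b x hx => by
        obtain ⟨a, rfl⟩ := hB b
        rw [algebraMap_smul]
        exact N.smul_mem a hx }
  exact rTensor_restrictScalars_injective (A := A) (M := M) (N := N') N'.subtype Subtype.val_injective

/-- Flatness from flatness on two closed subschemes covering everything. -/
theorem flat_of_two {B C : Type u} [CommRing B] [CommRing C] [Algebra A B] [Algebra A C]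
    (hB : Function.Surjective (algebraMap A B)) (hC : Function.Surjective (algebraMap A C))
    (hker : ∀ a : A, algebraMap A B a = 0 → algebraMap A C a = 0 → a = 0)
    (M : Type u) [AddCommGroup M] [Module A M]
    [Module.Flat B (B ⊗[A] M)] [Module.Flat C (C ⊗[A] M)] : Module.Flat A M := by
  rw [Module.Flat.iff_rTensor_injective']
  intro P
  let q : P →ₗ[A] B := Algebra.linearMap A B ∘ₗ P.subtype
  let K := LinearMap.ker q
  have hKC : Function.Injective (Algebra.linearMap A C ∘ₗ P.subtype ∘ₗ K.subtype) := by
    rw [← LinearMap.ker_eq_bot, LinearMap.ker_eq_bot']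
    intro x hx
    exact Subtype.ext (Subtype.ext (hker _ x.2 hx))
  have h1 : Function.Injective ((P.subtype ∘ₗ K.subtype).rTensor M) := by
    let N := LinearMap.range (Algebra.linearMap A C ∘ₗ P.subtype ∘ₗ K.subtype)
    let e : K ≃ₗ[A] N := LinearEquiv.ofInjective _ hKC
    have h2 : Function.Injective ((Algebra.linearMap A C ∘ₗ (P.subtype ∘ₗ K.subtype)).rTensor M) := by
      have heq : Algebra.linearMap A C ∘ₗ (P.subtype ∘ₗ K.subtype) = N.subtype ∘ₗ e.toLinearMap := rfl
      rw [heq, LinearMap.rTensor_comp]
      exact (rTensor_subtype_injective hC N).comp (e.rTensor M).injective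
    rw [LinearMap.rTensor_comp] at h2
    exact Function.Injective.of_comp h2
  rw [← LinearMap.ker_eq_bot, LinearMap.ker_eq_bot']
  intro z hz
  let Q := LinearMap.range q
  have hex : Function.Exact K.subtype q.rangeRestrict := by
    rw [LinearMap.exact_iff, Submodule.range_subtype, LinearMap.ker_rangeRestrict]
  have hz0 : q.rangeRestrict.rTensor M z = 0 := by
    apply rTensor_subtype_injective hB Q (M := M)
    rw [map_zero, ← LinearMap.comp_apply, ← LinearMap.rTensor_comp]
    have : Q.subtype ∘ₗ q.rangeRestrict = Algebra.linearMap A B ∘ₗ P.subtype := rfl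
    rw [this, LinearMap.rTensor_comp, LinearMap.comp_apply, hz, map_zero]
  obtain ⟨w, rfl⟩ := (rTensor_exact M hex q.surjective_rangeRestrict z).1 hz0
  rw [← LinearMap.comp_apply, ← LinearMap.rTensor_comp] at hz
  rw [h1 (hz.trans (map_zero _).symm), map_zero]

/-- In a flat module `a • n ∈ J M` implies `n ∈ (J : a) M`. -/
theorem mem_colon_smul_top {M : Type u} [AddCommGroup M] [Module A M] [Module.Flat A M]
    (J : Ideal A) (a : A) (n : M) (h : a • n ∈ J • (⊤ : Submodule A M)) :
    n ∈ (J.colon {a}) • (⊤ : Submodule A M) := by
  set C := J.colon {a}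
  let φ : (A ⧸ C) →ₗ[A] (A ⧸ J) := Submodule.mapQ C J (a • LinearMap.id) fun x hx => by
    rw [Submodule.mem_comap, LinearMap.smul_apply, LinearMap.id_apply, smul_eq_mul]
    have := Submodule.mem_colon_singleton.1 hx
    rwa [smul_eq_mul, mul_comm] at this
  have hφ : Function.Injective φ := by
    rw [← LinearMap.ker_eq_bot, LinearMap.ker_eq_bot']
    intro x hx
    obtain ⟨x, rfl⟩ := Submodule.mkQ_surjective C x
    rw [Submodule.mkQ_apply, Submodule.mapQ_apply, Submodule.Quotient.mk_eq_zero] at hx
    rw [Submodule.mkQ_apply, Submodule.Quotient.mk_eq_zero, Submodule.mem_colon_singleton]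
    rw [LinearMap.smul_apply, LinearMap.id_apply, smul_eq_mul] at hx
    rwa [smul_eq_mul, mul_comm]
  have h1 : φ.rTensor M (1 ⊗ₜ n) = 0 := by
    have e1 : φ 1 = a • (1 : A ⧸ J) := rfl
    rw [LinearMap.rTensor_tmul, e1, TensorProduct.smul_tmul,
      ← (TensorProduct.quotTensorEquivQuotSMul M J).map_eq_zero_iff,
      TensorProduct.quotTensorEquivQuotSMul_mk_one_tmul, Submodule.Quotient.mk_eq_zero]
    exact h
  have h2 := Module.Flat.rTensor_preserves_injective_linearMap φ hφ (h1.trans (map_zero _).symm)
  rwa [← (TensorProduct.quotTensorEquivQuotSMul M C).map_eq_zero_iff,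
    TensorProduct.quotTensorEquivQuotSMul_mk_one_tmul, Submodule.Quotient.mk_eq_zero] at h2

end Groth.L03.FlatLemmas
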