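import Mathlib.FieldTheory.SeparablyGenerated
import Mathlib.RingTheory.Smooth.Field
import Mathlib.RingTheory.Nilpotent.GeometricallyReduced
import Mathlib.RingTheory.Flat.Basic
import Mathlib.Algebra.CharP.Lemmas
import Mathlib.FieldTheory.IsAlgClosed.AlgebraicClosure

/-!
Finitely generated geometrically reduced field extensions are formally smooth.
-/

set_option autoImplicit false
universe u

namespace Groth.L03.SepField
open TensorProduct

variable {k K : Type u} [Field k] [Field K] [Algebra k K] [Algebra.IsGeometricallyReduced k K]

lemma linearIndependent_pow (p : ℕ) [hp : Fact p.Prime] [CharP k p] {t : Type*} [Fintype t]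
    (v : t → K) (hv : LinearIndependent k v) : LinearIndependent k (v · ^ p) := by
  classical
  let F := AlgebraicClosure k
  haveI : ExpChar k p := .prime hp.out
  haveI : ExpChar F p := expChar_of_injective_algebraMap (algebraMap k F).injective p
  haveI : Nontrivial (F ⊗[k] K) :=
    (Algebra.TensorProduct.includeLeft_injective (R := k) (S := k) (A := F) (B := K) (algebraMap k K).injective).nontrivial
  haveI : ExpChar (F ⊗[k] K) p := expChar_of_injective_algebraMap (algebraMap k (F ⊗[k] K)).injective p
  rw [Fintype.linearIndependent_iff]
  intro c hc
  choose d hd using fun i => IsAlgClosed.exists_pow_nat_eq (algebraMap k F (c i)) hp.out.pos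
  have hz : (∑ i, d i ⊗ₜ[k] v i : F ⊗[k] K) = 0 := by
    refine eq_zero_of_pow_eq_zero (n := p) ?_
    rw [sum_pow_char]
    simp only [Algebra.TensorProduct.tmul_pow, hd, Algebra.algebraMap_eq_smul_one, TensorProduct.smul_tmul]
    rw [← TensorProduct.tmul_sum, hc, TensorProduct.tmul_zero]
  have hinj : Function.Injective (LinearMap.lTensor F (Fintype.linearCombination k v)) :=
    Module.Flat.lTensor_preserves_injective_linearMap _
      (linearIndependent_iff_injective_fintypeLinearCombination.1 hv)
  have h0 : (∑ i, d i ⊗ₜ[k] (Pi.single i 1 : t → k)) = 0 := by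
    apply hinj
    rw [map_zero, map_sum]
    simp only [LinearMap.lTensor_tmul, Fintype.linearCombination_apply_single, one_smul]
    exact hz
  intro i
  have h1 : ∑ j, (Pi.single j (1:k) : t → k) i • d j = d i := by
    rw [Finset.sum_eq_single i]
    · simp
    · intro b _ hb; simp [Pi.single_eq_of_ne hb.symm]
    · simp
  have h2 := congrArg (fun z => TensorProduct.rid k F (LinearMap.lTensor F (LinearMap.proj i) z)) h0
  simp only [map_sum, LinearMap.lTensor_tmul, map_zero, TensorProduct.rid_tmul, LinearMap.proj_apply] at h2
  rw [h1] at h2
  have := hd i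
  rw [h2, zero_pow hp.out.ne_zero] at this
  exact (algebraMap k F).injective (this.symm.trans (map_zero _).symm)

lemma formallySmooth (L : IntermediateField k K) [Algebra.EssFiniteType k L] :
    Algebra.FormallySmooth k L := by
  rcases CharP.exists' k with hz | ⟨p, hp, hpk⟩
  · infer_instance
  obtain ⟨s, hs, H⟩ := exists_isTranscendenceBasis_and_isSeparable_of_linearIndepOn_pow_of_essFiniteType
    (k := k) (K := L) p hp.out (fun t ht => by
      have h1 : LinearIndependent k (fun i : t => (i.1 : K)) :=
        LinearIndependent.map' (v := fun i : t => i.1) ht L.val.toLinearMap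
          (LinearMap.ker_eq_bot.2 L.val.injective)
      exact LinearIndependent.of_comp L.val.toLinearMap (linearIndependent_pow p _ h1))
  haveI : Algebra.IsSeparable (IntermediateField.adjoin k (Set.range ((↑) : s → L))) L := by
    convert H <;> simp
  exact .of_algebraicIndependent_of_isSeparable hs.1

theorem formallySmooth_of_essFiniteType (k L : Type u) [Field k] [Field L] [Algebra k L]
    [Algebra.IsGeometricallyReduced k L] [Algebra.EssFiniteType k L] : Algebra.FormallySmooth k L := by
  haveI : Algebra.EssFiniteType k (⊤ : IntermediateField k L) :=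
    Algebra.EssFiniteType.of_surjective IntermediateField.topEquiv.symm.toAlgHom
      IntermediateField.topEquiv.symm.surjective
  haveI := formallySmooth (⊤ : IntermediateField k L)
  exact .of_equiv IntermediateField.topEquiv

end Groth.L03.SepField
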