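import Groth.Agent.L07.FibreDimSemi
import Groth.Agent.L07.SyntDim
import Groth.Agent.L23.FibreDimBC
import Mathlib.RingTheory.Extension.Presentation.Core

/-!
# Local dimension of fibre rings: semicontinuity and quasi-compactness
-/

universe u

open CategoryTheory CategoryTheory.Limits AlgebraicGeometry TopologicalSpace TensorProduct

namespace Groth.L03.FibreLocalDim

theorem localDim_homeomorph {X Y : Type u} [TopologicalSpace X] [TopologicalSpace Y] (e : X ≃ₜ Y) (x : X) :
    FlatMor.localDim Y (e x) = FlatMor.localDim X x := by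
  have key : ∀ {A B : Type u} [TopologicalSpace A] [TopologicalSpace B] (g : A ≃ₜ B) (a : A),
      FlatMor.localDim A a ≤ FlatMor.localDim B (g a) := fun {A B} _ _ g a => le_iInf fun U =>
    iInf_le_of_le ⟨⟨g ⁻¹' U.1, U.1.2.preimage g.continuous⟩, U.2⟩
      ((g.isEmbedding.comp Topology.IsEmbedding.subtypeVal).codRestrict (U.1 : Set B)
        (fun z => z.2)).isInducing.topologicalKrullDim_le
  refine le_antisymm ?_ (key e x)
  have h := key e.symm (e x)
  rwa [e.symm_apply_apply] at h

variable {R S : Type u} [CommRing R] [CommRing S] [Algebra R S]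

/-- The morphism of spectra. -/
noncomputable abbrev f (R S : Type u) [CommRing R] [CommRing S] [Algebra R S] :
    Spec (CommRingCat.of S) ⟶ Spec (CommRingCat.of R) := Spec.map (CommRingCat.ofHom (algebraMap R S))

/-- The local dimension of the fibre ring is the fibre dimension of the morphism of spectra. -/
theorem localDim_fiber_eq (p : PrimeSpectrum R) (Q : PrimeSpectrum (p.asIdeal.Fiber S)) :
    FlatMor.localDim (PrimeSpectrum (p.asIdeal.Fiber S)) Q =
      FlatMor.fibreDimAt (f R S) ((PrimeSpectrum.preimageHomeomorphFiber R S p).symm Q).1 := by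
  let φ : (f R S).fiber p ≃ₜ PrimeSpectrum (p.asIdeal.Fiber S) :=
    ((f R S).fiberHomeo p).trans (PrimeSpectrum.preimageHomeomorphFiber R S p)
  obtain ⟨w, rfl⟩ := φ.surjective Q
  rw [localDim_homeomorph φ w, ← Groth.L23.fibreDimAt_eq_localDim_fiber (f R S) w]
  congr 1
  exact (congrArg Subtype.val
    ((PrimeSpectrum.preimageHomeomorphFiber R S p).symm_apply_apply ((f R S).fiberHomeo p w))).symm

theorem symm_eq_comap (p : PrimeSpectrum R) (Q : PrimeSpectrum (p.asIdeal.Fiber S)) :
    ((PrimeSpectrum.preimageHomeomorphFiber R S p).symm Q).1 =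
      PrimeSpectrum.comap (Algebra.TensorProduct.includeRight.toRingHom) Q :=
  rfl

theorem setOf_eq (n : WithBot ℕ∞) :
    {q : PrimeSpectrum S | ∀ Q : PrimeSpectrum ((q.asIdeal.under R).Fiber S),
        Q.asIdeal.comap (Algebra.TensorProduct.includeRight.toRingHom) = q.asIdeal →
          FlatMor.localDim (PrimeSpectrum ((q.asIdeal.under R).Fiber S)) Q ≤ n} =
      {q : Spec (CommRingCat.of S) | FlatMor.fibreDimAt (f R S) q ≤ n} := by
  refine Set.ext fun (q : PrimeSpectrum S) => ?_
  let p : PrimeSpectrum R := PrimeSpectrum.comap (algebraMap R S) q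
  let e := PrimeSpectrum.preimageHomeomorphFiber R S p
  constructor
  · intro h
    have h1 := h (e ⟨q, rfl⟩) (congrArg PrimeSpectrum.asIdeal
      (congrArg Subtype.val (e.symm_apply_apply ⟨q, rfl⟩)))
    replace h1 := (localDim_fiber_eq p (e ⟨q, rfl⟩)).symm.trans_le h1
    rwa [e.symm_apply_apply] at h1
  · intro h Q hQ
    rw [show FlatMor.localDim _ Q = _ from localDim_fiber_eq p Q]
    exact (symm_eq_comap p Q).trans (PrimeSpectrum.ext hQ) ▸ h

/-- The locus where the fibre dimension is bounded is quasi-compact for finitely presented algebras. -/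
theorem isCompact_setOf [Algebra.FinitePresentation R S] (n : ℕ) :
    IsCompact {q : Spec (CommRingCat.of S) | FlatMor.fibreDimAt (f R S) q ≤ n} := by
  classical
  let P := Algebra.Presentation.ofFinitePresentation R S
  let R₀ := P.Core
  let S₀ := P.ModelOfHasCoeffs R₀
  haveI : IsNoetherianRing R₀ := Algebra.FiniteType.isNoetherianRing ℤ R₀
  haveI : Algebra.FiniteType R₀ S₀ := inferInstance
  haveI : IsNoetherianRing S₀ := Algebra.FiniteType.isNoetherianRing R₀ S₀
  let e : (R ⊗[R₀] S₀) ≃ₐ[R] S := P.tensorModelOfHasCoeffsEquiv R₀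
  let ι : S₀ →+* S := e.toRingHom.comp Algebra.TensorProduct.includeRight.toRingHom
  have sq : IsPullback (Spec.map (CommRingCat.ofHom ι)) (f R S) (f R₀ S₀) (f R₀ R) := by
    refine (isPullback_SpecMap_of_isPushout _ _ _ _
      ((CommRingCat.isPushout_tensorProduct R₀ R S₀).of_iso (Iso.refl _) (Iso.refl _) (Iso.refl _)
        e.toRingEquiv.toCommRingCatIso (by simp) (by simp) ?_ ?_)).flip
    · ext r; simpa using e.commutes r
    · ext s; simp [ι]; rfl
  haveI : LocallyOfFiniteType (f R₀ S₀) :=
    (HasRingHomProperty.Spec_iff (P := @LocallyOfFiniteType)).2 (RingHom.finiteType_algebraMap.2 inferInstance)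
  let W := {q : Spec (CommRingCat.of S₀) | FlatMor.fibreDimAt (f R₀ S₀) q ≤ n}
  have hW : IsOpen W := Groth.L07.FibreDim.isOpen_fibreDimAt_le _ n
  have hset : {q : Spec (CommRingCat.of S) | FlatMor.fibreDimAt (f R S) q ≤ n} =
      Spec.map (CommRingCat.ofHom ι) ⁻¹' W := by
    ext q
    exact iff_of_eq (congrArg (· ≤ _) (Groth.L23.fibreDimAt_of_isPullback sq q))
  rw [hset]
  haveI : NoetherianSpace (Spec (CommRingCat.of S₀)) :=
    inferInstanceAs (NoetherianSpace (PrimeSpectrum S₀))
  exact QuasiCompact.isCompact_preimage W hW (NoetherianSpace.isCompact W)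

end Groth.L03.FibreLocalDim

namespace Groth.L03.FibreLocalDim

variable {R S : Type u} [CommRing R] [CommRing S] [Algebra R S]

/-- A basic neighbourhood with small fibre. -/
theorem exists_basic_fibre_le (q : PrimeSpectrum S) (n : WithBot ℕ∞)
    (h : FlatMor.fibreDimAt (f R S) q ≤ n) :
    ∃ g ∉ q.asIdeal, ringKrullDim
      ((PrimeSpectrum.comap (algebraMap R S) q).asIdeal.Fiber (Localization.Away g)) ≤ n := by
  obtain ⟨U, hqU, hU⟩ := (Groth.L07.FibreDim.fibreDimAt_le_iff (f R S) q n).1 h
  obtain ⟨_, ⟨g, rfl⟩, hqg, hgU⟩ :=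
    PrimeSpectrum.isTopologicalBasis_basic_opens.exists_subset_of_mem_open hqU U.2
  refine ⟨g, hqg, ?_⟩
  let p := PrimeSpectrum.comap (algebraMap R S) q
  let ψ : PrimeSpectrum.comap (algebraMap R (Localization.Away g)) ⁻¹' {p} → PrimeSpectrum S :=
    fun z => PrimeSpectrum.comap (algebraMap S (Localization.Away g)) z.1
  have hψ : Topology.IsEmbedding ψ :=
    (PrimeSpectrum.localization_away_isOpenEmbedding (Localization.Away g) g).isEmbedding.comp
      Topology.IsEmbedding.subtypeVal
  have hr : Set.range ψ = (PrimeSpectrum.basicOpen g : Set (PrimeSpectrum S)) ∩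
      PrimeSpectrum.comap (algebraMap R S) ⁻¹' {p} := by
    rw [← PrimeSpectrum.localization_away_comap_range (Localization.Away g) g]
    ext z
    constructor
    · rintro ⟨⟨w, hw⟩, rfl⟩
      refine ⟨⟨w, rfl⟩, ?_⟩
      rw [Set.mem_preimage, ← PrimeSpectrum.comap_comp_apply, ← IsScalarTower.algebraMap_eq]
      exact hw
    · rintro ⟨⟨w, rfl⟩, hw⟩
      refine ⟨⟨w, ?_⟩, rfl⟩
      rw [Set.mem_preimage, ← PrimeSpectrum.comap_comp_apply, ← IsScalarTower.algebraMap_eq] at hw
      exact hw
  rw [← PrimeSpectrum.topologicalKrullDim_eq_ringKrullDim,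
    ← (PrimeSpectrum.preimageHomeomorphFiber R (Localization.Away g) p).isHomeomorph.topologicalKrullDim_eq,
    ← Groth.L22.SchemeDim.topologicalKrullDim_eq_of_isEmbedding hψ hr]
  refine le_trans (Groth.L22.SchemeDim.topologicalKrullDim_mono ?_) hU
  exact Set.inter_subset_inter_left _ hgU

/-- Near a point with fibre dimension at most `n` a localisation is quasi-finite over affine `n`-space. -/
theorem exists_quasiFinite_away [Algebra.FiniteType R S] (q : PrimeSpectrum S) (n : ℕ)
    (h : FlatMor.fibreDimAt (f R S) q ≤ n) :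
    ∃ g : S, g ∉ q.asIdeal ∧ ∃ φ : MvPolynomial (Fin n) R →ₐ[R] Localization.Away g,
      φ.toRingHom.FiniteType ∧ φ.toRingHom.QuasiFinite := by
  classical
  obtain ⟨g₀, hg₀, hdim⟩ := exists_basic_fibre_le q n h
  let A := Localization.Away g₀
  haveI : Algebra.FiniteType R A :=
    (inferInstance : Algebra.FiniteType R S).trans (IsLocalization.finiteType_of_monoid_fg (Submonoid.powers g₀) A)
  obtain ⟨P, hP⟩ : q ∈ Set.range (PrimeSpectrum.comap (algebraMap S A)) := by
    rw [PrimeSpectrum.localization_away_comap_range A g₀]; exact hg₀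
  have hP' : PrimeSpectrum.comap (algebraMap R A) P = PrimeSpectrum.comap (algebraMap R S) q := by
    rw [IsScalarTower.algebraMap_eq R S A, PrimeSpectrum.comap_comp_apply, hP]
  rw [← hP'] at hdim
  obtain ⟨r, hr, s, hs, ψ, hψ⟩ := Groth.L07.FibreDim.exists_quasiFinite_mvPolynomial P n hdim
  let a := IsLocalization.Away.sec g₀ r
  have ha := IsLocalization.Away.sec_spec g₀ r
  refine ⟨g₀ * a.1, ?_, ?_⟩
  · refine fun hmem => (q.2.mem_or_mem hmem).elim hg₀ fun ha1 => hr ?_
    rw [← hP] at ha1
    have h1 : algebraMap S A a.1 ∈ P.asIdeal := ha1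
    rw [← ha] at h1
    refine (P.2.mem_or_mem h1).resolve_right fun h2 => hg₀ ?_
    rw [← hP]
    change algebraMap S A g₀ ∈ P.asIdeal
    refine P.2.mem_of_pow_mem a.2 ?_
    rwa [← map_pow]
  let T := Localization.Away (g₀ * a.1)
  let e : Localization.Away r ≃ₐ[S] T := by
    haveI : IsLocalization.Away (algebraMap S A a.1) (Localization.Away r) := by
      have hu : IsUnit ((algebraMap S A g₀) ^ a.2) := (IsLocalization.Away.algebraMap_isUnit g₀).pow _
      exact IsLocalization.Away.of_associated (r := r) (by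
        rw [← ha]
        exact associated_mul_unit_right _ _ (by rwa [map_pow]))
    haveI : IsLocalization.Away (g₀ * a.1) (Localization.Away r) := by
      rw [mul_comm]; exact IsLocalization.Away.mul A (Localization.Away r) g₀ a.1
    exact IsLocalization.algEquiv (Submonoid.powers (g₀ * a.1)) _ _
  let π : MvPolynomial (Fin n) R →ₐ[R] MvPolynomial (Fin s) R :=
    MvPolynomial.aeval fun i => if hi : (i : ℕ) < s then MvPolynomial.X ⟨i, hi⟩ else 0
  have hπ : Function.Surjective π := fun x =>
    ⟨MvPolynomial.rename (Fin.castLE hs) x, by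
      rw [MvPolynomial.aeval_rename]
      have : ((fun i : Fin n => if hi : (i : ℕ) < s then (MvPolynomial.X ⟨i, hi⟩ : MvPolynomial (Fin s) R) else 0) ∘
          Fin.castLE hs) = MvPolynomial.X := funext fun i => by simp [Fin.castLE]
      rw [this, MvPolynomial.aeval_X_left_apply]⟩
  let φ : MvPolynomial (Fin n) R →ₐ[R] T :=
    ((e.toAlgHom.restrictScalars R).comp ((IsScalarTower.toAlgHom R A (Localization.Away r)).comp ψ)).comp π
  have hqf : φ.toRingHom.QuasiFinite :=
    ((RingHom.QuasiFinite.of_finite (RingHom.Finite.of_surjective e.toRingEquiv.toRingHom e.surjective)).comp hψ).comp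
      (RingHom.QuasiFinite.of_finite (RingHom.Finite.of_surjective π.toRingHom hπ))
  refine ⟨φ, ?_, hqf⟩
  haveI : Algebra.FiniteType R T :=
    (inferInstance : Algebra.FiniteType R S).trans
      (IsLocalization.finiteType_of_monoid_fg (Submonoid.powers (g₀ * a.1)) T)
  exact RingHom.FiniteType.of_comp_finiteType (f := algebraMap R (MvPolynomial (Fin n) R)) (by
    rw [show φ.toRingHom.comp (algebraMap R _) = algebraMap R T from φ.comp_algebraMap]
    exact RingHom.finiteType_algebraMap.2 inferInstance)

end Groth.L03.FibreLocalDim
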