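import Groth.Agent.L03.Lattice
import Mathlib.LinearAlgebra.Dual.Lemmas
import Mathlib.RingTheory.Localization.FractionRing
import Mathlib.RingTheory.Localization.Module
import Mathlib.LinearAlgebra.Basis.VectorSpace
import Mathlib.Algebra.Module.LocalizedModule.Submodule
import Mathlib.RingTheory.Noetherian.Basic
import Mathlib.LinearAlgebra.TensorProduct.Pi
import Mathlib.RingTheory.Flat.Basic

/-!
Reflexive finite modules over Noetherian domains.
-/

namespace Groth.L03.Reflexive

universe u

open Module TensorProduct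

variable {R : Type u} [CommRing R] [IsDomain R]

/-- A finite torsion free module over a domain embeds into a finite free module. -/
theorem exists_embedding (M : Type*) [AddCommGroup M] [Module R M] [Module.Finite R M]
    [IsTorsionFree R M] : ∃ (n : ℕ) (f : M →ₗ[R] (Fin n → R)), Function.Injective f := by
  obtain ⟨n, f, g, c, hc, h, -⟩ := Lattice.exists_free_comp (R := R) M
  exact ⟨n, f, Lattice.injective_of_comp f g hc h⟩

theorem eval_injective (M : Type*) [AddCommGroup M] [Module R M] [Module.Finite R M]
    [IsTorsionFree R M] : Function.Injective (Dual.eval R M) := by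
  obtain ⟨n, f, hf⟩ := exists_embedding (R := R) M
  intro x y h
  refine hf (funext fun i => ?_)
  exact LinearMap.congr_fun h (LinearMap.proj i ∘ₗ f)

/-- Functionals extend along injective maps up to a nonzero scalar. -/
theorem exists_smul_extend {M N : Type u} [AddCommGroup M] [Module R M] [AddCommGroup N]
    [Module R N] [Module.Finite R N] (f : M →ₗ[R] N) (hf : Function.Injective f)
    (ψ : M →ₗ[R] R) : ∃ c : R, c ≠ 0 ∧ ∃ ψ' : N →ₗ[R] R, ψ' ∘ₗ f = c • ψ := by
  classical
  let S := nonZeroDivisors R
  let K := FractionRing R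
  let ψ₀ : LocalizedModule S M →ₗ[R] K :=
    IsLocalizedModule.lift S (LocalizedModule.mkLinearMap S M) (Algebra.linearMap R K ∘ₗ ψ)
      (IsLocalizedModule.map_units (Algebra.linearMap R K))
  let ψ₁ : LocalizedModule S M →ₗ[K] K := LinearMap.extendScalarsOfIsLocalization S K ψ₀
  let F : LocalizedModule S M →ₗ[K] LocalizedModule S N := LocalizedModule.map S f
  have hF : LinearMap.ker F = ⊥ :=
    LinearMap.ker_eq_bot.2 (LocalizedModule.map_injective S f hf)
  obtain ⟨ret, hret⟩ := LinearMap.exists_leftInverse_of_injective F hF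
  let θ : N →ₗ[R] K := ((ψ₁ ∘ₗ ret).restrictScalars R) ∘ₗ LocalizedModule.mkLinearMap S N
  have hθ : ∀ x, θ (f x) = algebraMap R K (ψ x) := by
    intro x
    have h1 : F (LocalizedModule.mkLinearMap S M x) = LocalizedModule.mkLinearMap S N (f x) := by
      exact IsLocalizedModule.map_apply S (LocalizedModule.mkLinearMap S M)
        (LocalizedModule.mkLinearMap S N) f x
    have h2 := LinearMap.congr_fun hret (LocalizedModule.mkLinearMap S M x)
    change ψ₁ (ret _) = _
    rw [← h1]
    rw [LinearMap.comp_apply, LinearMap.id_apply] at h2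
    rw [h2]
    change ψ₀ (LocalizedModule.mkLinearMap S M x) = _
    simp only [ψ₀]
    rw [IsLocalizedModule.lift_apply]
    rfl
  obtain ⟨G, hG⟩ := Module.Finite.fg_top (R := R) (M := N)
  obtain ⟨⟨c, hc⟩, hcG⟩ := IsLocalization.exist_integer_multiples_of_finset S (G.image θ)
  have hmem : ∀ y : N, (c • θ) y ∈ LinearMap.range (Algebra.linearMap R K) := by
    have : (⊤ : Submodule R N) ≤ (LinearMap.range (Algebra.linearMap R K)).comap (c • θ) := by
      rw [← hG, Submodule.span_le]
      intro y hy
      obtain ⟨r, hr⟩ := hcG _ (Finset.mem_image_of_mem θ hy)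
      exact ⟨r, hr⟩
    exact fun y => this Submodule.mem_top
  let ψ' : N →ₗ[R] R := LinearMap.codRestrictOfInjective (c • θ) (Algebra.linearMap R K)
    (IsFractionRing.injective R K) hmem
  refine ⟨c, nonZeroDivisors.ne_zero hc, ψ', LinearMap.ext fun x => ?_⟩
  apply IsFractionRing.injective R K
  change Algebra.linearMap R K (ψ' (f x)) = algebraMap R K (c * ψ x)
  rw [LinearMap.codRestrictOfInjective_comp_apply, LinearMap.smul_apply, hθ, map_mul,
    Algebra.smul_def]

/-- Kernel of a map from a reflexive module to a torsion free one is reflexive. -/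
theorem isReflexive_of_exact {M M' M'' : Type u} [AddCommGroup M] [Module R M] [AddCommGroup M']
    [Module R M'] [Module.Finite R M'] [AddCommGroup M''] [Module R M''] [Module.Finite R M'']
    [IsTorsionFree R M''] [IsReflexive R M'] (f : M →ₗ[R] M') (g : M' →ₗ[R] M'')
    (hf : Function.Injective f) (hfg : Function.Exact f g) : IsReflexive R M := by
  refine ⟨⟨?_, ?_⟩⟩
  · intro x y h
    refine hf ((bijective_dual_eval R M').1 (LinearMap.ext fun l => ?_))
    exact LinearMap.congr_fun h (l ∘ₗ f)
  · intro φ
    obtain ⟨m', hm'⟩ := (bijective_dual_eval R M').2 (φ ∘ₗ f.dualMap)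
    have hg : g m' = 0 := by
      refine eval_injective (R := R) M'' (LinearMap.ext fun l => ?_)
      rw [map_zero]
      have := LinearMap.congr_fun hm' (l ∘ₗ g)
      simp only [Dual.eval_apply, LinearMap.comp_apply] at this ⊢
      rw [this]
      have h0 : f.dualMap (l ∘ₗ g) = 0 := LinearMap.ext fun x => by
        simp [hfg.apply_apply_eq_zero]
      rw [h0, map_zero, LinearMap.zero_apply]
    obtain ⟨m, rfl⟩ := (hfg m').1 hg
    refine ⟨m, LinearMap.ext fun ψ => ?_⟩
    obtain ⟨c, hc, ψ', hψ'⟩ := exists_smul_extend f hf ψ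
    have h1 := LinearMap.congr_fun hm' ψ'
    simp only [Dual.eval_apply, LinearMap.comp_apply] at h1 ⊢
    have h2 : f.dualMap ψ' = c • ψ := hψ'
    rw [h2, map_smul, smul_eq_mul] at h1
    have h3 : ψ' (f m) = c * ψ m := LinearMap.congr_fun hψ' m
    exact mul_left_cancel₀ hc (h3.symm.trans h1)

/-- A reflexive module over a Noetherian domain is a kernel of a map between free modules. -/
theorem exists_exact [IsNoetherianRing R] (M : Type u) [AddCommGroup M] [Module R M]
    [Module.Finite R M] [IsReflexive R M] :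
    ∃ (n k : ℕ) (f : M →ₗ[R] (Fin n → R)) (g : (Fin n → R) →ₗ[R] (Fin k → R)),
      Function.Injective f ∧ Function.Exact f g := by
  obtain ⟨n, p, hp⟩ := Module.Finite.exists_fin' R (Dual R M)
  obtain ⟨k, q₀, hq₀⟩ := Module.Finite.exists_fin' R (LinearMap.ker p)
  let q := (LinearMap.ker p).subtype ∘ₗ q₀
  have hex : Function.Exact q p := by
    rw [LinearMap.exact_iff, LinearMap.range_comp, LinearMap.range_eq_top.2 hq₀,
      Submodule.map_top, Submodule.range_subtype]
  have hd : Function.Exact p.dualMap q.dualMap := by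
    intro l
    constructor
    · intro hl
      have hle : LinearMap.ker p ≤ LinearMap.ker l := by
        intro x hx
        obtain ⟨y, rfl⟩ := (hex x).1 hx
        exact LinearMap.congr_fun hl y
      exact ⟨(LinearMap.ker p).liftQ l hle ∘ₗ (p.quotKerEquivOfSurjective hp).symm.toLinearMap,
        LinearMap.ext fun x => by simp⟩
    · rintro ⟨l', rfl⟩
      exact LinearMap.ext fun y => by simp [hex.apply_apply_eq_zero]
  have hinj : Function.Injective p.dualMap := LinearMap.dualMap_injective_of_surjective hp
  let en : Dual R (Fin n → R) ≃ₗ[R] (Fin n → R) := (Pi.basisFun R (Fin n)).dualBasis.equivFun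
  let ek : Dual R (Fin k → R) ≃ₗ[R] (Fin k → R) := (Pi.basisFun R (Fin k)).dualBasis.equivFun
  refine ⟨n, k, en.toLinearMap ∘ₗ p.dualMap ∘ₗ (evalEquiv R M).toLinearMap,
    ek.toLinearMap ∘ₗ q.dualMap ∘ₗ en.symm.toLinearMap,
    en.injective.comp (hinj.comp (evalEquiv R M).injective), ?_⟩
  intro y
  constructor
  · intro hy
    obtain ⟨φ, hφ⟩ := (hd (en.symm y)).1 (ek.map_eq_zero_iff.1 hy)
    refine ⟨(evalEquiv R M).symm φ, ?_⟩
    simp only [LinearMap.comp_apply, LinearEquiv.coe_coe, LinearEquiv.apply_symm_apply]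
    rw [hφ, LinearEquiv.apply_symm_apply]
  · rintro ⟨x, rfl⟩
    simp only [LinearMap.comp_apply, LinearEquiv.coe_coe, LinearEquiv.symm_apply_apply]
    rw [hd.apply_apply_eq_zero, map_zero]

theorem isReflexive_iff [IsNoetherianRing R] (M : Type u) [AddCommGroup M] [Module R M]
    [Module.Finite R M] : IsReflexive R M ↔ ∃ (n : ℕ) (f : M →ₗ[R] (Fin n → R)),
      Function.Injective f ∧ IsTorsionFree R ((Fin n → R) ⧸ LinearMap.range f) := by
  constructor
  · intro h
    obtain ⟨n, k, f, g, hf, hfg⟩ := exists_exact (R := R) M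
    refine ⟨n, f, hf, ?_⟩
    have hker : LinearMap.range f = LinearMap.ker g := (LinearMap.exact_iff.1 hfg).symm
    refine Function.Injective.moduleIsTorsionFree ((LinearMap.range f).liftQ g hker.le) ?_
      (fun r x => map_smul _ r x)
    rw [← LinearMap.ker_eq_bot, Submodule.ker_liftQ, ← hker, Submodule.mkQ_map_self]
  · rintro ⟨n, f, hf, htf⟩
    exact isReflexive_of_exact f (LinearMap.range f).mkQ hf (LinearMap.exact_map_mkQ_range f)

theorem isReflexive_tensor [IsNoetherianRing R] {R' : Type u} [CommRing R'] [IsDomain R']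
    [IsNoetherianRing R'] [Algebra R R'] [Module.Flat R R'] (M : Type u) [AddCommGroup M]
    [Module R M] [Module.Finite R M] [IsReflexive R M] : IsReflexive R' (R' ⊗[R] M) := by
  obtain ⟨n, k, f, g, hf, hfg⟩ := exists_exact (R := R) M
  let e : ∀ m : ℕ, R' ⊗[R] (Fin m → R) ≃ₗ[R'] (Fin m → R') := fun m =>
    TensorProduct.piScalarRight R R' R' (Fin m)
  haveI : ∀ m : ℕ, IsReflexive R' (R' ⊗[R] (Fin m → R)) := fun m => Module.equiv (e m).symm
  haveI : IsTorsionFree R' (R' ⊗[R] (Fin k → R)) :=
    (e k).injective.moduleIsTorsionFree (e k) (map_smul _)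
  exact isReflexive_of_exact (f.baseChange R') (g.baseChange R')
    (Module.Flat.lTensor_preserves_injective_linearMap f hf) (Module.Flat.lTensor_exact R' hfg)

theorem isReflexive_hom [IsNoetherianRing R] (M N : Type u) [AddCommGroup M] [Module R M]
    [Module.Finite R M] [AddCommGroup N] [Module R N] [Module.Finite R N] [IsReflexive R N] :
    IsReflexive R (M →ₗ[R] N) := by
  obtain ⟨a, p, hp⟩ := Module.Finite.exists_fin' R M
  obtain ⟨b, q₀, hq₀⟩ := Module.Finite.exists_fin' R (LinearMap.ker p)
  obtain ⟨n, k, i, j, hi, hij⟩ := exists_exact (R := R) N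
  let q := (LinearMap.ker p).subtype ∘ₗ q₀
  let F : (M →ₗ[R] N) →ₗ[R] (Fin a → Fin n → R) :=
    LinearMap.pi fun s => i ∘ₗ LinearMap.applyₗ (p (Pi.single s 1))
  let G : (Fin a → Fin n → R) →ₗ[R] (Fin a → Fin k → R) × (Fin b → Fin n → R) :=
    (LinearMap.pi fun s => j ∘ₗ LinearMap.proj s).prod
      (LinearMap.pi fun t => ∑ s, q (Pi.single t 1) s • LinearMap.proj s)
  have hpsum : ∀ v : Fin a → R, p v = ∑ s, v s • p (Pi.single s 1) := fun v => by
    conv_lhs => rw [pi_eq_sum_univ' v]
    simp [map_sum]
  have hF : Function.Injective F := by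
    intro u v h
    refine LinearMap.ext fun x => ?_
    obtain ⟨y, rfl⟩ := hp x
    rw [hpsum, map_sum, map_sum]
    refine Finset.sum_congr rfl fun s _ => ?_
    rw [map_smul, map_smul]
    exact congrArg (y s • ·) (hi (congrFun h s))
  have hFG : Function.Exact F G := by
    intro v
    constructor
    · intro hv
      have h1 : ∀ s, j (v s) = 0 := fun s => congrFun (congrArg Prod.fst hv) s
      have h2 : ∀ t, ∑ s, q (Pi.single t 1) s • v s = 0 := fun t => by
        have := congrFun (congrArg Prod.snd hv) t
        simpa [G] using this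
      choose w hw using fun s => (hij (v s)).1 (h1 s)
      let u₀ : (Fin a → R) →ₗ[R] N := Fintype.linearCombination R w
      have hle : LinearMap.ker p ≤ LinearMap.ker u₀ := by
        intro x hx
        obtain ⟨y, hy⟩ := hq₀ ⟨x, hx⟩
        have hx' : x = q y := (congrArg Subtype.val hy).symm
        have hu : u₀ ∘ₗ q = 0 := by
          refine (Pi.basisFun R (Fin b)).ext fun t => hi ?_
          rw [LinearMap.zero_apply, map_zero, LinearMap.comp_apply, Pi.basisFun_apply,
            Fintype.linearCombination_apply, map_sum, ← h2 t]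
          exact Finset.sum_congr rfl fun s _ => by rw [map_smul, hw]
        rw [LinearMap.mem_ker, hx']
        exact LinearMap.congr_fun hu y
      refine ⟨(LinearMap.ker p).liftQ u₀ hle ∘ₗ (p.quotKerEquivOfSurjective hp).symm.toLinearMap, ?_⟩
      funext s
      simp [F, u₀, Fintype.linearCombination_apply_single, hw]
    · rintro ⟨u, rfl⟩
      refine Prod.ext (funext fun s => ?_) (funext fun t => ?_)
      · simp [G, F, hij.apply_apply_eq_zero]
      · change (∑ s, q (Pi.single t 1) s • LinearMap.proj s :
          (Fin a → Fin n → R) →ₗ[R] Fin n → R) (F u) = 0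
        simp only [LinearMap.sum_apply, LinearMap.smul_apply, LinearMap.proj_apply]
        change ∑ s, _ • i (u (p (Pi.single s 1))) = 0
        simp only [← map_smul, ← map_sum]
        rw [← pi_eq_sum_univ' (q (Pi.single t 1))]
        simp [q]
  haveI : IsTorsionFree R ((Fin a → Fin k → R) × (Fin b → Fin n → R)) :=
    (isTorsionFree_iff_smul_eq_zero).2 fun r x h => by
      by_cases hr : r = 0
      · exact Or.inl hr
      · refine Or.inr (Prod.ext ?_ ?_) <;> funext s t
        · simpa [hr] using congrFun (congrFun (congrArg Prod.fst h) s) t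
        · simpa [hr] using congrFun (congrFun (congrArg Prod.snd h) s) t
  exact isReflexive_of_exact F G hF hFG

end Groth.L03.Reflexive
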