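import Groth.Agent.L04.Depth2
import Mathlib.CategoryTheory.Abelian.Projective.Dimension
import Mathlib.Algebra.Category.ModuleCat.Projective
import Mathlib.RingTheory.LocalRing.Module
import Mathlib.LinearAlgebra.Dimension.Constructions

/-!
The Auslander–Buchsbaum formula over a Noetherian local ring.
-/

universe u

open CategoryTheory IsLocalRing Abelian TensorProduct

namespace Groth.L03.AB

variable {R : Type u} [CommRing R] [IsNoetherianRing R] [IsLocalRing R]

theorem depth_ne_top (M : Type u) [AddCommGroup M] [Module R M] [Module.Finite R M] [Nontrivial M] :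
    LocCoh.depth R M ≠ ⊤ :=
  Groth.L04.idealDepth_ne_top fun h => (maximalIdeal.isMaximal R).ne_top
    (absurd (Submodule.eq_bot_of_le_smul_of_le_jacobson_bot (maximalIdeal R) ⊤ Module.Finite.fg_top h.ge
      (maximalIdeal_le_jacobson _)) top_ne_bot)

theorem le_depth_free_iff {a : ℕ} (ha : 0 < a) (n : ℕ) :
    (n : ℕ∞) ≤ LocCoh.depth R (Fin a → R) ↔ (n : ℕ∞) ≤ LocCoh.depth R R := by
  refine ⟨fun h => ?_, fun h => Groth.L04.le_idealDepth_pi (maximalIdeal R) h a⟩
  unfold LocCoh.depth at *
  rw [Groth.L04.le_idealDepth_iff_extVanish] at h ⊢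
  intro i hi
  haveI := h i hi
  refine subsingleton_of_forall_eq 0 fun x => ?_
  let ι : ModuleCat.of R R ⟶ ModuleCat.of R (Fin a → R) := ModuleCat.ofHom (LinearMap.single R (fun _ : Fin a => R) ⟨0, ha⟩)
  let π : ModuleCat.of R (Fin a → R) ⟶ ModuleCat.of R R := ModuleCat.ofHom (LinearMap.proj ⟨0, ha⟩)
  have hip : ι ≫ π = 𝟙 _ := by ext; simp [ι, π]
  rw [← x.comp_mk₀_id, ← hip, ← Ext.mk₀_comp_mk₀, ← Ext.comp_assoc_of_second_deg_zero,
    Subsingleton.elim (x.comp (Ext.mk₀ ι) (add_zero i)) 0, Ext.zero_comp]

theorem finrank_pos_of_free (M : Type u) [AddCommGroup M] [Module R M] [Module.Finite R M] [Module.Free R M] [Nontrivial M] :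
    0 < Module.finrank R M := by
  by_contra h
  haveI : IsEmpty (Fin (Module.finrank R M)) := by
    rw [Nat.eq_zero_of_not_pos h]; infer_instance
  exact not_subsingleton M (Module.finBasis R M).equivFun.toEquiv.subsingleton

theorem depth_free (M : Type u) [AddCommGroup M] [Module R M] [Module.Finite R M] [Module.Free R M] [Nontrivial M] :
    LocCoh.depth R M = LocCoh.depth R R := by
  have e := (Module.finBasis R M).equivFun
  have ha : 0 < Module.finrank R M := finrank_pos_of_free M
  obtain ⟨d, hd⟩ := WithTop.ne_top_iff_exists.1 (depth_ne_top (R := R) R)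
  have h1 : LocCoh.depth R M = LocCoh.depth R (Fin (Module.finrank R M) → R) := Groth.L04.idealDepth_congr e
  obtain ⟨d', hd'⟩ := WithTop.ne_top_iff_exists.1 (depth_ne_top (R := R) M)
  rw [← hd, ← hd']
  rw [← hd'] at h1
  refine le_antisymm ?_ ?_
  · exact ((le_depth_free_iff ha d').1 h1.le).trans hd.ge
  · exact ((le_depth_free_iff ha d).2 hd.le).trans h1.ge

/-- an injective minimal map of free modules drops the depth -/
theorem not_depth_le_of_minimal {a b : ℕ} (ha : 0 < a) (φ : (Fin a → R) →ₗ[R] (Fin b → R))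
    (hφ : Function.Injective φ) (hm : ∀ i j, φ (Pi.single j 1) i ∈ maximalIdeal R)
    {M : Type u} [AddCommGroup M] [Module R M] [Module.Finite R M]
    (π : (Fin b → R) →ₗ[R] M) (hπ : Function.Surjective π) (hex : Function.Exact φ π) {d : ℕ}
    (hd : LocCoh.depth R R = (d : ℕ∞)) : ¬ (d : ℕ∞) ≤ LocCoh.depth R M := by
  intro hM
  let S := ShortComplex.moduleCatMkOfKerLERange (ModuleCat.ofHom φ) (ModuleCat.ofHom π)
    (LinearMap.exact_iff.1 hex).ge
  have hS : S.ShortExact := Groth.L04.shortExact_mk hφ hπ hex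
  have hzero : ∀ (i : ℕ) (x : Ext (ModuleCat.of R (R ⧸ maximalIdeal R)) (ModuleCat.of R (Fin a → R)) i),
      x.comp (Ext.mk₀ (ModuleCat.ofHom φ)) (add_zero i) = 0 := by
    intro i x
    have hdec : φ = ∑ q : Fin b × Fin a, (φ (Pi.single q.2 1) q.1) •
        ((LinearMap.single R (fun _ : Fin b => R) q.1).comp (LinearMap.proj q.2)) := by
      refine (Pi.basisFun R (Fin a)).ext fun j => funext fun i => ?_
      simp [Fintype.sum_prod_type, Pi.single_apply]
    have hf : ModuleCat.ofHom φ = ∑ q : Fin b × Fin a, ModuleCat.ofHom ((LinearMap.single R (fun _ : Fin b => R) q.1).comp (LinearMap.proj q.2)) ≫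
        ((φ (Pi.single q.2 1) q.1) • 𝟙 (ModuleCat.of R (Fin b → R))) := by
      refine ModuleCat.hom_ext ?_
      rw [ModuleCat.hom_sum]
      show φ = _
      conv_lhs => rw [hdec]
      rfl
    rw [hf, Ext.mk₀_sum, Ext.comp_sum]
    refine Finset.sum_eq_zero fun q _ => ?_
    rw [← Ext.mk₀_comp_mk₀, ← Ext.comp_assoc_of_second_deg_zero]
    exact ConcreteCategory.congr_hom (Ext.postcomp_smul_id_eq_zero_of_mem_annihilator
      (M := ModuleCat.of R (Fin b → R)) (r := φ (Pi.single q.2 1) q.1)
      (by rw [Ideal.annihilator_quotient]; exact hm q.1 q.2) i) _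
  have hX₁ : ¬ ((d + 1 : ℕ) : ℕ∞) ≤ LocCoh.depth R (Fin a → R) := by
    rw [le_depth_free_iff ha, hd, Nat.cast_le]
    omega
  apply hX₁
  unfold LocCoh.depth at *
  rw [Groth.L04.le_idealDepth_iff_extVanish] at hM ⊢
  rintro (_ | i) hi
  · exact subsingleton_of_forall_eq 0 fun x => Groth.L04.ext_left_zero hS x (hzero 0 x)
  · refine subsingleton_of_forall_eq 0 fun x => ?_
    obtain ⟨y, rfl⟩ := Ext.covariant_sequence_exact₁ _ hS x (hzero _ x) rfl
    haveI : Subsingleton (Ext (ModuleCat.of R (R ⧸ maximalIdeal R)) S.X₃ i) := hM i (by omega)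
    rw [Subsingleton.elim y 0, Ext.zero_comp]; rfl

/-- minimal presentation -/
theorem exists_minimal_cover (M : Type u) [AddCommGroup M] [Module R M] [Module.Finite R M] :
    ∃ (n : ℕ) (π : (Fin n → R) →ₗ[R] M), Function.Surjective π ∧
      ∀ v ∈ LinearMap.ker π, ∀ i, v i ∈ maximalIdeal R := by
  classical
  let k := ResidueField R
  let b : Module.Basis _ k (k ⊗[R] M) := Module.finBasis k (k ⊗[R] M)
  choose x hx using fun i => TensorProduct.mk_surjective R M k residue_surjective (b i)
  refine ⟨_, Fintype.linearCombination R x, ?_, fun v hv i => ?_⟩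
  · rw [← LinearMap.range_eq_top, Fintype.range_linearCombination, span_eq_top_of_tmul_eq_basis x b hx]
  · have h1 : ∑ j, residue R (v j) • b j = 0 := by
      have := congrArg (fun z => (1 : k) ⊗ₜ[R] z) (LinearMap.mem_ker.1 hv)
      simp only [Fintype.linearCombination_apply, TensorProduct.tmul_sum, TensorProduct.tmul_zero,
        TensorProduct.tmul_smul] at this
      refine (Finset.sum_congr rfl fun j _ => ?_).trans this
      rw [← hx j]
      exact algebraMap_smul k (v j) ((1 : k) ⊗ₜ[R] x j)
    exact (residue_eq_zero_iff _).1 (Fintype.linearIndependent_iff.1 b.linearIndependent _ h1 i)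

/-- Auslander–Buchsbaum -/
theorem auslander_buchsbaum : ∀ (e : ℕ) (M : Type u) [AddCommGroup M] [Module R M] [Module.Finite R M] [Nontrivial M],
    HasProjectiveDimensionLE (ModuleCat.of R M) e →
    (∀ e' < e, ¬ HasProjectiveDimensionLE (ModuleCat.of R M) e') →
    LocCoh.depth R R = (e : ℕ∞) + LocCoh.depth R M := by
  intro e
  induction e with
  | zero =>
    intro M _ _ _ _ h _
    haveI : Projective (ModuleCat.of R M) := (projective_iff_hasProjectiveDimensionLE_zero _).2 h
    haveI : Module.Projective R M := (IsProjective.iff_projective (ModuleCat.of R M)).2 inferInstance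
    haveI : Module.Free R M := Module.free_of_flat_of_isLocalRing
    rw [depth_free M, Nat.cast_zero, zero_add]
  | succ e ih =>
    intro M _ _ _ _ h hne
    obtain ⟨n, π, hπ, hmin⟩ := exists_minimal_cover (R := R) M
    have hn : 0 < n := by
      rcases n with _ | n
      · exact absurd hπ.subsingleton (not_subsingleton M)
      · omega
    have hex : Function.Exact (LinearMap.ker π).subtype π := LinearMap.exact_subtype_ker_map π
    have hS := Groth.L04.shortExact_mk (LinearMap.ker π).injective_subtype hπ hex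
    let S := ShortComplex.moduleCatMkOfKerLERange (ModuleCat.ofHom (LinearMap.ker π).subtype) (ModuleCat.ofHom π)
      (LinearMap.exact_iff.1 hex).ge
    have hPF : Projective S.X₂ := (IsProjective.iff_projective S.X₂).1 (inferInstanceAs (Module.Projective R (Fin n → R)))
    haveI : Nontrivial (LinearMap.ker π) := by
      rw [Submodule.nontrivial_iff_ne_bot]
      intro hk
      refine hne 0 (Nat.succ_pos e) ((projective_iff_hasProjectiveDimensionLE_zero _).1 ?_)
      haveI : Module.Projective R M := Module.Projective.of_equiv (LinearEquiv.ofBijective π ⟨LinearMap.ker_eq_bot.1 hk, hπ⟩)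
      exact (IsProjective.iff_projective (ModuleCat.of R M)).1 inferInstance
    have hK : HasProjectiveDimensionLE (ModuleCat.of R (LinearMap.ker π)) e :=
      (hS.hasProjectiveDimensionLT_X₃_iff e hPF).1 h
    have hK' : ∀ e' < e, ¬ HasProjectiveDimensionLE (ModuleCat.of R (LinearMap.ker π)) e' := fun e' he' hle =>
      hne (e' + 1) (by omega) ((hS.hasProjectiveDimensionLT_X₃_iff e' hPF).2 hle)
    have hAB := ih (LinearMap.ker π) hK hK'
    obtain ⟨d, hd⟩ := WithTop.ne_top_iff_exists.1 (depth_ne_top (R := R) R)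
    obtain ⟨dK, hdK⟩ := WithTop.ne_top_iff_exists.1 (depth_ne_top (R := R) (LinearMap.ker π))
    obtain ⟨dM, hdM⟩ := WithTop.ne_top_iff_exists.1 (depth_ne_top (R := R) M)
    rw [← hd, ← hdK] at hAB
    rw [← hd, ← hdM]
    change (d : ℕ∞) = (e : ℕ∞) + (dK : ℕ∞) at hAB
    show (d : ℕ∞) = ((e + 1 : ℕ) : ℕ∞) + (dM : ℕ∞)
    have hde : d = e + dK := by exact_mod_cast hAB
    have hF : (d : ℕ∞) ≤ LocCoh.depth R (Fin n → R) := (le_depth_free_iff hn d).2 hd.le
    have h1 : dM < d → dM + 1 ≤ dK := fun hlt => by
      have := Groth.L04.le_idealDepth_left (I := maximalIdeal R) (n := dM) (LinearMap.ker π).injective_subtype hπ hex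
        (le_trans (Nat.cast_le.2 hlt) hF) hdM.le
      exact Nat.cast_le.1 (this.trans hdK.ge)
    have h2 : 1 ≤ dK → dK - 1 ≤ dM := fun hpos => by
      have := Groth.L04.le_idealDepth_right (I := maximalIdeal R) (n := dK - 1) (LinearMap.ker π).injective_subtype hπ hex
        (by rw [Nat.sub_add_cancel hpos]; exact hdK.le) (le_trans (Nat.cast_le.2 (by omega)) hF)
      exact Nat.cast_le.1 (this.trans hdM.ge)
    have h3 : dM < d := by
      by_contra hge
      rcases Nat.eq_zero_or_pos e with rfl | hepos
      · haveI : Projective (ModuleCat.of R (LinearMap.ker π)) := (projective_iff_hasProjectiveDimensionLE_zero _).2 hK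
        haveI : Module.Projective R (LinearMap.ker π) := (IsProjective.iff_projective (ModuleCat.of R (LinearMap.ker π))).2 inferInstance
        haveI : Module.Free R (LinearMap.ker π) := Module.free_of_flat_of_isLocalRing
        let eK := (Module.finBasis R (LinearMap.ker π)).equivFun
        refine not_depth_le_of_minimal (finrank_pos_of_free (R := R) (LinearMap.ker π))
          ((LinearMap.ker π).subtype.comp eK.symm.toLinearMap) ((LinearMap.ker π).injective_subtype.comp eK.symm.injective)
          (fun i j => hmin _ (eK.symm _).2 i) π hπ ?_ hd.symm (le_trans (Nat.cast_le.2 (not_lt.1 hge)) hdM.le)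
        rw [LinearMap.exact_iff, LinearMap.range_comp, LinearEquiv.range, Submodule.map_top, Submodule.range_subtype]
      · have := Groth.L04.le_idealDepth_left (I := maximalIdeal R) (n := dK) (LinearMap.ker π).injective_subtype hπ hex
          (le_trans (Nat.cast_le.2 (show dK + 1 ≤ d by omega)) hF) (le_trans (Nat.cast_le.2 (by omega)) hdM.le)
        have := Nat.cast_le.1 (this.trans hdK.ge)
        omega
    have h4 := h1 h3
    have h5 := h2 (by omega)
    exact_mod_cast (by omega : d = e + 1 + dM)

end Groth.L03.AB
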