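import Groth.Agent.L07.RegImmBC
import Groth.Prelude.Def_RegImm
import Mathlib.RingTheory.Flat.EquationalCriterion
import Mathlib.RingTheory.Regular.Flat
import Mathlib.RingTheory.MvPolynomial.Homogeneous

/-! Sequences of each kind, and regular immersions of each kind, under flat maps. -/

set_option autoImplicit false
set_option linter.style.haveILetI false

universe u

open CategoryTheory CategoryTheory.Limits AlgebraicGeometry MvPolynomial

namespace Groth.L03.RegImmFlat

variable {R R' : Type u} [CommRing R] [CommRing R'] (φ : R →+* R') (hφ : φ.Flat)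

include hφ in
theorem isH1Regular_map {c : ℕ} {f : Fin c → R} (hf : CAlgX.IsH1Regular f) :
    CAlgX.IsH1Regular (φ ∘ f) := by
  letI := φ.toAlgebra
  haveI : Module.Flat R R' := hφ
  intro a ha
  have h : ∑ i, f i • a i = 0 := by
    simpa [Algebra.smul_def, RingHom.algebraMap_toAlgebra, mul_comm] using ha
  obtain ⟨k, b, y, hay, hfb⟩ := Module.Flat.isTrivialRelation_of_sum_smul_eq_zero h
  set T := Submodule.span R' {v : Fin c → R' | ∃ i j : Fin c,
    v = Pi.single i ((φ ∘ f) j) - Pi.single j ((φ ∘ f) i)} with hT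
  have hmap : ∀ v : Fin c → R, v ∈ Submodule.span R
      {v : Fin c → R | ∃ i j : Fin c, v = Pi.single i (f j) - Pi.single j (f i)} → φ ∘ v ∈ T := by
    intro v hv
    induction hv using Submodule.span_induction with
    | mem x hx =>
      obtain ⟨i, j, rfl⟩ := hx
      refine Submodule.subset_span ⟨i, j, funext fun l => ?_⟩
      simp [Pi.single_apply, apply_ite φ]
    | zero => convert T.zero_mem; ext; simp
    | add x z _ _ hx hz => convert T.add_mem hx hz using 1; ext; simp
    | smul r x _ hx => convert T.smul_mem (φ r) hx using 1; ext; simp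
  have ha' : a = ∑ j, y j • (φ ∘ fun i => b i j) := by
    funext i
    rw [hay i, Finset.sum_apply]
    exact Finset.sum_congr rfl fun j _ => mul_comm _ _
  rw [ha']
  exact Submodule.sum_mem _ fun j _ => T.smul_mem _ (hmap _ (hf _ (by simpa [mul_comm] using hfb j)))

omit hφ in
theorem eval_eq_sum {S : Type u} [CommRing S] {c : ℕ} (g : Fin c → S) (P : MvPolynomial (Fin c) S) :
    eval g P = ∑ m : P.support, P.coeff m.1 * ∏ i, g i ^ (m.1 i) := by
  rw [eval_eq']
  exact (Finset.sum_coe_sort P.support fun m => P.coeff m * ∏ i, g i ^ (m i)).symm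

include hφ in
theorem isQuasiRegular_map {c : ℕ} {f : Fin c → R} (hf : CAlgX.IsQuasiRegular f) :
    CAlgX.IsQuasiRegular (φ ∘ f) := by
  classical
  letI := φ.toAlgebra
  haveI : Module.Flat R R' := hφ
  intro n P hP hval d
  by_cases hd : P.coeff d = 0
  · rw [hd]; exact zero_mem _
  obtain ⟨Q, hQ, hQe⟩ := (Ideal.mem_span_pow_iff_exists_isHomogeneous _ _).1 hval
  let mon : (Fin c →₀ ℕ) → R := fun m => ∏ i, f i ^ (m i)
  let a : P.support ⊕ Q.support → R := Sum.elim (fun m => mon m.1) (fun m => -mon m.1)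
  let x : P.support ⊕ Q.support → R' := Sum.elim (fun m => P.coeff m.1) (fun m => Q.coeff m.1)
  have h : ∑ i, a i • x i = 0 := by
    rw [Fintype.sum_sum_type]
    have h1 : ∀ (S : MvPolynomial (Fin c) R'), ∑ m : S.support, mon m.1 • S.coeff m.1 = eval (φ ∘ f) S := by
      intro S
      rw [eval_eq_sum]
      refine Finset.sum_congr rfl fun m _ => ?_
      rw [Algebra.smul_def, mul_comm]
      simp [mon, RingHom.algebraMap_toAlgebra]
    simp only [a, x, Sum.elim_inl, Sum.elim_inr, neg_smul, Finset.sum_neg_distrib, h1, hQe, add_neg_cancel]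
  obtain ⟨k, b, y, hxy, hab⟩ := Module.Flat.isTrivialRelation_of_sum_smul_eq_zero h
  have hdm : d ∈ P.support := mem_support_iff.2 hd
  have hmem : ∀ j, b (Sum.inl ⟨d, hdm⟩) j ∈ Ideal.span (Set.range f) := by
    intro j
    let Pj : MvPolynomial (Fin c) R := ∑ m : P.support, monomial m.1 (b (Sum.inl m) j)
    let Qj : MvPolynomial (Fin c) R := ∑ m : Q.support, monomial m.1 (b (Sum.inr m) j)
    have hPj : Pj.IsHomogeneous n := IsHomogeneous.sum _ _ _ fun m _ =>
      isHomogeneous_monomial _ (by simpa [Finsupp.degree_eq_weight_one, Pi.one_def] using hP (mem_support_iff.1 m.2))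
    have hQj : Qj.IsHomogeneous (n + 1) := IsHomogeneous.sum _ _ _ fun m _ =>
      isHomogeneous_monomial _ (by simpa [Finsupp.degree_eq_weight_one, Pi.one_def] using hQ (mem_support_iff.1 m.2))
    have hev : eval f Pj = eval f Qj := by
      have := hab j
      rw [Fintype.sum_sum_type] at this
      simp only [a, Sum.elim_inl, Sum.elim_inr, neg_mul, Finset.sum_neg_distrib, add_neg_eq_zero] at this
      simpa [Pj, Qj, eval_monomial, Finsupp.prod_fintype, mon, mul_comm] using this
    have := hf n Pj hPj (hev ▸ (Ideal.mem_span_pow_iff_exists_isHomogeneous _ _).2 ⟨Qj, hQj, rfl⟩) d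
    simp only [Pj, coeff_sum, coeff_monomial] at this
    rwa [Finset.sum_eq_single (⟨d, hdm⟩ : P.support) (fun m _ hm => if_neg fun h => hm (Subtype.ext h))
      (fun h => (h (Finset.mem_univ _)).elim), if_pos rfl] at this
  have := hxy (Sum.inl ⟨d, hdm⟩)
  simp only [x, Sum.elim_inl] at this
  rw [this]
  refine Ideal.sum_mem _ fun j _ => ?_
  rw [Algebra.smul_def, RingHom.algebraMap_toAlgebra, Set.range_comp, ← Ideal.map_span]
  exact Ideal.mul_mem_right _ _ (Ideal.mem_map_of_mem φ (hmem j))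

omit hφ in
theorem get_map_eq (rs : List R) :
    (rs.map φ).get = (φ ∘ rs.get) ∘ Fin.cast (List.length_map (f := φ)) := by
  funext i
  simp

omit hφ in
theorem isH1Regular_cast {c c' : ℕ} (e : c' = c) {g : Fin c → R'} (h : CAlgX.IsH1Regular g) :
    CAlgX.IsH1Regular (g ∘ Fin.cast e) := by
  subst e; exact h

omit hφ in
theorem isQuasiRegular_cast {c c' : ℕ} (e : c' = c) {g : Fin c → R'} (h : CAlgX.IsQuasiRegular g) :
    CAlgX.IsQuasiRegular (g ∘ Fin.cast e) := by
  subst e; exact h

include hφ in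
theorem seq_map (k : RegImm.Kind) (rs : List R) (h : k.Seq R rs)
    (hne : Ideal.ofList (rs.map φ) ≠ ⊤) : k.Seq R' (rs.map φ) := by
  cases k with
  | regular =>
    letI := φ.toAlgebra
    haveI : Module.Flat R R' := hφ
    exact ⟨RingTheory.Sequence.IsWeaklyRegular.of_flat h.toIsWeaklyRegular, by
      rw [Ideal.smul_top_eq_map, Algebra.algebraMap_self, Ideal.map_id]
      exact fun e => hne (by simpa using e.symm)⟩
  | koszul => exact Groth.L07.KoszulFlat.isKoszulRegularSeq_map φ hφ rs h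
  | h1 =>
    show CAlgX.IsH1Regular _
    rw [get_map_eq]
    exact isH1Regular_cast _ (isH1Regular_map φ hφ h)
  | quasi =>
    show CAlgX.IsQuasiRegular _
    rw [get_map_eq]
    exact isQuasiRegular_cast _ (isQuasiRegular_map φ hφ h)

end Groth.L03.RegImmFlat

namespace Groth.L03.RegImmFlat

/-- Flat base change of a regular immersion of any kind. -/
theorem isRegularImmersion_baseChange {X Y X' Y' : Scheme.{u}} (k : RegImm.Kind) (i : Y ⟶ X) (g : X' ⟶ X) [Flat g]
    (i' : Y' ⟶ X') (g' : Y' ⟶ Y) (hsq : IsPullback g' i' i g)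
    (hi : RegImm.IsRegularImmersion k i) : RegImm.IsRegularImmersion k i' := by
  haveI := hi.1
  refine ⟨MorphismProperty.of_isPullback hsq hi.1, fun z => ?_⟩
  obtain ⟨⟨W, hW⟩, hzW, hcl, rs, hrs, hker⟩ := hi.2 (g' z)
  have hz : i' z ∈ g ⁻¹ᵁ W := by
    show g (i' z) ∈ W
    rw [show g (i' z) = i (g' z) from (congrArg (fun m : Y' ⟶ X => m z) hsq.w).symm]
    exact hzW
  obtain ⟨_, ⟨W', hW', rfl⟩, hzW', hle⟩ := X'.isBasis_affineOpens.exists_subset_of_mem_open hz (g ⁻¹ᵁ W).2
  haveI : IsClosedImmersion (i ∣_ W) := hcl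
  haveI : IsAffine (W : Scheme.{u}) := hW
  have hUY : i' ⁻¹ᵁ W' = g' ⁻¹ᵁ (i ⁻¹ᵁ W) ⊓ i' ⁻¹ᵁ W' := by
    rw [eq_comm, inf_eq_right]
    intro y hy
    show i (g' y) ∈ W
    rw [show i (g' y) = g (i' y) from congrArg (fun m : Y' ⟶ X => m y) hsq.w]
    exact hle hy
  have hUX : IsAffineOpen (i ⁻¹ᵁ W) := isAffine_of_isAffineHom (i ∣_ W)
  have hσ : Function.Surjective (i.appLE W (i ⁻¹ᵁ W) le_rfl).hom := by
    rw [← Scheme.Hom.app_eq_appLE]
    have h3 : Function.Surjective ((i ∣_ W).appTop).hom := (i ∣_ W).app_surjective ⊤ (isAffineOpen_top _)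
    rw [morphismRestrict_appTop] at h3
    have h4 : Function.Surjective (i.app (W.ι ''ᵁ ⊤)).hom :=
      Function.Surjective.of_comp_left (f := Y.presheaf.map (eqToHom (image_morphismRestrict_preimage i W ⊤)).op) h3
        (ConcreteCategory.bijective_of_isIso _).1
    have key : ∀ W₀ : X.Opens, W₀ = W → Function.Surjective (i.app W₀).hom →
        Function.Surjective (i.app W).hom := by rintro W₀ rfl h; exact h
    exact key _ W.ι_image_top h4
  have hcl' : IsClosedImmersion (i' ∣_ W') := by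
    have hp := Scheme.Hom.isPullback_resLE hsq hle (le_rfl : i ⁻¹ᵁ W ≤ i ⁻¹ᵁ W) hUY
    rw [Scheme.Hom.resLE_eq_morphismRestrict, Scheme.Hom.resLE_eq_morphismRestrict] at hp
    exact MorphismProperty.of_isPullback hp hcl
  have hpush := (isIso_pushoutSection_iff hsq hle (le_rfl : i ⁻¹ᵁ W ≤ i ⁻¹ᵁ W) hUY).mp
    (isIso_pushoutSection_of_isAffineOpen hsq hle le_rfl hUY hW hW' hUX)
  have hk : RingHom.ker (i'.app W').hom = Ideal.ofList (rs.map (g.appLE W W' hle).hom) := by
    have hk := Groth.L07.RegImmBC.ker_of_isPushout hpush hσ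
    simp only [← Scheme.Hom.app_eq_appLE] at hk
    rw [hk, hker, Ideal.map_ofList]
  have hne : Ideal.ofList (rs.map (g.appLE W W' hle).hom) ≠ ⊤ := by
    rw [← hk]
    haveI : Nonempty (i' ⁻¹ᵁ W').toScheme := ⟨⟨z, hzW'⟩⟩
    haveI := Scheme.component_nontrivial Y' (i' ⁻¹ᵁ W')
    exact RingHom.ker_ne_top _
  exact ⟨⟨W', hW'⟩, hzW', hcl', rs.map (g.appLE W W' hle).hom,
    seq_map _ (Flat.flat_appLE g hW hW' hle) k rs hrs hne, hk⟩

end Groth.L03.RegImmFlat
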