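import Groth.Agent.L03.FieldFS
import Groth.Agent.L03.SepField
import Mathlib.RingTheory.Artinian.Module
import Mathlib.RingTheory.Artinian.Ring
import Mathlib.RingTheory.HopkinsLevitzki
import Mathlib.RingTheory.Nilpotent.GeometricallyReduced
import Mathlib.RingTheory.Nakayama
import Mathlib.RingTheory.LocalRing.ResidueField.Basic
import Mathlib.FieldTheory.Perfect
import Mathlib.Algebra.Field.ZMod
import Mathlib.Algebra.Field.Subfield.Basic
import Mathlib.LinearAlgebra.Dual.Lemmas
import Mathlib.RingTheory.TensorProduct.Finite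
import Mathlib.RingTheory.Spectrum.Maximal.Basic

/-!
For fields, formally smooth = geometrically reduced; finite tests for geometric reducedness.
-/

set_option autoImplicit false
universe u

namespace Groth.L03.GeomReduced
open TensorProduct

theorem perfectField_bot (K : Type u) [Field K] : PerfectField (⊥ : Subfield K) := by
  rcases CharP.exists' K with hz | ⟨p, hp, hpK⟩
  · infer_instance
  · haveI := hp
    haveI : Finite (⊥ : Subfield K) := by
      have h1 : (⊥ : Subfield K) ≤ (ZMod.castHom dvd_rfl K : ZMod p →+* K).fieldRange := bot_le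
      exact Set.Finite.to_subtype ((Set.finite_range _).subset h1)
    infer_instance

section artinian

variable (k₀ : Type u) [Field k₀] [PerfectField k₀]

theorem maximalIdeal_eq_bot (A : Type u) [CommRing A] [IsLocalRing A] [IsArtinianRing A] [Algebra k₀ A]
    [Algebra.FormallySmooth k₀ A] : IsLocalRing.maximalIdeal A = ⊥ := by
  by_contra hne
  let m := IsLocalRing.maximalIdeal A
  let F := IsLocalRing.ResidueField A
  have hsq : ¬ m ≤ m ^ 2 := fun h => hne (Submodule.eq_bot_of_le_smul_of_le_jacobson_bot m m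
    (IsNoetherian.noetherian m) (by rwa [smul_eq_mul, ← pow_two]) (IsLocalRing.maximalIdeal_le_jacobson _))
  obtain ⟨x, hx, hx2⟩ := SetLike.not_le_iff_exists.1 hsq
  haveI : Algebra.FormallySmooth k₀ F := Groth.L03.FieldFS.formallySmooth_of_perfectField k₀ F
  have hf : Function.Surjective (algebraMap A F) := IsLocalRing.residue_surjective
  have hker : RingHom.ker (algebraMap A F) = m := IsLocalRing.ker_residue
  have hinj := (Algebra.FormallySmooth.kerCotangentToTensor_injective_iff (R := k₀) hf).2 inferInstance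
  have hne' : (1 : F) ⊗ₜ[A] KaehlerDifferential.D k₀ A x ≠ 0 := fun h => by
    refine hx2 ?_
    have h1 : (RingHom.ker (algebraMap A F)).toCotangent ⟨x, hker.symm ▸ hx⟩ = 0 := hinj (by rw [map_zero]; exact h)
    have h2 := (Ideal.toCotangent_eq_zero _ _).1 h1
    simp only [hker] at h2
    exact h2
  obtain ⟨lam, hlam⟩ : ∃ lam : Module.Dual F (F ⊗[A] KaehlerDifferential k₀ A), lam ((1 : F) ⊗ₜ[A] KaehlerDifferential.D k₀ A x) ≠ 0 := by
    by_contra h
    push Not at h
    exact hne' ((Module.forall_dual_apply_eq_zero_iff F _).1 h)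
  let d : A → F := fun a => lam ((1 : F) ⊗ₜ[A] KaehlerDifferential.D k₀ A a)
  have hd_add : ∀ a b, d (a + b) = d a + d b := fun a b => by simp [d, TensorProduct.tmul_add]
  have hd_mul : ∀ a b, d (a * b) = algebraMap A F a * d b + algebraMap A F b * d a := fun a b => by
    simp only [d, Derivation.leibniz, TensorProduct.tmul_add, TensorProduct.tmul_smul, map_add]
    rw [← IsScalarTower.algebraMap_smul F a, ← IsScalarTower.algebraMap_smul F b, map_smul, map_smul, smul_eq_mul, smul_eq_mul]
  have hd_alg : ∀ c : k₀, d (algebraMap k₀ A c) = 0 := fun c => by simp [d]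
  let mk2 : Polynomial F →+* Polynomial F ⧸ Ideal.span {(Polynomial.X : Polynomial F) ^ 2} := Ideal.Quotient.mk _
  let θ₀ : A → Polynomial F ⧸ Ideal.span {(Polynomial.X : Polynomial F) ^ 2} := fun a =>
    mk2 (Polynomial.C (algebraMap A F a) + Polynomial.C (d a) * Polynomial.X)
  have hθ1 : θ₀ 1 = 1 := by
    have h0 : d 1 = 0 := by simpa using hd_alg 1
    simp [θ₀, h0]
  let θ : A →ₐ[k₀] Polynomial F ⧸ Ideal.span {(Polynomial.X : Polynomial F) ^ 2} :=
    { toFun := θ₀
      map_one' := hθ1
      map_mul' := fun a b => by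
        simp only [θ₀, hd_mul, map_mul, map_add]
        have hX : mk2 Polynomial.X * mk2 Polynomial.X = 0 := by
          rw [← map_mul, ← pow_two]
          exact Ideal.Quotient.eq_zero_iff_mem.2 (Ideal.mem_span_singleton_self _)
        linear_combination (-(mk2 (Polynomial.C (d a)) * mk2 (Polynomial.C (d b)))) * hX
      map_zero' := by
        have h0 : d 0 = 0 := by simp [d]
        simp [θ₀, h0]
      map_add' := fun a b => by
        simp only [θ₀, hd_add, map_add, add_mul]
        ring
      commutes' := fun c => by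
        simp only [θ₀, hd_alg, map_zero, zero_mul, add_zero, ← IsScalarTower.algebraMap_apply]
        rfl }
  obtain ⟨j, hj⟩ : IsNilpotent m := by
    have := IsArtinianRing.isNilpotent_jacobson_bot (R := A)
    rwa [IsLocalRing.jacobson_eq_maximalIdeal ⊥ bot_ne_top] at this
  have hxj : x ^ j = 0 := by
    have := Ideal.pow_mem_pow hx j
    rw [hj] at this
    exact this
  let N := Ideal.span {(Polynomial.X : Polynomial F) ^ (j + 2)}
  have hle : N ≤ Ideal.span {(Polynomial.X : Polynomial F) ^ 2} :=
    Ideal.span_singleton_le_span_singleton.2 (pow_dvd_pow _ (by omega))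
  let π : Polynomial F ⧸ N →ₐ[k₀] Polynomial F ⧸ Ideal.span {(Polynomial.X : Polynomial F) ^ 2} :=
    Ideal.Quotient.factorₐ k₀ hle
  have hπs : Function.Surjective π := Ideal.Quotient.factor_surjective hle
  have hπn : IsNilpotent (RingHom.ker π.toRingHom) := ⟨j + 2, by
    rw [Ideal.zero_eq_bot, eq_bot_iff]
    have h1 : RingHom.ker π.toRingHom ≤ (Ideal.span {(Polynomial.X : Polynomial F)}).map (Ideal.Quotient.mk N) := by
      intro y hy
      obtain ⟨p, rfl⟩ := Ideal.Quotient.mk_surjective y
      have h2 : p ∈ Ideal.span {(Polynomial.X : Polynomial F) ^ 2} := Ideal.Quotient.eq_zero_iff_mem.1 hy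
      exact Ideal.mem_map_of_mem _ (Ideal.span_singleton_le_span_singleton.2 (dvd_pow_self _ two_ne_zero) h2)
    refine (Ideal.pow_right_mono h1 _).trans ?_
    rw [← Ideal.map_pow, Ideal.span_singleton_pow, Ideal.map_quotient_self]⟩
  let ψ := Algebra.FormallySmooth.liftOfSurjective θ π hπs hπn
  have hψ : π (ψ x) = θ x := AlgHom.congr_fun (Algebra.FormallySmooth.comp_liftOfSurjective θ π hπs hπn) x
  obtain ⟨p, hp⟩ := Ideal.Quotient.mk_surjective (ψ x)
  rw [← hp] at hψ
  have hx0 : algebraMap A F x = 0 := (IsLocalRing.residue_eq_zero_iff x).2 hx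
  have h3 : p - Polynomial.C (d x) * Polynomial.X ∈ Ideal.span {(Polynomial.X : Polynomial F) ^ 2} := by
    rw [← Ideal.Quotient.eq]
    refine hψ.trans ?_
    show mk2 _ = _
    rw [hx0, map_zero, zero_add]
  obtain ⟨r, hr⟩ := Ideal.mem_span_singleton.1 h3
  have h4 : p ^ j ∈ N := by
    rw [← Ideal.Quotient.eq_zero_iff_mem, map_pow, hp, ← map_pow, hxj, map_zero]
  rw [show p = Polynomial.X * (Polynomial.C (d x) + Polynomial.X * r) by linear_combination hr, mul_pow,
    Ideal.mem_span_singleton, pow_add, mul_dvd_mul_iff_left (pow_ne_zero _ Polynomial.X_ne_zero)] at h4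
  have h5 := Polynomial.X_dvd_iff.1 ((dvd_pow_self _ two_ne_zero).trans h4)
  rw [Polynomial.coeff_zero_eq_eval_zero] at h5
  simp only [Polynomial.eval_pow, Polynomial.eval_add, Polynomial.eval_C, Polynomial.eval_mul, Polynomial.eval_X,
    zero_mul, add_zero] at h5
  exact hlam (eq_zero_of_pow_eq_zero h5)

theorem isReduced_of_formallySmooth (A : Type u) [CommRing A] [IsArtinianRing A] [Algebra k₀ A]
    [Algebra.FormallySmooth k₀ A] : IsReduced A := by
  refine ⟨fun x hx => ?_⟩
  by_contra hne
  let I : Ideal A := Ideal.torsionOf A A x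
  have hI : I ≠ ⊤ := fun h => hne (by simpa [I, Ideal.torsionOf_eq_top_iff] using h)
  obtain ⟨M, hM, hIM⟩ := Ideal.exists_le_maximal I hI
  haveI : Algebra.FormallySmooth A (Localization.AtPrime M) := .of_isLocalization M.primeCompl
  haveI : Algebra.FormallySmooth k₀ (Localization.AtPrime M) := .comp k₀ A _
  haveI : IsArtinianRing (Localization.AtPrime M) := inferInstance
  have h0 : algebraMap A (Localization.AtPrime M) x = 0 := by
    have h1 : algebraMap A (Localization.AtPrime M) x ∈ IsLocalRing.maximalIdeal (Localization.AtPrime M) :=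
      (IsLocalRing.mem_maximalIdeal _).2 (hx.map (algebraMap A (Localization.AtPrime M))).not_isUnit
    rw [maximalIdeal_eq_bot k₀ (Localization.AtPrime M)] at h1
    exact h1
  obtain ⟨⟨c, hc⟩, hcx⟩ := (IsLocalization.map_eq_zero_iff M.primeCompl _ x).1 h0
  exact hc (hIM (by rw [Ideal.mem_torsionOf_iff, smul_eq_mul]; exact hcx))

end artinian

theorem isReduced_tensor (k K k' : Type u) [Field k] [Field K] [Field k'] [Algebra k K] [Algebra k k']
    [Module.Finite k k'] [Algebra.FormallySmooth k K] : IsReduced (k' ⊗[k] K) := by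
  haveI := perfectField_bot k'
  haveI : IsArtinianRing (K ⊗[k] k') := IsArtinianRing.of_finite K _
  haveI : IsArtinianRing (k' ⊗[k] K) :=
    (Algebra.TensorProduct.comm k K k').toRingEquiv.surjective.isArtinianRing
  haveI : Algebra.FormallySmooth (⊥ : Subfield k') k' := Groth.L03.FieldFS.formallySmooth_of_perfectField _ _
  haveI : Algebra.FormallySmooth (⊥ : Subfield k') (k' ⊗[k] K) := .comp _ k' _
  exact isReduced_of_formallySmooth (⊥ : Subfield k') (k' ⊗[k] K)

theorem exists_finite_mem_range (k K : Type u) [Field k] [CommRing K] [Algebra k K] (Ω : Type u) [Field Ω]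
    [Algebra k Ω] [Algebra.IsAlgebraic k Ω] (z : Ω ⊗[k] K) :
    ∃ L : IntermediateField k Ω, Module.Finite k L ∧
      ∃ w : L ⊗[k] K, Algebra.TensorProduct.map L.val (AlgHom.id k K) w = z := by
  induction z using TensorProduct.induction_on with
  | zero => exact ⟨⊥, inferInstance, 0, map_zero _⟩
  | tmul a b =>
    exact ⟨IntermediateField.adjoin k {a}, IntermediateField.adjoin.finiteDimensional (Algebra.IsIntegral.isIntegral a),
      ⟨a, IntermediateField.subset_adjoin k _ rfl⟩ ⊗ₜ b, rfl⟩
  | add a b ha hb =>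
    obtain ⟨L₁, h₁, w₁, rfl⟩ := ha
    obtain ⟨L₂, h₂, w₂, rfl⟩ := hb
    haveI := h₁; haveI := h₂
    refine ⟨L₁ ⊔ L₂, IntermediateField.finiteDimensional_sup L₁ L₂,
      Algebra.TensorProduct.map (IntermediateField.inclusion (le_sup_left : L₁ ≤ L₁ ⊔ L₂)) (AlgHom.id k K) w₁ +
      Algebra.TensorProduct.map (IntermediateField.inclusion (le_sup_right : L₂ ≤ L₁ ⊔ L₂)) (AlgHom.id k K) w₂, ?_⟩
    rw [map_add, ← AlgHom.comp_apply, ← AlgHom.comp_apply, ← Algebra.TensorProduct.map_comp, ← Algebra.TensorProduct.map_comp]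
    rfl

/-- Geometric reducedness can be tested on finite field extensions. -/
theorem isGeometricallyReduced_of_finite (k K : Type u) [Field k] [CommRing K] [Algebra k K]
    (H : ∀ (k' : Type u) [Field k'] [Algebra k k'], Module.Finite k k' → IsReduced (k' ⊗[k] K)) :
    Algebra.IsGeometricallyReduced k K := by
  rw [Algebra.isGeometricallyReduced_field_iff]
  refine ⟨fun z hz => ?_⟩
  obtain ⟨L, hL, w, rfl⟩ := exists_finite_mem_range k K (AlgebraicClosure k) z
  haveI := H L hL
  have hinj : Function.Injective (Algebra.TensorProduct.map L.val (AlgHom.id k K)) :=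
    Module.Flat.rTensor_preserves_injective_linearMap L.val.toLinearMap L.val.injective
  rw [IsNilpotent.eq_zero ((IsNilpotent.map_iff hinj).1 hz), map_zero]

theorem formallySmooth_iff (k K : Type u) [Field k] [Field K] [Algebra k K] :
    Algebra.FormallySmooth k K ↔ Algebra.IsGeometricallyReduced k K := by
  refine ⟨fun h => isGeometricallyReduced_of_finite k K fun k' _ _ hk' => ?_,
    fun h => Groth.L03.FieldFS.formallySmooth_of_forall_fg k K fun L hL => ?_⟩
  · haveI := hk'
    exact isReduced_tensor k K k'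
  · haveI : Algebra.EssFiniteType k L := IntermediateField.essFiniteType_iff.2 hL
    haveI : Algebra.IsGeometricallyReduced k L := .of_injective L.val L.val.injective
    exact Groth.L03.SepField.formallySmooth_of_essFiniteType k L

end Groth.L03.GeomReduced
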