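import Groth.Agent.L03.RefRegSch
import Groth.Agent.L21.Mod.Stalks

/-!
Normal torsion free modules and reflexive modules on regular schemes.
-/

set_option autoImplicit false
set_option linter.style.haveILetI false

universe u

open CategoryTheory CategoryTheory.Limits AlgebraicGeometry TopologicalSpace Opposite

noncomputable section

namespace Groth.L03.RefNormal

open Groth.L18.Frame (rs ro)
open Groth.L15.Ref

variable {X : Scheme.{u}}

/-- Sections with germs in the image of a stalkwise injective map lift. -/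
theorem exists_lift_of_stalk {F G : X.Modules} (φ : F ⟶ G)
    (hinj : ∀ y : X, Function.Injective (RefHull.stalkMapₗ φ y)) {U : X.Opens} (d : Γ(G, U))
    (h : ∀ (y : X) (hy : y ∈ U), G.presheaf.germ U y hy d ∈ Set.range (RefHull.stalkMapₗ φ y)) :
    ∃ m : Γ(F, U), φ.app U m = d := by
  have hsec : ∀ {W : X.Opens} (a b : Γ(F, W)), φ.app W a = φ.app W b → a = b := fun {W} a b hab =>
    Groth.L15.Ref.sec_ext fun y hy => hinj y (by rw [RefHull.stalkMapₗ_germ, RefHull.stalkMapₗ_germ, hab])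
  have hnat : ∀ {W W' : X.Opens} (hle : W' ≤ W) (a : Γ(F, W)), φ.app W' (rs F hle a) = rs G hle (φ.app W a) :=
    fun hle a => Groth.L15.Ref.sec_ext fun y hy => by
      rw [← RefHull.stalkMapₗ_germ, Groth.L20.ModStalk.germ_rs, Groth.L20.ModStalk.germ_rs, RefHull.stalkMapₗ_germ]
  have hloc : ∀ y : U, ∃ (W : X.Opens) (hW : W ≤ U) (a : Γ(F, W)), y.1 ∈ W ∧ φ.app W a = rs G hW d := by
    rintro ⟨y, hy⟩
    obtain ⟨v, hv⟩ := h y hy
    obtain ⟨A, hA, hyA, a, rfl⟩ := Groth.L15.Ref.exists_rep (M := F) hy v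
    rw [RefHull.stalkMapₗ_germ, ← Groth.L20.ModStalk.germ_rs G hA hyA d] at hv
    obtain ⟨W, hyW, i₁, i₂, h2⟩ := TopCat.Presheaf.germ_eq G.presheaf y hyA hyA _ _ hv
    refine ⟨W, i₁.le.trans hA, rs F i₁.le a, hyW, ?_⟩
    have h3 : rs G i₁.le (φ.app A a) = rs G i₁.le (rs G hA d) := h2
    rw [hnat, h3, Groth.L18.Frame.rs_rs]
  choose W hW a hyW ha using hloc
  obtain ⟨m, hm⟩ := Groth.L16.HomSh.exists_glue F W hW (fun y hy => Opens.mem_iSup.2 ⟨⟨y, hy⟩, hyW ⟨y, hy⟩⟩) a
    (fun p q => hsec _ _ (by rw [hnat, hnat, ha, ha, Groth.L18.Frame.rs_rs, Groth.L18.Frame.rs_rs]))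
  refine ⟨m, Groth.L15.Ref.sec_ext fun y hy => ?_⟩
  rw [← Groth.L20.ModStalk.germ_rs G (hW ⟨y, hy⟩) (hyW ⟨y, hy⟩),
    ← Groth.L20.ModStalk.germ_rs G (hW ⟨y, hy⟩) (hyW ⟨y, hy⟩) d, ← hnat, hm, ha]

variable [IsIntegral X] [IsLocallyNoetherian X]

theorem eta_mem_of_cond {U V : X.Opens}
    (hc : ∀ x : X, x ∈ U → x ∉ V → (2 : WithBot ℕ∞) ≤ ringKrullDim (X.presheaf.stalk x))
    (hη : genericPoint ↥X ∈ U) : genericPoint ↥X ∈ V := by
  by_contra h
  have h2 := hc _ hη h
  rw [ringKrullDim_eq_zero_of_isField (Field.toIsField X.functionField)] at h2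
  exact absurd h2 (by decide)

theorem injective_res {F : X.Modules} [Coh.IsQCoh F]
    (htf : ∀ x : X, Module.IsTorsionFree (X.presheaf.stalk x) (F.presheaf.stalk x)) {U V : X.Opens}
    (hVU : V ≤ U) (hc : ∀ x : X, x ∈ U → x ∉ V → (2 : WithBot ℕ∞) ≤ ringKrullDim (X.presheaf.stalk x)) :
    Function.Injective (F.presheaf.map (homOfLE hVU).op) := by
  intro a b h
  refine germ_eta_injective htf fun hη => ?_
  have hV := eta_mem_of_cond hc hη
  have h1 := congrArg (F.presheaf.germ V _ hV) (show rs F hVU a = rs F hVU b from h)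
  rwa [Groth.L20.ModStalk.germ_rs, Groth.L20.ModStalk.germ_rs] at h1

theorem bijective_res (hreg : ∀ x : X, IsRegularLocalRing (X.presheaf.stalk x)) {F : X.Modules}
    (hF : Coh.IsCoh F) (hr : RefHull.IsReflexive F) {U V : X.Opens}
    (hVU : V ≤ U) (hc : ∀ x : X, x ∈ U → x ∉ V → (2 : WithBot ℕ∞) ≤ ringKrullDim (X.presheaf.stalk x)) :
    Function.Bijective (F.presheaf.map (homOfLE hVU).op) := by
  haveI : Coh.IsQCoh F := hF.1
  refine ⟨injective_res (isTorsionFree_stalk hF hr) hVU hc, fun m => ?_⟩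
  by_cases hη : genericPoint ↥X ∈ U
  · have hV := eta_mem_of_cond hc hη
    obtain ⟨n, hn⟩ := exists_section (Groth.L03.RefRegSch.isNormalScheme hreg) hF hr (W := U)
      (F.presheaf.germ V _ hV m) fun z hz hzc => by
        have hzV : z ∈ V := by
          by_contra h
          have h2 := hc z hz h
          rw [(coheight_eq_one_iff z).2 hzc] at h2
          exact absurd h2 (by decide)
        exact ⟨F.presheaf.germ V z hzV m, toEta_germ F hzV m⟩
    refine ⟨n, germ_eta_injective (isTorsionFree_stalk hF hr) fun hV' => ?_⟩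
    show F.presheaf.germ V _ hV' (rs F hVU n) = _
    rw [Groth.L20.ModStalk.germ_rs, hn hη]
  · have hUe : ∀ y, y ∉ U := fun y hy => hη (eta_mem hy)
    exact ⟨0, germ_eta_injective (isTorsionFree_stalk hF hr) fun hV' => absurd (hVU hV') (hUe _)⟩

theorem normal_of_sub (hreg : ∀ x : X, IsRegularLocalRing (X.presheaf.stalk x)) (S : ShortComplex X.Modules)
    (hS : S.ShortExact) (hF : Coh.IsCoh S.X₁) (hE : Coh.IsCoh S.X₂) (hQ : Coh.IsCoh S.X₃)
    (hEr : RefHull.IsReflexive S.X₂)
    (hQtf : ∀ x : X, Module.IsTorsionFree (X.presheaf.stalk x) (S.X₃.presheaf.stalk x)) {U V : X.Opens}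
    (hVU : V ≤ U) (hc : ∀ x : X, x ∈ U → x ∉ V → (2 : WithBot ℕ∞) ≤ ringKrullDim (X.presheaf.stalk x)) :
    Function.Bijective (S.X₁.presheaf.map (homOfLE hVU).op) := by
  haveI : Coh.IsQCoh S.X₁ := hF.1
  haveI : Coh.IsQCoh S.X₂ := hE.1
  haveI : Coh.IsQCoh S.X₃ := hQ.1
  haveI := hS.mono_f
  have hinj : ∀ y, Function.Injective (RefHull.stalkMapₗ S.f y) :=
    (Groth.L21.Mod.mono_iff_stalk_injective S.f).1 inferInstance
  have htf : ∀ y, Module.IsTorsionFree (X.presheaf.stalk y) (S.X₁.presheaf.stalk y) := fun y => by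
    haveI := isTorsionFree_stalk hE hEr y
    exact (hinj y).moduleIsTorsionFree _ (fun r v => map_smul _ r v)
  refine ⟨injective_res htf hVU hc, fun m => ?_⟩
  obtain ⟨e, he⟩ := (bijective_res hreg hE hEr hVU hc).2 (S.f.app V m)
  have hge : S.g.app U e = 0 := by
    refine germ_eta_injective hQtf fun hη => ?_
    have hV := eta_mem_of_cond hc hη
    rw [map_zero, ← RefHull.stalkMapₗ_germ, ← Groth.L20.ModStalk.germ_rs S.X₂ hVU hV,
      show rs S.X₂ hVU e = S.f.app V m from he, RefHull.stalkMapₗ_germ,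
      show S.g.app V (S.f.app V m) = (S.f ≫ S.g).app V m from rfl, S.zero]
    exact map_zero _
  obtain ⟨n, hn⟩ := exists_lift_of_stalk S.f hinj e fun y hy => by
    have h1 : RefHull.stalkMapₗ S.g y (S.X₂.presheaf.germ U y hy e) = 0 := by
      rw [RefHull.stalkMapₗ_germ, hge, map_zero]
    exact (ShortComplex.ab_exact_iff _).1
      (hS.map_of_exact (Groth.L21.Mod.stalkF X y)).exact _ h1
  refine ⟨n, Groth.L15.Ref.sec_ext fun y hy => hinj y ?_⟩
  rw [show S.X₁.presheaf.map (homOfLE hVU).op n = rs S.X₁ hVU n from rfl, Groth.L20.ModStalk.germ_rs,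
    RefHull.stalkMapₗ_germ, RefHull.stalkMapₗ_germ, hn, ← he]
  exact (Groth.L20.ModStalk.germ_rs S.X₂ hVU hy e).symm

theorem isReflexive_of_normal (hreg : ∀ x : X, IsRegularLocalRing (X.presheaf.stalk x)) {F : X.Modules}
    (hF : Coh.IsCoh F) (htf : ∀ x : X, Module.IsTorsionFree (X.presheaf.stalk x) (F.presheaf.stalk x))
    (hn : ∀ (U V : X.Opens) (hVU : V ≤ U),
      (∀ x : X, x ∈ U → x ∉ V → (2 : WithBot ℕ∞) ≤ ringKrullDim (X.presheaf.stalk x)) →
        Function.Bijective (F.presheaf.map (homOfLE hVU).op)) : RefHull.IsReflexive F := by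
  haveI : Coh.IsQCoh F := hF.1
  haveI := isQCoh_structureModule (X := X)
  let b := RefHull.bidualMap F
  have hD : Coh.IsCoh (RefHull.ddual F) := isCoh_dual (isCoh_dual hF)
  haveI : Coh.IsQCoh (RefHull.ddual F) := hD.1
  have hDtf := isTorsionFree_stalk hD (isReflexive_ddual hF)
  have hinj : ∀ y, Function.Injective (RefHull.stalkMapₗ b y) := fun y v w h => by
    haveI := htf y
    refine toEta_injective y (bidual_eta_injective hF ?_)
    rw [← toEta_stalkMapₗ, ← toEta_stalkMapₗ, h]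
  have hlow : ∀ z : X, ringKrullDim (X.presheaf.stalk z) ≤ (1 : ℕ) →
      Function.Surjective (RefHull.stalkMapₗ b z) := by
    intro z hz
    haveI := hreg z
    haveI := finite_stalk hF z
    haveI := htf z
    obtain ⟨d, hd⟩ : ∃ d : ℕ, ringKrullDim (X.presheaf.stalk z) = d := Groth.L01.exists_dim_eq_nat
    rw [hd] at hz
    have hd1 : d ≤ 1 := by exact_mod_cast hz
    haveI : Module.Free (X.presheaf.stalk z) (F.presheaf.stalk z) := by
      obtain ⟨n, f, hf⟩ := Groth.L03.Reflexive.exists_embedding (R := X.presheaf.stalk z) (F.presheaf.stalk z)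
      let Q := (Fin n → X.presheaf.stalk z) ⧸ LinearMap.range f
      have hQ : HasProjectiveDimensionLT (ModuleCat.of (X.presheaf.stalk z) Q) (1 + 1) := by
        haveI : HasProjectiveDimensionLE (ModuleCat.of (X.presheaf.stalk z) Q) d :=
          Groth.L04.hasProjectiveDimensionLE_of_regularLocal hd _
        exact hasProjectiveDimensionLT_of_ge _ (d + 1) _ (by omega)
      have hS1 := Groth.L04.shortExact_mk (N' := F.presheaf.stalk z) (N := Fin n → X.presheaf.stalk z)
        (N'' := Q) hf (Submodule.mkQ_surjective _) (LinearMap.exact_map_mkQ_range f)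
      haveI : Projective (ModuleCat.of (X.presheaf.stalk z) (Fin n → X.presheaf.stalk z)) :=
        (IsProjective.iff_projective (R := X.presheaf.stalk z) (Fin n → X.presheaf.stalk z)).1 inferInstance
      haveI : HasProjectiveDimensionLT (ModuleCat.of (X.presheaf.stalk z) (F.presheaf.stalk z)) 1 :=
        hS1.hasProjectiveDimensionLT_X₁ (n := 1)
          (show HasProjectiveDimensionLT (ModuleCat.of (X.presheaf.stalk z) (Fin n → X.presheaf.stalk z)) 1 from inferInstance) hQ
      haveI : Projective (ModuleCat.of (X.presheaf.stalk z) (F.presheaf.stalk z)) :=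
        projective_iff_hasProjectiveDimensionLT_one.2 inferInstance
      haveI : Module.Projective (X.presheaf.stalk z) (F.presheaf.stalk z) :=
        (IsProjective.iff_projective (R := X.presheaf.stalk z) (F.presheaf.stalk z)).2 inferInstance
      haveI : Module.FinitePresentation (X.presheaf.stalk z) (F.presheaf.stalk z) :=
        Module.finitePresentation_of_finite _ _
      exact Module.free_of_flat_of_isLocalRing
    have hbij := (bidualAt_bijective_iff hF z).2
      (inferInstanceAs (Module.IsReflexive (X.presheaf.stalk z) (F.presheaf.stalk z)))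
    rw [← stalkMapₗ_bidual] at hbij
    intro t
    obtain ⟨v, hv⟩ := hbij.2 (RefHull.evalStalk (RefHull.dual F) (Coh.structureModule X) z t)
    exact ⟨v, (evalStalk_bijective (RefHull.dual F) (Coh.structureModule X) (isCoh_dual hF) z).1 hv⟩
  rw [RefHull.IsReflexive, Groth.L21.Mod.isIso_iff_stalk_bijective]
  refine fun x => ⟨hinj x, fun t => ?_⟩
  obtain ⟨U, hxU, d, rfl⟩ := TopCat.Presheaf.exists_germ_eq (F := (RefHull.ddual F).presheaf) (x := x) t
  let V : X.Opens := ⟨{y | ∃ hy : y ∈ U, (RefHull.ddual F).presheaf.germ U y hy d ∈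
      Set.range (RefHull.stalkMapₗ b y)}, by
    rw [isOpen_iff_forall_mem_open]
    rintro y ⟨hy, v, hv⟩
    obtain ⟨A, hA, hyA, a, rfl⟩ := Groth.L15.Ref.exists_rep (M := F) hy v
    rw [RefHull.stalkMapₗ_germ, ← Groth.L20.ModStalk.germ_rs _ hA hyA d] at hv
    obtain ⟨W, hyW, i₁, i₂, h2⟩ := TopCat.Presheaf.germ_eq (RefHull.ddual F).presheaf y hyA hyA _ _ hv
    refine ⟨W, fun w hw => ⟨hA (i₁.le hw), F.presheaf.germ A w (i₁.le hw) a, ?_⟩, W.2, hyW⟩
    have h3 := congrArg ((RefHull.ddual F).presheaf.germ W w hw)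
      (show rs (RefHull.ddual F) i₁.le (b.app A a) = rs (RefHull.ddual F) i₁.le (rs _ hA d) from h2)
    rw [Groth.L20.ModStalk.germ_rs, Groth.L20.ModStalk.germ_rs, Groth.L20.ModStalk.germ_rs] at h3
    rw [RefHull.stalkMapₗ_germ]
    exact h3⟩
  have hVU : V ≤ U := fun y hy => hy.1
  have hc : ∀ y : X, y ∈ U → y ∉ V → (2 : WithBot ℕ∞) ≤ ringKrullDim (X.presheaf.stalk y) := by
    intro y hy hyV
    haveI := hreg y
    by_contra hlt
    refine hyV ⟨hy, hlow y ?_ _⟩
    obtain ⟨e, he⟩ : ∃ e : ℕ, ringKrullDim (X.presheaf.stalk y) = e := Groth.L01.exists_dim_eq_nat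
    rw [he] at hlt ⊢
    have : ¬ (2 ≤ e) := fun h => hlt (by exact_mod_cast h)
    exact_mod_cast (show e ≤ 1 by omega)
  obtain ⟨m, hm⟩ := exists_lift_of_stalk b hinj (rs _ hVU d) fun y hy => by
    rw [Groth.L20.ModStalk.germ_rs]
    obtain ⟨_, h⟩ := hy
    exact h
  obtain ⟨n, hn'⟩ := (hn U V hVU hc).2 m
  refine ⟨F.presheaf.germ U x hxU n, ?_⟩
  show RefHull.stalkMapₗ b x _ = _
  rw [RefHull.stalkMapₗ_germ]
  refine congrArg _ (germ_eta_injective hDtf fun hη => ?_)
  have hV := eta_mem_of_cond hc hη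
  rw [← RefHull.stalkMapₗ_germ, ← Groth.L20.ModStalk.germ_rs F hVU hV n,
    show rs F hVU n = m from hn', RefHull.stalkMapₗ_germ, hm, Groth.L20.ModStalk.germ_rs]

end Groth.L03.RefNormal
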