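import Groth.Agent.L03.RefRegAlg
import Groth.Agent.L03.RegularNormal
import Groth.Agent.L10.RegularUFD
import Groth.Agent.L15.Ref.Rank1
import Groth.Agent.L18.GenLocus

/-!
Reflexive coherent modules on integral schemes with regular local rings.
-/

set_option autoImplicit false
set_option linter.style.haveILetI false

universe u

open CategoryTheory CategoryTheory.Limits AlgebraicGeometry TopologicalSpace Opposite

noncomputable section

namespace Groth.L03.RefRegSch

open Groth.L18.Frame (rs ro IsFrame)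
open Groth.L15.Ref
open Groth.L15.CDivLib (am am_injective)

variable {X : Scheme.{u}} [IsIntegral X] [IsLocallyNoetherian X]

theorem isNormalScheme (hreg : ∀ x : X, IsRegularLocalRing (X.presheaf.stalk x)) : Pi1.IsNormalScheme X :=
  fun x => by
    haveI := hreg x
    exact ⟨inferInstance, Groth.L03.RegularNormal.isIntegrallyClosed _⟩

theorem free_stalk_of_dim_le_two (hreg : ∀ x : X, IsRegularLocalRing (X.presheaf.stalk x)) {F : X.Modules}
    (hF : Coh.IsCoh F) (hr : RefHull.IsReflexive F) {x : X}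
    (hd : ringKrullDim (X.presheaf.stalk x) ≤ (2 : ℕ)) :
    Module.Free (X.presheaf.stalk x) (F.presheaf.stalk x) := by
  haveI := hreg x
  haveI := finite_stalk hF x
  haveI : Module.IsReflexive (X.presheaf.stalk x) (F.presheaf.stalk x) := (isReflexive_iff_stalks hF).1 hr x
  exact Groth.L03.RefRegAlg.free_of_isReflexive hd _

/-- The coefficient of a germ on a generator of the generic stalk. -/
theorem exists_gen_stalk (hreg : ∀ x : X, IsRegularLocalRing (X.presheaf.stalk x)) {F : X.Modules}
    (hF : Coh.IsCoh F) (hr : RefHull.IsReflexive F) (hgen : RefHull.GenInvertible F) (x : X) :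
    ∃ u : F.presheaf.stalk x, toEta F x u ≠ 0 ∧
      Submodule.span (X.presheaf.stalk x) {u} = ⊤ := by
  classical
  haveI : Coh.IsQCoh F := hF.1
  haveI := hreg x
  haveI := finite_stalk hF x
  haveI := isTorsionFree_stalk hF hr x
  haveI : Module.IsReflexive (X.presheaf.stalk x) (F.presheaf.stalk x) := (isReflexive_iff_stalks hF).1 hr x
  haveI := Groth.L10.RegUFD.isUFD (X.presheaf.stalk x)
  let R := X.presheaf.stalk x
  obtain ⟨e, he⟩ := exists_gen_eta hgen
  choose c hc using fun v : F.presheaf.stalk x => he.2 (toEta F x v)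
  have hc' : ∀ v, (c v) • e = toEta F x v := hc
  let φ : F.presheaf.stalk x →ₗ[R] X.functionField :=
    { toFun := fun v => c v
      map_add' := fun v w => he.1 (by
        show _ • e = (c v + c w : X.presheaf.stalk (genericPoint ↥X)) • e
        rw [hc', map_add, add_smul, hc', hc'])
      map_smul' := fun r v => he.1 (by
        show _ • e = (am x r * c v : X.presheaf.stalk (genericPoint ↥X)) • e
        rw [hc', toEta_smul, mul_smul, hc']) }
  have hφ : Function.Injective φ := fun v w h => toEta_injective x (by rw [← hc', ← hc']; exact congrArg (· • e) h)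
  obtain ⟨G, hG⟩ := Module.Finite.fg_top (R := R) (M := F.presheaf.stalk x)
  obtain ⟨⟨d, hd⟩, hdG⟩ := IsLocalization.exist_integer_multiples_of_finset (nonZeroDivisors R) (G.image φ)
  have hmem : ∀ v, (d • φ) v ∈ LinearMap.range (Algebra.linearMap R X.functionField) := by
    intro v
    have hv : v ∈ Submodule.span R (G : Set (F.presheaf.stalk x)) := by rw [hG]; trivial
    refine (Submodule.span_le (p := (LinearMap.range (Algebra.linearMap R X.functionField)).comap (d • φ))).2 ?_ hv
    intro m hm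
    obtain ⟨a, ha⟩ := hdG (φ m) (Finset.mem_image_of_mem φ hm)
    exact ⟨a, ha⟩
  let j : F.presheaf.stalk x →ₗ[R] R := LinearMap.codRestrictOfInjective (d • φ)
    (Algebra.linearMap R X.functionField) (IsFractionRing.injective R X.functionField) hmem
  have hj : Function.Injective j := by
    intro v w h
    have h1 := congrArg (Algebra.linearMap R X.functionField) h
    rw [LinearMap.codRestrictOfInjective_comp_apply, LinearMap.codRestrictOfInjective_comp_apply,
      LinearMap.smul_apply, LinearMap.smul_apply] at h1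
    refine hφ ?_
    rw [Algebra.smul_def, Algebra.smul_def] at h1
    exact mul_left_cancel₀ ((map_ne_zero_iff _ (IsFractionRing.injective R X.functionField)).2
      (nonZeroDivisors.ne_zero hd)) h1
  haveI : Nontrivial (F.presheaf.stalk x) := by
    obtain ⟨a, v, ha, hv⟩ := exists_smul_mem_range (F := F) x e
    refine ⟨v, 0, fun h0 => ha ?_⟩
    rw [h0, map_zero] at hv
    exact (map_eq_zero_iff _ (am_injective x)).1 (he.1 (hv.trans (zero_smul _ _).symm))
  obtain ⟨E⟩ := Groth.L03.RefRegAlg.nonempty_equiv_of_embedding (F.presheaf.stalk x) j hj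
  refine ⟨E 1, fun h => one_ne_zero (E.injective ((toEta_injective x (h.trans (map_zero _).symm)).trans
    (map_zero E).symm)), eq_top_iff.2 fun v _ => Submodule.mem_span_singleton.2 ⟨E.symm v, ?_⟩⟩
  rw [← map_smul, smul_eq_mul, mul_one, LinearEquiv.apply_symm_apply]

/-- A torsion free coherent module generated by one element at a point is framed near the point. -/
theorem exists_frame {F : X.Modules} (hF : Coh.IsCoh F)
    (htf : ∀ y : X, Module.IsTorsionFree (X.presheaf.stalk y) (F.presheaf.stalk y)) {x : X}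
    (u : F.presheaf.stalk x) (hu0 : toEta F x u ≠ 0)
    (hu : Submodule.span (X.presheaf.stalk x) {u} = ⊤) :
    ∃ (W : X.Opens) (e : Γ(F, W)), x ∈ W ∧ IsFrame F W e := by
  classical
  haveI : Coh.IsQCoh F := hF.1
  obtain ⟨W₀, hxW₀, e₀, rfl⟩ := TopCat.Presheaf.exists_germ_eq (F := F.presheaf) (x := x) u
  obtain ⟨V, hV, hxV, hVW⟩ := exists_isAffineOpen_mem_and_subset (x := x) (U := W₀) hxW₀
  haveI := Groth.L20.ModStalk.finite_sections F hF hV
  obtain ⟨n, m, hm⟩ := Module.Finite.exists_fin (R := Γ(X, V)) (M := Γ(F, V))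
  have hloc : ∀ i : Fin n, ∃ (W : X.Opens) (hW : W ≤ V) (a : Γ(X, W)), x ∈ W ∧
      rs F hW (m i) = a • rs F (hW.trans hVW) e₀ := by
    intro i
    obtain ⟨r, hr⟩ := Submodule.mem_span_singleton.1 (hu.ge (Submodule.mem_top (x := F.presheaf.germ V x hxV (m i))))
    obtain ⟨A, hxA, a, rfl⟩ := TopCat.Presheaf.exists_germ_eq (F := X.presheaf) (x := x) r
    have hxW : x ∈ A ⊓ V := ⟨hxA, hxV⟩
    have h1 : F.presheaf.germ (A ⊓ V) x hxW (rs F inf_le_right (m i)) =
        F.presheaf.germ (A ⊓ V) x hxW (ro (inf_le_left : A ⊓ V ≤ A) a • rs F ((inf_le_right : A ⊓ V ≤ V).trans hVW) e₀) := by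
      rw [Groth.L20.ModStalk.germ_smul, Groth.L20.ModStalk.germ_rs, Groth.L20.ModStalk.germ_rs, ← hr]
      exact congrArg (· • _) (TopCat.Presheaf.germ_res_apply X.presheaf (homOfLE inf_le_left) x hxW a).symm
    obtain ⟨W, hxW', i₁, i₂, h2⟩ := TopCat.Presheaf.germ_eq F.presheaf x hxW hxW _ _ h1
    refine ⟨W, i₁.le.trans inf_le_right, ro i₁.le (ro inf_le_left a), hxW', ?_⟩
    have h3 : rs F i₁.le (rs F inf_le_right (m i)) =
        rs F i₁.le (ro inf_le_left a • rs F (inf_le_right.trans hVW) e₀) := h2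
    rw [Groth.L18.Frame.rs_smul, Groth.L18.Frame.rs_rs, Groth.L18.Frame.rs_rs] at h3
    exact h3
  choose Wi hWi ai hxi hai using hloc
  let W : X.Opens := V ⊓ Finset.univ.inf Wi
  have hxW : x ∈ W := ⟨hxV, by
    have key : ∀ s : Finset (Fin n), x ∈ s.inf Wi := fun s => by
      induction s using Finset.induction_on with
      | empty => rw [Finset.inf_empty]; trivial
      | insert i s _ ih => rw [Finset.inf_insert]; exact ⟨hxi i, ih⟩
    exact key _⟩
  obtain ⟨e, he_def⟩ : ∃ e : Γ(F, W), e = rs F (inf_le_left.trans hVW) e₀ := ⟨_, rfl⟩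
  refine ⟨W, e, hxW, fun V' hV' => ?_⟩
  have hgen : ∀ (y : X) (hy : y ∈ W) (v : F.presheaf.stalk y),
      ∃ r : X.presheaf.stalk y, r • F.presheaf.germ W y hy e = v := by
    intro y hy v
    have hyV : y ∈ V := hy.1
    have hspan : ∀ p : Γ(F, V),
        F.presheaf.germ V y hyV p ∈ Submodule.span (X.presheaf.stalk y) {F.presheaf.germ W y hy e} := by
      intro p
      have hp : p ∈ Submodule.span Γ(X, V) (Set.range m) := by rw [hm]; trivial
      induction hp using Submodule.span_induction with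
      | mem q hq =>
        obtain ⟨i, rfl⟩ := hq
        have hyi : y ∈ Wi i := (Finset.inf_le (Finset.mem_univ i) : Finset.univ.inf Wi ≤ Wi i) hy.2
        rw [← Groth.L20.ModStalk.germ_rs F (hWi i) hyi, hai, Groth.L20.ModStalk.germ_smul]
        simp only [he_def, Groth.L20.ModStalk.germ_rs]
        exact Submodule.smul_mem _ _ (Submodule.mem_span_singleton_self _)
      | zero => rw [map_zero]; exact Submodule.zero_mem _
      | add a b _ _ ha hb => rw [map_add]; exact Submodule.add_mem _ ha hb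
      | smul a b _ hb => rw [Groth.L20.ModStalk.germ_smul]; exact Submodule.smul_mem _ _ hb
    letI := Groth.L20.ModStalk.stalkModule F hyV
    haveI := Groth.L20.ModStalk.isLocalizedModule_germ F hV hyV
    obtain ⟨⟨p, s⟩, hps⟩ := IsLocalizedModule.surj (hV.primeIdealOf ⟨y, hyV⟩).asIdeal.primeCompl
      (Groth.L20.ModStalk.germₗ F hyV) v
    letI := X.presheaf.algebra_section_stalk (⟨y, hyV⟩ : V)
    haveI := hV.isLocalization_stalk ⟨y, hyV⟩
    have hsu : IsUnit (X.presheaf.germ V y hyV (s : Γ(X, V))) := IsLocalization.map_units (X.presheaf.stalk y) s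
    have hps' : X.presheaf.germ V y hyV (s : Γ(X, V)) • v = F.presheaf.germ V y hyV p := hps
    obtain ⟨r, hr⟩ := Submodule.mem_span_singleton.1 (hspan p)
    obtain ⟨si, hsi⟩ := hsu.exists_left_inv
    exact ⟨si * r, by rw [mul_smul, hr, ← hps', smul_smul, hsi, one_smul]⟩
  have hne : ∀ (y : X) (hy : y ∈ W), F.presheaf.germ W y hy e ≠ 0 := by
    intro y hy h0
    refine hu0 ?_
    rw [toEta_germ]
    have h1 := congrArg (toEta F y) h0
    rw [toEta_germ, map_zero, he_def, Groth.L20.ModStalk.germ_rs] at h1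
    exact h1
  have hinj : ∀ (V'' : X.Opens) (h : V'' ≤ W) (a b : Γ(X, V'')), a • rs F h e = b • rs F h e → a = b := by
    intro V'' h a b hab
    refine TopCat.Presheaf.section_ext X.sheaf V'' a b fun y hy => ?_
    have h1 := congrArg (F.presheaf.germ V'' y hy) hab
    rw [Groth.L20.ModStalk.germ_smul, Groth.L20.ModStalk.germ_smul, Groth.L20.ModStalk.germ_rs] at h1
    haveI := htf y
    exact smul_left_injective (X.presheaf.stalk y) (hne y (h hy)) h1
  refine ⟨fun a b h => hinj V' hV' a b h, fun t => ?_⟩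
  have hcov : ∀ y : V', ∃ (O : X.Opens) (hO : O ≤ V') (a : Γ(X, O)), y.1 ∈ O ∧
      a • rs F (hO.trans hV') e = rs F hO t := by
    rintro ⟨y, hy⟩
    obtain ⟨r, hr⟩ := hgen y (hV' hy) (F.presheaf.germ V' y hy t)
    obtain ⟨A, hyA, a, rfl⟩ := TopCat.Presheaf.exists_germ_eq (F := X.presheaf) (x := y) r
    have hyI : y ∈ A ⊓ V' := ⟨hyA, hy⟩
    have h1 : F.presheaf.germ (A ⊓ V') y hyI (ro (inf_le_left : A ⊓ V' ≤ A) a • rs F ((inf_le_right : A ⊓ V' ≤ V').trans hV') e) =
        F.presheaf.germ (A ⊓ V') y hyI (rs F inf_le_right t) := by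
      rw [Groth.L20.ModStalk.germ_smul, Groth.L20.ModStalk.germ_rs, Groth.L20.ModStalk.germ_rs, ← hr]
      exact congrArg (· • _) (TopCat.Presheaf.germ_res_apply X.presheaf (homOfLE inf_le_left) y hyI a)
    obtain ⟨O, hyO, i₁, i₂, h2⟩ := TopCat.Presheaf.germ_eq F.presheaf y hyI hyI _ _ h1
    refine ⟨O, i₁.le.trans inf_le_right, ro i₁.le (ro inf_le_left a), hyO, ?_⟩
    have h3 : rs F i₁.le (ro inf_le_left a • rs F (inf_le_right.trans hV') e) =
        rs F i₁.le (rs F inf_le_right t) := h2
    rw [Groth.L18.Frame.rs_smul, Groth.L18.Frame.rs_rs, Groth.L18.Frame.rs_rs] at h3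
    exact h3
  choose O hO a hyO ha using hcov
  obtain ⟨A, hA, -⟩ := TopCat.Sheaf.existsUnique_gluing' X.sheaf O V' (fun y => homOfLE (hO y))
    (fun y hy => Opens.mem_iSup.2 ⟨⟨y, hy⟩, hyO _⟩) a (fun p q => by
      show ro (inf_le_left : O p ⊓ O q ≤ O p) (a p) = ro inf_le_right (a q)
      refine hinj (O p ⊓ O q) ((inf_le_left.trans (hO p)).trans hV') _ _ ?_
      have h1 := congrArg (rs F (inf_le_left : O p ⊓ O q ≤ O p)) (ha p)
      have h2 := congrArg (rs F (inf_le_right : O p ⊓ O q ≤ O q)) (ha q)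
      simp only [Groth.L18.Frame.rs_smul, Groth.L18.Frame.rs_rs] at h1 h2
      exact h1.trans h2.symm)
  refine ⟨(A : Γ(X, V')), Groth.L15.Ref.sec_ext fun y hy => ?_⟩
  have h1 := congrArg (F.presheaf.germ (O ⟨y, hy⟩) y (hyO ⟨y, hy⟩)) (ha ⟨y, hy⟩)
  rw [Groth.L20.ModStalk.germ_smul, Groth.L20.ModStalk.germ_rs, Groth.L20.ModStalk.germ_rs] at h1
  show F.presheaf.germ V' y hy ((show Γ(X, V') from A) • rs F hV' e) = _
  rw [Groth.L20.ModStalk.germ_smul, Groth.L20.ModStalk.germ_rs, ← h1]
  refine congrArg (· • _) ?_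
  rw [← hA ⟨y, hy⟩]
  exact (TopCat.Presheaf.germ_res_apply X.presheaf (homOfLE (hO _)) y (hyO _) A).symm

theorem isInvertible_of_rank_one (hreg : ∀ x : X, IsRegularLocalRing (X.presheaf.stalk x)) {F : X.Modules}
    (hF : Coh.IsCoh F) (hr : RefHull.IsReflexive F) (hgen : RefHull.GenInvertible F) : PicF.IsInvertible F :=
  Groth.L18.GenLoc.isInvertible_of_frames fun x => by
    obtain ⟨u, hu0, hu⟩ := exists_gen_stalk hreg hF hr hgen x
    exact exists_frame hF (isTorsionFree_stalk hF hr) u hu0 hu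

end Groth.L03.RefRegSch
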