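import Groth.Agent.L05.Henselization.Pair
import Groth.Agent.L05.Henselization.Noeth
import Groth.Agent.S0543
import Mathlib.RingTheory.AdicCompletion.Algebra
import Mathlib.RingTheory.AdicCompletion.Functoriality
import Mathlib.RingTheory.Flat.FaithfullyFlat.Algebra
import Mathlib.RingTheory.Filtration

/-!
The henselization of a Noetherian pair is Noetherian; its completion is that of the base.
-/

namespace Groth.L03.PairNoeth

universe u

open Groth.L05.Henselization

theorem mem_of_forall_mem_sup_pow {L : Type u} [CommRing L] [IsNoetherianRing L] {J I : Ideal L}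
    (hI : I ≤ (⊥ : Ideal L).jacobson) {z : L} (h : ∀ k : ℕ, z ∈ J ⊔ I ^ k) : z ∈ J := by
  rw [← Ideal.Quotient.eq_zero_iff_mem, ← Submodule.mem_bot L (M := L ⧸ J),
    ← Ideal.iInf_pow_smul_eq_bot_of_le_jacobson (M := L ⧸ J) I hI]
  refine Submodule.mem_iInf _ |>.2 fun k => ?_
  obtain ⟨c, hc, d, hd, rfl⟩ := Submodule.mem_sup.1 (h k)
  rw [map_add, Ideal.Quotient.eq_zero_iff_mem.2 hc, zero_add, ← mul_one d, map_mul, map_one]
  exact Submodule.smul_mem_smul (r := d) hd (Submodule.mem_top (x := (1 : L ⧸ J)))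

theorem mem_of_map_mem {L B K : Type u} [CommRing L] [CommRing B] [CommRing K] (g : L →+* B) (hg : g.Flat)
    (ev : B →+* K) (hs : Function.Surjective (ev.comp g)) (hunit : ∀ z : L, IsUnit (ev (g z)) → IsUnit z)
    (J : Ideal L) (z : L) (hz : g z ∈ J.map g) : z ∈ J := by
  letI := g.toAlgebra
  haveI : Module.Flat L B := hg
  haveI : Module.FaithfullyFlat L B := by
    refine (Module.FaithfullyFlat.iff_flat_and_proper_ideal L B).mpr ⟨inferInstance, fun J hJ htop => hJ ?_⟩
    have h : (1 : B) ∈ (⊤ : Submodule L B) := Submodule.mem_top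
    rw [← htop, Ideal.smul_top_eq_map, Submodule.restrictScalars_mem] at h
    have h2 := Ideal.mem_map_of_mem ev h
    rw [Ideal.map_map, map_one] at h2
    obtain ⟨x, hxJ, hx⟩ := (Ideal.mem_map_iff_of_surjective (ev.comp g) hs).1 h2
    exact J.eq_top_of_isUnit_mem hxJ (hunit x (by
      rw [show ev (g x) = 1 from hx]; exact isUnit_one))
  rw [← Ideal.comap_map_eq_self_of_faithfullyFlat (B := B) J]
  exact hz

section stage

variable {A : Type u} [CommRing A] {I : Ideal A}

theorem exists_stage_generic {R C : Type u} [CommRing R] [CommRing C] [Algebra A R] [Algebra A C] [IsNoetherianRing R]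
    (f : R →ₐ[A] C) (hf : f.toRingHom.Flat) (ev : C →ₐ[A] A ⧸ I) (hev : ∀ c : C, IsUnit (ev c) → IsUnit c) :
    ∃ (L : Type u) (_ : CommRing L) (_ : IsNoetherianRing L) (_ : Algebra A L)
      (g : L →ₐ[A] C) (j : R →ₐ[A] L),
      g.comp j = f ∧ I.map (algebraMap A L) ≤ (⊥ : Ideal L).jacobson ∧
      ∀ (J : Ideal L) (z : L), g z ∈ J.map g → z ∈ J := by
  let T : Submonoid R := (IsUnit.submonoid (A ⧸ I)).comap ((ev.comp f : R →ₐ[A] A ⧸ I) : R →* A ⧸ I)
  let L := Localization T
  have hu : ∀ t : T, IsUnit (f t.1) := fun t => hev _ t.2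
  let g : L →ₐ[A] C := IsLocalization.liftAlgHom (A := A) (S := L) (M := T) (f := f) hu
  have hg : ∀ x : R, g (algebraMap R L x) = f x := fun x => IsLocalization.lift_eq _ x
  let φL : L →ₐ[A] A ⧸ I := ev.comp g
  have hφL : ∀ x : R, φL (algebraMap R L x) = ev (f x) := fun x => by
    simp [φL, hg]
  have hunit : ∀ z : L, IsUnit (φL z) → IsUnit z := by
    intro z hz
    obtain ⟨x, t, rfl⟩ := IsLocalization.exists_mk'_eq T z
    have h1 : ev (f x) = φL (IsLocalization.mk' L x t) * ev (f t) := by
      rw [← hφL, ← hφL, ← map_mul, IsLocalization.mk'_spec]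
    have hx : x ∈ T := show IsUnit (ev (f x)) by rw [h1]; exact hz.mul t.2
    have h2 := IsLocalization.map_units L (⟨x, hx⟩ : T)
    rw [← IsLocalization.mk'_spec L x t] at h2
    exact isUnit_of_mul_isUnit_left h2
  refine ⟨L, inferInstance, IsLocalization.isNoetherianRing T L inferInstance, inferInstance, g,
    IsScalarTower.toAlgHom A R L, AlgHom.ext hg, ?_, ?_⟩
  · refine Ideal.map_le_iff_le_comap.2 fun a ha => Ideal.mem_jacobson_bot.2 fun y => hunit _ ?_
    rw [map_add, map_mul, map_one, AlgHom.commutes,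
      show algebraMap A (A ⧸ I) a = 0 from Ideal.Quotient.eq_zero_iff_mem.2 ha, zero_mul, zero_add]
    exact isUnit_one
  · have hflat : g.toRingHom.Flat := by
      letI : Algebra R C := f.toRingHom.toAlgebra
      letI : Algebra L C := g.toRingHom.toAlgebra
      haveI : IsScalarTower R L C := IsScalarTower.of_algebraMap_eq fun x => (hg x).symm
      haveI : Module.Flat R C := hf
      exact (Module.flat_iff_of_isLocalization (R := R) L T (M := C)).mpr inferInstance
    exact mem_of_map_mem g.toRingHom hflat ev.toRingHom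
      (fun q => by
        obtain ⟨a, rfl⟩ := Ideal.Quotient.mk_surjective q
        exact ⟨algebraMap A L a, φL.commutes a⟩)
      (fun z hz => hunit z hz)

theorem exists_stage [IsNoetherianRing A] (X : Obj A (A ⧸ I)) :
    ∃ (L : Type u) (_ : CommRing L) (_ : IsNoetherianRing L) (_ : Algebra A L)
      (g : L →ₐ[A] PairHens A I) (j : X.R →ₐ[A] L),
      g.comp j = ι X ∧ I.map (algebraMap A L) ≤ (⊥ : Ideal L).jacobson ∧
      ∀ (J : Ideal L) (z : L), g z ∈ J.map g → z ∈ J := by
  haveI : IsNoetherianRing X.R := Algebra.FiniteType.isNoetherianRing A X.R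
  exact exists_stage_generic (ι X) (flat_ι X) (ε A (A ⧸ I)) (fun c => isUnit_of_isUnit_ε)

end stage

variable (A : Type u) [CommRing A] (I : Ideal A)

/-- the reduction `A^h → A/I^n` -/
noncomputable def red (n : ℕ) : PairHens A I →+* A ⧸ I ^ n :=
  (RingEquiv.ofBijective _ (quotientMap_pow_bijective A I (isPairHenselization A I) n)).symm.toRingHom.comp
    (Ideal.Quotient.mk ((I ^ n).map (algebraMap A (PairHens A I))))

theorem red_algebraMap (n : ℕ) (a : A) : red A I n (algebraMap A (PairHens A I) a) = Ideal.Quotient.mk _ a := by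
  apply (quotientMap_pow_bijective A I (isPairHenselization A I) n).injective
  simp only [red, RingHom.comp_apply]
  exact (RingEquiv.ofBijective _ (quotientMap_pow_bijective A I (isPairHenselization A I) n)).apply_symm_apply _

theorem red_surjective (n : ℕ) : Function.Surjective (red A I n) := fun q => by
  obtain ⟨a, rfl⟩ := Ideal.Quotient.mk_surjective q
  exact ⟨_, red_algebraMap A I n a⟩

theorem ker_red (n : ℕ) : RingHom.ker (red A I n) = (I.map (algebraMap A (PairHens A I))) ^ n := by
  rw [red, RingHom.ker_equiv_comp, Ideal.mk_ker, Ideal.map_pow]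

theorem red_compat {m n : ℕ} (hle : m ≤ n) : (Ideal.Quotient.factorPow I hle).comp (red A I n) = red A I m := by
  refine RingHom.ext fun b => ?_
  obtain ⟨a, ha⟩ := Ideal.Quotient.mk_surjective (red A I n b)
  have h1 : b - algebraMap A _ a ∈ RingHom.ker (red A I n) := by
    rw [RingHom.mem_ker, map_sub, red_algebraMap, ha, sub_self]
  rw [ker_red] at h1
  have h2 := Ideal.pow_le_pow_right hle h1
  rw [← ker_red, RingHom.mem_ker, map_sub, sub_eq_zero, red_algebraMap] at h2
  rw [RingHom.comp_apply, ← ha, h2, Ideal.Quotient.factor_mk]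

theorem isNoetherianRing_pairHens [IsNoetherianRing A] : IsNoetherianRing (PairHens A I) := by
  classical
  haveI : IsNoetherianRing (AdicCompletion I A) := Groth.Agent.S0543.result A I
  let θ : PairHens A I →+* AdicCompletion I A := AdicCompletion.liftRingHom I (red A I) (red_compat A I)
  rw [isNoetherianRing_iff_ideal_fg]
  intro J
  obtain ⟨s, hsub, hs⟩ := Submodule.fg_span_iff_fg_span_finset_subset (θ '' (J : Set _)) |>.1
    (IsNoetherian.noetherian (Ideal.span (θ '' (J : Set _))))
  obtain ⟨t, htJ, hts⟩ := Finset.subset_set_image_iff.1 hsub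
  refine ⟨t, le_antisymm (Ideal.span_le.2 htJ) fun b hb => ?_⟩
  obtain ⟨X, hX⟩ := exists_lift_finset (insert b t)
  choose y hy using hX
  obtain ⟨L, _, _, _, g, j, hgj, hjac, hcl⟩ := exists_stage X
  let z := j (y b (Finset.mem_insert_self _ _))
  let J0 : Ideal L := Ideal.span (Set.range fun c : t => j (y c.1 (Finset.mem_insert_of_mem c.2)))
  have hgy : ∀ c hc, g (j (y c hc)) = c := fun c hc => by
    rw [← AlgHom.comp_apply, hgj]; exact hy c hc
  have hJ0 : J0.map g = Ideal.span (t : Set (PairHens A I)) := by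
    rw [Ideal.map_span, ← Set.range_comp]
    congr 1
    ext w
    exact ⟨fun ⟨c, hc⟩ => by rw [← hc, Function.comp_apply, hgy]; exact c.2,
      fun hw => ⟨⟨w, hw⟩, hgy w _⟩⟩
  have key : z ∈ J0 := mem_of_forall_mem_sup_pow hjac fun k => hcl _ _ ?_
  · have := Ideal.mem_map_of_mem g key
    rw [hJ0, hgy] at this
    exact this
  have hgI : (I.map (algebraMap A L)).map g = I.map (algebraMap A (PairHens A I)) :=
    (Ideal.map_map (algebraMap A L) g.toRingHom).trans (by rw [show g.toRingHom.comp (algebraMap A L) = algebraMap A _ from g.comp_algebraMap])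
  rw [hgy, Ideal.map_sup, hJ0, Ideal.map_pow, hgI,
    ← ker_red, ← Ideal.comap_map_of_surjective' _ (red_surjective A I k), Ideal.mem_comap]
  have hθk : ((AdicCompletion.evalₐ I k : AdicCompletion I A →+* A ⧸ I ^ k)).comp θ = red A I k :=
    AdicCompletion.evalₐ_comp_liftRingHom I _ (red_compat A I) k
  rw [Ideal.map_span, ← hθk, RingHom.coe_comp, Set.image_comp, ← Finset.coe_image, hts,
    ← Ideal.map_span]
  refine Ideal.mem_map_of_mem _ ?_
  show θ b ∈ Submodule.span _ (s : Set _)
  rw [← hs]
  exact Ideal.subset_span ⟨b, hb, rfl⟩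

theorem isNoetherianRing_of_isPairHenselization [IsNoetherianRing A] {B : Type u} [CommRing B] [Algebra A B]
    (hB : Hens2.IsPairHenselization A I B) : IsNoetherianRing B := by
  obtain ⟨e, -⟩ := isPairHenselization_algEquiv A I (isPairHenselization A I) hB
  haveI := isNoetherianRing_pairHens A I
  exact isNoetherianRing_of_ringEquiv _ e.toRingEquiv

theorem completion_map_bijective {B : Type u} [CommRing B] [Algebra A B]
    (hB : Hens2.IsPairHenselization A I B) :
    Function.Bijective (AdicCompletion.map I (Algebra.linearMap A B) : AdicCompletion I A → AdicCompletion I B) := by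
  have hlev : ∀ n, Function.Bijective ((Algebra.linearMap A B).reduceModIdeal (I ^ n)) := by
    intro n
    obtain ⟨hi, hs⟩ := quotientMap_pow_bijective A I hB n
    have hmem : ∀ x : B, x ∈ (I ^ n • ⊤ : Submodule A B) ↔ x ∈ (I ^ n).map (algebraMap A B) := fun x => by
      rw [Ideal.smul_top_eq_map]; rfl
    constructor
    · rw [injective_iff_map_eq_zero]
      intro q hq
      obtain ⟨a, rfl⟩ := Submodule.mkQ_surjective _ q
      have h1 : algebraMap A B a ∈ (I ^ n).map (algebraMap A B) :=
        (hmem _).1 ((Submodule.Quotient.mk_eq_zero _).1 hq)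
      refine (Submodule.Quotient.mk_eq_zero _).2 ?_
      rw [smul_eq_mul, Ideal.mul_top]
      refine Ideal.Quotient.eq_zero_iff_mem.1 (hi ?_)
      rw [map_zero, Ideal.quotientMap_mk, Ideal.Quotient.eq_zero_iff_mem]
      exact h1
    · intro q
      obtain ⟨b, rfl⟩ := Submodule.mkQ_surjective _ q
      obtain ⟨x, hx⟩ := hs (Ideal.Quotient.mk _ b)
      obtain ⟨a, rfl⟩ := Ideal.Quotient.mk_surjective x
      rw [Ideal.quotientMap_mk, Ideal.Quotient.eq] at hx
      exact ⟨Submodule.Quotient.mk a, (Submodule.Quotient.eq _).2 ((hmem _).2 hx)⟩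
  constructor
  · intro x y hxy
    exact AdicCompletion.ext fun n => (hlev n).1 (by
      rw [← AdicCompletion.map_val_apply, ← AdicCompletion.map_val_apply, hxy])
  · intro y
    choose x hx using fun n => (hlev n).2 (y.val n)
    refine ⟨⟨x, fun {m n} hmn => (hlev m).1 ?_⟩, AdicCompletion.ext fun n => hx n⟩
    rw [hx, ← y.property hmn, ← hx n]
    obtain ⟨a, ha⟩ := Submodule.Quotient.mk_surjective _ (x n)
    rw [← ha]
    rfl

end Groth.L03.PairNoeth
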