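import Groth.Agent.L16.QcqsPush
import Groth.Agent.L17.Approx.Extend
import Groth.Agent.L29.DCoh.RHomCoh
import Groth.Agent.L16.CohKernel
import Mathlib.AlgebraicGeometry.Noetherian

/-! Quasi-coherent and coherent modules on quasi-compact opens of affine schemes come from modules. -/

set_option autoImplicit false

universe u

open CategoryTheory AlgebraicGeometry TopologicalSpace Opposite

namespace Groth.L03.QcOpenExtend

variable {A : CommRingCat.{u}} (V : (Spec A).Opens)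

theorem exists_tilde (G : (Spec A).Modules) [Coh.IsQCoh G] : ∃ N : ModuleCat.{u} A, Nonempty (G ≅ tilde N) := by
  obtain ⟨N, ⟨e⟩⟩ := Groth.L00.Local.exists_tilde_iso_restrict (𝟙 (Spec A)) G
  exact ⟨N, ⟨(Scheme.Modules.restrictFunctorId.app G).symm ≪≫ e⟩⟩

theorem isQCoh_restrict_tilde (N : ModuleCat.{u} A) : Coh.IsQCoh ((tilde N).restrict V.ι) :=
  Scheme.Modules.isQuasicoherent_restrictFunctor V.ι (tilde N)

/-- A module on a quasi-compact open is the restriction of its quasi-coherent direct image. -/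
theorem isQCoh_push_ι (hV : IsCompact (V : Set (Spec A))) (F : V.toScheme.Modules) [Coh.IsQCoh F] :
    Coh.IsQCoh ((Scheme.Modules.pushforward V.ι).obj F) := by
  have := Groth.L17.Approx.quasiCompact_ι V hV
  exact Groth.L16.QcqsPush.isQCoh_push F V.ι

noncomputable def restrictPushIso (F : V.toScheme.Modules) :
    ((Scheme.Modules.pushforward V.ι).obj F).restrict V.ι ≅ F :=
  asIso ((Scheme.Modules.restrictAdjunction V.ι).counit.app F)

theorem exists_tilde_restrict (hV : IsCompact (V : Set (Spec A))) (F : V.toScheme.Modules) [Coh.IsQCoh F] :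
    ∃ N : ModuleCat.{u} A, Nonempty (F ≅ (tilde N).restrict V.ι) := by
  have := isQCoh_push_ι V hV F
  obtain ⟨N, ⟨e⟩⟩ := exists_tilde ((Scheme.Modules.pushforward V.ι).obj F)
  exact ⟨N, ⟨(restrictPushIso V F).symm ≪≫ (Scheme.Modules.restrictFunctor V.ι).mapIso e⟩⟩

theorem isCoh_tilde (N : ModuleCat.{u} A) [Module.Finite A N] : Coh.IsCoh (tilde N) :=
  Groth.L16.CohKernel.isCoh_of_tilde_charts _ fun x =>
    ⟨A, 𝟙 _, inferInstance, N, ⟨x, rfl⟩, inferInstance, ⟨Scheme.Modules.restrictFunctorId.app _⟩⟩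

theorem isCoh_of_iso {X : Scheme.{u}} {F G : X.Modules} (e : F ≅ G) (h : Coh.IsCoh G) : Coh.IsCoh F := by
  have : Coh.IsQCoh G := h.1
  refine ⟨(SheafOfModules.isQuasicoherent X.ringCatSheaf).prop_of_iso e.symm h.1,
    Groth.L00.Local.isFT_of_generators F fun x => ?_⟩
  obtain ⟨U, σ, hxU, hσ⟩ := Groth.L00.Local.exists_generators_of_isFT G h.2 x
  exact ⟨U, σ.ofEpi ((Scheme.Modules.restrictFunctor U.ι).mapIso e.symm).hom, hxU, hσ⟩

theorem exists_finite_tilde_restrict (hV : IsCompact (V : Set (Spec A))) (F : V.toScheme.Modules)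
    (hF : Coh.IsCoh F) :
    ∃ N : ModuleCat.{u} A, Module.Finite A N ∧ Nonempty (F ≅ (tilde N).restrict V.ι) := by
  have : Coh.IsQCoh F := hF.1
  let H := (Scheme.Modules.pushforward V.ι).obj F
  have hH : Coh.IsQCoh H := isQCoh_push_ι V hV F
  have hFT : Groth.L17.Approx.FTOn H (V : Set (Spec A)) := by
    intro x hx
    obtain ⟨U, σ, hxU, hσ⟩ := Groth.L00.Local.exists_generators_of_isFT F hF.2 ⟨x, hx⟩
    let W := V.ι ''ᵁ U
    let k : W.toScheme ⟶ U.toScheme := IsOpenImmersion.lift (U.ι ≫ V.ι) W.ι (by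
      rw [Scheme.Opens.range_ι]
      rintro _ ⟨y, hy, rfl⟩
      exact ⟨⟨y, hy⟩, rfl⟩)
    have hk : k ≫ U.ι ≫ V.ι = W.ι := IsOpenImmersion.lift_fac _ _ _
    have : IsOpenImmersion (k ≫ U.ι ≫ V.ι) := hk ▸ inferInstance
    have : IsOpenImmersion k := IsOpenImmersion.of_comp k (U.ι ≫ V.ι)
    let σ' := σ.ofEpi ((Scheme.Modules.restrictFunctor U.ι).mapIso (restrictPushIso V F).symm ≪≫
      (Scheme.Modules.restrictFunctorComp U.ι V.ι).symm.app H).hom
    obtain ⟨τ, hτ⟩ := Groth.L16.CohKernel.exists_generators_of_comp k (U.ι ≫ V.ι) W.ι hk H σ'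
    exact ⟨W, τ, ⟨⟨x, hx⟩, hxU, rfl⟩, hτ ▸ hσ⟩
  obtain ⟨E, i, _, hE, _, hEFT⟩ := Groth.L17.Approx.exists_step H V hV hFT (isAffineOpen_top (Spec A))
  have hEc : Coh.IsCoh E := by
    refine ⟨hE, Groth.L00.Local.isFT_of_generators E fun x => ?_⟩
    obtain ⟨U, σ, hxU, hσ⟩ := hEFT x (Or.inr trivial)
    exact ⟨U, σ, hxU, hσ⟩
  obtain ⟨N, ⟨e⟩⟩ := exists_tilde E
  have := hE
  refine ⟨N, Groth.L16.CohKernel.finite_of_tilde_iso E hEc.2 (𝟙 _) N
    (Scheme.Modules.restrictFunctorId.app E ≪≫ e), ⟨?_⟩⟩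
  exact (restrictPushIso V F).symm ≪≫ (asIso ((Scheme.Modules.restrictFunctor V.ι).map i)).symm ≪≫
    (Scheme.Modules.restrictFunctor V.ι).mapIso e

end Groth.L03.QcOpenExtend
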