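import Groth.Prelude.Def_CAlgX
import Mathlib.RingTheory.AdicCompletion.Completeness
import Mathlib.RingTheory.AdicCompletion.Algebra

/-! Adic formal smoothness and completion. -/

set_option autoImplicit false

universe u

namespace Groth.L03.AdicFS

variable {S : Type u} [CommRing S] {I : Ideal S}

local notation "Ŝ" => AdicCompletion I S

theorem ker_evalₐ_eq (hI : I.FG) (n : ℕ) :
    RingHom.ker (AdicCompletion.evalₐ I n).toRingHom = I.map (algebraMap S Ŝ) ^ n := by
  have h := AdicCompletion.pow_smul_top_eq_ker_eval (M := S) (n := n) hI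
  ext x
  rw [← Ideal.map_pow, RingHom.mem_ker]
  have h1 : x ∈ (I ^ n).map (algebraMap S Ŝ) ↔ x ∈ (AdicCompletion.eval I S n).ker := by
    rw [← h, Ideal.smul_top_eq_map]; rfl
  rw [h1, LinearMap.mem_ker]
  constructor
  · intro hx
    rw [← AdicCompletion.factor_evalₐ_eq_eval I x (le_of_eq (Ideal.mul_top _).symm)]
    exact (congrArg _ hx).trans (map_zero _)
  · intro hx
    show AdicCompletion.evalₐ I n x = 0
    rw [← AdicCompletion.factor_eval_eq_evalₐ I x (le_of_eq (Ideal.mul_top _))]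
    exact (congrArg _ hx).trans (map_zero _)

theorem hom_ext (hI : I.FG) {A : Type u} [CommRing A] {N : ℕ} {g₁ g₂ : Ŝ →+* A}
    (h₁ : ∀ x ∈ I.map (algebraMap S Ŝ) ^ N, g₁ x = 0) (h₂ : ∀ x ∈ I.map (algebraMap S Ŝ) ^ N, g₂ x = 0)
    (h : g₁.comp (algebraMap S Ŝ) = g₂.comp (algebraMap S Ŝ)) : g₁ = g₂ := by
  refine RingHom.ext fun x => ?_
  obtain ⟨s, hs⟩ := Ideal.Quotient.mk_surjective (AdicCompletion.evalₐ I N x)
  have hx : x - algebraMap S Ŝ s ∈ I.map (algebraMap S Ŝ) ^ N := by
    rw [← ker_evalₐ_eq hI, RingHom.mem_ker, map_sub]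
    show AdicCompletion.evalₐ I N x - AdicCompletion.evalₐ I N (algebraMap S Ŝ s) = 0
    rw [AlgHom.commutes, ← hs, Ideal.Quotient.algebraMap_eq, sub_self]
  have e₁ := h₁ _ hx
  have e₂ := h₂ _ hx
  rw [map_sub, sub_eq_zero] at e₁ e₂
  rw [e₁, e₂]
  exact DFunLike.congr_fun h s

theorem exists_extend (hI : I.FG) {A : Type u} [CommRing A] (g : S →+* A) {N : ℕ} (hg : ∀ x ∈ I ^ N, g x = 0) :
    ∃ G : Ŝ →+* A, G.comp (algebraMap S Ŝ) = g ∧ ∀ x ∈ I.map (algebraMap S Ŝ) ^ N, G x = 0 := by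
  refine ⟨(Ideal.Quotient.lift (I ^ N) g hg).comp (AdicCompletion.evalₐ I N).toRingHom, ?_, fun x hx => ?_⟩
  · ext s
    show Ideal.Quotient.lift (I ^ N) g hg (AdicCompletion.evalₐ I N (algebraMap S Ŝ s)) = g s
    rw [AlgHom.commutes, Ideal.Quotient.algebraMap_eq, Ideal.Quotient.lift_mk]
  · rw [← ker_evalₐ_eq hI, RingHom.mem_ker] at hx
    exact (congrArg _ hx).trans (map_zero _)

/-- Lifts along a square-zero ideal kill twice the power. -/
theorem kills_sq {T A : Type u} [CommRing T] [CommRing A] {J : Ideal A} (hJ : J ^ 2 = ⊥) (K : Ideal T) (g : T →+* A)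
    {k : ℕ} (hg : ∀ x ∈ K ^ k, g x ∈ J) : ∀ x ∈ K ^ (k + k), g x = 0 := by
  intro x hx
  have h1 : (K ^ k).map g ≤ J := Ideal.map_le_iff_le_comap.2 hg
  have h2 : g x ∈ J ^ 2 := by
    rw [pow_two]
    refine Ideal.mul_mono h1 h1 ?_
    rw [← Ideal.map_mul, ← pow_add]
    exact Ideal.mem_map_of_mem g hx
  rwa [hJ, Ideal.mem_bot] at h2

variable {R : Type u} [CommRing R] [Algebra R S]

theorem algebraMap_comp : (algebraMap S Ŝ).comp (algebraMap R S) = algebraMap R Ŝ :=
  (IsScalarTower.algebraMap_eq R S Ŝ).symm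

/-- Formal smoothness for the adic topology is insensitive to completing the target. -/
theorem iff_completion (hI : I.FG) :
    CAlgX.IsAdicFormallySmooth R S I ↔ CAlgX.IsAdicFormallySmooth R Ŝ (I.map (algebraMap S Ŝ)) := by
  constructor
  · intro h A _ _ J hJ ψ ⟨k, hk⟩
    let ψ₀ : S →ₐ[R] A ⧸ J := ψ.comp (IsScalarTower.toAlgHom R S Ŝ)
    obtain ⟨χ, hχ⟩ := h A J hJ ψ₀ ⟨k, fun x hx => hk _ (Ideal.map_pow (algebraMap S Ŝ) I k ▸ Ideal.mem_map_of_mem _ hx)⟩
    have hmk : ∀ s, Ideal.Quotient.mk J (χ s) = ψ (algebraMap S Ŝ s) := fun s => DFunLike.congr_fun hχ s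
    have hkill := kills_sq hJ I χ.toRingHom (k := k) fun x hx => by
      rw [← Ideal.Quotient.eq_zero_iff_mem]
      exact (hmk x).trans (hk _ (Ideal.map_pow (algebraMap S Ŝ) I k ▸ Ideal.mem_map_of_mem _ hx))
    obtain ⟨G, hG, hG0⟩ := exists_extend hI χ.toRingHom hkill
    refine ⟨{ G with commutes' := fun r => ?_ }, AlgHom.coe_ringHom_injective ?_⟩
    · show G (algebraMap R Ŝ r) = _
      rw [IsScalarTower.algebraMap_apply R S Ŝ]
      exact (DFunLike.congr_fun hG _).trans (χ.commutes r)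
    · show (Ideal.Quotient.mk J).comp G = ψ.toRingHom
      refine hom_ext hI (N := k + k) (fun x hx => ?_) (fun x hx => hk x (Ideal.pow_le_pow_right (Nat.le_add_right k k) hx)) ?_
      · show Ideal.Quotient.mk J (G x) = 0
        rw [hG0 x hx, map_zero]
      · ext s
        exact (congrArg (Ideal.Quotient.mk J) (DFunLike.congr_fun hG s)).trans (hmk s)
  · intro h A _ _ J hJ ψ ⟨k, hk⟩
    obtain ⟨G, hG, hG0⟩ := exists_extend hI ψ.toRingHom hk
    obtain ⟨χ, hχ⟩ := h A J hJ { G with
      commutes' := fun r => by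
        show G (algebraMap R Ŝ r) = _
        rw [IsScalarTower.algebraMap_apply R S Ŝ]
        exact (DFunLike.congr_fun hG _).trans (ψ.commutes r) } ⟨k, hG0⟩
    exact ⟨χ.comp (IsScalarTower.toAlgHom R S Ŝ),
      AlgHom.ext fun s => (DFunLike.congr_fun hχ (algebraMap S Ŝ s)).trans (DFunLike.congr_fun hG s)⟩

/-- Changing the base to its completion. -/
theorem iff_base {m : Ideal R} (hm : m.FG) {T : Type u} [CommRing T] [Algebra R T] (𝔑 : Ideal T)
    (hc : ∃ c : ℕ, (m ^ c).map (algebraMap R T) ≤ 𝔑) (ψ : AdicCompletion m R →+* T)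
    (hψ : ψ.comp (algebraMap R (AdicCompletion m R)) = algebraMap R T)
    (hψc : ∀ x ∈ (m ^ hc.choose).map (algebraMap R (AdicCompletion m R)), ψ x ∈ 𝔑) :
    CAlgX.IsAdicFormallySmooth R T 𝔑 ↔
      letI : Algebra (AdicCompletion m R) T := ψ.toAlgebra
      CAlgX.IsAdicFormallySmooth (AdicCompletion m R) T 𝔑 := by
  let c := hc.choose
  let alg : Algebra (AdicCompletion m R) T := ψ.toAlgebra
  constructor
  · intro h A _ _ J hJ φ ⟨k, hk⟩
    let algA : Algebra R A := ((algebraMap (AdicCompletion m R) A).comp (algebraMap R (AdicCompletion m R))).toAlgebra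
    let φ₀ : T →ₐ[R] A ⧸ J :=
      { φ.toRingHom with
        commutes' := fun r => by
          show φ (algebraMap R T r) = _
          rw [← DFunLike.congr_fun hψ r]
          exact φ.commutes (algebraMap R (AdicCompletion m R) r) }
    obtain ⟨χ, hχ⟩ := h A J hJ φ₀ ⟨k, hk⟩
    have hmk : ∀ t, Ideal.Quotient.mk J (χ t) = φ t := fun t => DFunLike.congr_fun hχ t
    have hpow : ∀ x ∈ m.map (algebraMap R (AdicCompletion m R)) ^ (c * k), ψ x ∈ 𝔑 ^ k := by
      intro x hx
      rw [pow_mul, ← Ideal.map_pow] at hx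
      have h1 : ((m ^ c).map (algebraMap R (AdicCompletion m R))).map ψ ≤ 𝔑 := Ideal.map_le_iff_le_comap.2 hψc
      refine Ideal.pow_right_mono h1 k ?_
      rw [← Ideal.map_pow ψ]
      exact Ideal.mem_map_of_mem ψ hx
    have heq : χ.toRingHom.comp ψ = algebraMap (AdicCompletion m R) A := by
      refine hom_ext hm (N := c * k + c * k) (kills_sq hJ _ _ fun x hx => ?_) (kills_sq hJ _ _ fun x hx => ?_) ?_
      · rw [← Ideal.Quotient.eq_zero_iff_mem]
        exact (hmk (ψ x)).trans (hk _ (hpow x hx))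
      · rw [← Ideal.Quotient.eq_zero_iff_mem]
        show algebraMap (AdicCompletion m R) (A ⧸ J) x = 0
        rw [← φ.commutes x]
        exact hk _ (hpow x hx)
      · ext r
        show χ (ψ (algebraMap R (AdicCompletion m R) r)) = _
        exact (congrArg χ (DFunLike.congr_fun hψ r)).trans (χ.commutes r)
    exact ⟨{ χ.toRingHom with commutes' := fun r => DFunLike.congr_fun heq r }, AlgHom.ext hmk⟩
  · intro h A _ _ J hJ φ ⟨k, hk⟩
    have hmr : ∀ r ∈ m ^ (c * k), algebraMap R A r ∈ J := by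
      intro r hr
      rw [← Ideal.Quotient.eq_zero_iff_mem]
      show algebraMap R (A ⧸ J) r = 0
      rw [← φ.commutes r]
      refine hk _ (Ideal.pow_right_mono hc.choose_spec k ?_)
      rw [← Ideal.map_pow, ← pow_mul]
      exact Ideal.mem_map_of_mem _ hr
    obtain ⟨a, ha, ha0⟩ := exists_extend hm (algebraMap R A) (kills_sq hJ _ _ hmr)
    let algA : Algebra (AdicCompletion m R) A := a.toAlgebra
    have heq : φ.toRingHom.comp ψ = (Ideal.Quotient.mk J).comp a := by
      refine hom_ext hm (N := c * k + c * k) (fun x hx => ?_) (fun x hx => ?_) ?_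
      · refine hk _ ?_
        have hx' := Ideal.pow_le_pow_right (Nat.le_add_right (c * k) (c * k)) hx
        rw [pow_mul, ← Ideal.map_pow] at hx'
        have h1 : ((m ^ c).map (algebraMap R (AdicCompletion m R))).map ψ ≤ 𝔑 := Ideal.map_le_iff_le_comap.2 hψc
        refine Ideal.pow_right_mono h1 k ?_
        rw [← Ideal.map_pow ψ]
        exact Ideal.mem_map_of_mem ψ hx'
      · show Ideal.Quotient.mk J (a x) = 0
        rw [ha0 x hx, map_zero]
      · ext r
        show φ (ψ (algebraMap R (AdicCompletion m R) r)) = Ideal.Quotient.mk J (a (algebraMap R (AdicCompletion m R) r))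
        rw [show ψ (algebraMap R (AdicCompletion m R) r) = algebraMap R T r from DFunLike.congr_fun hψ r,
          show a (algebraMap R (AdicCompletion m R) r) = algebraMap R A r from DFunLike.congr_fun ha r]
        exact φ.commutes r
    obtain ⟨χ, hχ⟩ := h A J hJ { φ.toRingHom with commutes' := fun x => DFunLike.congr_fun heq x } ⟨k, hk⟩
    refine ⟨{ χ.toRingHom with commutes' := fun r => ?_ }, AlgHom.ext fun t => DFunLike.congr_fun hχ t⟩
    show χ (algebraMap R T r) = algebraMap R A r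
    rw [← DFunLike.congr_fun hψ r]
    exact (χ.commutes (algebraMap R (AdicCompletion m R) r)).trans (DFunLike.congr_fun ha r)

end Groth.L03.AdicFS
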