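import Groth.Agent.L03.GeomReduced
import Groth.Agent.L25.GeomIrred
import Mathlib.RingTheory.Unramified.Field
import Mathlib.RingTheory.Etale.Field
import Mathlib.RingTheory.TensorProduct.Free
import Mathlib.FieldTheory.PurelyInseparable.PerfectClosure
import Mathlib.RingTheory.Ideal.GoingUp
import Mathlib.RingTheory.Ideal.MinimalPrime.Localization

/-!
Geometric reducedness: all field extensions, purely inseparable tests, separable change of base field.
The first lemmas follow `L25.GeomRed` and `L25.GrpDeriv` (restated to avoid their scheme imports).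
-/

set_option autoImplicit false
universe u

open TensorProduct

namespace Groth.L03.GeomReduced2
open Groth.L25

section AlgClosed

variable {k : Type u} [Field k] [IsAlgClosed k] {A B : Type u} [CommRing A] [CommRing B] [Algebra k A]
  [Algebra k B]

theorem eq_zero_of_isNilpotent_of_fg [_root_.IsReduced A] [_root_.IsReduced B] [Algebra.FiniteType k A]
    (x : A ⊗[k] B) (h : IsNilpotent x) : x = 0 := by
  let b := Module.Free.chooseBasis k B
  let bA := Algebra.TensorProduct.basis A b
  refine bA.repr.map_eq_zero_iff.mp (Finsupp.ext fun i => GeomIrred.eq_zero_of_forall_algHom (k := k) _ fun φ => ?_)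
  let ev : A ⊗[k] B →ₐ[k] B :=
    (Algebra.TensorProduct.lid k B).toAlgHom.comp (Algebra.TensorProduct.map φ (AlgHom.id k B))
  have key : ∀ (z : A ⊗[k] B) (l), b.repr (ev z) l = φ (bA.repr z l) := by
    intro z l
    induction z using TensorProduct.induction_on with
    | zero => simp
    | tmul a v => simp [ev, bA, Algebra.TensorProduct.basis_repr_tmul]
    | add z w hz hw => simp [hz, hw]
  rw [← key x i, IsReduced.eq_zero _ (h.map ev), map_zero, Finsupp.zero_apply]

theorem isReduced_tensorProduct_of_isAlgClosed [_root_.IsReduced A] [_root_.IsReduced B] :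
    _root_.IsReduced (A ⊗[k] B) := by
  refine ⟨fun x hx => ?_⟩
  classical
  let b := Module.Free.chooseBasis k B
  let bA := Algebra.TensorProduct.basis A b
  let s : Finset A := (bA.repr x).frange
  let A₀ := Algebra.adjoin k (s : Set A)
  have : Algebra.FiniteType k A₀ := (Subalgebra.fg_iff_finiteType _).mp ⟨s, rfl⟩
  have : _root_.IsReduced A₀ := isReduced_of_injective A₀.val Subtype.val_injective
  let J : A₀ ⊗[k] B →ₐ[k] A ⊗[k] B := Algebra.TensorProduct.map A₀.val (AlgHom.id k B)
  have hJ : Function.Injective J :=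
    Module.Flat.rTensor_preserves_injective_linearMap (M := B) A₀.val.toLinearMap Subtype.val_injective
  have hmem : ∀ l, bA.repr x l ∈ A₀ := by
    intro l
    by_cases h0 : bA.repr x l = 0
    · rw [h0]; exact zero_mem _
    · exact Algebra.subset_adjoin (Finsupp.mem_frange.mpr ⟨h0, l, rfl⟩)
  obtain ⟨x₀, hx₀⟩ : x ∈ J.range := by
    rw [← bA.linearCombination_repr x, Finsupp.linearCombination_apply]
    refine sum_mem fun l _ => ⟨⟨_, hmem l⟩ ⊗ₜ b l, ?_⟩
    simp [J, bA, TensorProduct.smul_tmul']
  rw [AlgHom.toRingHom_eq_coe, RingHom.coe_coe] at hx₀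
  have h0 : x₀ = 0 := eq_zero_of_isNilpotent_of_fg x₀ ((IsNilpotent.map_iff hJ).mp (by rw [hx₀]; exact hx))
  rw [← hx₀, h0, map_zero]

end AlgClosed

variable {K : Type u} [Field K]

theorem isReduced_tensorProduct_of_isSeparable {A E : Type u} [CommRing A] [Algebra K A] [_root_.IsReduced A]
    [Field E] [Algebra K E] [Module.Finite K E] [Algebra.IsSeparable K E] :
    _root_.IsReduced (TensorProduct K A E) := by
  refine ⟨fun t ht => ?_⟩
  let b := Module.finBasis K E
  let B := Algebra.TensorProduct.basis A b
  refine B.repr.map_eq_zero_iff.1 (Finsupp.ext fun i => IsReduced.eq_zero _ ((nilpotent_iff_mem_prime).2 fun P hP => ?_))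
  let φ : TensorProduct K A E →ₐ[K] TensorProduct K P.ResidueField E :=
    Algebra.TensorProduct.map (IsScalarTower.toAlgHom K A P.ResidueField) (AlgHom.id K E)
  have : Algebra.FormallyEtale K E := Algebra.FormallyEtale.of_isSeparable K E
  have : _root_.IsReduced (TensorProduct K P.ResidueField E) :=
    Algebra.FormallyUnramified.isReduced_of_field P.ResidueField _
  have h0 : φ t = 0 := IsReduced.eq_zero _ (ht.map φ)
  let B' := Algebra.TensorProduct.basis P.ResidueField b
  have h1 : φ t = ∑ l, algebraMap A P.ResidueField (B.repr t l) • B' l := by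
    conv_lhs => rw [← B.sum_repr t]
    simp only [map_sum, B, B', Algebra.TensorProduct.basis_apply, φ, TensorProduct.smul_tmul', smul_eq_mul, mul_one,
      Algebra.TensorProduct.map_tmul, IsScalarTower.toAlgHom_apply, AlgHom.id_apply, _root_.mul_one]
  have h2 := congrArg (fun v => B'.repr v i) (h1.symm.trans h0)
  simp only [B'.repr_sum_self, map_zero, Finsupp.zero_apply] at h2
  exact Ideal.algebraMap_residueField_eq_zero.1 h2

theorem isReduced_tensorProduct_of_perfectField [PerfectField K] {A Ω : Type u} [CommRing A] [Algebra K A]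
    [_root_.IsReduced A] [Field Ω] [Algebra K Ω] [Algebra.IsAlgebraic K Ω] :
    _root_.IsReduced (TensorProduct K A Ω) := by
  refine IsReduced.tensorProduct_of_flat_of_forall_fg fun B hB => ?_
  have : Algebra.FiniteType K B := B.fg_iff_finiteType.1 hB
  have : Algebra.IsIntegral K B := ⟨fun x => (isIntegral_algHom_iff B.val Subtype.val_injective).1
    (Algebra.IsIntegral.isIntegral _)⟩
  have : Module.Finite K B := Algebra.IsIntegral.finite
  have hF : IsField B := isField_of_isIntegral_of_isField' (Field.toIsField K)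
  letI := hF.toField
  exact isReduced_tensorProduct_of_isSeparable

/-- Geometrically reduced algebras stay reduced after every field extension. -/
theorem isReduced_of_isGeometricallyReduced {k S : Type u} [Field k] [CommRing S] [Algebra k S]
    [Algebra.IsGeometricallyReduced k S] (K : Type u) [Field K] [Algebra k K] :
    _root_.IsReduced (K ⊗[k] S) := by
  let kb := AlgebraicClosure k
  let L := AlgebraicClosure K
  letI : Algebra kb L := ((IsAlgClosed.lift : kb →ₐ[k] L) : kb →+* L).toAlgebra
  haveI : IsScalarTower k kb L := .of_algebraMap_eq fun x => ((IsAlgClosed.lift : kb →ₐ[k] L).commutes x).symm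
  haveI : _root_.IsReduced (kb ⊗[k] S) := (Algebra.isGeometricallyReduced_field_iff k S).1 inferInstance
  haveI : _root_.IsReduced (L ⊗[kb] (kb ⊗[k] S)) := isReduced_tensorProduct_of_isAlgClosed
  haveI : _root_.IsReduced (L ⊗[k] S) :=
    isReduced_of_injective (Algebra.TensorProduct.cancelBaseChange k kb L L S).symm.toAlgHom
      (Algebra.TensorProduct.cancelBaseChange k kb L L S).symm.injective
  exact isReduced_of_injective (Algebra.TensorProduct.map (IsScalarTower.toAlgHom k K L) (AlgHom.id k S))
    (Module.Flat.rTensor_preserves_injective_linearMap (IsScalarTower.toAlgHom k K L).toLinearMap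
      (algebraMap K L).injective)

theorem isReduced_baseChange_perfect (k S : Type u) [Field k] [CommRing S] [Algebra k S] (P Ω : Type u)
    [Field P] [PerfectField P] [Field Ω] [Algebra k P] [Algebra k Ω] [Algebra P Ω] [IsScalarTower k P Ω]
    [Algebra.IsAlgebraic P Ω] [_root_.IsReduced (P ⊗[k] S)] : _root_.IsReduced (Ω ⊗[k] S) := by
  haveI : _root_.IsReduced ((P ⊗[k] S) ⊗[P] Ω) := isReduced_tensorProduct_of_perfectField
  haveI : _root_.IsReduced (Ω ⊗[P] (P ⊗[k] S)) :=
    isReduced_of_injective (Algebra.TensorProduct.comm P Ω (P ⊗[k] S)).toAlgHom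
      (Algebra.TensorProduct.comm P Ω (P ⊗[k] S)).injective
  exact isReduced_of_injective (Algebra.TensorProduct.cancelBaseChange k P Ω Ω S).symm.toAlgHom
    (Algebra.TensorProduct.cancelBaseChange k P Ω Ω S).symm.injective

/-- Geometric reducedness can be tested on finite purely inseparable extensions. -/
theorem isGeometricallyReduced_of_purelyInseparable (k S : Type u) [Field k] [CommRing S] [Algebra k S]
    (H : ∀ (k' : Type u) [Field k'] [Algebra k k'] [Module.Finite k k'] [IsPurelyInseparable k k'],
      _root_.IsReduced (k' ⊗[k] S)) :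
    Algebra.IsGeometricallyReduced k S := by
  rw [Algebra.isGeometricallyReduced_field_iff]
  let Ω := AlgebraicClosure k
  let P := perfectClosure k Ω
  haveI : Algebra.IsAlgebraic P Ω := Algebra.IsAlgebraic.tower_top (K := k) P
  haveI : _root_.IsReduced (P ⊗[k] S) := by
    refine ⟨fun z hz => ?_⟩
    obtain ⟨L, hL, w, rfl⟩ := Groth.L03.GeomReduced.exists_finite_mem_range k S P z
    haveI := hL
    haveI : IsPurelyInseparable k L := IsPurelyInseparable.tower_bot k L P
    haveI := H L
    have hinj : Function.Injective (Algebra.TensorProduct.map L.val (AlgHom.id k S)) :=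
      Module.Flat.rTensor_preserves_injective_linearMap L.val.toLinearMap L.val.injective
    rw [IsNilpotent.eq_zero ((IsNilpotent.map_iff hinj).1 hz), map_zero]
  exact isReduced_baseChange_perfect k S P Ω

/-- For `k'/k` separable algebraic, geometric reducedness over `k` implies it over `k'`. -/
theorem isReduced_of_separable_top {k k' A : Type u} [Field k] [Field k'] [Algebra k k'] [Algebra.IsSeparable k k']
    [CommRing A] [Algebra k' A] [Algebra k A] [IsScalarTower k k' A] (K : Type u) [Field K] [Algebra k' K]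
    [Algebra k K] [IsScalarTower k k' K] [_root_.IsReduced (K ⊗[k] A)] : _root_.IsReduced (K ⊗[k'] A) := by
  haveI : Algebra.FormallyEtale k k' := Algebra.FormallyEtale.of_isSeparable k k'
  haveI : Algebra.IsGeometricallyReduced k k' := (Groth.L03.GeomReduced.formallySmooth_iff k k').1 inferInstance
  haveI : _root_.IsReduced (K ⊗[k] k') := isReduced_of_isGeometricallyReduced K
  let μ : K ⊗[k] k' →ₐ[K] K := Algebra.TensorProduct.lift (AlgHom.id K K) (IsScalarTower.toAlgHom k k' K) (fun _ _ => .all _ _)
  let m : Ideal (K ⊗[k] k') := RingHom.ker μ.toRingHom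
  haveI hm : m.IsPrime := RingHom.ker_isPrime _
  have hmin : m ∈ (⊥ : Ideal (K ⊗[k] k')).minimalPrimes := by
    refine ⟨⟨hm, bot_le⟩, fun q hq hqm => ?_⟩
    haveI := hq.1
    haveI : Algebra.IsIntegral K (K ⊗[k] k') := inferInstance
    have hqmax : q.IsMaximal := Ideal.isMaximal_of_isIntegral_of_isMaximal_comap q (by
      have h0 : q.comap (algebraMap K (K ⊗[k] k')) = ⊥ :=
        (Ideal.eq_bot_or_top _).resolve_right (Ideal.IsPrime.ne_top inferInstance)
      rw [h0]; exact Ideal.bot_isMaximal)
    exact (hqmax.eq_of_le hm.ne_top hqm).ge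
  let Φ : K ⊗[k] k' →ₐ[K] K ⊗[k] A := Algebra.TensorProduct.map (AlgHom.id K K) (IsScalarTower.toAlgHom k k' A)
  let π : K ⊗[k] A →ₐ[K] K ⊗[k'] A := Algebra.TensorProduct.lift (Algebra.ofId K _)
    ((Algebra.TensorProduct.includeRight : A →ₐ[k'] K ⊗[k'] A).restrictScalars k) (fun _ _ => .all _ _)
  have hπs : Function.Surjective π := fun z => by
    induction z using TensorProduct.induction_on with
    | zero => exact ⟨0, map_zero _⟩
    | tmul a b => exact ⟨a ⊗ₜ b, by simp [π, Algebra.algebraMap_eq_smul_one, TensorProduct.smul_tmul']⟩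
    | add a b ha hb =>
      obtain ⟨a', rfl⟩ := ha
      obtain ⟨b', rfl⟩ := hb
      exact ⟨a' + b', map_add _ _ _⟩
  have hπΦ : ∀ z, π (Φ z) = algebraMap K (K ⊗[k'] A) (μ z) := fun z => by
    induction z using TensorProduct.induction_on with
    | zero => simp
    | tmul a b =>
      have hb : (1 : K) ⊗ₜ[k'] (algebraMap k' A b) = algebraMap k' K b ⊗ₜ[k'] (1 : A) := by
        rw [Algebra.algebraMap_eq_smul_one, Algebra.algebraMap_eq_smul_one, TensorProduct.smul_tmul]
      simp [π, Φ, μ, hb, Algebra.TensorProduct.algebraMap_apply]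
    | add a b ha hb => rw [map_add, map_add, ha, hb, map_add, map_add]
  -- the kernel of π is killed by an element outside m
  let J : Ideal (K ⊗[k] A) := m.map Φ.toRingHom
  have hker : ∀ z, π z = 0 → z ∈ J := by
    let σ : K ⊗[k'] A →+ (K ⊗[k] A) ⧸ J := TensorProduct.liftAddHom
      { toFun := fun a =>
          { toFun := fun b => Ideal.Quotient.mk J (a ⊗ₜ b)
            map_zero' := by simp
            map_add' := fun b b' => by simp [TensorProduct.tmul_add] }
        map_zero' := by ext; simp
        map_add' := fun a a' => by ext; simp [TensorProduct.add_tmul] }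
      (fun c a b => by
        show Ideal.Quotient.mk J ((c • a) ⊗ₜ b) = Ideal.Quotient.mk J (a ⊗ₜ (c • b))
        rw [Ideal.Quotient.eq]
        have h1 : (algebraMap k' K c) ⊗ₜ[k] (1 : k') - (1 : K) ⊗ₜ[k] c ∈ m := by
          show μ _ = 0
          simp [μ]
        have h2 := J.mul_mem_left (a ⊗ₜ[k] b) (Ideal.mem_map_of_mem Φ.toRingHom h1)
        convert h2 using 1
        simp [Φ, mul_sub, Algebra.smul_def, mul_comm a, mul_comm b])
    intro z hz
    have h : ∀ z, σ (π z) = Ideal.Quotient.mk J z := fun z => by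
      induction z using TensorProduct.induction_on with
      | zero => simp
      | tmul a b =>
        have : π (a ⊗ₜ[k] b) = a ⊗ₜ[k'] b := by
          simp [π, Algebra.algebraMap_eq_smul_one, TensorProduct.smul_tmul']
        rw [this]
        rfl
      | add a b ha hb => rw [map_add, map_add, ha, hb, map_add]
    rw [← Ideal.Quotient.eq_zero_iff_mem, ← h, hz, map_zero]
  refine ⟨fun x hx => ?_⟩
  obtain ⟨y, rfl⟩ := hπs x
  obtain ⟨n, hn⟩ := hx
  rw [← map_pow] at hn
  have hy := hker _ hn
  obtain ⟨s, hs, hsy⟩ : ∃ s ∉ m, Φ s * y ^ n = 0 := by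
    refine Submodule.span_induction ?_ ⟨1, fun h => hm.ne_top ((Ideal.eq_top_iff_one _).2 h), by simp⟩ ?_ ?_ hy
    · rintro _ ⟨t, ht, rfl⟩
      obtain ⟨s, hs0, hst⟩ := Ideal.exists_mul_mem_of_mem_minimalPrimes hmin ht
      by_cases hsm : s ∈ m
      · obtain ⟨s', hs', hs's⟩ : ∃ s' ∉ m, s' * t = 0 := by
          have h1 : IsNilpotent (algebraMap _ (Localization.AtPrime m) t) := by
            refine nilpotent_iff_mem_prime.2 fun Q hQ => ?_
            have h2 : Q.comap (algebraMap _ (Localization.AtPrime m)) ≤ m := fun w hw => by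
              by_contra hwm
              exact hQ.ne_top (Ideal.eq_top_of_isUnit_mem _ hw (IsLocalization.map_units _ (⟨w, hwm⟩ : m.primeCompl)))
            exact (hmin.2 ⟨Ideal.IsPrime.comap _, bot_le⟩ h2) ht
          obtain ⟨j, hj⟩ := h1
          rw [← map_pow] at hj
          obtain ⟨⟨c, hc⟩, hcj⟩ := (IsLocalization.map_eq_zero_iff m.primeCompl _ _).1 hj
          refine ⟨c, hc, IsReduced.eq_zero _ ⟨j + 1, ?_⟩⟩
          rw [mul_pow, pow_succ c, pow_succ t]
          linear_combination (c ^ j * t) * hcj
        exact ⟨s', hs', by rw [show (Φ.toRingHom t) = Φ t from rfl, ← map_mul, hs's, map_zero]⟩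
      · exact ⟨s, hsm, by rw [show (Φ.toRingHom t) = Φ t from rfl, ← map_mul, mul_comm, (Ideal.mem_bot.1 hst), map_zero]⟩
    · rintro a b _ _ ⟨s, hs, hsa⟩ ⟨s', hs', hsb⟩
      exact ⟨s * s', fun h => (hm.mem_or_mem h).elim hs hs', by
        rw [map_mul]; linear_combination (Φ s') * hsa + (Φ s) * hsb⟩
    · rintro r a _ ⟨s, hs, hsa⟩
      exact ⟨s, hs, by rw [smul_eq_mul]; linear_combination r * hsa⟩
  have h1 : Φ s * y = 0 := IsReduced.eq_zero _ ⟨n + 1, by
    rw [mul_pow, pow_succ (Φ s), pow_succ y]
    linear_combination ((Φ s) ^ n * y) * hsy⟩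
  have h2 := congrArg π h1
  rw [map_mul, map_zero, hπΦ] at h2
  exact ((IsUnit.map (algebraMap K (K ⊗[k'] A)) (isUnit_iff_ne_zero.2 fun h => hs h)).mul_right_eq_zero).1 h2

/-- For `k'/k` separable algebraic, geometric reducedness over `k'` implies it over `k`. -/
theorem isReduced_of_separable_bot {k k' A : Type u} [Field k] [Field k'] [Algebra k k'] [Algebra.IsSeparable k k']
    [CommRing A] [Algebra k' A] [Algebra k A] [IsScalarTower k k' A]
    (H : ∀ (L : Type u) [Field L] [Algebra k' L], _root_.IsReduced (L ⊗[k'] A))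
    (K : Type u) [Field K] [Algebra k K] : _root_.IsReduced (K ⊗[k] A) := by
  haveI : Algebra.FormallyEtale k k' := Algebra.FormallyEtale.of_isSeparable k k'
  haveI : Algebra.IsGeometricallyReduced k k' := (Groth.L03.GeomReduced.formallySmooth_iff k k').1 inferInstance
  haveI : _root_.IsReduced (K ⊗[k] k') := isReduced_of_isGeometricallyReduced K
  refine ⟨fun x hx => ?_⟩
  let R0 := k' ⊗[k] K
  haveI : _root_.IsReduced R0 :=
    isReduced_of_injective (Algebra.TensorProduct.comm k k' K).toAlgHom (Algebra.TensorProduct.comm k k' K).injective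
  let e : K ⊗[k] A ≃+* A ⊗[k'] R0 :=
    ((Algebra.TensorProduct.comm k K A).trans
      ((Algebra.TensorProduct.cancelBaseChange k k' A A K).symm.restrictScalars k)).toRingEquiv
  apply e.injective
  rw [map_zero]
  let b := Module.Free.chooseBasis k' A
  let B := Algebra.TensorProduct.basis R0 b
  let c : A ⊗[k'] R0 ≃ₐ[k'] R0 ⊗[k'] A := Algebra.TensorProduct.comm k' A R0
  refine c.injective ?_
  rw [map_zero]
  refine B.repr.map_eq_zero_iff.1 (Finsupp.ext fun i => IsReduced.eq_zero _ (nilpotent_iff_mem_prime.2 fun P hP => ?_))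
  let φ : R0 ⊗[k'] A →ₐ[k'] P.ResidueField ⊗[k'] A :=
    Algebra.TensorProduct.map (IsScalarTower.toAlgHom k' R0 P.ResidueField) (AlgHom.id k' A)
  haveI := H P.ResidueField
  have hx' : IsNilpotent (c (e x)) := (hx.map e).map c
  have h0 : φ (c (e x)) = 0 := IsReduced.eq_zero _ (hx'.map φ)
  let B' := Algebra.TensorProduct.basis P.ResidueField b
  have h1 : ∀ (z : R0 ⊗[k'] A), B'.repr (φ z) i = algebraMap R0 P.ResidueField (B.repr z i) := fun z => by
    induction z using TensorProduct.induction_on with
    | zero => simp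
    | tmul u v => simp [φ, B, B', Algebra.TensorProduct.basis_repr_tmul, Algebra.smul_def, ← IsScalarTower.algebraMap_apply k' R0 P.ResidueField]
    | add u v hu hv => simp [hu, hv]
  have h2 := h1 (c (e x))
  rw [h0, map_zero, Finsupp.zero_apply] at h2
  exact Ideal.algebraMap_residueField_eq_zero.1 h2.symm

end Groth.L03.GeomReduced2
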