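import Groth.Agent.L03.FibreLocalDim
import Groth.Agent.L13.Wild.Kunz
import Groth.Agent.L12.RegLift
import Groth.Agent.L04.RegularPd
import Groth.Agent.L04.CMBasic
import Groth.Agent.L22.SchemeDim
import Mathlib.RingTheory.AlgebraicIndependent.TranscendenceBasis
import Mathlib.RingTheory.Flat.Localization
import Mathlib.RingTheory.RegularLocalRing.Polynomial

/-!
# Quasi-finite algebras over polynomial rings: flat iff Cohen–Macaulay of the right dimension
-/

universe u

open CategoryTheory AlgebraicGeometry PrimeSpectrum RingTheory.Sequence IsLocalRing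

namespace Groth.L03.MiracleQF

/-- The local dimension of an affine algebra at a prime. -/
theorem exists_localDim_eq (k S : Type u) [Field k] [CommRing S] [Algebra k S] [Algebra.FiniteType k S]
    (q : Ideal S) [q.IsPrime] :
    ∃ a b : ℕ, ringKrullDim (S ⧸ q) = a ∧ ringKrullDim (Localization.AtPrime q) = b ∧
      FlatMor.localDim (PrimeSpectrum S) ⟨q, inferInstance⟩ = ((a + b : ℕ) : WithBot ℕ∞) := by
  letI : (Spec (CommRingCat.of S)).Over (Spec (CommRingCat.of k)) :=
    ⟨Spec.map (CommRingCat.ofHom (algebraMap k S))⟩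
  haveI : LocallyOfFiniteType (Spec (CommRingCat.of S) ↘ Spec (CommRingCat.of k)) :=
    (HasRingHomProperty.Spec_iff (P := @LocallyOfFiniteType)).2 (RingHom.finiteType_algebraMap.2 inferInstance)
  let x : Spec (CommRingCat.of S) := (⟨q, inferInstance⟩ : PrimeSpectrum S)
  obtain ⟨a, b, ha, hb, h⟩ := Groth.L22.SchemeDim.exists_localDim k (Spec (CommRingCat.of S)) x
  obtain ⟨a', ha', ha''⟩ := Groth.L22.SchemeDim.exists_dim_closure_eq_trdeg k _ x
  refine ⟨a, b, ?_, ?_, h⟩
  · have hcl : closure ({x} : Set (Spec (CommRingCat.of S))) = PrimeSpectrum.zeroLocus (R := S) q :=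
      PrimeSpectrum.closure_singleton (⟨q, inferInstance⟩ : PrimeSpectrum S)
    rw [show a = a' by exact_mod_cast ha.symm.trans ha'', ← ha', hcl,
      ← PrimeSpectrum.topologicalKrullDim_eq_ringKrullDim]
    refine (Groth.L22.SchemeDim.topologicalKrullDim_eq_of_isEmbedding
      (PrimeSpectrum.isClosedEmbedding_comap_of_surjective _ _ Ideal.Quotient.mk_surjective).isEmbedding ?_).symm
    rw [range_comap_of_surjective _ _ Ideal.Quotient.mk_surjective, Ideal.mk_ker]
  · rw [← hb]
    exact ringKrullDim_eq_of_ringEquiv (Spec.stalkIso (CommRingCat.of S) x).commRingCatIsoToRingEquiv.symm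

variable {k P S : Type u} [Field k] [CommRing P] [CommRing S] [Algebra k P] [Algebra k S] [Algebra P S]
  [IsScalarTower k P S] [Algebra.FiniteType k P] [Algebra.FiniteType k S] [Algebra.QuasiFinite P S]

include k in
/-- Corresponding primes of a quasi-finite map of affine algebras have quotients of the same dimension. -/
theorem dim_quotient_eq (p : Ideal P) [p.IsPrime] (q : Ideal S) [q.IsPrime] [q.LiesOver p] {a c : ℕ}
    (ha : ringKrullDim (S ⧸ q) = a) (hc : ringKrullDim (P ⧸ p) = c) : a = c := by
  letI := Localization.AtPrime.algebraOfLiesOver p q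
  haveI : IsScalarTower k (P ⧸ p) p.ResidueField := IsScalarTower.of_algebraMap_eq' rfl
  haveI : IsScalarTower k (S ⧸ q) q.ResidueField := IsScalarTower.of_algebraMap_eq' rfl
  haveI : IsScalarTower k p.ResidueField q.ResidueField := IsScalarTower.of_algebraMap_eq fun r => by
    rw [IsScalarTower.algebraMap_apply k P p.ResidueField, ← IsScalarTower.algebraMap_apply P p.ResidueField,
      ← IsScalarTower.algebraMap_apply]
  haveI : Module.Finite p.ResidueField q.ResidueField := inferInstance
  have h1 := Groth.L22.AffineDim.trdeg_fractionRing k (P ⧸ p) p.ResidueField hc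
  have h2 := Groth.L22.AffineDim.trdeg_fractionRing k (S ⧸ q) q.ResidueField ha
  have h3 := trdeg_add_eq k p.ResidueField (A := q.ResidueField)
  haveI : Algebra.IsAlgebraic p.ResidueField q.ResidueField := inferInstance
  rw [h1, h2, trdeg_eq_zero, add_zero] at h3
  exact_mod_cast h3.symm

omit [Algebra.FiniteType k P] [Algebra.FiniteType k S] in
/-- The closed fibre of the local map is zero-dimensional. -/
theorem dim_closedFibre (p : Ideal P) [p.IsPrime] (q : Ideal S) [q.IsPrime] [q.LiesOver p] :
    (p.map (algebraMap P (Localization.AtPrime q))).radical = maximalIdeal (Localization.AtPrime q) := by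
  rw [Ideal.radical_eq_sInf]
  refine le_antisymm (sInf_le ⟨?_, inferInstance⟩) (le_sInf fun J ⟨hJ, hJp⟩ => ?_)
  · rw [Ideal.map_le_iff_le_comap, IsScalarTower.algebraMap_eq P S (Localization.AtPrime q),
      ← Ideal.comap_comap,
      show (maximalIdeal (Localization.AtPrime q)).comap (algebraMap S (Localization.AtPrime q)) = q from
        IsLocalization.AtPrime.comap_maximalIdeal (Localization.AtPrime q) q]
    exact (Ideal.LiesOver.over (p := p) (P := q)).le
  · haveI := hJp
    have hle : J.comap (algebraMap S (Localization.AtPrime q)) ≤ q :=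
      (Ideal.comap_mono (le_maximalIdeal hJp.ne_top)).trans (IsLocalization.AtPrime.comap_maximalIdeal (Localization.AtPrime q) q).le
    have he : J.comap (algebraMap S (Localization.AtPrime q)) = q := by
      refine Algebra.QuasiFinite.eq_of_le_of_under_eq (R := P) _ _ hle (le_antisymm (Ideal.comap_mono hle) ?_)
      rw [← Ideal.LiesOver.over (p := p) (P := q), Ideal.under_def, Ideal.comap_comap,
        ← IsScalarTower.algebraMap_eq, ← Ideal.map_le_iff_le_comap]
      exact hJ
    calc maximalIdeal (Localization.AtPrime q) = q.map (algebraMap S _) :=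
          (Localization.AtPrime.map_eq_maximalIdeal).symm
      _ = (J.comap (algebraMap S _)).map (algebraMap S _) := by rw [he]
      _ ≤ J := Ideal.map_comap_le

omit [Algebra k P] [Algebra k S] [IsScalarTower k P S] [Algebra.FiniteType k P] [Algebra.FiniteType k S] in
/-- Miracle flatness at a prime of a quasi-finite algebra over a regular ring. -/
theorem flat_iff_local [IsNoetherianRing S] (p : Ideal P) [p.IsPrime] (q : Ideal S) [q.IsPrime]
    [q.LiesOver p] [IsRegularLocalRing (Localization.AtPrime p)] :
    Module.Flat P (Localization.AtPrime q) ↔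
      LocCoh.IsCohenMacaulayLocalRing (Localization.AtPrime q) ∧
        ringKrullDim (Localization.AtPrime q) = ringKrullDim (Localization.AtPrime p) := by
  letI := Localization.AtPrime.algebraOfLiesOver p q
  haveI : IsLocalHom (algebraMap (Localization.AtPrime p) (Localization.AtPrime q)) := inferInstance
  rw [← Module.flat_iff_of_isLocalization (S := Localization.AtPrime p) p.primeCompl]
  obtain ⟨n, hn⟩ : ∃ n : ℕ, ringKrullDim (Localization.AtPrime p) = n :=
    ⟨_, ((isRegularLocalRing_iff _).1 ‹_›).symm⟩
  obtain ⟨rs, hlen, hrs, hgen⟩ := Groth.L04.exists_regular_generators hn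
  set T := Localization.AtPrime q
  let f := algebraMap (Localization.AtPrime p) T
  have hmem : ∀ x ∈ rs.map f, x ∈ maximalIdeal T := by
    intro x hx
    obtain ⟨y, hy, rfl⟩ := List.mem_map.1 hx
    have hy' : y ∈ maximalIdeal (Localization.AtPrime p) := hgen ▸ Ideal.subset_span hy
    exact map_nonunit f y hy'
  have hq0 : ringKrullDim (T ⧸ Ideal.ofList (rs.map f)) = 0 := by
    have hI : Ideal.ofList (rs.map f) = p.map (algebraMap P T) := by
      rw [← Ideal.map_ofList, hgen, ← Localization.AtPrime.map_eq_maximalIdeal, Ideal.map_map,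
        ← IsScalarTower.algebraMap_eq]
    rw [hI]
    have hrad := dim_closedFibre p q
    haveI : Nontrivial (T ⧸ p.map (algebraMap P T)) := Ideal.Quotient.nontrivial_iff.2 fun h => by
      rw [h, Ideal.radical_top] at hrad
      exact (maximalIdeal.isMaximal T).ne_top hrad.symm
    refine le_antisymm (Ring.krullDimLE_iff.1 (Ring.krullDimLE_zero_iff.2 fun J hJ => ?_))
      ringKrullDim_nonneg_of_nontrivial
    have hle : maximalIdeal T ≤ J.comap (Ideal.Quotient.mk _) := by
      rw [← hrad, (hJ.comap _).radical_le_iff]
      intro x hx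
      rw [Ideal.mem_comap, Ideal.Quotient.eq_zero_iff_mem.2 hx]
      exact J.zero_mem
    refine Ideal.isMaximal_iff.2 ⟨fun h => hJ.ne_top ((Ideal.eq_top_iff_one _).2 h), fun I x hJI hxJ hxI => ?_⟩
    obtain ⟨y, rfl⟩ := Ideal.Quotient.mk_surjective x
    have hy : y ∉ maximalIdeal T := fun h => hxJ (hle h)
    exact Ideal.eq_top_iff_one I |>.1
      (Ideal.eq_top_of_isUnit_mem _ hxI ((IsLocalRing.notMem_maximalIdeal.1 hy).map _))
  constructor
  · intro hflat
    have h1 : IsWeaklyRegular T rs := Groth.L07.RegFlat.isWeaklyRegular_of_flat hrs.1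
    have h2 : IsWeaklyRegular T (rs.map f) := (isWeaklyRegular_map_algebraMap_iff T T rs).2 h1
    have h3 := Groth.L04.supportDim_quotient_ofList_add (M := T) h2 hmem
    rw [Module.supportDim_self_eq_ringKrullDim, smul_eq_mul, Ideal.mul_top,
      Module.supportDim_quotient_eq_ringKrullDim, hq0, zero_add, List.length_map, hlen] at h3
    have hdim : ringKrullDim T = ringKrullDim (Localization.AtPrime p) := h3.symm.trans hn.symm
    refine ⟨{ supportDim_eq_depth := ?_ }, hdim⟩
    refine (Groth.L04.isCohenMacaulayModule_iff_supportDim_le (R := T) (M := T)).2 ?_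
    rw [Module.supportDim_self_eq_ringKrullDim, hdim, hn]
    have hd := Groth.L04.depth_quotient_ofList_add (M := T) h2 hmem
    have : (n : ℕ∞) ≤ LocCoh.depth T T := by
      rw [← hd, List.length_map, hlen]; exact le_add_self
    exact_mod_cast this
  · rintro ⟨hCM, hdim⟩
    haveI := hCM
    have h2 := Groth.L12.RegLift.isWeaklyRegular_of_dim (rs.map f) hmem
      (by rw [hq0, zero_add, List.length_map, hlen, hdim, hn])
    exact Groth.L13.Wild.Kunz.flat_of_isWeaklyRegular n (Localization.AtPrime p) T rs hlen hgen hrs.1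
      ((isWeaklyRegular_map_algebraMap_iff T T rs).1 h2)

/-- Flatness is the Cohen–Macaulay property with the expected local dimension. -/
theorem flat_iff {d : ℕ} [Algebra (MvPolynomial (Fin d) k) S] [IsScalarTower k (MvPolynomial (Fin d) k) S]
    [Algebra.QuasiFinite (MvPolynomial (Fin d) k) S] (q : Ideal S) [q.IsPrime] :
    Module.Flat (MvPolynomial (Fin d) k) (Localization.AtPrime q) ↔
      (LocCoh.IsCohenMacaulayLocalRing (Localization.AtPrime q) ∧
        FlatMor.localDim (PrimeSpectrum S) ⟨q, inferInstance⟩ = (d : WithBot ℕ∞)) := by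
  let A := MvPolynomial (Fin d) k
  let p := q.under A
  haveI : IsNoetherianRing S := Algebra.FiniteType.isNoetherianRing k S
  haveI : IsRegularLocalRing (Localization.AtPrime p) := inferInstance
  obtain ⟨a, b, ha, hb, hl⟩ := exists_localDim_eq k S q
  obtain ⟨h, e, D, hh, he, hD, hsum⟩ := Groth.L22.AffineDim.dim_formula k A p
  have hae : a = e := dim_quotient_eq (k := k) p q ha he
  have hDd : D = d := by
    rw [MvPolynomial.ringKrullDim_of_isNoetherianRing, ringKrullDim_eq_zero_of_field, Nat.card_fin,
      zero_add] at hD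
    exact_mod_cast hD.symm
  have hp : ringKrullDim (Localization.AtPrime p) = h := by
    rw [IsLocalization.AtPrime.ringKrullDim_eq_height p, hh]; rfl
  rw [flat_iff_local p q, hl, hb, hp]
  refine and_congr_right fun _ => ⟨fun e' => ?_, fun e' => ?_⟩
  · have : b = h := by exact_mod_cast e'
    exact_mod_cast (show a + b = d by omega)
  · have : a + b = d := by exact_mod_cast e'
    exact_mod_cast (show b = h by omega)

end Groth.L03.MiracleQF
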