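import Groth.Agent.L22.CurveDeg.NonSpecial
import Groth.Agent.L21.PlaneCurve.Plane

/-!
Connectedness and `h⁰(O) = 1` for reduced proper schemes over an algebraically closed field.
-/

set_option autoImplicit false
set_option backward.isDefEq.respectTransparency false
set_option linter.style.haveILetI false
universe u

open CategoryTheory CategoryTheory.Limits AlgebraicGeometry TopologicalSpace

noncomputable section

namespace Groth.L03.ConnH0

open Groth.L21.RR (h e0 e0_smul oneSec)

variable (k : Type u) [Field k] {X : Scheme.{u}} [X.Over (Spec (CommRingCat.of k))]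
  [IsProper (X ↘ Spec (CommRingCat.of k))]

/-- The functions on a connected reduced proper scheme are constant. -/
theorem h0_structure_eq_one [IsAlgClosed k] [IsReduced X] [ConnectedSpace X] :
    h k 0 (Coh.structureModule X) = 1 := by
  classical
  let f := X ↘ Spec (CommRingCat.of k)
  let R := Γ(X, ⊤)
  letI : Algebra k R := ((f.appTop).hom.comp (Scheme.ΓSpecIso (CommRingCat.of k)).inv.hom).toAlgebra
  haveI : Algebra.IsIntegral k R := ⟨by
    exact (RingHom.IsIntegral.trans _ _ (RingHom.isIntegral_of_surjective _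
      (Scheme.ΓSpecIso (CommRingCat.of k)).symm.commRingCatIsoToRingEquiv.surjective)
      (isIntegral_appTop_of_universallyClosed f))⟩
  have hb : ∀ a : R, ∃ c : k, algebraMap k R c = a := by
    intro a
    obtain ⟨P, hP, hPa⟩ := Algebra.IsIntegral.isIntegral (R := k) a
    have hfac := (IsAlgClosed.splits P).eq_prod_roots_of_monic hP
    have h0 : (P.roots.map fun c => a - algebraMap k R c).prod = 0 := by
      have h1 := congrArg (Polynomial.aeval a) hfac
      rw [← Polynomial.aeval_def] at hPa
      rw [hPa, map_multiset_prod, Multiset.map_map] at h1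
      simpa [Function.comp_def] using h1.symm
    -- the zero loci of the factors
    let Z : k → Set X := fun c => (X.basicOpen (a - algebraMap k R c) : Set X)ᶜ
    have hcov : ∀ x : X, ∃ c ∈ P.roots.toFinset, x ∈ Z c := by
      intro x
      by_contra hx
      push_neg at hx
      have hu : IsUnit (X.presheaf.germ ⊤ x trivial ((P.roots.map fun c => a - algebraMap k R c).prod)) := by
        rw [map_multiset_prod]
        refine Multiset.prod_induction _ _ (fun _ _ h h' => h.mul h') isUnit_one ?_
        intro b hb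
        obtain ⟨d, hd, rfl⟩ := Multiset.mem_map.1 hb
        obtain ⟨c, hc, rfl⟩ := Multiset.mem_map.1 hd
        exact (X.mem_basicOpen (U := (⊤ : X.Opens)) _ x trivial).1 (not_not.1 (hx c (Multiset.mem_toFinset.2 hc)))
      rw [h0, map_zero] at hu
      exact not_isUnit_zero hu
    have hdisj : ∀ c c', c ≠ c' → ∀ x, x ∈ Z c → x ∈ Z c' → False := by
      intro c c' hne x hx hx'
      have hn : ∀ {d : k}, x ∈ Z d → ¬ IsUnit (X.presheaf.germ ⊤ x trivial (a - algebraMap k R d)) :=
        fun {d} hd hu => hd ((X.mem_basicOpen (U := (⊤ : X.Opens)) _ x trivial).2 hu)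
      have hu : IsUnit (X.presheaf.germ ⊤ x trivial (algebraMap k R (c' - c))) :=
        ((Ne.isUnit (sub_ne_zero.2 hne.symm)).map (algebraMap k R)).map (X.presheaf.germ ⊤ x trivial).hom
      have hsum : X.presheaf.germ ⊤ x trivial (algebraMap k R (c' - c)) =
          X.presheaf.germ ⊤ x trivial (a - algebraMap k R c) - X.presheaf.germ ⊤ x trivial (a - algebraMap k R c') := by
        rw [← map_sub, map_sub]; congr 1; ring
      rw [hsum] at hu
      have hm : ∀ {z}, ¬ IsUnit z → z ∈ IsLocalRing.maximalIdeal (X.presheaf.stalk x) :=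
        fun hz => (IsLocalRing.mem_maximalIdeal _).2 hz
      exact (IsLocalRing.mem_maximalIdeal _).1 (Ideal.sub_mem _ (hm (hn hx)) (hm (hn hx'))) hu
    obtain ⟨x₀⟩ := (inferInstance : Nonempty X)
    obtain ⟨c, hc, hxc⟩ := hcov x₀
    refine ⟨c, ?_⟩
    have hclopen : IsClopen (Z c) := by
      refine ⟨(X.basicOpen _).2.isClosed_compl, ?_⟩
      have he : Z c = (⋃ c' ∈ P.roots.toFinset.erase c, Z c')ᶜ := by
        ext x
        simp only [Set.mem_compl_iff, Set.mem_iUnion, Finset.mem_erase, not_exists]
        constructor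
        · exact fun hx c' hc' hx' => hdisj c c' hc'.1.symm x hx hx'
        · intro hx
          obtain ⟨c', hc', hx'⟩ := hcov x
          by_cases h : c' = c
          · exact h ▸ hx'
          · exact absurd hx' (hx c' ⟨h, hc'⟩)
      rw [he]
      exact (isClosed_biUnion_finset fun c' _ => (X.basicOpen _).2.isClosed_compl).isOpen_compl
    have huniv : Z c = Set.univ := hclopen.eq_univ ⟨x₀, hxc⟩
    have hbot : X.basicOpen (a - algebraMap k R c) = ⊥ := by
      refine Opens.ext (Set.eq_empty_iff_forall_notMem.2 fun x hx => ?_)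
      exact (huniv.ge (Set.mem_univ x)) hx
    exact (sub_eq_zero.1 ((basicOpen_eq_bot_iff _).1 hbot)).symm
  let hT : IsTerminal (⊤ : TopologicalSpace.Opens X) :=
    IsTerminal.ofUniqueHom (fun U => homOfLE le_top) (fun _ _ => rfl)
  let F := Coh.toAb (Coh.structureModule X)
  let e : Coh.HH X (Coh.structureModule X) 0 ≃+ Coh.Γtop X := Sheaf.H.equiv₀ F hT
  have he : ∀ (c : k) x, e (c • x) = Coh.toGlobal (X ↘ Spec (CommRingCat.of k)) c * e x := fun c x => by
    show Sheaf.H.equiv₀ F hT (Sheaf.H.map (Coh.smulAb (Coh.structureModule X) _) 0 x) = _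
    rw [← Sheaf.H.equiv₀_naturality]
    refine (Coh.smulAb_app (Coh.structureModule X) _ (Opposite.op ⊤) _).trans ?_
    show Coh.resTop X (Opposite.op ⊤) _ * _ = _
    congr 1
    simp [Coh.resTop]
  obtain ⟨x₀⟩ := (inferInstance : Nonempty X)
  haveI : Nontrivial R := (X.presheaf.germ ⊤ x₀ trivial).hom.domain_nontrivial
  refine finrank_eq_one_iff'.2 ⟨e.symm 1, fun h0 => ?_, fun w => ?_⟩
  · have : (1 : R) = 0 := by
      have h1 := congrArg e h0
      rw [AddEquiv.apply_symm_apply, map_zero] at h1
      exact h1
    exact one_ne_zero this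
  · obtain ⟨c, hc⟩ := hb (e w)
    refine ⟨c, e.injective ?_⟩
    rw [he, AddEquiv.apply_symm_apply, mul_one]
    exact hc

/-- A scheme with at most a line of functions is connected. -/
theorem connectedSpace_of_le [Nonempty X] (hle : h k 0 (Coh.structureModule X) ≤ 1) : ConnectedSpace X := by
  haveI := Groth.L21.RR.isNoetherian_of_proper (X := X) k
  refine Groth.L21.PlaneCurve.connectedSpace_of_h0_eq_one (k := k) (le_antisymm hle ?_)
  obtain ⟨x₀⟩ := (inferInstance : Nonempty X)
  haveI : Nontrivial Γ(X, ⊤) := (X.presheaf.germ ⊤ x₀ trivial).hom.domain_nontrivial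
  haveI : Nontrivial (Coh.HH X (Coh.structureModule X) 0) :=
    ⟨(e0 (Coh.structureModule X)).symm (oneSec X), 0, fun hh => one_ne_zero (α := Γ(X, ⊤))
      ((e0 (Coh.structureModule X)).symm.injective (hh.trans (map_zero _).symm))⟩
  haveI := Groth.L16.ProperFinite.finite_HH k (Groth.L16.CohClosedPush.isCoh_structure (X := X)) 0
  exact Module.finrank_pos

end Groth.L03.ConnH0
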