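import Groth.Agent.L03.Lattice
import Mathlib.RingTheory.OrderOfVanishing.Basic
import Mathlib.RingTheory.Localization.Module
import Mathlib.LinearAlgebra.Dimension.Finrank
import Mathlib.LinearAlgebra.Dimension.Constructions
import Mathlib.LinearAlgebra.FiniteDimensional.Basic
import Mathlib.RingTheory.Artinian.Module

/-!
The key length bound in the Krull–Akizuki theorem.
-/

namespace Groth.L03.Akizuki

universe u v w

variable {R : Type u} [CommRing R] [IsDomain R] [IsNoetherianRing R]

/-- The submodule `x N`. -/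
abbrev xSub (x : R) (N : Type v) [AddCommGroup N] [Module R N] : Submodule R N :=
  LinearMap.range (x • LinearMap.id : N →ₗ[R] N)

theorem xSub_eq (x : R) (N : Type v) [AddCommGroup N] [Module R N] :
    xSub x N = Ideal.span ({x} : Set R) • (⊤ : Submodule R N) := by
  rw [Submodule.ideal_span_singleton_smul]
  ext y
  simp [xSub, Submodule.mem_smul_pointwise_iff_exists]

theorem length_free (x : R) (n : ℕ) :
    Module.length R ((Fin n → R) ⧸ xSub x (Fin n → R)) = n * Ring.ord R x := by
  let c : (Fin n → R) →ₗ[R] (Fin n → R ⧸ Ideal.span {x}) :=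
    ((Ideal.span {x} : Submodule R R).mkQ).compLeft (Fin n)
  have hker : LinearMap.ker c = xSub x (Fin n → R) := by
    ext v
    simp only [LinearMap.mem_ker, xSub, LinearMap.mem_range, LinearMap.smul_apply, LinearMap.id_apply]
    constructor
    · intro hv
      choose w hw using fun i => Ideal.mem_span_singleton'.1
        ((Submodule.Quotient.mk_eq_zero _).1 (congrFun hv i))
      exact ⟨w, funext fun i => by rw [Pi.smul_apply, smul_eq_mul, mul_comm, hw]⟩
    · rintro ⟨w, rfl⟩
      exact funext fun i => (Submodule.Quotient.mk_eq_zero _).2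
        (Ideal.mem_span_singleton'.2 ⟨w i, by simp [mul_comm]⟩)
  have hsurj : Function.Surjective c := fun y => by
    choose z hz using fun i => Submodule.mkQ_surjective _ (y i)
    exact ⟨z, funext hz⟩
  rw [((Submodule.quotEquivOfEq _ _ hker.symm).trans (c.quotKerEquivOfSurjective hsurj)).length_eq,
    Module.length_pi_of_fintype]
  simp [Ring.ord]

/-- `length (N / xN) ≤ r · ord x` for a finite submodule `N` of an `r`-dimensional vector space. -/
theorem length_le_of_finite [Ring.KrullDimLE 1 R] {K : Type v} [Field K] [Algebra R K]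
    [IsFractionRing R K] {V : Type w} [AddCommGroup V] [Module K V] [Module R V]
    [IsScalarTower R K V] [FiniteDimensional K V] {N : Type*} [AddCommGroup N] [Module R N]
    [Module.Finite R N] (ι : N →ₗ[R] V) (hι : Function.Injective ι) {x : R} (hx : x ≠ 0) :
    Module.length R (N ⧸ xSub x N) ≤ Module.finrank K V * Ring.ord R x := by
  classical
  haveI : Module.IsTorsionFree R V := Module.isTorsionFree_iff_smul_eq_zero.2 fun r v h => by
    rw [← algebraMap_smul K r v, smul_eq_zero] at h
    exact h.imp_left fun h => (injective_iff_map_eq_zero _).1 (IsFractionRing.injective R K) r h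
  haveI : Module.IsTorsionFree R N := hι.moduleIsTorsionFree ι (map_smul ι)
  obtain ⟨n, f, g, c, hc, hgf, hfg⟩ := Lattice.exists_free_comp (R := R) N
  have hginj : Function.Injective g := Lattice.injective_of_comp g f hc hfg
  have hn : n ≤ Module.finrank K V := by
    have h1 : LinearIndependent R fun i => ι (g (Pi.single i 1)) := by
      have := (Pi.basisFun R (Fin n)).linearIndependent.map' (ι ∘ₗ g)
        (LinearMap.ker_eq_bot.2 (hι.comp hginj))
      simpa [Function.comp_def] using this
    have h2 := ((LinearIndependent.iff_fractionRing R K).1 h1).fintype_card_le_finrank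
    simpa using h2
  let F := Fin n → R
  let W : Submodule R N := LinearMap.range g
  let Q : Submodule R N := LinearMap.range (g ∘ₗ (x • LinearMap.id : F →ₗ[R] F))
  have hQW : Q ≤ W := LinearMap.range_comp_le_range _ _
  have hQX : Q ≤ xSub x N := by
    rintro _ ⟨v, rfl⟩
    exact ⟨g v, by simp⟩
  let i₁ : (F ⧸ xSub x F) →ₗ[R] N ⧸ Q :=
    (xSub x F).mapQ Q g (by rintro _ ⟨v, rfl⟩; exact ⟨v, rfl⟩)
  have hi₁ : Function.Injective i₁ := by
    rw [← LinearMap.ker_eq_bot, LinearMap.ker_eq_bot']
    intro z hz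
    obtain ⟨v, rfl⟩ := Submodule.mkQ_surjective _ z
    obtain ⟨w, hw⟩ := (Submodule.Quotient.mk_eq_zero Q).1 hz
    exact (Submodule.Quotient.mk_eq_zero _).2 ⟨w, hginj hw⟩
  have he₁ : Function.Exact i₁ (Submodule.factor hQW) := by
    intro z
    obtain ⟨y, rfl⟩ := Q.mkQ_surjective z
    constructor
    · intro h
      obtain ⟨v, rfl⟩ := (Submodule.Quotient.mk_eq_zero W).1 h
      exact ⟨Submodule.Quotient.mk v, rfl⟩
    · rintro ⟨v, hv⟩
      obtain ⟨v, rfl⟩ := Submodule.mkQ_surjective _ v
      rw [← hv]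
      exact (Submodule.Quotient.mk_eq_zero W).2 ⟨v, rfl⟩
  let i₂ : (N ⧸ W) →ₗ[R] N ⧸ Q :=
    W.mapQ Q (x • LinearMap.id) (by rintro _ ⟨v, rfl⟩; exact ⟨v, by simp⟩)
  have hi₂ : Function.Injective i₂ := by
    rw [← LinearMap.ker_eq_bot, LinearMap.ker_eq_bot']
    intro z hz
    obtain ⟨y, rfl⟩ := Submodule.mkQ_surjective _ z
    obtain ⟨w, hw⟩ := (Submodule.Quotient.mk_eq_zero Q).1 hz
    refine (Submodule.Quotient.mk_eq_zero W).2 ⟨w, smul_right_injective N hx ?_⟩
    simpa using hw
  have he₂ : Function.Exact i₂ (Submodule.factor hQX) := by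
    intro z
    obtain ⟨y, rfl⟩ := Q.mkQ_surjective z
    constructor
    · intro h
      obtain ⟨v, rfl⟩ := (Submodule.Quotient.mk_eq_zero (xSub x N)).1 h
      exact ⟨Submodule.Quotient.mk v, rfl⟩
    · rintro ⟨v, hv⟩
      obtain ⟨v, rfl⟩ := Submodule.mkQ_surjective _ v
      rw [← hv]
      exact (Submodule.Quotient.mk_eq_zero _).2 ⟨v, rfl⟩
  have hfinW : Module.length R (N ⧸ W) ≠ ⊤ := by
    obtain ⟨m, p, hp⟩ := Module.Finite.exists_fin' R N
    have hle : xSub c (Fin m → R) ≤ LinearMap.ker (W.mkQ ∘ₗ p) := by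
      rintro _ ⟨v, rfl⟩
      exact (Submodule.Quotient.mk_eq_zero W).2 ⟨f (p v), by simp [hgf]⟩
    have hsurj : Function.Surjective ((xSub c (Fin m → R)).liftQ (W.mkQ ∘ₗ p) hle) := by
      intro y
      obtain ⟨y, rfl⟩ := W.mkQ_surjective y
      obtain ⟨v, rfl⟩ := hp y
      exact ⟨Submodule.Quotient.mk v, rfl⟩
    refine ne_top_of_le_ne_top ?_ (Module.length_le_of_surjective _ hsurj)
    rw [length_free]
    exact WithTop.mul_ne_top (ENat.coe_ne_top m) (Ring.ord_ne_top (mem_nonZeroDivisors_of_ne_zero hc))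
  have e1 := Module.length_eq_add_of_exact i₁ (Submodule.factor hQW) hi₁
    (Submodule.factor_surjective hQW) he₁
  have e2 := Module.length_eq_add_of_exact i₂ (Submodule.factor hQX) hi₂
    (Submodule.factor_surjective hQX) he₂
  rw [e2, add_comm] at e1
  rw [WithTop.add_right_cancel hfinW e1, length_free]
  gcongr

/-- `length (M / xM) ≤ r · ord x` for any submodule `M` of an `r`-dimensional vector space. -/
theorem length_le [Ring.KrullDimLE 1 R] {K : Type v} [Field K] [Algebra R K] [IsFractionRing R K]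
    {V : Type w} [AddCommGroup V] [Module K V] [Module R V] [IsScalarTower R K V]
    [FiniteDimensional K V] {M : Type*} [AddCommGroup M] [Module R M] (ι : M →ₗ[R] V)
    (hι : Function.Injective ι) {x : R} (hx : x ≠ 0) :
    Module.length R (M ⧸ xSub x M) ≤ Module.finrank K V * Ring.ord R x := by
  classical
  rw [Module.length_eq_height]
  refine Order.height_le fun s hs => ?_
  have hel : ∀ i : Fin s.length, ∃ y : M, (xSub x M).mkQ y ∈ s i.succ ∧
      (xSub x M).mkQ y ∉ s i.castSucc := by
    intro i
    obtain ⟨z, hz, hz'⟩ := SetLike.exists_of_lt (show s i.castSucc < s i.succ from s.step i)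
    obtain ⟨y, rfl⟩ := Submodule.mkQ_surjective _ z
    exact ⟨y, hz, hz'⟩
  choose y hy hy' using hel
  let N : Submodule R M := Submodule.span R (Set.range y)
  haveI : Module.Finite R N := Module.Finite.span_of_finite R (Set.finite_range y)
  let j : (N ⧸ xSub x N) →ₗ[R] M ⧸ xSub x M :=
    (xSub x N).mapQ (xSub x M) N.subtype (by rintro _ ⟨v, rfl⟩; exact ⟨N.subtype v, by simp⟩)
  let t : LTSeries (Submodule R (N ⧸ xSub x N)) :=
    ⟨s.length, fun i => (s i).comap j, fun i => by
      refine lt_of_le_not_ge (Submodule.comap_mono (s.step i).le) fun hle => ?_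
      have hmem : (xSub x N).mkQ ⟨y i, Submodule.subset_span ⟨i, rfl⟩⟩ ∈ (s i.succ).comap j := hy i
      exact hy' i (hle hmem)⟩
  have h1 : (s.length : ℕ∞) ≤ Module.length R (N ⧸ xSub x N) := by
    rw [← WithBot.coe_le_coe, Module.coe_length]
    exact Order.LTSeries.length_le_krullDim t
  exact h1.trans (length_le_of_finite (ι ∘ₗ N.subtype) (hι.comp Subtype.val_injective) hx)

end Groth.L03.Akizuki
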