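import Mathlib.Algebra.DirectSum.Module
import Mathlib.LinearAlgebra.DirectSum.Basis
import Mathlib.Data.Set.Countable
import Mathlib.RingTheory.LocalProperties.Projective
import Mathlib.RingTheory.Ideal.Quotient.Noetherian
import Mathlib.RingTheory.Localization.AtPrime.Basic
import Mathlib.RingTheory.Jacobson.Ideal
import Groth.Agent.L01.Kaplansky

/-!
Bass: projective modules of infinite rank over a ring which is Noetherian modulo its Jacobson
radical.
-/

set_option autoImplicit false

universe u v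

namespace Groth.L03.Bass

variable {R : Type u} [CommRing R]

/-- No fibre at a maximal ideal is finitely generated. -/
def InfRank (R : Type u) [CommRing R] (P : Type v) [AddCommGroup P] [Module R P] : Prop :=
  ∀ x : Ideal R, x.IsMaximal → ∀ N : Submodule R P, N.FG → N ⊔ x • (⊤ : Submodule R P) ≠ ⊤

theorem infRank_of_localization {P : Type u} [AddCommGroup P] [Module R P] [Module.Projective R P]
    (hP : ∀ (m : Ideal R) [m.IsMaximal],
      ¬ Module.Finite (Localization.AtPrime m) (LocalizedModule m.primeCompl P)) : InfRank R P := by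
  classical
  intro x hx N hN hsup
  obtain ⟨t, rfl⟩ := hN
  apply hP x
  let f := LocalizedModule.mkLinearMap x.primeCompl P
  have : Module.Projective (Localization.AtPrime x) (LocalizedModule x.primeCompl P) :=
    Module.projective_of_isLocalizedModule x.primeCompl f
  have := Groth.L01.free_of_projective (R := Localization.AtPrime x) (LocalizedModule x.primeCompl P)
  let b := Module.Free.chooseBasis (Localization.AtPrime x) (LocalizedModule x.primeCompl P)
  let T := t.biUnion fun p => (b.repr (f p)).support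
  have hall : ∀ i, i ∈ T := by
    intro i
    by_contra hi
    have key : ∀ z : P, b.repr (f z) i ∈ IsLocalRing.maximalIdeal (Localization.AtPrime x) := by
      intro z
      have hz : z ∈ Submodule.span R (t : Set P) ⊔ x • (⊤ : Submodule R P) := hsup.ge Submodule.mem_top
      obtain ⟨a, ha, c, hc, rfl⟩ := Submodule.mem_sup.1 hz
      rw [map_add, map_add, Finsupp.add_apply]
      refine add_mem ?_ ?_
      · clear hz
        induction ha using Submodule.span_induction with
        | mem p hp =>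
          rw [Finsupp.notMem_support_iff.1 fun h => hi (Finset.mem_biUnion.2 ⟨p, hp, h⟩)]
          exact zero_mem _
        | zero => simp
        | add p q _ _ hp hq => rw [map_add, map_add, Finsupp.add_apply]; exact add_mem hp hq
        | smul r p _ hp =>
          rw [map_smul, ← algebraMap_smul (Localization.AtPrime x) r (f p), map_smul,
            Finsupp.smul_apply, smul_eq_mul]
          exact Ideal.mul_mem_left _ _ hp
      · refine Submodule.smul_induction_on hc (fun r hr p _ => ?_) (fun p q hp hq => ?_)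
        · rw [map_smul, ← algebraMap_smul (Localization.AtPrime x) r (f p), map_smul,
            Finsupp.smul_apply, smul_eq_mul]
          exact Ideal.mul_mem_right _ _
            ((IsLocalization.AtPrime.to_map_mem_maximal_iff _ x r).2 hr)
        · rw [map_add, map_add, Finsupp.add_apply]; exact add_mem hp hq
    obtain ⟨⟨z, s⟩, hz⟩ := IsLocalizedModule.surj x.primeCompl f (b i)
    have h1 := key z
    change _ = f z at hz
    rw [← hz, Submonoid.smul_def, ← algebraMap_smul (Localization.AtPrime x) (s : R) (b i), map_smul,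
      b.repr_self, Finsupp.smul_apply, Finsupp.single_eq_same, smul_eq_mul, mul_one,
      IsLocalization.AtPrime.to_map_mem_maximal_iff _ x] at h1
    exact s.2 h1
  have : Finite (Module.Free.ChooseBasisIndex (Localization.AtPrime x) (LocalizedModule x.primeCompl P)) :=
    Finite.of_surjective (fun i : T => i.1) fun i => ⟨⟨i, hall i⟩, rfl⟩
  exact Module.Finite.of_basis b

variable {P : Type v} [AddCommGroup P] [Module R P]

theorem InfRank.of_sup (hinf : InfRank R P) (p : P →ₗ[R] P)
    (hN : ∃ N : Submodule R P, N.FG ∧ N ⊔ LinearMap.range p = ⊤) :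
    InfRank R (LinearMap.range p) := by
  obtain ⟨N, hN, hsup⟩ := hN
  intro x hx N' hN' htop
  refine hinf x hx (N ⊔ N'.map (LinearMap.range p).subtype) (hN.sup (hN'.map _)) ?_
  rw [eq_top_iff]
  conv_lhs => rw [← hsup]
  rw [sup_assoc]
  refine sup_le_sup le_rfl ?_
  have := congrArg (Submodule.map (LinearMap.range p).subtype) htop
  rw [Submodule.map_sup, Submodule.map_top, Submodule.range_subtype, Submodule.map_smul''] at this
  exact this.ge.trans (sup_le_sup le_rfl (Submodule.smul_mono le_rfl le_top))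

theorem exists_fg_sup {d : ℕ} (p : P →ₗ[R] P) (e : (Fin d → R) →ₗ[R] P) (r : P →ₗ[R] (Fin d → R))
    (hN : ∃ N : Submodule R P, N.FG ∧ N ⊔ LinearMap.range p = ⊤) :
    ∃ N : Submodule R P, N.FG ∧ N ⊔ LinearMap.range (p - e ∘ₗ r) = ⊤ := by
  obtain ⟨N, hN, hsup⟩ := hN
  refine ⟨N ⊔ LinearMap.range e, hN.sup (Submodule.fg_range e), ?_⟩
  rw [eq_top_iff, ← hsup, sup_assoc]
  refine sup_le_sup le_rfl ?_
  rintro _ ⟨y, rfl⟩
  exact Submodule.mem_sup.2 ⟨_, LinearMap.mem_range_self e (r y), _, LinearMap.mem_range_self _ y,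
    by simp⟩

variable [IsNoetherianRing (R ⧸ (⊥ : Ideal R).jacobson)]

/-- Bass's lemma: a unimodular element in a coset of a submodule of cofinite type, detected by
coordinates outside a finite set. -/
theorem exists_unimodular (hinf : InfRank R P) (M : Submodule R P)
    (hM : ∃ N : Submodule R P, N.FG ∧ N ⊔ M = ⊤) (s₀ : P) {α : Type*} (co : P →ₗ[R] (α →₀ R))
    (q : (α →₀ R) →ₗ[R] P) (hq : ∀ p, q (co p) = p) (T : Finset α) :
    ∃ m ∈ M, ∃ φ : P →ₗ[R] R, φ (s₀ + m) = 1 ∧ ∀ p, (∀ i, i ∉ T → co p i = 0) → φ p = 0 := by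
  classical
  set J := (⊥ : Ideal R).jacobson with hJ
  let mk := Ideal.Quotient.mk J
  let I : P → Ideal R := fun v => Ideal.span (Set.range fun i : {i // i ∉ T} => co v i.1)
  obtain ⟨_, ⟨m, hm, rfl⟩, hmax⟩ := set_has_maximal_iff_noetherian.2
    (inferInstance : IsNoetherian (R ⧸ J) (R ⧸ J))
    ((fun m => (I (s₀ + m)).map mk) '' (M : Set P)) ⟨_, 0, M.zero_mem, rfl⟩
  suffices htop : I (s₀ + m) = ⊤ by
    obtain ⟨g, hg⟩ := Finsupp.mem_span_range_iff_exists_finsupp.1
      (show (1 : R) ∈ Submodule.span R (Set.range fun i : {i // i ∉ T} => co (s₀ + m) i.1) from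
        htop.ge Submodule.mem_top)
    refine ⟨m, hm, (∑ i ∈ g.support, g i • Finsupp.lapply i.1) ∘ₗ co, ?_, fun p hp => ?_⟩
    · rw [← hg, LinearMap.comp_apply, LinearMap.sum_apply, Finsupp.sum]
      rfl
    · rw [LinearMap.comp_apply, LinearMap.sum_apply]
      exact Finset.sum_eq_zero fun i _ => by simp [hp i.1 i.2]
  by_contra hne
  have hne' : I (s₀ + m) ⊔ J ≠ ⊤ := by
    intro h
    obtain ⟨x, hx, hle⟩ := Ideal.exists_le_maximal _ hne
    exact hx.ne_top (top_le_iff.1 (h ▸ sup_le hle (sInf_le ⟨bot_le, hx⟩)))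
  obtain ⟨x, hx, hle⟩ := Ideal.exists_le_maximal _ hne'
  let T2 := T ∪ (co (s₀ + m)).support
  let Ψ : P →ₗ[R] (T2 → R ⧸ J) := LinearMap.pi fun i => Submodule.mkQ J ∘ₗ Finsupp.lapply i.1 ∘ₗ co
  have : IsNoetherian R (R ⧸ J) := ⟨fun N => by
    obtain ⟨w, hw⟩ := IsNoetherian.noetherian (Submodule.span (R ⧸ J) (N : Set (R ⧸ J)))
    refine ⟨w, ?_⟩
    rw [← Submodule.restrictScalars_span R (R ⧸ J) Ideal.Quotient.mk_surjective, hw,
      Submodule.restrictScalars_span R (R ⧸ J) Ideal.Quotient.mk_surjective, Submodule.span_eq]⟩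
  obtain ⟨k, hkM, hk, hkx⟩ : ∃ k ∈ M, Ψ k = 0 ∧ ∃ i, co k i ∉ x := by
    by_contra hno
    simp only [not_exists, not_and, not_not] at hno
    obtain ⟨N, hN, hsup⟩ := hM
    obtain ⟨N', hN'M, hN', hmap⟩ : ∃ N' ≤ M, N'.FG ∧ N'.map Ψ = M.map Ψ := by
      obtain ⟨w, hw⟩ := IsNoetherian.noetherian (M.map Ψ)
      have hpre : ∀ z : (w : Set (T2 → R ⧸ J)), ∃ y ∈ M, Ψ y = z.1 := fun z =>
        hw.le (Submodule.subset_span z.2)
      choose y hyM hy using hpre
      refine ⟨Submodule.span R (Set.range y), Submodule.span_le.2 (by rintro _ ⟨z, rfl⟩; exact hyM z),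
        Submodule.fg_span (Set.finite_range y), ?_⟩
      rw [Submodule.map_span, ← Set.range_comp, ← hw]
      congr 1
      ext z
      constructor
      · rintro ⟨z', rfl⟩
        rw [Function.comp_apply, hy]
        exact z'.2
      · intro hz
        exact ⟨⟨z, hz⟩, hy ⟨z, hz⟩⟩
    refine hinf x hx (N ⊔ N') (hN.sup hN') ?_
    rw [eq_top_iff]
    conv_lhs => rw [← hsup]
    rw [sup_assoc]
    refine sup_le_sup le_rfl fun z hz => ?_
    obtain ⟨z', hz', hzz⟩ := hmap.ge ⟨z, hz, rfl⟩
    refine Submodule.mem_sup.2 ⟨z', hz', z - z', ?_, by abel⟩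
    rw [← hq (z - z'), ← Finsupp.sum_single (co (z - z')), map_finsuppSum]
    refine Submodule.sum_mem _ fun i _ => ?_
    have hsingle : q (Finsupp.single i (co (z - z') i)) = co (z - z') i • q (Finsupp.single i 1) := by
      rw [← map_smul, Finsupp.smul_single, smul_eq_mul, mul_one]
    simp only [hsingle]
    exact Submodule.smul_mem_smul
      (hno (z - z') (M.sub_mem hz (hN'M hz')) (by rw [map_sub, hzz, sub_self]) i) Submodule.mem_top
  obtain ⟨i, hi⟩ := hkx
  have hJx : J ≤ x := sInf_le ⟨bot_le, hx⟩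
  have hT2 : ∀ j ∈ T2, co k j ∈ J := fun j hj => by
    have := congrFun hk ⟨j, hj⟩
    exact Ideal.Quotient.eq_zero_iff_mem.1 (by simpa [Ψ] using this)
  have hi2 : i ∉ T2 := fun h => hi (hJx (hT2 i h))
  refine hmax _ ⟨m + k, M.add_mem hm hkM, rfl⟩ (lt_of_le_of_ne ?_ ?_)
  · show (I (s₀ + m)).map mk ≤ (I (s₀ + (m + k))).map mk
    rw [Ideal.map_le_iff_le_comap, Ideal.span_le]
    rintro _ ⟨j, rfl⟩
    by_cases hj : j.1 ∈ T2
    · have h1 : mk (co (s₀ + m) j.1) = mk (co (s₀ + (m + k)) j.1) := by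
        simp [mk, ← add_assoc, Ideal.Quotient.eq_zero_iff_mem.2 (hT2 j.1 hj)]
      rw [SetLike.mem_coe, Ideal.mem_comap]
      dsimp only
      rw [h1]
      exact Ideal.mem_map_of_mem mk (Ideal.subset_span ⟨j, rfl⟩)
    · have h0 : co (s₀ + m) j.1 = 0 :=
        Finsupp.notMem_support_iff.1 fun h => hj (Finset.mem_union_right _ h)
      rw [SetLike.mem_coe]
      dsimp only
      rw [h0]
      exact zero_mem _
  · show (I (s₀ + m)).map mk ≠ (I (s₀ + (m + k))).map mk
    intro heq
    have hiT : i ∉ T := fun h => hi2 (Finset.mem_union_left _ h)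
    have hi0 : co (s₀ + m) i = 0 := Finsupp.notMem_support_iff.1 fun h => hi2 (Finset.mem_union_right _ h)
    have h1 : mk (co (s₀ + (m + k)) i) ∈ (I (s₀ + m)).map mk :=
      heq ▸ Ideal.mem_map_of_mem mk (Ideal.subset_span ⟨⟨i, hiT⟩, rfl⟩)
    rw [← add_assoc, map_add co (s₀ + m) k, Finsupp.add_apply, hi0, zero_add, ← Ideal.mem_comap,
      Ideal.comap_map_of_surjective mk Ideal.Quotient.mk_surjective, ← RingHom.ker_eq_comap_bot,
      Ideal.mk_ker] at h1
    exact hi (hle h1)

variable [Module.Projective R P]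

/-- Every element lies in a finite free direct summand. -/
theorem exists_free_summand_mem (hinf : InfRank R P) (y : P) :
    ∃ (n : ℕ) (e : (Fin n → R) →ₗ[R] P) (r : P →ₗ[R] (Fin n → R)),
      r ∘ₗ e = LinearMap.id ∧ y ∈ LinearMap.range e := by
  classical
  obtain ⟨co, hco⟩ := Module.projective_def'.1 (inferInstance : Module.Projective R P)
  have hq : ∀ p, Finsupp.linearCombination R id (co p) = p := fun p => LinearMap.congr_fun hco p
  have split : ∀ n, ∃ (e : (Fin n → R) →ₗ[R] P) (r : P →ₗ[R] (Fin n → R)),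
      (∀ c, r (e c) = c) ∧ r y = 0 := by
    intro n
    induction n with
    | zero => exact ⟨0, 0, fun c => Subsingleton.elim _ _, rfl⟩
    | succ n ih =>
      obtain ⟨e, r, her, hry⟩ := ih
      obtain ⟨u, hu, φ, hφ, hφ0⟩ := exists_unimodular hinf (LinearMap.ker r)
        ⟨LinearMap.range e, Submodule.fg_range e, eq_top_iff.2 fun p _ => Submodule.mem_sup.2
          ⟨_, LinearMap.mem_range_self e (r p), p - e (r p), by simp [her], by abel⟩⟩
        0 co _ hq ((co y).support ∪ Finset.univ.biUnion fun j => (co (e (Pi.single j 1))).support)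
      rw [zero_add] at hφ
      have hφy : φ y = 0 := hφ0 y fun i hi => Finsupp.notMem_support_iff.1 fun h =>
        hi (Finset.mem_union_left _ h)
      have hφe : φ ∘ₗ e = 0 := by
        refine LinearMap.pi_ext fun j c => ?_
        have h1 : (Pi.single j c : Fin n → R) = c • Pi.single j 1 := by
          rw [← Pi.single_smul, smul_eq_mul, mul_one]
        rw [LinearMap.comp_apply, h1, map_smul, map_smul, hφ0 _ fun i hi => ?_, smul_zero,
          LinearMap.zero_apply]
        exact Finsupp.notMem_support_iff.1 fun h =>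
          hi (Finset.mem_union_right _ (Finset.mem_biUnion.2 ⟨j, Finset.mem_univ _, h⟩))
      refine ⟨(LinearMap.proj 0).smulRight u + e ∘ₗ LinearMap.funLeft R R Fin.succ,
        LinearMap.pi (Fin.cons φ fun j => LinearMap.proj j ∘ₗ r), fun c => ?_, ?_⟩
      · funext j
        have h2 : φ (e (LinearMap.funLeft R R Fin.succ c)) = 0 := LinearMap.congr_fun hφe _
        refine Fin.cases ?_ (fun j => ?_) j
        · simp [hφ, h2]
        · simp [LinearMap.mem_ker.1 hu, her, LinearMap.funLeft_apply]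
      · funext j
        refine Fin.cases ?_ (fun j => ?_) j <;> simp [hφy, hry]
  let σ := (co y).support.equivFin
  obtain ⟨e₀, r₀, her, hry⟩ := split (co y).support.card
  let π₀ : (Fin (co y).support.card → R) →ₗ[R] P :=
    Fintype.linearCombination R fun j => ((σ.symm j).1 : P)
  let φ₀ : P →ₗ[R] (Fin (co y).support.card → R) :=
    LinearMap.pi fun j => Finsupp.lapply (σ.symm j).1 ∘ₗ co
  have hπ : π₀ (φ₀ y) = y := by
    conv_rhs => rw [← hq y]
    rw [Finsupp.linearCombination_apply, Finsupp.sum, ← Finset.sum_coe_sort]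
    simp only [π₀, φ₀, Fintype.linearCombination_apply]
    exact Fintype.sum_equiv σ.symm _ _ fun j => rfl
  let pr : P →ₗ[R] P := LinearMap.id - e₀ ∘ₗ r₀
  have hpre : ∀ c, pr (e₀ c) = 0 := fun c => by simp [pr, her]
  have hrpr : ∀ p, r₀ (pr p) = 0 := fun p => by simp [pr, her]
  have hpry : pr y = y := by simp [pr, hry]
  refine ⟨_, pr ∘ₗ π₀ + e₀ ∘ₗ (LinearMap.id - φ₀ ∘ₗ pr ∘ₗ pr ∘ₗ π₀), φ₀ ∘ₗ pr + r₀, ?_, φ₀ y, ?_⟩
  · refine LinearMap.ext fun c => ?_
    simp only [LinearMap.comp_apply, LinearMap.add_apply, LinearMap.sub_apply, LinearMap.id_apply,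
      map_add, hpre, hrpr, her, map_zero, add_zero, zero_add]
    abel
  · simp [hπ, hpry]

/-- A countably generated projective module of infinite rank is free. -/
theorem free_of_countablyGen (P : Type v)
    [AddCommGroup P] [Module R P] [Module.Projective R P] (hinf : InfRank R P)
    (hP : ∃ t : Set P, t.Countable ∧ Submodule.span R t = ⊤) : Module.Free R P := by
  classical
  obtain ⟨t, htc, hts⟩ := hP
  obtain ⟨x, hx⟩ : ∃ x : ℕ → P, t ⊆ Set.range x := by
    rcases (htc.insert 0).exists_eq_range (Set.insert_nonempty _ _) with ⟨x, hx⟩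
    exact ⟨x, (Set.subset_insert _ _).trans hx.subset⟩
  have step : ∀ (p : {p : P →ₗ[R] P // (∀ y, p (p y) = p y) ∧ ∃ N : Submodule R P, N.FG ∧ N ⊔ LinearMap.range p = ⊤}) (n : ℕ),
      ∃ (d : ℕ) (ι : (Fin d → R) →ₗ[R] P) (r : P →ₗ[R] (Fin d → R)),
        (∀ w, p.1 (ι w) = ι w) ∧ (∀ y, r (p.1 y) = r y) ∧ (∀ w, r (ι w) = w) ∧
          ι (r (x n)) = p.1 (x n) := by
    rintro ⟨p, hp, hN⟩ n
    let p' := p.rangeRestrict
    have : Module.Projective R (LinearMap.range p) := by
      refine Module.Projective.of_split (R := R) (M := P) (LinearMap.range p).subtype p' (LinearMap.ext ?_)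
      rintro ⟨_, y, rfl⟩
      exact Subtype.ext (hp y)
    obtain ⟨d, ι, r, hri, hxr⟩ := exists_free_summand_mem (hinf.of_sup p hN) (p' (x n))
    refine ⟨d, (LinearMap.range p).subtype ∘ₗ ι, r ∘ₗ p', fun w => ?_, fun y => ?_, fun w => ?_, ?_⟩
    · obtain ⟨y, hy⟩ := (ι w).2
      simp only [LinearMap.comp_apply, Submodule.subtype_apply, ← hy, hp]
    · simp only [LinearMap.comp_apply]
      exact congrArg r (Subtype.ext (hp y))
    · have : p' (ι w : P) = ι w := by
        obtain ⟨y, hy⟩ := (ι w).2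
        exact Subtype.ext (show p (ι w : P) = ι w by rw [← hy, hp])
      simp only [LinearMap.comp_apply, Submodule.subtype_apply, this]
      exact LinearMap.congr_fun hri w
    · obtain ⟨w, hw⟩ := hxr
      simp only [LinearMap.comp_apply, Submodule.subtype_apply, ← hw]
      rw [show r (ι w) = w from LinearMap.congr_fun hri w, hw]
      rfl
  choose d ι r h1 h2 h3 h4 using step
  let next : ℕ → {p : P →ₗ[R] P // (∀ y, p (p y) = p y) ∧ ∃ N : Submodule R P, N.FG ∧ N ⊔ LinearMap.range p = ⊤} → {p : P →ₗ[R] P // (∀ y, p (p y) = p y) ∧ ∃ N : Submodule R P, N.FG ∧ N ⊔ LinearMap.range p = ⊤} :=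
    fun n p => ⟨p.1 - ι p n ∘ₗ r p n, fun y => by simp [p.2.1, h1, h2, h3],
      exists_fg_sup p.1 (ι p n) (r p n) p.2.2⟩
  let S : ℕ → {p : P →ₗ[R] P // (∀ y, p (p y) = p y) ∧ ∃ N : Submodule R P, N.FG ∧ N ⊔ LinearMap.range p = ⊤} :=
    fun n => Nat.rec ⟨LinearMap.id, fun _ => rfl, ⊥, Submodule.fg_bot, by simp⟩ next n
  have hS : ∀ n y, (S (n + 1)).1 y = (S n).1 y - ι (S n) n (r (S n) n y) := fun n y => rfl
  have hle : ∀ m k, ∀ y, (S m).1 ((S (m + k)).1 y) = (S (m + k)).1 y ∧
      (S (m + k)).1 ((S m).1 y) = (S (m + k)).1 y := by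
    intro m k
    induction k with
    | zero => exact fun y => ⟨(S m).2.1 y, (S m).2.1 y⟩
    | succ k ih =>
      intro y
      refine ⟨?_, ?_⟩
      · rw [show m + (k + 1) = m + k + 1 from rfl, hS, map_sub, (ih y).1,
          ← h1 (S (m + k)) (m + k), (ih _).1]
      · rw [show m + (k + 1) = m + k + 1 from rfl, hS, hS, (ih y).2,
          ← h2 (S (m + k)) (m + k) ((S m).1 y), (ih y).2, h2]
  have orth : ∀ m n, m ≠ n → ∀ w, r (S n) n (ι (S m) m w) = 0 := by
    intro m n hmn w
    rcases Nat.lt_or_gt_of_ne hmn with h | h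
    · obtain ⟨k, rfl⟩ := Nat.exists_eq_add_of_le (Nat.succ_le_of_lt h)
      rw [← h2, ← (hle (m + 1) k _).2, hS, h1, h3, sub_self, map_zero, map_zero]
    · obtain ⟨k, rfl⟩ := Nat.exists_eq_add_of_le (Nat.succ_le_of_lt h)
      rw [← h1 (S (n + 1 + k)) (n + 1 + k), ← (hle (n + 1) k _).1, hS, map_sub, h3, ← h2, (S n).2.1,
        sub_eq_zero]
      simp [h1, h2]
  let Φ : DirectSum ℕ (fun n => Fin (d (S n) n) → R) →ₗ[R] P :=
    DirectSum.toModule R ℕ P fun n => ι (S n) n
  have hΦ : Function.Bijective Φ := by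
    constructor
    · intro u v huv
      refine DirectSum.ext_component (R := R) fun n => ?_
      have key : r (S n) n ∘ₗ Φ = DirectSum.component R ℕ _ n := by
        refine DirectSum.linearMap_ext R fun m => LinearMap.ext fun w => ?_
        by_cases hmn : m = n
        · subst hmn; simp [Φ, h3]
        · simp [Φ, orth m n hmn, DirectSum.component.of, hmn]
      rw [← LinearMap.congr_fun key, ← LinearMap.congr_fun key]
      simp [huv]
    · rw [← LinearMap.range_eq_top, ← top_le_iff, ← hts, Submodule.span_le]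
      intro y hy
      obtain ⟨n, rfl⟩ := hx hy
      have hres : ∀ n y, y - (S n).1 y ∈ LinearMap.range Φ := by
        intro n y
        induction n with
        | zero => simp [S]
        | succ n ih =>
          rw [hS, sub_sub_eq_add_sub, add_sub_right_comm]
          exact add_mem ih ⟨DirectSum.lof R ℕ _ n (r (S n) n y), by simp [Φ]⟩
      have := hres (n + 1) (x n)
      rw [hS, h4, sub_self, sub_zero] at this
      exact this
  exact Module.Free.of_equiv (LinearEquiv.ofBijective Φ hΦ)

end Groth.L03.Bass
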