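import Mathlib.RingTheory.Bezout
import Mathlib.LinearAlgebra.FreeModule.Basic
import Mathlib.RingTheory.Finiteness.Basic
import Mathlib.RingTheory.Finiteness.Prod
import Mathlib.Algebra.Exact.Basic
import Mathlib.LinearAlgebra.Basis.Prod
import Mathlib.Algebra.Module.Projective
import Mathlib.LinearAlgebra.StdBasis
import Mathlib.RingTheory.PrincipalIdealDomain

/-!
Finitely generated submodules of finite free modules over a Bézout domain are free.
-/

namespace Groth.L03.BezoutFree

universe u

variable {R : Type u} [CommRing R] [IsDomain R] [IsBezout R]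

theorem free_ideal (I : Ideal R) (hI : I.FG) : Module.Free R I := by
  obtain ⟨a, ha⟩ := (IsBezout.isPrincipal_of_FG I hI).principal
  subst ha
  by_cases h : a = 0
  · subst h
    haveI : Subsingleton (R ∙ (0 : R)) := by
      rw [Submodule.span_zero_singleton]
      infer_instance
    exact Module.Free.of_subsingleton R _
  · exact Module.Free.of_equiv (LinearEquiv.toSpanNonzeroSingleton R R a h)

theorem free_submodule : ∀ (n : ℕ) (N : Submodule R (Fin n → R)), N.FG → Module.Free R N := by
  intro n
  induction n with
  | zero =>
    intro N _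
    exact Module.Free.of_subsingleton R _
  | succ n ih =>
    intro N hN
    haveI : Module.Finite R N := Module.Finite.iff_fg.2 hN
    let φ : N →ₗ[R] R := LinearMap.proj 0 ∘ₗ N.subtype
    haveI : Module.Free R (LinearMap.range φ) :=
      free_ideal _ (Module.Finite.iff_fg.1 inferInstance)
    obtain ⟨t, ht⟩ := Module.projective_lifting_property φ.rangeRestrict LinearMap.id
      φ.surjective_rangeRestrict
    have hex : Function.Exact (LinearMap.ker φ).subtype φ.rangeRestrict := by
      rw [LinearMap.exact_iff, Submodule.range_subtype, LinearMap.ker_rangeRestrict]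
    obtain ⟨e, -, -⟩ := hex.splitSurjectiveEquiv (Submodule.injective_subtype _) ⟨t, ht⟩
    haveI : Module.Finite R (LinearMap.ker φ) :=
      Module.Finite.of_surjective ((LinearMap.fst R _ _) ∘ₗ e.toLinearMap) (fun x => by
        obtain ⟨y, hy⟩ := e.surjective (x, 0)
        exact ⟨y, by simp [hy]⟩)
    let ψ : LinearMap.ker φ →ₗ[R] (Fin n → R) :=
      LinearMap.funLeft R R Fin.succ ∘ₗ N.subtype ∘ₗ (LinearMap.ker φ).subtype
    have hψ : Function.Injective ψ := by
      intro x y hxy
      apply Subtype.ext
      apply Subtype.ext
      funext i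
      rcases Fin.eq_zero_or_eq_succ i with rfl | ⟨j, rfl⟩
      · exact (LinearMap.mem_ker.1 x.2).trans (LinearMap.mem_ker.1 y.2).symm
      · exact congrFun hxy j
    haveI := ih (LinearMap.range ψ) (Module.Finite.iff_fg.1 inferInstance)
    haveI : Module.Free R (LinearMap.ker φ) := Module.Free.of_equiv (LinearEquiv.ofInjective ψ hψ).symm
    exact Module.Free.of_equiv e.symm

theorem free_of_injective {M : Type*} [AddCommGroup M] [Module R M] [Module.Finite R M] {n : ℕ}
    (f : M →ₗ[R] (Fin n → R)) (hf : Function.Injective f) : Module.Free R M :=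
  haveI := free_submodule n (LinearMap.range f) (Module.Finite.iff_fg.1 inferInstance)
  Module.Free.of_equiv (LinearEquiv.ofInjective f hf).symm

end Groth.L03.BezoutFree
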