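import Mathlib.Algebra.Module.FinitePresentation
import Mathlib.Algebra.Module.Torsion.Basic
import Mathlib.RingTheory.Ideal.Maximal
import Groth.Agent.L03.BezoutFree
import Groth.Agent.L03.Reflexive

/-!
Finitely presented modules over Bézout domains: free part plus torsion part, the latter a retract
of a finite product of cyclic modules.
-/

set_option autoImplicit false

namespace Groth.L03.BezoutFP

universe u

variable {R : Type u} [CommRing R]

/-- `g` factors through a finite product of cyclic modules. -/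
def Factor {N M : Type u} [AddCommGroup N] [Module R N] [AddCommGroup M] [Module R M]
    (g : N →ₗ[R] M) : Prop :=
  ∃ (ι : Type) (_ : Fintype ι) (f : ι → R) (i : N →ₗ[R] (j : ι) → R ⧸ Ideal.span {f j})
    (p : ((j : ι) → R ⧸ Ideal.span {f j}) →ₗ[R] M), p ∘ₗ i = g

section

variable {N M N' M' : Type u} [AddCommGroup N] [Module R N] [AddCommGroup M] [Module R M]
  [AddCommGroup N'] [Module R N'] [AddCommGroup M'] [Module R M']

theorem Factor.zero : Factor (0 : N →ₗ[R] M) :=
  ⟨Empty, inferInstance, fun _ => 0, 0, 0, by simp⟩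

theorem Factor.comp {g : N →ₗ[R] M} (h : Factor g) (l : M →ₗ[R] M') (r : N' →ₗ[R] N) :
    Factor (l ∘ₗ g ∘ₗ r) := by
  obtain ⟨ι, hι, f, i, p, rfl⟩ := h
  exact ⟨ι, hι, f, i ∘ₗ r, l ∘ₗ p, rfl⟩

theorem Factor.smul {g : N →ₗ[R] M} (h : Factor g) (c : R) : Factor (c • g) := by
  obtain ⟨ι, hι, f, i, p, rfl⟩ := h
  exact ⟨ι, hι, f, i, c • p, LinearMap.smul_comp _ _ _⟩

theorem Factor.add {g g' : N →ₗ[R] M} (h : Factor g) (h' : Factor g') : Factor (g + g') := by
  obtain ⟨ι, hι, f, i, p, rfl⟩ := h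
  obtain ⟨κ, hκ, f', i', p', rfl⟩ := h'
  refine ⟨ι ⊕ κ, inferInstance, Sum.elim f f',
    LinearMap.pi fun j => match j with
      | Sum.inl a => LinearMap.proj a ∘ₗ i
      | Sum.inr b => LinearMap.proj b ∘ₗ i',
    p ∘ₗ LinearMap.pi (fun a => LinearMap.proj (Sum.inl a)) +
      p' ∘ₗ LinearMap.pi (fun b => LinearMap.proj (Sum.inr b)), ?_⟩
  ext x
  rfl

theorem Factor.sum {κ : Type*} (s : Finset κ) (g : κ → N →ₗ[R] M) (h : ∀ a ∈ s, Factor (g a)) :
    Factor (∑ a ∈ s, g a) :=
  Finset.sum_induction _ Factor (fun _ _ => Factor.add) Factor.zero h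

theorem Factor.cyclic (a : R) (ψ : N →ₗ[R] R ⧸ Ideal.span {a})
    (φ : (R ⧸ Ideal.span {a}) →ₗ[R] M) : Factor (φ ∘ₗ ψ) :=
  ⟨Unit, inferInstance, fun _ => a, LinearMap.pi fun _ => ψ, φ ∘ₗ LinearMap.proj (), by
    ext x; rfl⟩

end

variable [IsDomain R] [IsBezout R]

/-- Local diagonal reduction at a prime. -/
theorem key (P : Ideal R) [P.IsPrime] : ∀ (n : ℕ) (K : Submodule R (Fin n → R)), K.FG →
    ∃ s, s ∉ P ∧ Factor (s • (LinearMap.id : ((Fin n → R) ⧸ K) →ₗ[R] _)) := by
  classical
  intro n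
  induction n with
  | zero =>
    intro K _
    refine ⟨1, (Ideal.ne_top_iff_one P).1 Ideal.IsPrime.ne_top', ?_⟩
    rw [show ((1 : R) • LinearMap.id : ((Fin 0 → R) ⧸ K) →ₗ[R] _) = 0 from
      LinearMap.ext fun x => Subsingleton.elim _ _]
    exact Factor.zero
  | succ n ih =>
    intro K hK
    by_cases hK0 : K = ⊥
    · subst hK0
      refine ⟨1, (Ideal.ne_top_iff_one P).1 Ideal.IsPrime.ne_top', ?_⟩
      have hid : ((1 : R) • LinearMap.id : ((Fin (n + 1) → R) ⧸ (⊥ : Submodule R _)) →ₗ[R] _) =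
          ∑ j : Fin (n + 1), ((⊥ : Submodule R (Fin (n + 1) → R)).mkQ ∘ₗ
            LinearMap.single R (fun _ => R) j ∘ₗ
            (Submodule.quotEquivOfEqBot (Ideal.span {(0 : R)}) (by simp)).toLinearMap) ∘ₗ
            ((Ideal.span {(0 : R)}).mkQ ∘ₗ LinearMap.proj j ∘ₗ
            (Submodule.quotEquivOfEqBot (⊥ : Submodule R (Fin (n + 1) → R)) rfl).toLinearMap) := by
        refine Submodule.linearMap_qext _ (LinearMap.ext fun x => ?_)
        simp only [LinearMap.comp_apply, one_smul, LinearMap.id_apply, LinearMap.sum_apply,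
          LinearEquiv.coe_coe, Submodule.mkQ_apply, Submodule.quotEquivOfEqBot_apply_mk,
          LinearMap.coe_proj, Function.eval, LinearMap.coe_single]
        simp only [← Submodule.mkQ_apply]
        rw [← map_sum, Finset.univ_sum_single]
      rw [hid]
      exact Factor.sum _ _ fun j _ => Factor.cyclic 0 _ _
    -- generators and a pivot
    obtain ⟨G, hG⟩ := hK
    let E : Finset R := (G ×ˢ Finset.univ).image fun p => p.1 p.2
    have htot : ∀ a b : R, (∃ s, s ∉ P ∧ a ∣ s * b) ∨ ∃ s, s ∉ P ∧ b ∣ s * a := by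
      intro a b
      obtain ⟨g, hg⟩ := (IsBezout.span_pair_isPrincipal a b).principal
      by_cases hg0 : g = 0
      · subst hg0
        left
        refine ⟨1, (Ideal.ne_top_iff_one P).1 Ideal.IsPrime.ne_top', ?_⟩
        have hb : b ∈ Ideal.span {a, b} := Ideal.subset_span (by simp)
        rw [hg] at hb
        simp only [Submodule.span_zero_singleton, Submodule.mem_bot] at hb
        simp [hb]
      have hg' : Ideal.span {a, b} = Ideal.span {g} := hg
      obtain ⟨a', ha'⟩ : g ∣ a :=
        Ideal.mem_span_singleton.1 (hg' ▸ Ideal.subset_span (by simp : a ∈ ({a, b} : Set R)))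
      obtain ⟨b', hb'⟩ : g ∣ b :=
        Ideal.mem_span_singleton.1 (hg' ▸ Ideal.subset_span (by simp : b ∈ ({a, b} : Set R)))
      obtain ⟨x, y, hxy⟩ := Ideal.mem_span_pair.1 (hg'.symm ▸ Ideal.mem_span_singleton_self g)
      have h1 : x * a' + y * b' = 1 := mul_left_cancel₀ hg0 (by
        rw [mul_one]; conv_rhs => rw [← hxy, ha', hb']
        ring)
      by_cases ha : a' ∈ P
      · refine Or.inr ⟨b', fun hb => ?_, a', by rw [ha', hb']; ring⟩
        exact (Ideal.ne_top_iff_one P).1 Ideal.IsPrime.ne_top'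
          (h1 ▸ add_mem (Ideal.mul_mem_left _ _ ha) (Ideal.mul_mem_left _ _ hb))
      · exact Or.inl ⟨a', ha, b', by rw [ha', hb']; ring⟩
    obtain ⟨z, hzE, hz0⟩ : ∃ z ∈ E, z ≠ 0 := by
      by_contra h
      simp only [not_exists, not_and, not_not] at h
      refine hK0 (eq_bot_iff.2 (hG ▸ Submodule.span_le.2 fun v hv => ?_))
      simp only [SetLike.mem_coe, Submodule.mem_bot]
      funext i
      exact h _ (Finset.mem_image.2 ⟨(v, i), by simpa using hv, rfl⟩)
    have hpivot : ∀ E' : Finset R, E'.Nonempty →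
        ∃ a ∈ E', ∃ s, s ∉ P ∧ ∀ b ∈ E', a ∣ s * b := by
      intro E' hne
      induction hne using Finset.Nonempty.cons_induction with
      | singleton a =>
        exact ⟨a, by simp, 1, (Ideal.ne_top_iff_one P).1 Ideal.IsPrime.ne_top', by simp⟩
      | cons c E'' hc hne ih' =>
        obtain ⟨a, ha, s, hs, hdiv⟩ := ih'
        rcases htot a c with ⟨t, ht, h⟩ | ⟨t, ht, h⟩
        · refine ⟨a, by simp [ha], t * s, ‹P.IsPrime›.mul_notMem ht hs, fun b hb => ?_⟩
          rcases Finset.mem_cons.1 hb with rfl | hb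
          · rw [mul_right_comm]; exact h.mul_right _
          · rw [mul_assoc]; exact (hdiv b hb).mul_left _
        · refine ⟨c, by simp, t * s, ‹P.IsPrime›.mul_notMem ht hs, fun b hb => ?_⟩
          rcases Finset.mem_cons.1 hb with rfl | hb
          · exact dvd_mul_left _ _
          · obtain ⟨q, hq⟩ := hdiv b hb
            rw [mul_assoc, hq, ← mul_assoc]
            exact h.mul_right _
    obtain ⟨a, haE, s, hs, hdiv⟩ := hpivot E ⟨z, hzE⟩
    have hs0 : s ≠ 0 := fun h => hs (h ▸ P.zero_mem)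
    have ha0 : a ≠ 0 := by
      rintro rfl
      exact hz0 ((mul_eq_zero.1 (zero_dvd_iff.1 (hdiv z hzE))).resolve_left hs0)
    obtain ⟨⟨v₀, i₀⟩, hv, hva⟩ := Finset.mem_image.1 haE
    simp only [Finset.mem_product, Finset.mem_univ, and_true] at hv hva
    have hGK : ∀ v ∈ G, v ∈ K := fun v hv => hG ▸ Submodule.subset_span hv
    have hGE : ∀ v ∈ G, ∀ i, a ∣ s * v i := fun v hv i =>
      hdiv _ (Finset.mem_image.2 ⟨(v, i), by simpa using hv, rfl⟩)
    choose w hw using hGE v₀ hv
    have hsv : s • v₀ = a • w := funext fun i => by simp [hw i]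
    have hwi : w i₀ = s := by
      have := hw i₀
      rw [hva, mul_comm] at this
      exact (mul_left_cancel₀ ha0 this).symm
    have haw : a • w ∈ K := hsv ▸ K.smul_mem _ (hGK _ hv)
    -- the cyclic part
    let ψ₀ : (Fin (n + 1) → R) →ₗ[R] R ⧸ Ideal.span {a} :=
      (Ideal.span {a}).mkQ ∘ₗ (s • LinearMap.proj i₀)
    have hψ₀ : K ≤ LinearMap.ker ψ₀ := by
      rw [← hG, Submodule.span_le]
      intro v hv'
      simp only [SetLike.mem_coe, LinearMap.mem_ker, ψ₀, LinearMap.comp_apply, Submodule.mkQ_apply,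
        Submodule.Quotient.mk_eq_zero]
      exact Ideal.mem_span_singleton.2 (by simpa using hGE v hv' i₀)
    let φ₀ : (R ⧸ Ideal.span {a}) →ₗ[R] (Fin (n + 1) → R) ⧸ K :=
      (Ideal.span {a}).liftQ (LinearMap.toSpanSingleton R _ (K.mkQ w)) (by
        rw [Ideal.span, Submodule.span_le, Set.singleton_subset_iff]
        show a • K.mkQ w = 0
        rw [← map_smul]
        exact (Submodule.Quotient.mk_eq_zero K).2 haw)
    -- the remaining coordinates
    let μ : (Fin (n + 1) → R) →ₗ[R] (Fin (n + 1) → R) :=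
      (s * s) • LinearMap.id - (s • LinearMap.proj i₀).smulRight w
    have hμ0 : ∀ x, μ x i₀ = 0 := fun x => by simp [μ, hwi]; ring
    have hμK : ∀ x ∈ K, μ x ∈ K := by
      intro x hx
      rw [← hG] at hx
      induction hx using Submodule.span_induction with
      | mem v hv' =>
        obtain ⟨c, hc⟩ := hGE v hv' i₀
        have : μ v = (s * s) • v - c • (a • w) := by
          simp only [μ, LinearMap.sub_apply, LinearMap.smul_apply, LinearMap.id_apply,
            LinearMap.smulRight_apply, LinearMap.coe_proj, Function.eval, smul_eq_mul, hc]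
          rw [smul_smul, mul_comm c a]
        rw [this]
        exact sub_mem (K.smul_mem _ (hGK v hv')) (K.smul_mem _ haw)
      | zero => simp
      | add x y _ _ hx hy => rw [map_add]; exact add_mem hx hy
      | smul c x _ hx => rw [map_smul]; exact K.smul_mem c hx
    let r : (Fin (n + 1) → R) →ₗ[R] (Fin n → R) := LinearMap.funLeft R R i₀.succAbove
    let e : (Fin n → R) →ₗ[R] (Fin (n + 1) → R) :=
      LinearMap.pi (Fin.insertNth i₀ 0 fun j => LinearMap.proj j)
    have her : ∀ x, x i₀ = 0 → e (r x) = x := fun x hx => funext fun j => by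
      refine Fin.succAboveCases i₀ ?_ (fun j' => ?_) j
      · simp [e, hx]
      · simp [e, r, LinearMap.funLeft]
    obtain ⟨s', hs', hfac⟩ := ih (K.map (r ∘ₗ μ)) ((Submodule.FG.map _ ⟨G, hG⟩))
    let π : ((Fin (n + 1) → R) ⧸ K) →ₗ[R] (Fin n → R) ⧸ K.map (r ∘ₗ μ) :=
      K.mapQ _ (r ∘ₗ μ) (fun x hx => Submodule.mem_map_of_mem hx)
    let ι' : ((Fin n → R) ⧸ K.map (r ∘ₗ μ)) →ₗ[R] (Fin (n + 1) → R) ⧸ K :=
      (K.map (r ∘ₗ μ)).mapQ K e (by
        rintro _ ⟨x, hx, rfl⟩
        simp only [Submodule.mem_comap, LinearMap.comp_apply, her _ (hμ0 x)]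
        exact hμK x hx)
    refine ⟨s' * (s * s), ‹P.IsPrime›.mul_notMem hs' (‹P.IsPrime›.mul_notMem hs hs), ?_⟩
    have hdecomp : (s' * (s * s)) • (LinearMap.id : ((Fin (n + 1) → R) ⧸ K) →ₗ[R] _) =
        ι' ∘ₗ (s' • LinearMap.id) ∘ₗ π + s' • (φ₀ ∘ₗ K.liftQ ψ₀ hψ₀) := by
      refine Submodule.linearMap_qext _ (LinearMap.ext fun x => ?_)
      have h1 : φ₀ (ψ₀ x) = K.mkQ ((s * x i₀) • w) := by
        show φ₀ ((Ideal.span {a}).mkQ ((s • LinearMap.proj i₀ : (Fin (n + 1) → R) →ₗ[R] R) x)) = _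
        rw [Submodule.mkQ_apply, Submodule.liftQ_apply, LinearMap.toSpanSingleton_apply, map_smul]
        simp
      simp only [LinearMap.comp_apply, LinearMap.add_apply, LinearMap.smul_apply,
        LinearMap.id_apply, map_smul, Submodule.mkQ_apply, Submodule.liftQ_apply, h1, π, ι',
        Submodule.mapQ_apply, her _ (hμ0 x)]
      rw [← smul_add, mul_smul, ← Submodule.mkQ_apply]
      congr 1
      simp only [← Submodule.mkQ_apply, ← map_smul, ← map_add]
      congr 1
      simp [μ]
    rw [hdecomp]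
    exact (hfac.comp ι' π).add ((Factor.cyclic a _ _).smul s')

/-- A finitely presented torsion module over a Bézout domain is a retract of a product of cyclic
modules. -/
theorem factor_id (T : Type u) [AddCommGroup T] [Module R T] [Module.FinitePresentation R T] :
    Factor (LinearMap.id : T →ₗ[R] T) := by
  obtain ⟨n, p, hp⟩ := Module.Finite.exists_fin' R T
  let J : Ideal R :=
    { carrier := {r | Factor (r • (LinearMap.id : T →ₗ[R] T))}
      add_mem' := fun ha hb => by
        show Factor _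
        rw [add_smul]
        exact ha.add hb
      zero_mem' := by
        show Factor _
        rw [zero_smul]
        exact Factor.zero
      smul_mem' := fun c x hx => by
        show Factor _
        rw [smul_eq_mul, mul_smul]
        exact hx.smul c }
  suffices J = ⊤ by
    have h1 : (1 : R) ∈ J := this ▸ Submodule.mem_top
    simpa [J] using h1
  by_contra hJ
  obtain ⟨P, hP, hJP⟩ := Ideal.exists_le_maximal J hJ
  haveI := hP.isPrime
  obtain ⟨s, hs, hfac⟩ := key P n (LinearMap.ker p) (Module.FinitePresentation.fg_ker p hp)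
  refine hs (hJP ?_)
  show Factor _
  let eq := p.quotKerEquivOfSurjective hp
  have h := hfac.comp eq.toLinearMap eq.symm.toLinearMap
  convert h using 1
  ext x
  simp

end Groth.L03.BezoutFP
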