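import Groth.Agent.L07.QuasiRegularFlat
import Mathlib.LinearAlgebra.DirectSum.Finsupp
import Mathlib.LinearAlgebra.TensorProduct.RightExactness
import Mathlib.RingTheory.TensorProduct.Maps
import Mathlib.RingTheory.Localization.Integer
import Mathlib.RingTheory.Localization.Ideal

/-!
Quasi-regular sequences: base change (with flat quotient), localization, isomorphisms.
-/

namespace Groth.L03.QuasiRegularBC

universe u

open MvPolynomial Groth.L07.QReg TensorProduct

theorem flat_quotient_pow {A B : Type u} [CommRing A] [CommRing B] [Algebra A B] {c : ℕ} (f : Fin c → B)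
    (hf : CAlgX.IsQuasiRegular f) (hflat : Module.Flat A (B ⧸ Ideal.span (Set.range f))) (n : ℕ) :
    Module.Flat A (B ⧸ Ideal.span (Set.range f) ^ n) := by
  set J := Ideal.span (Set.range f)
  haveI := Groth.L07.QuasiRegular.flat_pow_quot (A := A) f hf hflat 0 n (Nat.zero_le n)
  have h0 : J ^ 0 = (⊤ : Ideal B) := by rw [pow_zero, Ideal.one_eq_top]
  let p : ↥(J ^ 0) →ₗ[B] B ⧸ J ^ n := (Submodule.mkQ (J ^ n)) ∘ₗ (J ^ 0).subtype
  have hp : Function.Surjective p := fun q => by
    obtain ⟨b, rfl⟩ := Submodule.mkQ_surjective _ q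
    exact ⟨⟨b, h0 ▸ Submodule.mem_top⟩, rfl⟩
  have hk : LinearMap.ker p = Submodule.comap (J ^ 0).subtype (J ^ n) := by
    rw [LinearMap.ker_comp, Submodule.ker_mkQ]
  exact Module.Flat.of_linearEquiv
    ((Submodule.quotEquivOfEq _ _ hk.symm ≪≫ₗ p.quotKerEquivOfSurjective hp).restrictScalars A).symm

/-- exponents of degree `n` -/
abbrev Deg (c n : ℕ) : Type := {d : Fin c →₀ ℕ // Finsupp.weight (1 : Fin c → ℕ) d = n}

theorem eval_monomial_one_mem {B : Type u} [CommRing B] {c : ℕ} (f : Fin c → B) (n : ℕ) (d : Deg c n) :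
    eval f (monomial d.1 (1 : B)) ∈ Ideal.span (Set.range f) ^ n :=
  eval_mem_span_pow f (isHomogeneous_monomial 1 (by rw [Finsupp.degree_eq_weight_one]; exact d.2))

/-- the coefficient map `(B/J)^σ → B/J^(n+1)` -/
noncomputable def psiD {B : Type u} [CommRing B] {c : ℕ} (f : Fin c → B) (n : ℕ) (d : Deg c n) :
    (B ⧸ Ideal.span (Set.range f)) →ₗ[B] B ⧸ Ideal.span (Set.range f) ^ (n + 1) :=
  Submodule.liftQ (Ideal.span (Set.range f))
    (LinearMap.toSpanSingleton B (B ⧸ Ideal.span (Set.range f) ^ (n + 1)) (Ideal.Quotient.mk _ (eval f (monomial d.1 (1 : B)))))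
    (fun b hb => by
      show b • Ideal.Quotient.mk (Ideal.span (Set.range f) ^ (n + 1)) (eval f (monomial d.1 (1 : B))) = 0
      rw [← Ideal.Quotient.mk_eq_mk, ← Submodule.Quotient.mk_smul, Submodule.Quotient.mk_eq_zero, pow_succ']
      exact Ideal.mul_mem_mul hb (eval_monomial_one_mem f n d))

/-- the assembled coefficient map -/
noncomputable def psi {B : Type u} [CommRing B] {c : ℕ} (f : Fin c → B) (n : ℕ) :
    (Deg c n →₀ B ⧸ Ideal.span (Set.range f)) →ₗ[B] B ⧸ Ideal.span (Set.range f) ^ (n + 1) :=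
  Finsupp.lsum B (psiD f n)

theorem psi_single {B : Type u} [CommRing B] {c : ℕ} (f : Fin c → B) (n : ℕ) (d : Deg c n) (b : B) :
    psi f n (Finsupp.single d (Ideal.Quotient.mk _ b)) = Ideal.Quotient.mk _ (b * eval f (monomial d.1 (1 : B))) := by
  rw [psi, Finsupp.lsum_single]
  rfl

theorem psi_injective {B : Type u} [CommRing B] {c : ℕ} (f : Fin c → B) (hf : CAlgX.IsQuasiRegular f) (n : ℕ) :
    Function.Injective (psi f n) := by
  classical
  set J := Ideal.span (Set.range f)
  rw [injective_iff_map_eq_zero]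
  intro w hw
  obtain ⟨v, rfl⟩ : ∃ v : Deg c n →₀ B, v.mapRange (Ideal.Quotient.mk J) (map_zero _) = w :=
    Finsupp.mapRange_surjective _ (map_zero _) Ideal.Quotient.mk_surjective w
  let P₀ : MvPolynomial (Fin c) B := ∑ d ∈ (v.mapRange (Ideal.Quotient.mk J) (map_zero _)).support, monomial d.1 (v d)
  have h0 : eval f P₀ ∈ J ^ (n + 1) := by
    rw [← Ideal.Quotient.eq_zero_iff_mem, map_sum, map_sum, ← hw]
    conv_rhs => rw [← Finsupp.sum_single (v.mapRange (Ideal.Quotient.mk J) (map_zero _)), Finsupp.sum, map_sum]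
    refine Finset.sum_congr rfl fun d _ => ?_
    rw [Finsupp.mapRange_apply, psi_single]
    simp [eval_monomial, J]
  have := hf n P₀ (IsHomogeneous.sum _ _ n fun d _ => isHomogeneous_monomial (v d)
      (by rw [Finsupp.degree_eq_weight_one]; exact d.2)) h0
  ext d
  rw [Finsupp.zero_apply]
  by_cases hd : v.mapRange (Ideal.Quotient.mk J) (map_zero _) d = 0
  · exact hd
  · have h1 := this d.1
    rw [coeff_sum] at h1
    simp only [coeff_monomial, Subtype.val_inj] at h1
    rw [Finset.sum_eq_single d (fun x _ hx => if_neg hx) (fun h' => absurd (Finsupp.mem_support_iff.mpr hd) h'),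
      if_pos rfl] at h1
    rw [Finsupp.mapRange_apply, Ideal.Quotient.eq_zero_iff_mem]
    exact h1

/-- the projection `B/J^(n+1) → B/J^n` -/
noncomputable def facN {B : Type u} [CommRing B] {c : ℕ} (f : Fin c → B) (n : ℕ) :
    (B ⧸ Ideal.span (Set.range f) ^ (n + 1)) →ₗ[B] B ⧸ Ideal.span (Set.range f) ^ n :=
  Submodule.factor (Ideal.pow_le_pow_right (Nat.le_add_right n 1))

theorem facN_surjective {B : Type u} [CommRing B] {c : ℕ} (f : Fin c → B) (n : ℕ) : Function.Surjective (facN f n) := by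
  intro q
  obtain ⟨b, rfl⟩ := Submodule.mkQ_surjective _ q
  exact ⟨Submodule.mkQ _ b, rfl⟩

theorem psi_exact {B : Type u} [CommRing B] {c : ℕ} (f : Fin c → B) (n : ℕ) :
    Function.Exact (psi f n) (facN f n) := by
  classical
  intro y
  constructor
  · intro hy
    obtain ⟨x, rfl⟩ := Submodule.mkQ_surjective _ y
    have hx : x ∈ Ideal.span (Set.range f) ^ n := (Submodule.Quotient.mk_eq_zero _).1 hy
    obtain ⟨Q, hQ, rfl⟩ := exists_homogeneous_of_mem_span_pow f n hx
    refine ⟨∑ e ∈ Q.support.attach, Finsupp.single (⟨e.1, hQ (mem_support_iff.mp e.2)⟩ : Deg c n)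
      (Ideal.Quotient.mk _ (Q.coeff e.1)), ?_⟩
    rw [map_sum, eval_eq, ← Finset.sum_attach Q.support, map_sum]
    refine Finset.sum_congr rfl fun e _ => ?_
    rw [psi_single]
    simp [eval_monomial, Finsupp.prod]
  · rintro ⟨w, rfl⟩
    induction w using Finsupp.induction_linear with
    | zero => simp
    | add a b ha hb => rw [map_add, map_add, ha, hb, add_zero]
    | single d b =>
      obtain ⟨b, rfl⟩ := Ideal.Quotient.mk_surjective b
      rw [psi_single]
      exact (Submodule.Quotient.mk_eq_zero _).2 (Ideal.mul_mem_left _ b (eval_monomial_one_mem f n d))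

set_option maxHeartbeats 1000000 in
theorem psi_lTensor_injective {A B : Type u} [CommRing A] [CommRing B] [Algebra A B] (A' : Type u) [AddCommGroup A'] [Module A A']
    {c : ℕ} (f : Fin c → B) (hflat : Module.Flat A (B ⧸ Ideal.span (Set.range f))) (hf : CAlgX.IsQuasiRegular f) (n : ℕ) :
    Function.Injective (((psi f n).restrictScalars A).lTensor A') := by
  haveI : Module.Flat A (B ⧸ Ideal.span (Set.range f) ^ n) := flat_quotient_pow f hf hflat n
  rw [LinearMap.lTensor_inj_iff_rTensor_inj]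
  exact Groth.L02.universallyInjective_of_flat_coker ((psi f n).restrictScalars A)
    ((facN f n).restrictScalars A)
    (psi_injective f hf n) (psi_exact f n) (facN_surjective f n) A'

/-- base change -/
theorem baseChange {A B : Type u} [CommRing A] [CommRing B] [Algebra A B] (A' : Type u) [CommRing A'] [Algebra A A']
    {c : ℕ} (f : Fin c → B) (hflat : Module.Flat A (B ⧸ Ideal.span (Set.range f))) (hf : CAlgX.IsQuasiRegular f) :
    CAlgX.IsQuasiRegular (fun i => ((1 : A') ⊗ₜ[A] f i : A' ⊗[A] B)) := by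
  classical
  intro n P hP heval d
  set J := Ideal.span (Set.range f) with hJ
  have hJ' : Ideal.span (Set.range fun i => ((1 : A') ⊗ₜ[A] f i : A' ⊗[A] B)) =
      J.map (Algebra.TensorProduct.includeRight : B →ₐ[A] A' ⊗[A] B) := by
    rw [hJ, Ideal.map_span, ← Set.range_comp]
    rfl
  let σ := Deg c n
  let mon : σ → B := fun d => eval f (monomial d.1 (1 : B))
  -- the coefficient vector
  let sngl : σ → (B →ₗ[A] (σ →₀ B ⧸ J)) := fun d =>
    ((Finsupp.lsingle d : (B ⧸ J) →ₗ[B] (σ →₀ B ⧸ J)).comp (Submodule.mkQ J)).restrictScalars A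
  let dg : P.support → σ := fun e => ⟨e.1, hP (mem_support_iff.mp e.2)⟩
  let w : A' ⊗[A] (σ →₀ B ⧸ J) := ∑ e ∈ P.support.attach, (sngl (dg e)).lTensor A' (P.coeff e.1)
  let Q1 : A' ⊗[A] B →ₐ[A] A' ⊗[A] (B ⧸ J ^ (n + 1)) :=
    Algebra.TensorProduct.map (AlgHom.id A A') (Ideal.Quotient.mkₐ A (J ^ (n + 1)))
  have hQ1 : ∀ z ∈ Ideal.span (Set.range fun i => ((1 : A') ⊗ₜ[A] f i : A' ⊗[A] B)) ^ (n + 1), Q1 z = 0 := by
    intro z hz
    rw [hJ', ← Ideal.map_pow] at hz
    refine (Ideal.map_le_iff_le_comap.2 ?_ hz : z ∈ RingHom.ker Q1.toRingHom)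
    intro b hb
    show Q1 ((1 : A') ⊗ₜ b) = 0
    simp [Q1, Ideal.Quotient.eq_zero_iff_mem.2 hb]
  have hkey : ((psi f n).restrictScalars A).lTensor A' w = 0 := by
    rw [← hQ1 _ heval, map_sum, eval_eq, ← Finset.sum_attach P.support, map_sum]
    refine Finset.sum_congr rfl fun e _ => ?_
    have hprod : (∏ i ∈ e.1.support, ((1 : A') ⊗ₜ[A] f i : A' ⊗[A] B) ^ e.1 i) =
        (1 : A') ⊗ₜ[A] (mon ⟨e.1, hP (mem_support_iff.mp e.2)⟩) := by
      have h2 : mon ⟨e.1, hP (mem_support_iff.mp e.2)⟩ = ∏ i ∈ e.1.support, f i ^ e.1 i := by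
        simp [mon, eval_monomial, Finsupp.prod]
      rw [h2, ← Algebra.TensorProduct.includeRight_apply, map_prod]
      simp [map_pow]
    rw [hprod]
    suffices h : ∀ (z : A' ⊗[A] B) (d' : σ), ((psi f n).restrictScalars A).lTensor A' ((sngl d').lTensor A' z) =
        Q1 (z * (1 : A') ⊗ₜ[A] mon d') from h (P.coeff e.1) (dg e)
    intro z d'
    induction z using TensorProduct.induction_on with
    | zero => simp
    | tmul a b =>
      rw [LinearMap.lTensor_tmul, LinearMap.lTensor_tmul, Algebra.TensorProduct.tmul_mul_tmul, mul_one]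
      simp only [Q1, Algebra.TensorProduct.map_tmul, AlgHom.id_apply]
      congr 1
      exact psi_single f n d' b
    | add x y hx hy => simp only [map_add, add_mul, hx, hy]
  have hw : w = 0 := psi_lTensor_injective A' f hflat hf n (hkey.trans (map_zero _).symm)
  by_cases hd : P.coeff d = 0
  · rw [hd]; exact zero_mem _
  let d' : σ := ⟨d, hP hd⟩
  let prd : (σ →₀ B ⧸ J) →ₗ[A] B ⧸ J := Finsupp.lapply d'
  have h3 := congrArg (prd.lTensor A') hw
  rw [map_zero, map_sum, Finset.sum_eq_single (⟨d, mem_support_iff.2 hd⟩ : P.support)] at h3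
  rotate_left
  · intro e _ he
    rw [← LinearMap.comp_apply, ← LinearMap.lTensor_comp,
      show prd.comp (sngl (dg e)) = 0 from LinearMap.ext fun b => Finsupp.single_eq_of_ne
        (fun h => he (Subtype.ext (congrArg (fun x : σ => x.1) h).symm)),
      LinearMap.lTensor_zero, LinearMap.zero_apply]
  · intro h
    exact absurd (Finset.mem_attach _ _) h
  change ((prd.lTensor A') ((sngl d').lTensor A' (P.coeff d))) = 0 at h3
  rw [← LinearMap.comp_apply, ← LinearMap.lTensor_comp,
    show prd.comp (sngl d') = (Ideal.Quotient.mkₐ A J).toLinearMap from LinearMap.ext fun b => Finsupp.single_eq_same] at h3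
  rw [hJ']
  have h4 : P.coeff d ∈ RingHom.ker (Algebra.TensorProduct.map (AlgHom.id A A') (Ideal.Quotient.mkₐ A J)) := h3
  rw [Algebra.TensorProduct.lTensor_ker _ (Ideal.Quotient.mkₐ_surjective A J)] at h4
  rwa [show RingHom.ker (Ideal.Quotient.mkₐ A J) = J from Ideal.Quotient.mkₐ_ker A J] at h4

/-- isomorphisms -/
theorem map_equiv {B B' : Type u} [CommRing B] [CommRing B'] (e : B ≃+* B') {c : ℕ} (f : Fin c → B) (f' : Fin c → B')
    (he : ∀ i, e (f i) = f' i) (hf : CAlgX.IsQuasiRegular f) : CAlgX.IsQuasiRegular f' := by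
  intro n P hP heval d
  have hmap : ∀ k : ℕ, ∀ x, x ∈ Ideal.span (Set.range f') ^ k → e.symm x ∈ Ideal.span (Set.range f) ^ k := by
    intro k x hx
    have : (Ideal.span (Set.range f') ^ k).map e.symm.toRingHom = Ideal.span (Set.range f) ^ k := by
      rw [Ideal.map_pow, Ideal.map_span, ← Set.range_comp]
      congr 2
      exact Set.ext fun y => ⟨fun ⟨i, hi⟩ => ⟨i, by rw [← hi]; simp [← he]⟩, fun ⟨i, hi⟩ => ⟨i, by rw [← hi]; simp [← he]⟩⟩
    rw [← this]; exact Ideal.mem_map_of_mem _ hx
  have hev : eval f (MvPolynomial.map e.symm.toRingHom P) = e.symm (eval f' P) := by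
    rw [eval_map]
    have h := eval₂_comp_left e.symm.toRingHom (RingHom.id B') f' P
    rw [RingHom.comp_id, show e.symm.toRingHom ∘ f' = f from funext fun i => by simp [← he]] at h
    exact h.symm
  have h := hf n _ (hP.map _) (hev ▸ hmap _ _ heval) d
  rw [coeff_map] at h
  have h5 := Ideal.mem_map_of_mem e.toRingHom h
  rw [Ideal.map_span, ← Set.range_comp, show (⇑e.toRingHom ∘ f) = f' from funext he] at h5
  simpa using h5

/-- localization -/
theorem localization {B : Type u} [CommRing B] (S : Submonoid B) (L : Type u) [CommRing L] [Algebra B L]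
    [IsLocalization S L] {c : ℕ} (f : Fin c → B) (hf : CAlgX.IsQuasiRegular f) :
    CAlgX.IsQuasiRegular (fun i => algebraMap B L (f i)) := by
  classical
  intro n P hP heval d
  set J := Ideal.span (Set.range f)
  have hJL : Ideal.span (Set.range fun i => algebraMap B L (f i)) = J.map (algebraMap B L) := by
    rw [Ideal.map_span, ← Set.range_comp]; rfl
  obtain ⟨s, hs⟩ := IsLocalization.exist_integer_multiples S P.support fun e => P.coeff e
  choose num hnum using fun (e : P.support) => hs e.1 e.2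
  let P₀ : MvPolynomial (Fin c) B := ∑ e ∈ P.support.attach, monomial e.1 (num e)
  have hmap : MvPolynomial.map (algebraMap B L) P₀ = C (algebraMap B L s) * P := by
    conv_rhs => rw [P.as_sum, Finset.mul_sum]
    rw [map_sum, ← Finset.sum_attach P.support (fun e => C (algebraMap B L s) * monomial e (P.coeff e))]
    refine Finset.sum_congr rfl fun e _ => ?_
    rw [map_monomial, C_mul_monomial, hnum]
    simp [Algebra.smul_def]
  have hP₀ : P₀.IsHomogeneous n := IsHomogeneous.sum _ _ n fun e _ => isHomogeneous_monomial _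
    (by rw [Finsupp.degree_eq_weight_one]; exact hP (mem_support_iff.mp e.2))
  have h1 : algebraMap B L (eval f P₀) ∈ (J ^ (n + 1)).map (algebraMap B L) := by
    rw [Ideal.map_pow, ← hJL]
    have h := eval₂_comp_left (algebraMap B L) (RingHom.id B) f P₀
    rw [RingHom.comp_id] at h
    rw [show eval f P₀ = eval₂ (RingHom.id B) f P₀ from rfl, h, ← eval_map, hmap, map_mul, eval_C]
    exact Ideal.mul_mem_left _ _ heval
  obtain ⟨t, ht, ht'⟩ := (IsLocalization.algebraMap_mem_map_algebraMap_iff S L _ _).1 h1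
  have h2 := hf n (C t * P₀) (hP₀.C_mul t) (by rwa [map_mul, eval_C]) d
  rw [coeff_C_mul] at h2
  rw [hJL]
  by_cases hd : P.coeff d = 0
  · rw [hd]; exact zero_mem _
  have hc : algebraMap B L (P₀.coeff d) = algebraMap B L s * P.coeff d := by
    rw [← coeff_map, hmap, coeff_C_mul]
  have h3 := Ideal.mem_map_of_mem (algebraMap B L) h2
  rw [map_mul, hc, ← mul_assoc, ← map_mul] at h3
  have hu : IsUnit (algebraMap B L (t * s)) := IsLocalization.map_units L (⟨t * s, mul_mem ht s.2⟩ : S)
  exact (Ideal.unit_mul_mem_iff_mem _ hu).1 h3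

end Groth.L03.QuasiRegularBC
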