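import Groth.Agent.L03.FtImage
import Mathlib.AlgebraicGeometry.Morphisms.FiniteType
import Mathlib.AlgebraicGeometry.Morphisms.ClosedImmersion
import Mathlib.AlgebraicGeometry.ResidueField
import Mathlib.RingTheory.Jacobson.Ring
import Mathlib.RingTheory.Artinian.Ring
import Mathlib.RingTheory.RingHom.FiniteType
import Mathlib.AlgebraicGeometry.Fiber
import Mathlib.RingTheory.HopkinsLevitzki

/-!
Points of finite type of a scheme.
-/

set_option autoImplicit false
set_option linter.style.haveILetI false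

universe u

open CategoryTheory AlgebraicGeometry IsLocalRing TopologicalSpace

noncomputable section

namespace Groth.L03.FtPts

theorem isIso_fromSpecResidueField_field (k : Type u) [Field k] (x : ↥(Spec (CommRingCat.of k))) :
    IsIso ((Spec (CommRingCat.of k)).fromSpecResidueField x) := by
  haveI : Subsingleton ↥(Spec (CommRingCat.of k)) := inferInstanceAs (Subsingleton (PrimeSpectrum k))
  have hcl : IsClosed ({x} : Set ↥(Spec (CommRingCat.of k))) := isClosed_discrete _
  haveI : IsClosedImmersion ((Spec (CommRingCat.of k)).fromSpecResidueField x) :=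
    isClosed_singleton_iff_isClosedImmersion.mp hcl
  haveI : Surjective ((Spec (CommRingCat.of k)).fromSpecResidueField x) :=
    ⟨fun v => ⟨closedPoint _, Subsingleton.elim _ _⟩⟩
  exact isIso_of_isClosedImmersion_of_surjective _

variable {S : Scheme.{u}}

/-- A field valued point of finite type is closed in some affine open. -/
theorem exists_closed_of_lft {k : Type u} [Field k] (f : Spec (CommRingCat.of k) ⟶ S) [LocallyOfFiniteType f] :
    ∃ U : S.Opens, IsAffineOpen U ∧ ∃ hu : f (closedPoint k) ∈ U,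
      IsClosed ({⟨f (closedPoint k), hu⟩} : Set ↥U) := by
  obtain ⟨_, ⟨U, hU, rfl⟩, hmem, -⟩ :=
    S.isBasis_affineOpens.exists_subset_of_mem_open (Set.mem_univ (f (closedPoint k))) isOpen_univ
  change S.Opens at U
  replace hU : IsAffineOpen U := hU
  have hrange : Set.range f ⊆ Set.range hU.fromSpec := by
    rintro _ ⟨x, rfl⟩
    rw [hU.range_fromSpec, show x = closedPoint k from Subsingleton.elim (α := PrimeSpectrum k) _ _]
    exact hmem
  let g : Spec (CommRingCat.of k) ⟶ Spec Γ(S, U) := IsOpenImmersion.lift hU.fromSpec f hrange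
  have hg : g ≫ hU.fromSpec = f := IsOpenImmersion.lift_fac _ _ _
  haveI : LocallyOfFiniteType (g ≫ hU.fromSpec) := by rw [hg]; infer_instance
  haveI : LocallyOfFiniteType g := locallyOfFiniteType_of_comp g hU.fromSpec
  obtain ⟨φ, hφ⟩ := Spec.map_surjective g
  have hft : φ.hom.FiniteType := (HasRingHomProperty.Spec_iff (P := @LocallyOfFiniteType)).1 (by rw [hφ]; infer_instance)
  letI := φ.hom.toAlgebra
  haveI : Algebra.FiniteType Γ(S, U) k := hft
  let p : Ideal Γ(S, U) := RingHom.ker φ.hom
  haveI : p.IsPrime := RingHom.ker_isPrime _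
  letI : Algebra (Γ(S, U) ⧸ p) k := (RingHom.kerLift φ.hom).toAlgebra
  haveI : IsScalarTower Γ(S, U) (Γ(S, U) ⧸ p) k := IsScalarTower.of_algebraMap_eq fun _ => rfl
  haveI : Algebra.FiniteType (Γ(S, U) ⧸ p) k := Algebra.FiniteType.of_restrictScalars_finiteType Γ(S, U) _ _
  have hinj : Function.Injective (algebraMap (Γ(S, U) ⧸ p) k) := RingHom.kerLift_injective φ.hom
  obtain ⟨a₀, ha₀, hprimes⟩ := Groth.L03.FtImage.exists_prime_over hinj
  obtain ⟨a, rfl⟩ := Ideal.Quotient.mk_surjective a₀
  have hap : a ∉ p := fun h => ha₀ (Ideal.Quotient.eq_zero_iff_mem.2 h)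
  let pt : ↥(Spec Γ(S, U)) := g (closedPoint k)
  have hpt : (pt : PrimeSpectrum Γ(S, U)).asIdeal = p := by
    show (g (closedPoint k) : PrimeSpectrum Γ(S, U)).asIdeal = _
    rw [← hφ]
    show Ideal.comap φ.hom (maximalIdeal k) = _
    rw [IsLocalRing.isField_iff_maximalIdeal_eq.1 (Field.toIsField k)]
    rfl
  have hu : f (closedPoint k) = hU.fromSpec pt := by rw [← hg]; rfl
  have huV : f (closedPoint k) ∈ S.basicOpen a := by
    rw [hu]
    show pt ∈ hU.fromSpec ⁻¹ᵁ S.basicOpen a
    rw [hU.fromSpec_preimage_basicOpen]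
    show a ∉ (pt : PrimeSpectrum Γ(S, U)).asIdeal
    rw [hpt]; exact hap
  refine ⟨S.basicOpen a, hU.basicOpen a, huV, ?_⟩
  rw [← closure_subset_iff_isClosed]
  intro z hz
  rw [closure_subtype, Set.image_singleton] at hz
  have hzU : z.1 ∈ Set.range hU.fromSpec := by
    rw [hU.range_fromSpec]; exact S.basicOpen_le a z.2
  obtain ⟨P, hP⟩ := hzU
  have hPa : P ∈ hU.fromSpec ⁻¹ᵁ S.basicOpen a := show hU.fromSpec P ∈ S.basicOpen a from hP ▸ z.2
  rw [hU.fromSpec_preimage_basicOpen] at hPa
  have hPc : P ∈ closure ({pt} : Set ↥(Spec Γ(S, U))) := by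
    rw [hU.fromSpec.isOpenEmbedding.isInducing.closure_eq_preimage_closure_image, Set.image_singleton,
      Set.mem_preimage, hP, ← hu]
    exact hz
  have hle : p ≤ (P : PrimeSpectrum Γ(S, U)).asIdeal :=
    hpt ▸ (PrimeSpectrum.le_iff_mem_closure (R := Γ(S, U)) pt P).2 hPc
  let P' : PrimeSpectrum Γ(S, U) := P
  haveI : (P'.asIdeal.map (Ideal.Quotient.mk p)).IsPrime :=
    Ideal.map_isPrime_of_surjective Ideal.Quotient.mk_surjective (Ideal.mk_ker.trans_le hle)
  have hc : (P'.asIdeal.map (Ideal.Quotient.mk p)).comap (Ideal.Quotient.mk p) = P'.asIdeal := by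
    rw [Ideal.comap_map_quotientMk, sup_eq_right.mpr hle]
  obtain ⟨Q, hQ, hQP⟩ := hprimes _ this fun h => (show a ∉ P'.asIdeal from hPa) (hc ▸ Ideal.mem_comap.2 h)
  have hQ0 : Q = ⊥ := (Ideal.eq_bot_or_top Q).resolve_right hQ.ne_top
  have hPp : P'.asIdeal = p := by
    rw [← hc, ← hQP, hQ0, Ideal.comap_comap]
    rfl
  refine Subtype.ext ?_
  show z.1 = f (closedPoint k)
  rw [hu, ← hP]
  exact congrArg _ (PrimeSpectrum.ext (hPp.trans hpt.symm))

/-- A point closed in an open subscheme has a residue field map of finite type. -/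
theorem lft_of_isClosed {s : S} {U : S.Opens} (hs : s ∈ U) (h : IsClosed ({⟨s, hs⟩} : Set ↥U)) :
    LocallyOfFiniteType (S.fromSpecResidueField s) := by
  let s' : ↥(U : Scheme.{u}) := ⟨s, hs⟩
  haveI : IsClosedImmersion ((U : Scheme.{u}).fromSpecResidueField s') := isClosed_singleton_iff_isClosedImmersion.mp h
  have e := Scheme.Hom.SpecMap_residueFieldMap_fromSpecResidueField U.ι s'
  have h2 : LocallyOfFiniteType (inv (Spec.map (U.ι.residueFieldMap s')) ≫
      (U : Scheme.{u}).fromSpecResidueField s' ≫ U.ι) := inferInstance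
  rwa [← e, IsIso.inv_hom_id_assoc] at h2

theorem lft_residueField_of_lft {k : Type u} [Field k] (f : Spec (CommRingCat.of k) ⟶ S) [LocallyOfFiniteType f] :
    LocallyOfFiniteType (S.fromSpecResidueField (f (closedPoint k))) := by
  obtain ⟨U, -, hu, h⟩ := exists_closed_of_lft f
  exact lft_of_isClosed hu h

theorem iff_closed (s : S) :
    LocallyOfFiniteType (S.fromSpecResidueField s) ↔
      ∃ U : S.Opens, IsAffineOpen U ∧ ∃ hs : s ∈ U, IsClosed ({⟨s, hs⟩} : Set ↥U) := by
  refine ⟨fun h => ?_, fun ⟨U, _, hs, h⟩ => lft_of_isClosed hs h⟩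
  haveI := h
  obtain ⟨U, hU, hu, hc⟩ := exists_closed_of_lft (k := S.residueField s) (S.fromSpecResidueField s)
  have hp : S.fromSpecResidueField s (closedPoint (S.residueField s)) = s := S.fromSpecResidueField_apply s _
  exact ⟨U, hU, hp ▸ hu, by convert hc using 3; exact hp.symm⟩

theorem map_ft {T : Scheme.{u}} (f : T ⟶ S) [LocallyOfFiniteType f] {t : T}
    (ht : LocallyOfFiniteType (T.fromSpecResidueField t)) : LocallyOfFiniteType (S.fromSpecResidueField (f t)) := by
  haveI := ht
  have h := lft_residueField_of_lft (k := T.residueField t) (T.fromSpecResidueField t ≫ f)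
  rwa [show (T.fromSpecResidueField t ≫ f) (closedPoint (T.residueField t)) = f t from
    congrArg f (T.fromSpecResidueField_apply t _)] at h

theorem exists_ft_mem (S : Scheme.{u}) {Z : Set S} (hZ : IsLocallyClosed Z) (hne : Z.Nonempty) :
    ∃ s ∈ Z, LocallyOfFiniteType (S.fromSpecResidueField s) := by
  obtain ⟨V, C, hV, hC, rfl⟩ := hZ
  obtain ⟨x, hxV, hxC⟩ := hne
  obtain ⟨_, ⟨W, hW, rfl⟩, hxW, hWV⟩ := S.isBasis_affineOpens.exists_subset_of_mem_open hxV hV
  change S.Opens at W
  haveI : CompactSpace ↥W := isCompact_iff_compactSpace.mp (show IsAffineOpen W from hW).isCompact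
  obtain ⟨y, hyC, hy⟩ := IsClosed.exists_closed_singleton (S := (Subtype.val : ↥W → S) ⁻¹' C)
    (hC.preimage continuous_subtype_val) ⟨⟨x, hxW⟩, hxC⟩
  exact ⟨y.1, ⟨hWV y.2, hyC⟩, lft_of_isClosed y.2 hy⟩

theorem surj_ft {T : Scheme.{u}} (f : T ⟶ S) [LocallyOfFiniteType f] [Surjective f] {s : S}
    (hs : LocallyOfFiniteType (S.fromSpecResidueField s)) :
    ∃ t, LocallyOfFiniteType (T.fromSpecResidueField t) ∧ f t = s := by
  haveI := hs
  obtain ⟨t₀, ht₀⟩ := f.surjective s
  haveI : LocallyOfFiniteType (f.fiberι s) := MorphismProperty.pullback_fst f (S.fromSpecResidueField s) hs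
  obtain ⟨z, -, hz⟩ := exists_ft_mem (f.fiber s) (Z := Set.univ) isOpen_univ.isLocallyClosed
    ⟨(f.fiberHomeo s).symm ⟨t₀, ht₀⟩, trivial⟩
  exact ⟨f.fiberι s z, map_ft (f.fiberι s) hz, (f.fiberHomeo s z).2⟩

theorem fromField_iff {k : Type u} [Field k] (f : Spec (CommRingCat.of k) ⟶ S) :
    LocallyOfFiniteType f ↔
      ∃ U : S.Opens, IsAffineOpen U ∧ ∃ hu : f (closedPoint k) ∈ U,
        IsClosed ({⟨f (closedPoint k), hu⟩} : Set ↥U) ∧ (f.residueFieldMap (closedPoint k)).hom.Finite := by
  haveI := isIso_fromSpecResidueField_field k (closedPoint k)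
  have e := Scheme.Hom.SpecMap_residueFieldMap_fromSpecResidueField f (closedPoint k)
  constructor
  · intro h
    haveI := h
    obtain ⟨U, hU, hu, hc⟩ := exists_closed_of_lft f
    refine ⟨U, hU, hu, hc, ?_⟩
    haveI : LocallyOfFiniteType (Spec.map (f.residueFieldMap (closedPoint k)) ≫
        S.fromSpecResidueField (f (closedPoint k))) := by rw [e]; infer_instance
    haveI := locallyOfFiniteType_of_comp (Spec.map (f.residueFieldMap (closedPoint k)))
      (S.fromSpecResidueField (f (closedPoint k)))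
    have hft := (HasRingHomProperty.Spec_iff (P := @LocallyOfFiniteType)).1 this
    algebraize [(f.residueFieldMap (closedPoint k)).hom]
    exact finite_of_finite_type_of_isJacobsonRing (S.residueField (f (closedPoint k))) _
  · rintro ⟨U, -, hu, hc, hfin⟩
    haveI := lft_of_isClosed hu hc
    haveI : LocallyOfFiniteType (Spec.map (f.residueFieldMap (closedPoint k))) :=
      (HasRingHomProperty.Spec_iff (P := @LocallyOfFiniteType)).2 (RingHom.FiniteType.of_finite hfin)
    have h2 : LocallyOfFiniteType (inv ((Spec (CommRingCat.of k)).fromSpecResidueField (closedPoint k)) ≫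
        Spec.map (f.residueFieldMap (closedPoint k)) ≫ S.fromSpecResidueField (f (closedPoint k))) := inferInstance
    rwa [e, IsIso.inv_hom_id_assoc] at h2

/-- Algebras over which an Artinian local ring has residue field of finite type. -/
theorem finiteType_of_residue {B A : Type u} [CommRing B] [CommRing A] [IsArtinianRing A] [IsLocalRing A]
    (φ : B →+* A) (h : ((residue A).comp φ).FiniteType) : φ.FiniteType := by
  classical
  letI := φ.toAlgebra
  letI : Algebra B (ResidueField A) := ((residue A).comp φ).toAlgebra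
  haveI : Algebra.FiniteType B (ResidueField A) := h
  obtain ⟨G, hG⟩ := Algebra.FiniteType.out (R := B) (A := ResidueField A)
  choose l hl using residue_surjective (R := A)
  obtain ⟨M, hM⟩ := IsNoetherian.noetherian (maximalIdeal A)
  let C : Subalgebra B A := Algebra.adjoin B ((G.image l ∪ M : Finset A) : Set A)
  suffices hC : C = ⊤ by exact ⟨⟨G.image l ∪ M, hC⟩⟩
  let ρ : A →ₐ[B] ResidueField A := { residue A with commutes' := fun _ => rfl }
  have h1 : ∀ a : A, ∃ c ∈ C, a - c ∈ maximalIdeal A := by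
    intro a
    have hsub : Algebra.adjoin B (G : Set (ResidueField A)) ≤ C.map ρ := Algebra.adjoin_le fun x hx =>
      ⟨l x, Algebra.subset_adjoin (Finset.mem_union_left _ (Finset.mem_image_of_mem l hx)), hl x⟩
    obtain ⟨c, hc, hca⟩ := hsub (hG ▸ Algebra.mem_top : ρ a ∈ _)
    exact ⟨c, hc, (residue_eq_zero_iff _).1 (by rw [map_sub]; exact sub_eq_zero.2 hca.symm)⟩
  have h2 : ∀ (n : ℕ) (a : A), ∃ c ∈ C, a - c ∈ maximalIdeal A ^ (n + 1) := by
    intro n
    induction n with
    | zero => simpa using h1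
    | succ n ih =>
      have hm : ∀ x ∈ maximalIdeal A, ∃ c ∈ C, x - c ∈ maximalIdeal A ^ (n + 2) := by
        intro x hx
        rw [← hM] at hx
        induction hx using Submodule.span_induction with
        | mem y hy =>
          exact ⟨y, Algebra.subset_adjoin (Finset.mem_union_right _ hy), by rw [sub_self]; exact zero_mem _⟩
        | zero => exact ⟨0, zero_mem C, by rw [sub_self]; exact zero_mem _⟩
        | add y z _ _ hy hz =>
          obtain ⟨c, hc, hc'⟩ := hy
          obtain ⟨d, hd, hd'⟩ := hz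
          exact ⟨c + d, add_mem hc hd, by rw [add_sub_add_comm]; exact add_mem hc' hd'⟩
        | smul r y hy' hy =>
          obtain ⟨c, hc, hc'⟩ := hy
          obtain ⟨d, hd, hd'⟩ := ih r
          refine ⟨d * c, mul_mem hd hc, ?_⟩
          have hy2 : y ∈ maximalIdeal A := hM ▸ hy'
          rw [show r • y - d * c = (r - d) * y + d * (y - c) by rw [smul_eq_mul]; ring]
          refine add_mem ?_ (Ideal.mul_mem_left _ _ hc')
          rw [pow_succ]
          exact Ideal.mul_mem_mul hd' hy2
      intro a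
      obtain ⟨c, hc, hc'⟩ := h1 a
      obtain ⟨d, hd, hd'⟩ := hm _ hc'
      exact ⟨c + d, add_mem hc hd, by rw [← sub_sub]; exact hd'⟩
  obtain ⟨n, hn⟩ := IsArtinianRing.isNilpotent_jacobson_bot (R := A)
  rw [IsLocalRing.jacobson_eq_maximalIdeal ⊥ bot_ne_top] at hn
  refine eq_top_iff.2 fun a _ => ?_
  obtain ⟨c, hc, hc'⟩ := h2 n a
  rw [pow_succ, hn, Submodule.zero_eq_bot, Ideal.bot_mul, Ideal.mem_bot, sub_eq_zero] at hc'
  rw [hc']; exact hc

theorem artinian_iff (A : Type u) [CommRing A] [IsArtinianRing A] [IsLocalRing A]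
    (f : Spec (CommRingCat.of A) ⟶ S) :
    LocallyOfFiniteType f ↔ LocallyOfFiniteType (Spec.map (CommRingCat.ofHom (residue A)) ≫ f) := by
  constructor
  · intro h
    haveI := h
    haveI : LocallyOfFiniteType (Spec.map (CommRingCat.ofHom (residue A))) :=
      (HasRingHomProperty.Spec_iff (P := @LocallyOfFiniteType)).2
        (RingHom.FiniteType.of_surjective _ residue_surjective)
    infer_instance
  · intro h
    haveI := h
    obtain ⟨_, ⟨U, hU, rfl⟩, hmem, -⟩ :=
      S.isBasis_affineOpens.exists_subset_of_mem_open (Set.mem_univ (f (closedPoint A))) isOpen_univ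
    change S.Opens at U
    replace hU : IsAffineOpen U := hU
    have hrange : Set.range f ⊆ Set.range hU.fromSpec := by
      rintro _ ⟨x, rfl⟩
      rw [hU.range_fromSpec, show x = closedPoint A from
        PrimeSpectrum.ext (IsLocalRing.eq_maximalIdeal (IsArtinianRing.isMaximal_of_isPrime x.asIdeal))]
      exact hmem
    let g : Spec (CommRingCat.of A) ⟶ Spec Γ(S, U) := IsOpenImmersion.lift hU.fromSpec f hrange
    have hg : g ≫ hU.fromSpec = f := IsOpenImmersion.lift_fac _ _ _
    obtain ⟨φ, hφ⟩ := Spec.map_surjective g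
    haveI : LocallyOfFiniteType ((Spec.map (CommRingCat.ofHom (residue A)) ≫ g) ≫ hU.fromSpec) := by
      rw [Category.assoc, hg]; infer_instance
    haveI := locallyOfFiniteType_of_comp (Spec.map (CommRingCat.ofHom (residue A)) ≫ g) hU.fromSpec
    have hft : (φ ≫ CommRingCat.ofHom (residue A)).hom.FiniteType :=
      (HasRingHomProperty.Spec_iff (P := @LocallyOfFiniteType)).1 (by rw [Spec.map_comp, hφ]; infer_instance)
    haveI : LocallyOfFiniteType g := by
      rw [← hφ]
      exact (HasRingHomProperty.Spec_iff (P := @LocallyOfFiniteType)).2 (finiteType_of_residue φ.hom hft)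
    rw [← hg]
    infer_instance

end Groth.L03.FtPts
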