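import Groth.Agent.L18.ProjSpaceUP
import Groth.Agent.L18.AmpleAvoid
import Mathlib.AlgebraicGeometry.AlgClosed.Basic

/-!
# Linear forms separating rational points of projective space
-/

set_option autoImplicit false
set_option backward.isDefEq.respectTransparency false
set_option linter.style.haveILetI false

universe u

open CategoryTheory AlgebraicGeometry TopologicalSpace MvPolynomial Opposite
open Groth.L18.Frame (rs ro rs_rs rs_self rs_smul ro_ro IsFrame)
open Groth.L18.PUP Groth.L18.PS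

noncomputable section

namespace Groth.L03.LinForm

variable {k : Type u} [Field k] {X : Scheme.{u}}

/-- The value of a function at a rational point. -/
def valAt (p : Spec (CommRingCat.of k) ⟶ X) {W : X.Opens} (h : p (IsLocalRing.closedPoint k) ∈ W) : Γ(X, W) →+* k :=
  (Scheme.ΓSpecIso (CommRingCat.of k)).hom.hom.comp (p.appLE W ⊤ fun z _ => by
    obtain rfl : z = IsLocalRing.closedPoint k := Subsingleton.elim _ _
    exact h).hom

theorem isUnit_germ_iff (p : Spec (CommRingCat.of k) ⟶ X) {W : X.Opens} (h : p (IsLocalRing.closedPoint k) ∈ W)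
    (α : Γ(X, W)) : IsUnit (X.presheaf.germ W _ h α) ↔ valAt p h α ≠ 0 := by
  have htop : (⊤ : (Spec (CommRingCat.of k)).Opens) ≤ p ⁻¹ᵁ W := fun z _ => by
    obtain rfl : z = IsLocalRing.closedPoint k := Subsingleton.elim _ _
    exact h
  have h1 : (Spec (CommRingCat.of k)).presheaf.germ ⊤ (IsLocalRing.closedPoint k) trivial (p.appLE W ⊤ htop α) =
      p.stalkMap (IsLocalRing.closedPoint k) (X.presheaf.germ W _ h α) := by
    rw [Scheme.Hom.appLE, CommRingCat.comp_apply, Scheme.Hom.germ_stalkMap_apply]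
    exact TopCat.Presheaf.germ_res_apply (Spec (CommRingCat.of k)).presheaf (homOfLE htop) _ trivial _
  constructor
  · intro hu
    have h2 : IsUnit (p.appLE W ⊤ htop α) := by
      refine RingedSpace.isUnit_of_isUnit_germ _ (U := (⊤ : (Spec (CommRingCat.of k)).Opens)) _ fun z hz => ?_
      obtain rfl : z = IsLocalRing.closedPoint k := Subsingleton.elim _ _
      have h3 := hu.map (p.stalkMap (IsLocalRing.closedPoint k)).hom
      rw [← h1] at h3
      exact h3
    exact (h2.map (Scheme.ΓSpecIso (CommRingCat.of k)).hom.hom).ne_zero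
  · intro hne
    have h2 : IsUnit (p.appLE W ⊤ htop α) := by
      have h3 := (isUnit_iff_ne_zero.2 hne).map (Scheme.ΓSpecIso (CommRingCat.of k)).inv.hom
      have h4 : (Scheme.ΓSpecIso (CommRingCat.of k)).inv (valAt p h α) = p.appLE W ⊤ htop α :=
        Iso.hom_inv_id_apply (Scheme.ΓSpecIso (CommRingCat.of k)) (p.appLE W ⊤ htop α)
      rw [← h4]
      exact h3
    have h3 := h2.map ((Spec (CommRingCat.of k)).presheaf.germ ⊤ (IsLocalRing.closedPoint k) trivial).hom
    rw [h1] at h3
    exact isUnit_of_map_unit (p.stalkMap (IsLocalRing.closedPoint k)).hom _ h3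

theorem valAt_const (q : X ⟶ Spec (CommRingCat.of k)) (p : Spec (CommRingCat.of k) ⟶ X) (hp : p ≫ q = 𝟙 _)
    {W : X.Opens} (h : p (IsLocalRing.closedPoint k) ∈ W) (a : k) :
    valAt p h (ro le_top (ProjUP.toGlobal q a)) = a := by
  have htop : (⊤ : (Spec (CommRingCat.of k)).Opens) ≤ p ⁻¹ᵁ W := fun z _ => by
    obtain rfl : z = IsLocalRing.closedPoint k := Subsingleton.elim _ _
    exact h
  have h2 : X.presheaf.map (homOfLE (le_top : W ≤ ⊤)).op ≫ p.appLE W ⊤ htop = p.appTop := by
    rw [Scheme.Hom.map_appLE]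
    exact Scheme.Hom.appLE_eq_app _
  have h0 : (p ≫ q).appTop = 𝟙 _ := by rw [hp]; rfl
  show (Scheme.ΓSpecIso (CommRingCat.of k)).hom ((X.presheaf.map (homOfLE (le_top : W ≤ ⊤)).op ≫ p.appLE W ⊤ htop)
    (q.appTop ((Scheme.ΓSpecIso (CommRingCat.of k)).inv a))) = a
  rw [h2]
  have h3 := ConcreteCategory.congr_hom h0 ((Scheme.ΓSpecIso (CommRingCat.of k)).inv a)
  rw [Scheme.Hom.comp_appTop] at h3
  exact (congrArg _ h3).trans (Iso.inv_hom_id_apply (Scheme.ΓSpecIso (CommRingCat.of k)) a)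

variable {n : ℕ}

theorem eq_of_cc (a b : Spec (CommRingCat.of k) ⟶ P n k) (ha : a ≫ pr n k = 𝟙 _) (hb : b ≫ pr n k = 𝟙 _)
    (i : Fin (n + 1)) (hai : a (IsLocalRing.closedPoint k) ∈ D i) (hbi : b (IsLocalRing.closedPoint k) ∈ D i)
    (h : ∀ j, valAt a hai (cc i j) = valAt b hbi (cc i j)) : a = b := by
  have hta : (⊤ : (Spec (CommRingCat.of k)).Opens) ≤ a ⁻¹ᵁ D i := fun z _ => by
    obtain rfl : z = IsLocalRing.closedPoint k := Subsingleton.elim _ _
    exact hai
  have htb : (⊤ : (Spec (CommRingCat.of k)).Opens) ≤ b ⁻¹ᵁ D i := fun z _ => by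
    obtain rfl : z = IsLocalRing.closedPoint k := Subsingleton.elim _ _
    exact hbi
  rw [← cancel_epi (isAffineOpen_top (Spec (CommRingCat.of k))).fromSpec, fromSpec_comp a _ hta,
    fromSpec_comp b _ htb]
  congr 2
  ext : 1
  refine chart_ringHom_ext i ?_ fun j => ?_
  · have h1 : (isAffineOpen_top (Spec (CommRingCat.of k))).fromSpec ≫ a ≫ pr n k =
        (isAffineOpen_top (Spec (CommRingCat.of k))).fromSpec ≫ b ≫ pr n k := by rw [ha, hb]
    rw [← Category.assoc, ← Category.assoc, fromSpec_comp a _ hta, fromSpec_comp b _ htb, Category.assoc,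
      Category.assoc, show ch n k i ≫ pr n k = _ from chart_toSpec _, ← Spec.map_comp, ← Spec.map_comp] at h1
    exact congrArg CommRingCat.Hom.hom (Spec.map_injective h1)
  · exact (ConcreteCategory.bijective_of_isIso (Scheme.ΓSpecIso (CommRingCat.of k)).hom).1 (h j)

/-- Some linear form vanishes at the first of two distinct rational points and not at the second. -/
theorem exists_section_sep (a b : Spec (CommRingCat.of k) ⟶ P n k) (ha : a ≫ pr n k = 𝟙 _)
    (hb : b ≫ pr n k = 𝟙 _) (hab : a ≠ b) :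
    ∃ s : Coh.structureModule (P n k) ⟶ O1 n k,
      a (IsLocalRing.closedPoint k) ∉ CohB1.genLocus (O1 n k) s ∧
        b (IsLocalRing.closedPoint k) ∈ CohB1.genLocus (O1 n k) s := by
  obtain ⟨i, hai⟩ := Opens.mem_iSup.1 ((Groth.L18.PS.iSup_chart (n := n) (R := k)).ge
    (trivial : a (IsLocalRing.closedPoint k) ∈ (⊤ : (P n k).Opens)))
  let va : Fin (n + 1) → k := fun j => valAt a hai (cc i j)
  let σ : Fin (n + 1) → Γ(O1 n k, ⊤) := fun j => T j - (show Γ(P n k, ⊤) from ProjUP.toGlobal (pr n k) (va j)) • T i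
  have hσ : ∀ (j l : Fin (n + 1)), (cc (R := k) l j - ro le_top (ProjUP.toGlobal (pr n k) (va j)) * cc l i) •
      rs (O1 n k) (le_top : D l ≤ ⊤) (T l) = rs (O1 n k) le_top
        (Groth.L18.GenLoc.secOf (Groth.L16.homOfSection (O1 n k) (σ j))) := by
    intro j l
    rw [Groth.L18.GenLoc.secOf_homOfSection, sub_smul, mul_smul, cc_smul, cc_smul]
    refine Eq.trans ?_ (map_sub ((O1 n k).presheaf.map (homOfLE (le_top : D l ≤ ⊤)).op).hom _ _).symm
    congr 1
  have hcc : ∀ {p : Spec (CommRingCat.of k) ⟶ P n k} {l : Fin (n + 1)} (hp : p (IsLocalRing.closedPoint k) ∈ D l),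
      valAt p hp (cc l l) = 1 := by
    intro p l hp
    have : cc (R := k) l l = 1 := (T_frame l).inj le_rfl (by rw [rs_self, one_smul, cc_smul])
    rw [this, map_one]
  have hmain : ∀ (j : Fin (n + 1)), a (IsLocalRing.closedPoint k) ∉
      CohB1.genLocus (O1 n k) (Groth.L16.homOfSection (O1 n k) (σ j)) := by
    intro j hmem
    refine (isUnit_germ_iff a hai _).1 ((Groth.L18.Ample.mem_genLocus_iff _ (T_frame i) (hσ j i) hai).1 hmem) ?_
    rw [map_sub, map_mul, valAt_const (pr n k) a ha, hcc, mul_one]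
    exact sub_self _
  by_cases hbi : b (IsLocalRing.closedPoint k) ∈ D (R := k) i
  · obtain ⟨j, hj⟩ : ∃ j, valAt b hbi (cc i j) ≠ va j := by
      by_contra hall
      push Not at hall
      exact hab (eq_of_cc a b ha hb i hai hbi fun j => (hall j).symm)
    refine ⟨_, hmain j, (Groth.L18.Ample.mem_genLocus_iff _ (T_frame i) (hσ j i) hbi).2 ((isUnit_germ_iff b hbi _).2 ?_)⟩
    rw [map_sub, map_mul, valAt_const (pr n k) b hb, hcc, mul_one]
    exact sub_ne_zero.2 hj
  · obtain ⟨l, hbl⟩ := Opens.mem_iSup.1 ((Groth.L18.PS.iSup_chart (n := n) (R := k)).ge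
      (trivial : b (IsLocalRing.closedPoint k) ∈ (⊤ : (P n k).Opens)))
    have h0 : valAt b hbl (cc l i) = 0 := by
      by_contra hne
      exact hbi (basicOpen_cc l i (((P n k).mem_basicOpen _ _ hbl).2 ((isUnit_germ_iff b hbl _).2 hne)))
    refine ⟨_, hmain l, (Groth.L18.Ample.mem_genLocus_iff _ (T_frame l) (hσ l l) hbl).2 ((isUnit_germ_iff b hbl _).2 ?_)⟩
    rw [map_sub, map_mul, h0, mul_zero, sub_zero, hcc]
    exact one_ne_zero

end Groth.L03.LinForm
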