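import Groth.Agent.L22.AffineDim
import Groth.Agent.L12.RegLift
import Groth.Agent.L13.LiaisonEquidim
import Groth.Agent.L06.FibreDimDecomp

/-! Cohen–Macaulay affine algebras over a field. -/

set_option autoImplicit false

universe u

open Ideal

namespace Groth.L03.CMAffine

section

variable (k : Type u) {S : Type u} [Field k] [CommRing S] [Algebra k S] [Algebra.FiniteType k S]
  [LocCoh.IsCohenMacaulayRing S]

include k

/-- Height plus coheight in an equidimensional CM affine algebra. -/
theorem height_add_dim (d : ℕ) (heq : ∀ p ∈ minimalPrimes S, ringKrullDim (S ⧸ p) = d) (q : Ideal S) [q.IsPrime] :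
    ∃ h e : ℕ, q.height = h ∧ ringKrullDim (S ⧸ q) = (e : WithBot ℕ∞) ∧ h + e = d := by
  obtain ⟨P, hP, hPq⟩ := Ideal.exists_minimalPrimes_le (I := (⊥ : Ideal S)) (J := q) bot_le
  have hPprime : P.IsPrime := hP.1.1
  have : (q.map (Ideal.Quotient.mk P)).IsPrime :=
    Ideal.map_isPrime_of_surjective Ideal.Quotient.mk_surjective (by rwa [Ideal.mk_ker])
  have : IsDomain (S ⧸ P) := Ideal.Quotient.isDomain P
  have : Algebra.FiniteType k (S ⧸ P) :=
    (inferInstance : Algebra.FiniteType k S).of_surjective (Ideal.Quotient.mkₐ k P) Ideal.Quotient.mk_surjective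
  obtain ⟨h, e, d', hh, he, hd, hhe⟩ := Groth.L22.AffineDim.dim_formula k (S ⧸ P) (q.map (Ideal.Quotient.mk P))
  rw [heq P hP] at hd
  have hd' : d = d' := by exact_mod_cast hd
  refine ⟨h, e, ?_, ?_, hhe.trans hd'.symm⟩
  · rw [← Groth.L13.Liaison.height_map_eq_of_minimal hP hPq]; exact hh
  · rw [← he]; exact (ringKrullDim_eq_of_ringEquiv (DoubleQuot.quotQuotEquivQuotOfLE hPq)).symm

theorem dim_eq_and_isRegular (d : ℕ) (heq : ∀ p ∈ minimalPrimes S, ringKrullDim (S ⧸ p) = d) (f : List S) (hi : f.length ≤ d)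
    (hne : Ideal.ofList f ≠ ⊤)
    (hle : ringKrullDim (S ⧸ Ideal.ofList f) ≤ ((d - f.length : ℕ) : WithBot ℕ∞)) :
    ringKrullDim (S ⧸ Ideal.ofList f) = ((d - f.length : ℕ) : WithBot ℕ∞) ∧
      ∀ (q : Ideal S) [q.IsPrime], Ideal.ofList f ≤ q →
        RingTheory.Sequence.IsRegular (Localization.AtPrime q)
          (f.map (algebraMap S (Localization.AtPrime q))) := by
  classical
  have hmin : ∀ q₀ ∈ (Ideal.ofList f).minimalPrimes, ∃ h e : ℕ, q₀.height = h ∧
      ringKrullDim (S ⧸ q₀) = (e : WithBot ℕ∞) ∧ h + e = d ∧ e ≤ d - f.length ∧ h ≤ f.length := by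
    intro q₀ hq₀
    have := hq₀.1.1
    obtain ⟨h, e, hh, he, hhe⟩ := height_add_dim k d heq q₀
    refine ⟨h, e, hh, he, hhe, ?_, ?_⟩
    · have h1 : ringKrullDim (S ⧸ q₀) ≤ ringKrullDim (S ⧸ Ideal.ofList f) :=
        ringKrullDim_le_of_surjective (Ideal.Quotient.factor hq₀.1.2) (Ideal.Quotient.factor_surjective _)
      rw [he] at h1
      exact_mod_cast h1.trans hle
    · have hcard := Ideal.height_le_card_of_mem_minimalPrimes_span_finset (p := q₀) (s := f.toFinset)
        (by rwa [List.coe_toFinset])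
      rw [hh] at hcard
      exact (Nat.cast_le.1 hcard).trans (List.toFinset_card_le f)
  refine ⟨le_antisymm hle ?_, fun q _ hq => ?_⟩
  · obtain ⟨M, hM, hJM⟩ := Ideal.exists_le_maximal _ hne
    obtain ⟨q₀, hq₀, -⟩ := Ideal.exists_minimalPrimes_le hJM
    obtain ⟨h, e, -, he, hhe, -, hh⟩ := hmin q₀ hq₀
    refine le_trans ?_ (ringKrullDim_le_of_surjective (Ideal.Quotient.factor hq₀.1.2) (Ideal.Quotient.factor_surjective _))
    rw [he]
    exact_mod_cast (by omega : d - f.length ≤ e)
  · let A := Localization.AtPrime q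
    have : LocCoh.IsCohenMacaulayLocalRing A :=
      LocCoh.IsCohenMacaulayRing.isCohenMacaulayLocalRing_localization q
    set xs := f.map (algebraMap S A)
    have hJ : Ideal.ofList xs = (Ideal.ofList f).map (algebraMap S A) := (Ideal.map_ofList _ f).symm
    have hmem : ∀ x ∈ xs, x ∈ IsLocalRing.maximalIdeal A := by
      intro x hx
      obtain ⟨y, hy, rfl⟩ := List.mem_map.1 hx
      exact (IsLocalization.AtPrime.to_map_mem_maximal_iff A q y).2 (hq (Ideal.subset_span hy))
    have hne' : Ideal.ofList xs ≠ ⊤ :=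
      ne_top_of_le_ne_top (IsLocalRing.maximalIdeal.isMaximal A).ne_top (Ideal.span_le.2 hmem)
    refine ⟨(Groth.L04.idealDepth_eq_length_iff xs hmem).1
      (le_antisymm (Groth.L04.idealDepth_ofList_le_length xs hmem) ?_), ?_⟩
    · have : LocCoh.IsCohenMacaulayRing A := Groth.L04.isCohenMacaulayRing_of_local A
      rw [Groth.L04.isCohenMacaulayRing_iff_height.1 inferInstance _ hne', Ideal.height_eq_inf_minimalPrimes]
      refine le_iInf₂ fun Q hQ => ?_
      have := hQ.1.1
      have hle' : Ideal.ofList f ≤ Q.comap (algebraMap S A) := by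
        rw [← Ideal.map_le_iff_le_comap, ← hJ]; exact hQ.1.2
      obtain ⟨q₀, hq₀, hq₀Q⟩ := Ideal.exists_minimalPrimes_le hle'
      obtain ⟨h, e, hh, -, hhe, he, -⟩ := hmin q₀ hq₀
      obtain ⟨hp, hd⟩ := (IsLocalization.isPrime_iff_isPrime_disjoint q.primeCompl A Q).1 hQ.1.1
      have h2 : Q.height = (Q.comap (algebraMap S A)).height := by
        conv_lhs => rw [← IsLocalization.map_under q.primeCompl A Q]
        exact IsLocalization.height_map_of_disjoint q.primeCompl _ hd
      have : q₀.IsPrime := hq₀.1.1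
      have h3 : (f.length : ℕ∞) ≤ Q.height := by
        rw [h2]
        refine le_trans ?_ (Ideal.height_mono hq₀Q)
        rw [hh]
        have : q₀.height ≠ ⊤ := by rw [hh]; exact ENat.natCast_ne_top h
        exact_mod_cast (by omega : f.length ≤ h)
      simpa [xs] using h3
    · rw [smul_eq_mul, Ideal.mul_top]
      exact hne'.symm

end

/-- A CM affine algebra is a product of equidimensional ones. -/
theorem exists_decomposition (k S : Type u) [Field k] [CommRing S]
    [Algebra k S] [Algebra.FiniteType k S] [LocCoh.IsCohenMacaulayRing S] :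
    ∃ (N : ℕ) (T : Fin (N + 1) → Type u) (_ : ∀ d, CommRing (T d)) (_ : ∀ d, Algebra k (T d)),
      Nonempty (S ≃ₐ[k] ((d : Fin (N + 1)) → T d)) ∧
        ∀ (d : Fin (N + 1)) (m : Ideal (T d)), m.IsMaximal → m.height = (d : ℕ) := by
  have : Module.Free k S := Module.Free.of_divisionRing k S
  have : Module.Flat k S := Module.Flat.of_free
  have hS : LocCoh.IsCohenMacaulayRing S := ‹_›
  have : Algebra.FinitePresentation k S := Algebra.FinitePresentation.of_finiteType.1 inferInstance
  have hcm : ∀ {X Y : Type u} [CommRing X] [CommRing Y] (_ : X ≃+* Y),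
      LocCoh.IsCohenMacaulayRing X → LocCoh.IsCohenMacaulayRing Y := fun {X Y} _ _ e hX => by
    let alg : Algebra X Y := e.toRingHom.toAlgebra
    have : IsLocalization.Away (1 : X) Y := IsLocalization.away_of_isUnit_of_bijective Y isUnit_one e.bijective
    exact Groth.L06.FibreDimDecomp.cm_away (1 : X) hX
  have hfib : ∀ (p : PrimeSpectrum k) (T : Type u) [CommRing T] [Algebra k T],
      Nonempty (T ≃ₐ[k] p.asIdeal.Fiber T) := fun p T _ _ => by
    have hbij : Function.Bijective (algebraMap k p.asIdeal.ResidueField) := by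
      refine ⟨RingHom.injective _, fun x => ?_⟩
      obtain ⟨a, b, hb, hab⟩ := IsFractionRing.div_surjective (k ⧸ p.asIdeal) x
      obtain ⟨a', rfl⟩ := Ideal.Quotient.mk_surjective a
      obtain ⟨b', rfl⟩ := Ideal.Quotient.mk_surjective b
      refine ⟨a' / b', ?_⟩
      rw [← hab, map_div₀]
      rfl
    exact ⟨(Algebra.TensorProduct.lid k T).symm.trans
      (Algebra.TensorProduct.congr (AlgEquiv.ofBijective (Algebra.ofId k p.asIdeal.ResidueField) hbij) AlgEquiv.refl)⟩
  obtain ⟨N, T, _, _, hiso, hT⟩ := Groth.L06.FibreDimDecomp.main k S fun p =>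
    hcm (hfib p S).some.toRingEquiv hS
  refine ⟨N, T, inferInstance, inferInstance, hiso, fun d m hm => ?_⟩
  obtain ⟨-, hfp, hcmT, hdim⟩ := hT d
  let p : PrimeSpectrum k := ⟨⊥, Ideal.isPrime_bot⟩
  obtain ⟨e⟩ := hfib p (T d)
  have : LocCoh.IsCohenMacaulayRing (T d) := hcm e.toRingEquiv.symm (hcmT p)
  obtain ⟨P, hP, hPm⟩ := Ideal.exists_minimalPrimes_le (I := (⊥ : Ideal (T d))) (J := m) bot_le
  have : P.IsPrime := hP.1.1
  have hQ : P.comap e.toRingEquiv.symm.toRingHom ∈ minimalPrimes (p.asIdeal.Fiber (T d)) := by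
    have h1 := Ideal.minimalPrimes_comap_of_surjective (f := e.toRingEquiv.symm.toRingHom) e.toRingEquiv.symm.surjective hP
    rw [← RingHom.ker_eq_comap_bot, (RingHom.injective_iff_ker_eq_bot e.toRingEquiv.symm.toRingHom).1 e.toRingEquiv.symm.injective] at h1
    exact h1
  have h2 := hdim p _ hQ
  rw [ringKrullDim_eq_of_ringEquiv (Ideal.quotientEquiv _ P e.toRingEquiv.symm
    (Ideal.map_comap_of_surjective _ e.toRingEquiv.symm.surjective P).symm)] at h2
  have : Algebra.FiniteType k (T d) := inferInstance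
  have : IsDomain (T d ⧸ P) := Ideal.Quotient.isDomain P
  have : Algebra.FiniteType k (T d ⧸ P) :=
    (inferInstance : Algebra.FiniteType k (T d)).of_surjective (Ideal.Quotient.mkₐ k P) Ideal.Quotient.mk_surjective
  have : (m.map (Ideal.Quotient.mk P)).IsMaximal :=
    Ideal.IsMaximal.map_of_surjective_of_ker_le Ideal.Quotient.mk_surjective (by rwa [Ideal.mk_ker])
  have h3 := Groth.L22.AffineDim.height_of_isMaximal k (T d ⧸ P) (m.map (Ideal.Quotient.mk P))
  rw [Groth.L13.Liaison.height_map_eq_of_minimal hP hPm, h2] at h3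
  exact WithBot.coe_inj.1 h3

end Groth.L03.CMAffine
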