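import Groth.Agent.L03.Catenary
import Mathlib.RingTheory.Flat.Stability
import Mathlib.RingTheory.Ideal.GoingDown
import Mathlib.RingTheory.RingHom.Flat
import Mathlib.RingTheory.Ideal.KrullsHeightTheorem
import Mathlib.RingTheory.TensorProduct.MvPolynomial

/-!
A Noetherian ring exhausted by flat maps from catenary rings is catenary.
-/

universe u v w

namespace Groth.L03.CatenaryColim

variable {ι : Type w} {G : ι → Type u} [∀ i, CommRing (G i)] {B : Type v} [CommRing B] (φ : ∀ i, G i →+* B)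

theorem map_comap_eq {A : Type u} [CommRing A] (f : A →+* B) (P : Ideal B) (s : Finset B)
    (hs : Ideal.span (s : Set B) = P) (hr : (s : Set B) ⊆ Set.range f) : (P.comap f).map f = P := by
  refine le_antisymm Ideal.map_comap_le ?_
  conv_lhs => rw [← hs]
  refine Ideal.span_le.2 fun x hx => ?_
  obtain ⟨a, rfl⟩ := hr hx
  exact Ideal.mem_map_of_mem f (hs ▸ Ideal.subset_span hx : f a ∈ P)

theorem exists_bound [IsNoetherianRing B] (q : PrimeSpectrum B) :
    ∃ n : ℕ, ∀ s : LTSeries (PrimeSpectrum B), s.last = q → s.length ≤ n := by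
  haveI := q.2
  obtain ⟨n, hn⟩ : ∃ n : ℕ, q.asIdeal.height = n :=
    ⟨q.asIdeal.height.toNat, (ENat.natCast_toNat (Ideal.height_ne_top q.2.ne_top)).symm⟩
  refine ⟨n, fun s hs => ?_⟩
  have h1 : (s.length : ℕ∞) ≤ Order.height q := Order.length_le_height (hs.le)
  rw [← Nat.cast_le (α := ℕ∞), ← hn, PrimeSpectrum.height_eq_orderHeight]
  exact h1

theorem isCatenary_of_flat_exhaustion [IsNoetherianRing B] (hflat : ∀ i, (φ i).Flat)
    (hrange : ∀ s : Finset B, ∃ i, (s : Set B) ⊆ Set.range (φ i))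
    (hG : ∀ i, CAlg.IsCatenary (G i)) : CAlg.IsCatenary B := by
  classical
  refine ⟨fun p q _ => ?_, fun s t hh hl hs ht => ?_⟩
  · obtain ⟨n, hn⟩ := exists_bound q
    exact ⟨n, fun s _ hl => hn s hl⟩
  have hgen : ∀ P : PrimeSpectrum B, ∃ T : Finset B, Ideal.span (T : Set B) = P.asIdeal := fun P =>
    (IsNoetherian.noetherian P.asIdeal)
  choose T hT using hgen
  obtain ⟨i, hi⟩ := hrange ((Finset.univ.biUnion fun k => T (s k)) ∪ (Finset.univ.biUnion fun k => T (t k)))
  let c := PrimeSpectrum.comap (φ i)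
  have hmap : ∀ P : PrimeSpectrum B, ((T P : Finset B) : Set B) ⊆ Set.range (φ i) →
      (c P).asIdeal.map (φ i) = P.asIdeal := fun P h => map_comap_eq (φ i) P.asIdeal (T P) (hT P) h
  have hlt : ∀ P Q : PrimeSpectrum B, ((T P : Finset B) : Set B) ⊆ Set.range (φ i) →
      ((T Q : Finset B) : Set B) ⊆ Set.range (φ i) → P < Q → c P < c Q := by
    intro P Q hP hQ hPQ
    refine lt_of_le_of_ne (Ideal.comap_mono (show P.asIdeal ≤ Q.asIdeal from hPQ.le)) fun h => hPQ.ne ?_
    exact PrimeSpectrum.ext ((hmap P hP).symm.trans ((congrArg (fun X => X.asIdeal.map (φ i)) h).trans (hmap Q hQ)))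
  have hcov : ∀ P Q : PrimeSpectrum B, ((T P : Finset B) : Set B) ⊆ Set.range (φ i) →
      ((T Q : Finset B) : Set B) ⊆ Set.range (φ i) → P ⋖ Q → c P ⋖ c Q := by
    intro P Q hP hQ hPQ
    refine ⟨hlt P Q hP hQ hPQ.lt, fun r h1 h2 => ?_⟩
    letI := (φ i).toAlgebra
    haveI : Module.Flat (G i) B := hflat i
    haveI : Q.asIdeal.LiesOver (c Q).asIdeal := ⟨rfl⟩
    obtain ⟨R, hR, hRp, hRr⟩ := Q.asIdeal.exists_ideal_le_liesOver_of_le (p := r.asIdeal) (q := (c Q).asIdeal) (show r.asIdeal ≤ (c Q).asIdeal from h2.le)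
    have hPR : P.asIdeal ≤ R := by
      rw [← hmap P hP, Ideal.map_le_iff_le_comap]
      exact (show (c P).asIdeal ≤ r.asIdeal from h1.le).trans hRr.over.le
    have hcR : c ⟨R, hRp⟩ = r := PrimeSpectrum.ext hRr.over.symm
    rcases hPQ.eq_or_eq (show P ≤ ⟨R, hRp⟩ from hPR) (show (⟨R, hRp⟩ : PrimeSpectrum B) ≤ Q from hR) with h | h
    · exact h1.ne (by rw [← hcR, h])
    · exact h2.ne (by rw [← hcR, h])
  have hrs : ∀ k, ((T (s k) : Finset B) : Set B) ⊆ Set.range (φ i) := fun k x hx =>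
    hi (Finset.mem_union_left _ (Finset.mem_biUnion.2 ⟨k, Finset.mem_univ _, hx⟩))
  have hrt : ∀ k, ((T (t k) : Finset B) : Set B) ⊆ Set.range (φ i) := fun k x hx =>
    hi (Finset.mem_union_right _ (Finset.mem_biUnion.2 ⟨k, Finset.mem_univ _, hx⟩))
  let s' : LTSeries (PrimeSpectrum (G i)) := ⟨s.length, fun k => c (s k), fun k => hlt _ _ (hrs _) (hrs _) (s.step k)⟩
  let t' : LTSeries (PrimeSpectrum (G i)) := ⟨t.length, fun k => c (t k), fun k => hlt _ _ (hrt _) (hrt _) (t.step k)⟩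
  exact (hG i).2 s' t' (congrArg c hh) (congrArg c hl) (fun k => hcov _ _ (hrs _) (hrs _) (hs k))
    (fun k => hcov _ _ (hrt _) (hrt _) (ht k))

open MvPolynomial in
theorem flat_mvPolynomial_map {A : Type u} [CommRing A] (f : A →+* B) (hf : f.Flat) (n : ℕ) :
    (MvPolynomial.map (σ := Fin n) f).Flat := by
  letI := f.toAlgebra
  haveI : Module.Flat A B := hf
  letI : Algebra (MvPolynomial (Fin n) A) (MvPolynomial (Fin n) B) := MvPolynomial.algebraMvPolynomial
  have h : IsBaseChange (MvPolynomial (Fin n) A) (IsScalarTower.toAlgHom A B (MvPolynomial (Fin n) B)).toLinearMap :=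
    Algebra.IsPushout.out
  have : Module.Flat (MvPolynomial (Fin n) A) (MvPolynomial (Fin n) B) :=
    Module.Flat.isBaseChange A (MvPolynomial (Fin n) A) B (MvPolynomial (Fin n) B) h
  exact this

theorem isCatenary_finiteType [IsNoetherianRing B] (hflat : ∀ i, (φ i).Flat)
    (hrange : ∀ s : Finset B, ∃ i, (s : Set B) ⊆ Set.range (φ i))
    (hG : ∀ i, CAlg.IsUniversallyCatenary (G i))
    (S : Type v) [CommRing S] [Algebra B S] [Algebra.FiniteType B S] : CAlg.IsCatenary S := by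
  classical
  obtain ⟨n, g, hg⟩ := Algebra.FiniteType.iff_quotient_mvPolynomial''.1 ‹Algebra.FiniteType B S›
  have hP : CAlg.IsCatenary (MvPolynomial (Fin n) B) := by
    refine isCatenary_of_flat_exhaustion (fun i => MvPolynomial.map (σ := Fin n) (φ i))
      (fun i => flat_mvPolynomial_map _ (hflat i) n) (fun s => ?_)
      (fun i => (hG i).2 (MvPolynomial (Fin n) (G i)) inferInstance)
    obtain ⟨i, hi⟩ := hrange (s.biUnion fun p => p.coeffs)
    exact ⟨i, fun p hp => MvPolynomial.mem_range_map_iff_coeffs_subset.2 fun x hx =>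
      hi (Finset.mem_biUnion.2 ⟨p, hp, hx⟩)⟩
  let e := Ideal.quotientKerAlgEquivOfSurjective hg
  refine Groth.L03.Catenary.isCatenary_of_emb
    (PrimeSpectrum.comapEquiv e.toRingEquiv).symm.toOrderEmbedding ?_
    (Groth.L03.Catenary.isCatenary_quotient (RingHom.ker g) hP)
  convert Set.ordConnected_univ
  exact Set.range_eq_univ.2 (OrderIso.surjective _)

end Groth.L03.CatenaryColim
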