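import Mathlib.RingTheory.Spectrum.Prime.FreeLocus
import Mathlib.RingTheory.LocalRing.Module
import Mathlib.RingTheory.LocalRing.ResidueField.Ideal
import Mathlib.RingTheory.Flat.Equalizer
import Mathlib.RingTheory.Flat.Localization

/-!
Projectivity of cokernels of maps of finite projective modules via residue fields.
-/

set_option autoImplicit false
set_option linter.style.haveILetI false

open TensorProduct LinearMap

universe u v w

namespace Groth.L03.CokerProj

variable {R : Type u} [CommRing R] {M : Type v} {N : Type w} [AddCommGroup M] [Module R M]
  [AddCommGroup N] [Module R N]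

theorem ker_le_range_iff (d : M →ₗ[R] N) (k : Type u) [CommRing k] [Algebra R k] :
    LinearMap.ker (d.baseChange k) ≤ LinearMap.range ((LinearMap.ker d).subtype.baseChange k) ↔
      Function.Injective ((LinearMap.range d).subtype.baseChange k) := by
  have hd : d.baseChange k =
      (LinearMap.range d).subtype.baseChange k ∘ₗ d.rangeRestrict.baseChange k := by
    rw [← LinearMap.baseChange_comp, show (LinearMap.range d).subtype ∘ₗ d.rangeRestrict = d from rfl]
  have hsurj : Function.Surjective (d.rangeRestrict.baseChange k) := by
    rw [baseChange_eq_ltensor]
    exact lTensor_surjective k d.surjective_rangeRestrict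
  have hex : Function.Exact ((LinearMap.ker d).subtype.baseChange k)
      (d.rangeRestrict.baseChange k) := by
    rw [baseChange_eq_ltensor, baseChange_eq_ltensor]
    refine lTensor_exact k ?_ d.surjective_rangeRestrict
    rw [LinearMap.exact_iff, LinearMap.ker_rangeRestrict, Submodule.range_subtype]
  constructor
  · intro h
    rw [injective_iff_map_eq_zero]
    intro x hx
    obtain ⟨y, rfl⟩ := hsurj x
    obtain ⟨z, rfl⟩ := h (show y ∈ LinearMap.ker (d.baseChange k) by rw [hd]; exact hx)
    exact hex.apply_apply_eq_zero z
  · intro h y hy
    rw [hd, LinearMap.mem_ker, LinearMap.comp_apply] at hy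
    exact (hex y).1 (h (hy.trans (map_zero _).symm))

variable [Module.Finite R M] [Module.Finite R N] [Module.Projective R N]

theorem finitePresentation_coker (d : M →ₗ[R] N) :
    Module.FinitePresentation R (N ⧸ LinearMap.range d) := by
  have := Module.finitePresentation_of_projective R N
  exact Module.finitePresentation_of_surjective _ (Submodule.mkQ_surjective _)
    (by rw [Submodule.ker_mkQ, LinearMap.range_eq_map]; exact Module.Finite.fg_top.map d)

theorem ker_le_range_iff_mem_freeLocus (d : M →ₗ[R] N) (p : PrimeSpectrum R) :
    LinearMap.ker (d.baseChange p.asIdeal.ResidueField) ≤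
        LinearMap.range ((LinearMap.ker d).subtype.baseChange p.asIdeal.ResidueField) ↔
      p ∈ Module.freeLocus R (N ⧸ LinearMap.range d) := by
  let Rp := Localization.AtPrime p.asIdeal
  haveI : Module.Finite R (LinearMap.range d) := Module.Finite.range d
  haveI : Module.Free Rp (Rp ⊗[R] N) := Module.free_of_flat_of_isLocalRing
  let j := (LinearMap.range d).subtype
  let q := (LinearMap.range d).mkQ
  have hjq : Function.Exact j q := LinearMap.exact_subtype_mkQ _
  have hq : Function.Surjective (q.baseChange Rp) := by
    rw [baseChange_eq_ltensor]
    exact lTensor_surjective Rp (Submodule.mkQ_surjective _)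
  have hexp : Function.Exact (j.baseChange Rp) (q.baseChange Rp) := by
    rw [baseChange_eq_ltensor, baseChange_eq_ltensor]
    exact lTensor_exact Rp hjq (Submodule.mkQ_surjective _)
  have hjp : Function.Injective (j.baseChange Rp) := by
    rw [baseChange_eq_ltensor]
    exact Module.Flat.lTensor_preserves_injective_linearMap _ (Submodule.injective_subtype _)
  let k := p.asIdeal.ResidueField
  let e := AlgebraTensorModule.cancelBaseChange R Rp k k (LinearMap.range d)
  let e' := AlgebraTensorModule.cancelBaseChange R Rp k k N
  have hcomm : e' ∘ (j.baseChange Rp).lTensor k = j.baseChange k ∘ e := by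
    funext x
    simp only [Function.comp_apply]
    induction x using TensorProduct.induction_on with
    | zero => simp
    | tmul a y =>
      induction y using TensorProduct.induction_on with
      | zero => simp
      | tmul b n => simp [e, e']
      | add y z hy hz => rw [TensorProduct.tmul_add, map_add, map_add, map_add, map_add, hy, hz]
    | add x y hx hy => rw [map_add, map_add, map_add, map_add, hx, hy]
  have hiff : Function.Injective (j.baseChange k) ↔
      Function.Injective ((j.baseChange Rp).lTensor k) := by
    constructor
    · intro h
      refine Function.Injective.of_comp (f := e') ?_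
      rw [hcomm]
      exact h.comp e.injective
    · intro h
      refine Function.Injective.of_comp_right (g := e) ?_ e.surjective
      rw [← hcomm]
      exact e'.injective.comp h
  rw [ker_le_range_iff, hiff, Module.mem_freeLocus_iff_tensor p Rp]
  constructor
  · intro h
    exact Module.free_of_lTensor_residueField_injective (j.baseChange Rp) (q.baseChange Rp) hq hexp h
  · intro h
    exact lTensor_injective_of_exact_of_flat (q.baseChange Rp) hq (j.baseChange Rp) hjp hexp k

end Groth.L03.CokerProj
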