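import Groth.Agent.L03.SmoothStage
import Mathlib.RingTheory.Unramified.Finite
import Mathlib.RingTheory.IntegralClosure.IsIntegral.Basic
import Mathlib.RingTheory.FiniteType
import Mathlib.RingTheory.FinitePresentation

/-!
Properties of a base change along a directed colimit hold at some stage (finite type / presentation).
-/

set_option autoImplicit false
universe u

open TensorProduct

namespace Groth.L03.ColimTensor

section stage

open Groth.L03.SmoothStage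

variable {ι : Type u} {A₀ : Type u} [CommRing A₀] {G : ι → Type u} [∀ i, CommRing (G i)]
  [∀ i, Algebra A₀ (G i)] {A : Type u} [CommRing A] [Algebra A₀ A] {g : ∀ i, G i →ₐ[A₀] A}

theorem exists_lift (hc : IsColim (B := A₀) G g) (M : Type u) [AddCommGroup M] [Module A₀ M] {κ : Type}
    [Finite κ] (a : κ → M ⊗[A₀] A) :
    ∃ i, ∀ x, ∃ z : M ⊗[A₀] G i, (g i).toLinearMap.lTensor M z = a x := by
  classical
  cases nonempty_fintype κ
  haveI := hc.nonempty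
  have mono : ∀ i k (φ : G i →ₐ[A₀] G k), (g k).comp φ = g i → ∀ b : M ⊗[A₀] A,
      (∃ z, (g i).toLinearMap.lTensor M z = b) → ∃ z, (g k).toLinearMap.lTensor M z = b := by
    rintro i k φ hφ b ⟨z, rfl⟩
    exact ⟨φ.toLinearMap.lTensor M z, by rw [← LinearMap.lTensor_comp_apply, ← AlgHom.comp_toLinearMap, hφ]⟩
  have one : ∀ b : M ⊗[A₀] A, ∃ i z, (g i).toLinearMap.lTensor M z = b := by
    intro b
    induction b using TensorProduct.induction_on with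
    | zero => exact ⟨Classical.arbitrary ι, 0, map_zero _⟩
    | tmul m x => obtain ⟨i, y, rfl⟩ := hc.surj x; exact ⟨i, m ⊗ₜ y, rfl⟩
    | add b b' hb hb' =>
      obtain ⟨i, hb⟩ := hb; obtain ⟨j, hb'⟩ := hb'
      obtain ⟨k, φ, ψ, hφ, hψ⟩ := hc.dir i j
      obtain ⟨z, rfl⟩ := mono i k φ hφ b hb
      obtain ⟨z', rfl⟩ := mono j k ψ hψ b' hb'
      exact ⟨k, z + z', map_add _ _ _⟩
  suffices H : ∀ s : Finset κ, ∃ i, ∀ x ∈ s, ∃ z : M ⊗[A₀] G i, (g i).toLinearMap.lTensor M z = a x by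
    obtain ⟨i, hi⟩ := H Finset.univ
    exact ⟨i, fun x => hi x (Finset.mem_univ x)⟩
  intro s
  induction s using Finset.induction_on with
  | empty => exact ⟨Classical.arbitrary ι, by simp⟩
  | insert x s _ ih =>
    obtain ⟨i, hi⟩ := ih
    obtain ⟨j, hj⟩ := one (a x)
    obtain ⟨k, φ, ψ, hφ, hψ⟩ := hc.dir i j
    refine ⟨k, fun y hy => ?_⟩
    rcases Finset.mem_insert.mp hy with rfl | hy
    · exact mono j k ψ hψ _ hj
    · exact mono i k φ hφ _ (hi y hy)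

theorem exists_kill_one (hc : IsColim (B := A₀) G g) (M : Type u) [AddCommGroup M] [Module A₀ M] (i : ι)
    (z : M ⊗[A₀] G i) (hz : (g i).toLinearMap.lTensor M z = 0) :
    ∃ k, ∃ φ : G i →ₐ[A₀] G k, (g k).comp φ = g i ∧ φ.toLinearMap.lTensor M z = 0 := by
  classical
  obtain ⟨T, hT⟩ := TensorProduct.exists_finset z
  have hz' : ∑ t : T, t.1.1 ⊗ₜ[A₀] g i t.1.2 = 0 := by
    rw [Finset.sum_coe_sort T fun t => t.1 ⊗ₜ[A₀] g i t.2]
    rw [hT, map_sum] at hz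
    simpa using hz
  obtain ⟨M', hM', hle, hMz⟩ : ∃ M' : Submodule A₀ M, M'.FG ∧ ∃ hle : ∀ t : T, t.1.1 ∈ M',
      ∑ t : T, (⟨t.1.1, hle t⟩ : M') ⊗ₜ[A₀] g i t.1.2 = 0 := by
    let N : Submodule A₀ M := Submodule.span A₀ (Set.range fun t : T => t.1.1)
    have hmem : ∀ t : T, t.1.1 ∈ N := fun t => Submodule.subset_span ⟨t, rfl⟩
    obtain ⟨N', hle, hN', h⟩ := TensorProduct.eq_zero_of_fg_of_subtype_eq_zero (P := N)
      (Submodule.fg_span (Set.finite_range _)) (t := ∑ t : T, (⟨t.1.1, hmem t⟩ : N) ⊗ₜ[A₀] g i t.1.2)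
      (by simpa using hz')
    refine ⟨N', hN', fun t => hle (hmem t), ?_⟩
    rw [map_sum] at h; exact h
  haveI : Module.Finite A₀ M' := Module.Finite.iff_fg.mpr hM'
  obtain ⟨n, e, he⟩ := Module.Finite.exists_fin (R := A₀) (M := M')
  let m : T ⊕ Fin n → M' := Sum.elim (fun t => ⟨t.1.1, hle t⟩) e
  obtain ⟨k, a, y, hy, ha⟩ := TensorProduct.vanishesTrivially_of_sum_tmul_eq_zero A₀
    (m := m) (n := Sum.elim (fun t => g i t.1.2) 0)
    (top_le_iff.mp (he.ge.trans (Submodule.span_mono (by rintro _ ⟨x, rfl⟩; exact ⟨Sum.inr x, rfl⟩))))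
    (by simpa [Fintype.sum_sum_type, m] using hMz)
  obtain ⟨i₁, hi₁⟩ := exists_lift hc A₀ (fun j : Fin k => (1 : A₀) ⊗ₜ[A₀] y j)
  have hi₁' : ∀ j, ∃ x : G i₁, g i₁ x = y j := fun j => by
    obtain ⟨w, hw⟩ := hi₁ j
    refine ⟨TensorProduct.lid A₀ (G i₁) w, ?_⟩
    have := congrArg (TensorProduct.lid A₀ A) hw
    simp only [TensorProduct.lid_tmul, one_smul] at this
    rw [← this]
    clear this hw
    induction w using TensorProduct.induction_on with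
    | zero => simp
    | tmul c x => simp
    | add u v hu hv => simp only [map_add, hu, hv]
  choose y' hy' using hi₁'
  obtain ⟨k₁, φ, ψ, hφ, hψ⟩ := hc.dir i i₁
  let xi : T ⊕ Fin n → G k₁ := Sum.elim (fun t => φ t.1.2) 0
  let d : T ⊕ Fin n → G k₁ := fun c => xi c - ∑ j, a c j • ψ (y' j)
  obtain ⟨k₂, χ, hχ, hk₂⟩ := SmoothStage.exists_kill hc k₁ (Finset.univ.image d) (by
    simp only [Finset.mem_image, Finset.mem_univ, true_and]
    rintro _ ⟨c, rfl⟩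
    have h1 : g k₁ (xi c) = Sum.elim (fun t : T => g i t.1.2) 0 c := by
      rcases c with t | x
      · show g k₁ (φ t.1.2) = g i t.1.2
        rw [← AlgHom.comp_apply, hφ]
      · simp [xi]
    have h2 : ∀ j, g k₁ (ψ (y' j)) = y j := fun j => by rw [← AlgHom.comp_apply, hψ, hy']
    simp only [d, map_sub, map_sum, map_smul, h1, h2, hy c, sub_self])
  have h3 : ∀ c, χ (xi c) = ∑ j, a c j • χ (ψ (y' j)) := fun c => by
    have := hk₂ (d c) (Finset.mem_image_of_mem _ (Finset.mem_univ _))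
    simpa [d, sub_eq_zero] using this
  refine ⟨k₂, χ.comp φ, by rw [← AlgHom.comp_assoc, hχ, hφ], ?_⟩
  have h4 : ∑ c, (m c : M) ⊗ₜ[A₀] χ (xi c) = 0 := by
    simp only [h3, TensorProduct.tmul_sum, TensorProduct.tmul_smul]
    rw [Finset.sum_comm]
    refine Finset.sum_eq_zero fun j _ => ?_
    have := congrArg Subtype.val (ha j)
    simp only [Submodule.coe_sum, Submodule.coe_smul, ZeroMemClass.coe_zero] at this
    simp only [TensorProduct.smul_tmul', ← TensorProduct.sum_tmul, this, TensorProduct.zero_tmul]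
  rw [Fintype.sum_sum_type] at h4
  simp only [m, xi, Sum.elim_inl, Sum.elim_inr, Pi.zero_apply, map_zero, TensorProduct.tmul_zero,
    Finset.sum_const_zero, add_zero] at h4
  rw [hT, map_sum, ← Finset.sum_coe_sort T]
  exact h4

theorem exists_kill (hc : IsColim (B := A₀) G g) (M : Type u) [AddCommGroup M] [Module A₀ M] {κ : Type}
    [Finite κ] (i : ι) (z : κ → M ⊗[A₀] G i) (hz : ∀ x, (g i).toLinearMap.lTensor M (z x) = 0) :
    ∃ k, ∃ φ : G i →ₐ[A₀] G k, (g k).comp φ = g i ∧ ∀ x, φ.toLinearMap.lTensor M (z x) = 0 := by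
  classical
  cases nonempty_fintype κ
  suffices H : ∀ s : Finset κ, ∃ k, ∃ φ : G i →ₐ[A₀] G k, (g k).comp φ = g i ∧
      ∀ x ∈ s, φ.toLinearMap.lTensor M (z x) = 0 by
    obtain ⟨k, φ, hφ, h⟩ := H Finset.univ
    exact ⟨k, φ, hφ, fun x => h x (Finset.mem_univ x)⟩
  intro s
  induction s using Finset.induction_on with
  | empty => exact ⟨i, AlgHom.id A₀ _, AlgHom.comp_id _, by simp⟩
  | insert a s _ ih =>
    obtain ⟨k, φ, hφ, h⟩ := ih
    obtain ⟨m, ψ, hψ, h'⟩ := exists_kill_one hc M k (φ.toLinearMap.lTensor M (z a)) (by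
      rw [← LinearMap.lTensor_comp_apply, ← AlgHom.comp_toLinearMap, hφ, hz])
    refine ⟨m, ψ.comp φ, by rw [← AlgHom.comp_assoc, hψ, hφ], fun x hx => ?_⟩
    rw [AlgHom.comp_toLinearMap, LinearMap.lTensor_comp_apply]
    rcases Finset.mem_insert.mp hx with rfl | hx
    · exact h'
    · rw [h x hx, map_zero]

/-- A directed system in the sense of the statements gives `IsColim`. -/
theorem isColim [Preorder ι] [IsDirected ι (· ≤ ·)] [Nonempty ι] (f : ∀ i j, i ≤ j → (G i →ₐ[A₀] G j))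
    (hg : ∀ i j (h : i ≤ j), (g j).comp (f i j h) = g i) (hsurj : ∀ a : A, ∃ i, ∃ x : G i, g i x = a)
    (hker : ∀ i (x : G i), g i x = 0 → ∃ j, ∃ h : i ≤ j, f i j h x = 0) : IsColim (B := A₀) G g :=
  ⟨inferInstance, fun i j => by
    obtain ⟨k, hik, hjk⟩ := directed_of (· ≤ ·) i j
    exact ⟨k, f i k hik, f j k hjk, hg _ _ hik, hg _ _ hjk⟩,
    hsurj, fun i x hx => by
      obtain ⟨j, h, hj⟩ := hker i x hx
      exact ⟨j, f i j h, hg _ _ h, hj⟩⟩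

end stage

section base

variable (A₀ : Type u) [CommRing A₀] (B₀ : Type u) [CommRing B₀] [Algebra A₀ B₀] (C₀ : Type u) [CommRing C₀]
  [Algebra A₀ C₀] [Algebra B₀ C₀] [IsScalarTower A₀ B₀ C₀] (T : Type u) [CommRing T] [Algebra A₀ T]

/-- `B₀ ⊗ T → C₀ ⊗ T` -/
noncomputable def inc : B₀ ⊗[A₀] T →ₐ[B₀] C₀ ⊗[A₀] T :=
  Algebra.TensorProduct.map (Algebra.ofId B₀ C₀) (AlgHom.id A₀ T)

/-- `C₀ ⊗ T → (B₀ ⊗ T) ⊗ C₀` -/
noncomputable def toBC : C₀ ⊗[A₀] T →ₐ[A₀] (B₀ ⊗[A₀] T) ⊗[B₀] C₀ :=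
  Algebra.TensorProduct.lift
    ((Algebra.TensorProduct.includeRight : C₀ →ₐ[B₀] (B₀ ⊗[A₀] T) ⊗[B₀] C₀).restrictScalars A₀)
    ((Algebra.TensorProduct.includeLeft : B₀ ⊗[A₀] T →ₐ[A₀] (B₀ ⊗[A₀] T) ⊗[B₀] C₀).comp
      Algebra.TensorProduct.includeRight) (fun _ _ => Commute.all _ _)

/-- `(B₀ ⊗ T) ⊗ C₀ → C₀ ⊗ T` -/
noncomputable def ofBC : (B₀ ⊗[A₀] T) ⊗[B₀] C₀ →ₐ[B₀] C₀ ⊗[A₀] T :=
  Algebra.TensorProduct.lift (inc A₀ B₀ C₀ T) Algebra.TensorProduct.includeLeft (fun _ _ => Commute.all _ _)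

theorem toBC_inc (a : B₀ ⊗[A₀] T) :
    toBC A₀ B₀ C₀ T (inc A₀ B₀ C₀ T a) = algebraMap (B₀ ⊗[A₀] T) ((B₀ ⊗[A₀] T) ⊗[B₀] C₀) a := by
  induction a using TensorProduct.induction_on with
  | zero => simp
  | tmul b t =>
    simp only [inc, toBC, Algebra.TensorProduct.map_tmul, Algebra.TensorProduct.lift_tmul]
    show ((1 : B₀ ⊗[A₀] T) ⊗ₜ[B₀] algebraMap B₀ C₀ b) * ((1 : B₀) ⊗ₜ[A₀] t) ⊗ₜ[B₀] (1 : C₀) = (b ⊗ₜ[A₀] t) ⊗ₜ[B₀] (1 : C₀)
    rw [Algebra.TensorProduct.tmul_mul_tmul, one_mul, mul_one, Algebra.algebraMap_eq_smul_one,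
      ← TensorProduct.smul_tmul, TensorProduct.smul_tmul', smul_eq_mul, mul_one]
  | add x y hx hy => simp only [map_add, hx, hy]

theorem toBC_left (c : C₀) : toBC A₀ B₀ C₀ T (c ⊗ₜ 1) = (1 : B₀ ⊗[A₀] T) ⊗ₜ[B₀] c := by
  rw [toBC, Algebra.TensorProduct.lift_tmul, map_one, mul_one]; rfl

theorem ofBC_algebraMap (a : B₀ ⊗[A₀] T) :
    ofBC A₀ B₀ C₀ T (algebraMap (B₀ ⊗[A₀] T) ((B₀ ⊗[A₀] T) ⊗[B₀] C₀) a) = inc A₀ B₀ C₀ T a := by
  show ofBC A₀ B₀ C₀ T (a ⊗ₜ 1) = _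
  rw [ofBC, Algebra.TensorProduct.lift_tmul, map_one, mul_one]

theorem ofBC_right (c : C₀) : ofBC A₀ B₀ C₀ T ((1 : B₀ ⊗[A₀] T) ⊗ₜ[B₀] c) = c ⊗ₜ[A₀] (1 : T) := by
  rw [ofBC, Algebra.TensorProduct.lift_tmul, map_one, one_mul]; rfl

variable {A₀ B₀ C₀ T} in
theorem inc_map {T' : Type u} [CommRing T'] [Algebra A₀ T'] (φ : T →ₐ[A₀] T') (a : B₀ ⊗[A₀] T) :
    φ.toLinearMap.lTensor C₀ (inc A₀ B₀ C₀ T a) = inc A₀ B₀ C₀ T' (φ.toLinearMap.lTensor B₀ a) := by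
  induction a using TensorProduct.induction_on with
  | zero => simp
  | tmul b t => simp [inc]
  | add x y hx hy => simp only [map_add, hx, hy]

variable {A₀ B₀ C₀ T} in
/-- Induction on the base change along generators of `C₀`. -/
theorem induction_gens (s : Set C₀) (hs : Algebra.adjoin B₀ s = ⊤) (P : (B₀ ⊗[A₀] T) ⊗[B₀] C₀ → Prop)
    (hb : ∀ a, P (algebraMap (B₀ ⊗[A₀] T) _ a)) (hgen : ∀ c ∈ s, P ((1 : B₀ ⊗[A₀] T) ⊗ₜ[B₀] c))
    (hadd : ∀ x y, P x → P y → P (x + y)) (hmul : ∀ x y, P x → P y → P (x * y)) (z) : P z := by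
  induction z using TensorProduct.induction_on with
  | zero =>
    have := hb 0
    rwa [map_zero] at this
  | add x y hx hy => exact hadd x y hx hy
  | tmul r c =>
    rw [show r ⊗ₜ[B₀] c = algebraMap (B₀ ⊗[A₀] T) ((B₀ ⊗[A₀] T) ⊗[B₀] C₀) r * ((1 : B₀ ⊗[A₀] T) ⊗ₜ c) by
      show _ = (r ⊗ₜ (1 : C₀)) * _
      rw [Algebra.TensorProduct.tmul_mul_tmul, mul_one, one_mul]]
    refine hmul _ _ (hb r) ?_
    have hc : c ∈ Algebra.adjoin B₀ s := hs ▸ trivial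
    induction hc using Algebra.adjoin_induction with
    | mem c hc => exact hgen c hc
    | algebraMap b =>
      rw [show (1 : B₀ ⊗[A₀] T) ⊗ₜ[B₀] algebraMap B₀ C₀ b = algebraMap (B₀ ⊗[A₀] T) _ (b • 1) by
        show _ = (b • (1 : B₀ ⊗[A₀] T)) ⊗ₜ[B₀] (1 : C₀)
        rw [Algebra.algebraMap_eq_smul_one, TensorProduct.smul_tmul]]
      exact hb _
    | add x y _ _ hx hy => rw [TensorProduct.tmul_add]; exact hadd _ _ hx hy
    | mul x y _ _ hx hy =>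
      rw [show (1 : B₀ ⊗[A₀] T) ⊗ₜ[B₀] (x * y) = (1 ⊗ₜ x) * (1 ⊗ₜ y) by
        rw [Algebra.TensorProduct.tmul_mul_tmul, one_mul]]
      exact hmul _ _ hx hy

variable {A₀ B₀ C₀ T} in
theorem surjective_of_gens (s : Set C₀) (hs : Algebra.adjoin B₀ s = ⊤)
    (h : ∀ c ∈ s, ∃ a, inc A₀ B₀ C₀ T a = c ⊗ₜ 1) :
    Function.Surjective (algebraMap (B₀ ⊗[A₀] T) ((B₀ ⊗[A₀] T) ⊗[B₀] C₀)) := fun z => by
  refine induction_gens (A₀ := A₀) (T := T) s hs (fun z => ∃ a, algebraMap (B₀ ⊗[A₀] T) _ a = z) (fun a => ⟨a, rfl⟩) (fun c hc => ?_)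
    (fun x y ⟨a, ha⟩ ⟨b, hb⟩ => ⟨a + b, by rw [map_add, ha, hb]⟩)
    (fun x y ⟨a, ha⟩ ⟨b, hb⟩ => ⟨a * b, by rw [map_mul, ha, hb]⟩) z
  obtain ⟨a, ha⟩ := h c hc
  exact ⟨a, by rw [← toBC_inc, ha, toBC_left]⟩

end base

section sep

variable {A₀ : Type u} [CommRing A₀] {B₀ : Type u} [CommRing B₀] [Algebra A₀ B₀] {C₀ : Type u} [CommRing C₀]
  [Algebra A₀ C₀] [Algebra B₀ C₀] [IsScalarTower A₀ B₀ C₀] {T : Type u} [CommRing T] [Algebra A₀ T]

set_option maxSynthPendingDepth 4 in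
theorem formallyUnramified_of_sep [Algebra.FiniteType B₀ C₀] (s : Set C₀) (hs : Algebra.adjoin B₀ s = ⊤) (w : (C₀ ⊗[B₀] C₀) ⊗[A₀] T)
    (hδ : ∀ c ∈ s, (((1 : C₀) ⊗ₜ[B₀] c - c ⊗ₜ[B₀] (1 : C₀)) ⊗ₜ[A₀] (1 : T)) * w = 0)
    (h1 : Algebra.TensorProduct.map ((Algebra.TensorProduct.lmul' B₀ (S := C₀)).restrictScalars A₀)
      (AlgHom.id A₀ T) w = 1) :
    Algebra.FormallyUnramified (B₀ ⊗[A₀] T) ((B₀ ⊗[A₀] T) ⊗[B₀] C₀) := by
  let fl : C₀ →ₐ[B₀] ((B₀ ⊗[A₀] T) ⊗[B₀] C₀) ⊗[B₀ ⊗[A₀] T] ((B₀ ⊗[A₀] T) ⊗[B₀] C₀) :=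
    (Algebra.TensorProduct.includeLeft : (B₀ ⊗[A₀] T) ⊗[B₀] C₀ →ₐ[B₀] _).comp Algebra.TensorProduct.includeRight
  let fr : C₀ →ₐ[B₀] ((B₀ ⊗[A₀] T) ⊗[B₀] C₀) ⊗[B₀ ⊗[A₀] T] ((B₀ ⊗[A₀] T) ⊗[B₀] C₀) :=
    ((Algebra.TensorProduct.includeRight : (B₀ ⊗[A₀] T) ⊗[B₀] C₀ →ₐ[B₀ ⊗[A₀] T] _).restrictScalars B₀).comp
      Algebra.TensorProduct.includeRight
  let ft : T →ₐ[A₀] ((B₀ ⊗[A₀] T) ⊗[B₀] C₀) ⊗[B₀ ⊗[A₀] T] ((B₀ ⊗[A₀] T) ⊗[B₀] C₀) :=
    (Algebra.TensorProduct.includeLeft : (B₀ ⊗[A₀] T) ⊗[B₀] C₀ →ₐ[A₀] _).comp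
      ((toBC A₀ B₀ C₀ T).comp Algebra.TensorProduct.includeRight)
  let Θ := Algebra.TensorProduct.lift ((Algebra.TensorProduct.lift fl fr (fun _ _ => Commute.all _ _)).restrictScalars A₀) ft
    (fun _ _ => Commute.all _ _)
  have hΘ : ∀ a b u, Θ ((a ⊗ₜ[B₀] b) ⊗ₜ[A₀] u) = fl a * fr b * ft u := fun a b u => by
    simp only [Θ, Algebra.TensorProduct.lift_tmul, AlgHom.restrictScalars_apply]
  have hmul : ∀ z, Algebra.TensorProduct.lmul' (B₀ ⊗[A₀] T) (Θ z) = toBC A₀ B₀ C₀ T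
      (Algebra.TensorProduct.map ((Algebra.TensorProduct.lmul' B₀ (S := C₀)).restrictScalars A₀) (AlgHom.id A₀ T) z) := by
    intro z
    induction z using TensorProduct.induction_on with
    | zero => simp
    | add x y hx hy => simp only [map_add, hx, hy]
    | tmul a u =>
      induction a using TensorProduct.induction_on with
      | zero => simp
      | add x y hx hy => simp only [TensorProduct.add_tmul, map_add, hx, hy]
      | tmul a b =>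
        rw [hΘ, map_mul, map_mul, Algebra.TensorProduct.map_tmul, AlgHom.restrictScalars_apply,
          Algebra.TensorProduct.lmul'_apply_tmul, toBC, Algebra.TensorProduct.lift_tmul, map_mul]
        simp [fl, fr, ft, toBC]
  refine Algebra.FormallyUnramified.iff_exists_tensorProduct.mpr ⟨Θ w, fun z => ?_, ?_⟩
  · refine induction_gens (A₀ := A₀) (T := T) s hs (fun z => ((1 : (B₀ ⊗[A₀] T) ⊗[B₀] C₀) ⊗ₜ[B₀ ⊗[A₀] T] z -
        z ⊗ₜ[B₀ ⊗[A₀] T] (1 : (B₀ ⊗[A₀] T) ⊗[B₀] C₀)) * Θ w = 0)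
      (fun a => ?_) (fun y hy => ?_) (fun x y hx hy => ?_) (fun x y hx hy => ?_) z
    · rw [Algebra.algebraMap_eq_smul_one, TensorProduct.smul_tmul, sub_self, zero_mul]
    · rw [← map_zero Θ, ← hδ y hy, map_mul, TensorProduct.sub_tmul, map_sub, hΘ, hΘ]
      simp [fl, fr, ft, ← Algebra.TensorProduct.one_def]
    · rw [TensorProduct.tmul_add, TensorProduct.add_tmul, add_sub_add_comm, add_mul, hx, hy, add_zero]
    · rw [← one_mul (1 : (B₀ ⊗[A₀] T) ⊗[B₀] C₀), ← Algebra.TensorProduct.tmul_mul_tmul,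
        ← Algebra.TensorProduct.tmul_mul_tmul]
      linear_combination ((1 : (B₀ ⊗[A₀] T) ⊗[B₀] C₀) ⊗ₜ[B₀ ⊗[A₀] T] x) * hy +
        (y ⊗ₜ[B₀ ⊗[A₀] T] (1 : (B₀ ⊗[A₀] T) ⊗[B₀] C₀)) * hx
  · rw [hmul, h1, map_one]

end sep

section main

variable {ι : Type u} {A₀ : Type u} [CommRing A₀] {G : ι → Type u} [∀ i, CommRing (G i)]
  [∀ i, Algebra A₀ (G i)] {A : Type u} [CommRing A] [Algebra A₀ A] {g : ∀ i, G i →ₐ[A₀] A}
  {B₀ : Type u} [CommRing B₀] [Algebra A₀ B₀] {C₀ : Type u} [CommRing C₀]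
  [Algebra A₀ C₀] [Algebra B₀ C₀] [IsScalarTower A₀ B₀ C₀]

/-- Surjectivity at a stage, with the stage's generator equations. -/
theorem exists_surj (hc : SmoothStage.IsColim (B := A₀) G g) {κ : Type} [Finite κ] (c : κ → C₀)
    (h : Function.Surjective (algebraMap (B₀ ⊗[A₀] A) ((B₀ ⊗[A₀] A) ⊗[B₀] C₀))) :
    ∃ i, ∀ x, ∃ a : B₀ ⊗[A₀] G i, inc A₀ B₀ C₀ (G i) a = c x ⊗ₜ 1 := by
  choose b hb using fun x => h ((1 : B₀ ⊗[A₀] A) ⊗ₜ[B₀] c x)
  obtain ⟨i, hi⟩ := exists_lift hc B₀ b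
  choose a ha using hi
  obtain ⟨k, φ, hφ, hk⟩ := exists_kill hc C₀ i (fun x => inc A₀ B₀ C₀ (G i) (a x) - c x ⊗ₜ 1) (fun x => by
    rw [map_sub, inc_map, ha, ← ofBC_algebraMap, hb, ofBC_right, LinearMap.lTensor_tmul, AlgHom.toLinearMap_apply,
      map_one, sub_self])
  refine ⟨k, fun x => ⟨φ.toLinearMap.lTensor B₀ (a x), ?_⟩⟩
  have := hk x
  rw [map_sub, inc_map, LinearMap.lTensor_tmul, AlgHom.toLinearMap_apply, map_one, sub_eq_zero] at this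
  exact this

theorem surj_up {i k : ι} (φ : G i →ₐ[A₀] G k) {c : C₀}
    (h : ∃ a : B₀ ⊗[A₀] G i, inc A₀ B₀ C₀ (G i) a = c ⊗ₜ 1) :
    ∃ a : B₀ ⊗[A₀] G k, inc A₀ B₀ C₀ (G k) a = c ⊗ₜ 1 := by
  obtain ⟨a, ha⟩ := h
  exact ⟨φ.toLinearMap.lTensor B₀ a, by
    rw [← inc_map, ha, LinearMap.lTensor_tmul, AlgHom.toLinearMap_apply, map_one]⟩

theorem lTensor_mul {M : Type u} [CommRing M] [Algebra A₀ M] {T T' : Type u} [CommRing T] [CommRing T']
    [Algebra A₀ T] [Algebra A₀ T'] (φ : T →ₐ[A₀] T') (x y : M ⊗[A₀] T) :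
    φ.toLinearMap.lTensor M (x * y) = φ.toLinearMap.lTensor M x * φ.toLinearMap.lTensor M y :=
  map_mul (Algebra.TensorProduct.map (AlgHom.id A₀ M) φ) x y

theorem exists_index_surjective (hc : SmoothStage.IsColim (B := A₀) G g) [Algebra.FiniteType B₀ C₀]
    (h : Function.Surjective (algebraMap (B₀ ⊗[A₀] A) ((B₀ ⊗[A₀] A) ⊗[B₀] C₀))) :
    ∃ i, Function.Surjective (algebraMap (B₀ ⊗[A₀] G i) ((B₀ ⊗[A₀] G i) ⊗[B₀] C₀)) := by
  obtain ⟨s, hs⟩ := ‹Algebra.FiniteType B₀ C₀›.out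
  obtain ⟨n, c, hc'⟩ := s.finite_toSet.fin_param
  obtain ⟨i, hi⟩ := exists_surj hc c h
  refine ⟨i, surjective_of_gens _ hs fun x hx => ?_⟩
  obtain ⟨j, rfl⟩ : x ∈ Set.range c := hc'.2 ▸ hx
  exact hi j

theorem exists_index_bijective (hc : SmoothStage.IsColim (B := A₀) G g) [Algebra.FinitePresentation B₀ C₀]
    (h : Function.Bijective (algebraMap (B₀ ⊗[A₀] A) ((B₀ ⊗[A₀] A) ⊗[B₀] C₀))) :
    ∃ i, Function.Bijective (algebraMap (B₀ ⊗[A₀] G i) ((B₀ ⊗[A₀] G i) ⊗[B₀] C₀)) := by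
  classical
  obtain ⟨n, π, hπ, hker⟩ := Algebra.FinitePresentation.out (R := B₀) (A := C₀)
  obtain ⟨r, hr⟩ := hker
  let e := AlgEquiv.ofBijective (Algebra.ofId (B₀ ⊗[A₀] A) ((B₀ ⊗[A₀] A) ⊗[B₀] C₀)) h
  let s : C₀ →ₐ[B₀] B₀ ⊗[A₀] A :=
    (e.symm.toAlgHom.restrictScalars B₀).comp Algebra.TensorProduct.includeRight
  obtain ⟨i₀, hi₀⟩ := exists_surj hc (fun x => π (MvPolynomial.X x)) h.2
  obtain ⟨i₁, hi₁⟩ := exists_lift hc B₀ (fun x => s (π (MvPolynomial.X x)))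
  choose v hv using hi₁
  let gm : ∀ i, B₀ ⊗[A₀] G i →ₐ[B₀] B₀ ⊗[A₀] A := fun i =>
    Algebra.TensorProduct.map (AlgHom.id B₀ B₀) (g i)
  have hev : ∀ p, gm i₁ (MvPolynomial.aeval v p) = s (π p) := fun p =>
    DFunLike.congr_fun (MvPolynomial.algHom_ext (f := (gm i₁).comp (MvPolynomial.aeval v)) (g := s.comp π)
      fun x => by simp only [AlgHom.comp_apply, MvPolynomial.aeval_X]; exact hv x) p
  obtain ⟨i₂, ψ, hψ, hi₂⟩ := exists_kill hc B₀ i₁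
    (fun x : Fin r.card => MvPolynomial.aeval v (r.equivFin.symm x).1) (fun x => by
      show gm i₁ _ = 0
      have hx : π (r.equivFin.symm x).1 = 0 :=
        RingHom.mem_ker.mp (hr ▸ Ideal.subset_span (r.equivFin.symm x).2)
      rw [hev, hx, map_zero])
  obtain ⟨k, φ₀, φ₂, -, -⟩ := hc.dir i₀ i₂
  refine ⟨k, ?_, surjective_of_gens (Set.range fun x => π (MvPolynomial.X x)) ?_ ?_⟩
  · let mk : B₀ ⊗[A₀] G i₁ →ₐ[B₀] B₀ ⊗[A₀] G k :=
      (Algebra.TensorProduct.map (AlgHom.id B₀ B₀) φ₂).comp (Algebra.TensorProduct.map (AlgHom.id B₀ B₀) ψ)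
    let w : MvPolynomial (Fin n) B₀ →ₐ[B₀] B₀ ⊗[A₀] G k := mk.comp (MvPolynomial.aeval v)
    have hle : RingHom.ker π.toRingHom ≤ RingHom.ker w.toRingHom := by
      rw [← hr, Ideal.span_le]
      intro p hp
      show Algebra.TensorProduct.map (AlgHom.id B₀ B₀) φ₂
        (ψ.toLinearMap.lTensor B₀ (MvPolynomial.aeval v p)) = 0
      have := hi₂ (r.equivFin ⟨p, hp⟩)
      rw [Equiv.symm_apply_apply] at this
      rw [this, map_zero]
    let sk : C₀ →ₐ[B₀] B₀ ⊗[A₀] G k := AlgHom.liftOfSurjective π hπ w hle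
    let u : (B₀ ⊗[A₀] G k) ⊗[B₀] C₀ →ₐ[B₀] B₀ ⊗[A₀] G k :=
      Algebra.TensorProduct.lift (AlgHom.id B₀ _) sk (fun _ _ => Commute.all _ _)
    refine Function.LeftInverse.injective (g := u) fun a => ?_
    show u (a ⊗ₜ 1) = a
    rw [Algebra.TensorProduct.lift_tmul, map_one, mul_one]; rfl
  · rw [show (Set.range fun x => π (MvPolynomial.X x)) = π '' Set.range MvPolynomial.X from Set.range_comp _ _,
      ← AlgHom.map_adjoin, MvPolynomial.adjoin_range_X, Algebra.map_top]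
    exact (AlgHom.range_eq_top π).mpr hπ
  · rintro _ ⟨x, rfl⟩
    exact surj_up φ₀ (hi₀ x)

theorem exists_index_finite (hc : SmoothStage.IsColim (B := A₀) G g) [Algebra.FiniteType B₀ C₀]
    (h : Module.Finite (B₀ ⊗[A₀] A) ((B₀ ⊗[A₀] A) ⊗[B₀] C₀)) :
    ∃ i, Module.Finite (B₀ ⊗[A₀] G i) ((B₀ ⊗[A₀] G i) ⊗[B₀] C₀) := by
  classical
  obtain ⟨s, hs⟩ := ‹Algebra.FiniteType B₀ C₀›.out
  obtain ⟨n, c, hc'⟩ := s.finite_toSet.fin_param
  choose p hpm hp using fun x : Fin n =>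
    Algebra.IsIntegral.isIntegral (R := B₀ ⊗[A₀] A) ((1 : B₀ ⊗[A₀] A) ⊗ₜ[B₀] c x)
  let D := Finset.univ.sup fun x => (p x).natDegree
  obtain ⟨i, hi⟩ := exists_lift hc B₀ (fun q : Fin n × Fin (D + 1) => (p q.1).coeff q.2)
  choose b hb using hi
  have hd : ∀ x, (p x).natDegree < D + 1 := fun x => Nat.lt_succ_of_le (Finset.le_sup (f := fun x => (p x).natDegree) (Finset.mem_univ x))
  let E : ∀ (T : Type u) [CommRing T] [Algebra A₀ T], (Fin n → ℕ → B₀ ⊗[A₀] T) → Fin n → C₀ ⊗[A₀] T :=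
    fun T _ _ q x => (c x ⊗ₜ 1) ^ (p x).natDegree +
      ∑ m ∈ Finset.range (p x).natDegree, inc A₀ B₀ C₀ T (q x m) * (c x ⊗ₜ 1) ^ m
  let q : Fin n → ℕ → B₀ ⊗[A₀] G i := fun x m => if hm : m < D + 1 then b (x, ⟨m, hm⟩) else 0
  have hmap : ∀ (T T' : Type u) [CommRing T] [CommRing T'] [Algebra A₀ T] [Algebra A₀ T'] (φ : T →ₐ[A₀] T')
      (q : Fin n → ℕ → B₀ ⊗[A₀] T) (x),
      φ.toLinearMap.lTensor C₀ (E T q x) = E T' (fun y m => φ.toLinearMap.lTensor B₀ (q y m)) x := by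
    intro T T' _ _ _ _ φ q x
    simp only [E, map_add, map_sum, lTensor_mul, inc_map]
    have hpow : ∀ m : ℕ, φ.toLinearMap.lTensor C₀ ((c x ⊗ₜ 1) ^ m) = (c x ⊗ₜ 1) ^ m := fun m => by
      show Algebra.TensorProduct.map (AlgHom.id A₀ C₀) φ _ = _
      rw [map_pow, Algebra.TensorProduct.map_tmul, map_one, AlgHom.id_apply]
    simp only [hpow]
  obtain ⟨k, φ, hφ, hk⟩ := exists_kill hc C₀ i (E (G i) q) (fun x => by
    rw [hmap]
    have h0 := congrArg (ofBC A₀ B₀ C₀ A) (hp x)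
    rw [map_zero, Polynomial.eval₂_eq_sum_range, Finset.sum_range_succ, (hpm x).coeff_natDegree, map_one, one_mul,
      map_add, map_sum, map_pow, ofBC_right] at h0
    rw [← h0, add_comm _ ((c x ⊗ₜ[A₀] (1 : A)) ^ _)]
    simp only [E]
    congr 1
    refine Finset.sum_congr rfl fun m hm => ?_
    rw [map_mul, map_pow, ofBC_right, ofBC_algebraMap]
    simp only [q, dif_pos ((Finset.mem_range.mp hm).trans (hd x)), hb])
  refine ⟨k, ?_⟩
  let R := B₀ ⊗[A₀] G k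
  have hint : ∀ x, IsIntegral R ((1 : R) ⊗ₜ[B₀] c x) := fun x => by
    refine ⟨Polynomial.X ^ (p x).natDegree +
      ∑ m ∈ Finset.range (p x).natDegree, Polynomial.C (φ.toLinearMap.lTensor B₀ (q x m)) * Polynomial.X ^ m, ?_, ?_⟩
    · refine Polynomial.monic_X_pow_add (lt_of_le_of_lt (Polynomial.degree_sum_le _ _) ?_)
      rw [Finset.sup_lt_iff (WithBot.bot_lt_coe _)]
      exact fun m hm => lt_of_le_of_lt (Polynomial.degree_C_mul_X_pow_le m _) (WithBot.coe_lt_coe.mpr (Finset.mem_range.mp hm))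
    · have h0 := congrArg (toBC A₀ B₀ C₀ (G k)) (hk x)
      rw [hmap, map_zero] at h0
      simp only [E, map_add, map_sum, map_mul, map_pow, toBC_inc, toBC_left] at h0
      simp only [Polynomial.eval₂_add, Polynomial.eval₂_X_pow, Polynomial.eval₂_finsetSum, Polynomial.eval₂_mul,
        Polynomial.eval₂_C]
      exact h0
  haveI : Algebra.IsIntegral R (R ⊗[B₀] C₀) := ⟨fun z => induction_gens (A₀ := A₀) (T := G k) (s : Set C₀) hs (fun z => IsIntegral R z)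
    (fun a => isIntegral_algebraMap) (fun y hy => by
      obtain ⟨j, rfl⟩ : y ∈ Set.range c := hc'.2 ▸ hy
      exact hint j)
    (fun _ _ => IsIntegral.add) (fun _ _ => IsIntegral.mul) z⟩
  exact Algebra.IsIntegral.finite

theorem exists_index_unramified (hc : SmoothStage.IsColim (B := A₀) G g) [Algebra.FiniteType B₀ C₀]
    (h : Algebra.Unramified (B₀ ⊗[A₀] A) ((B₀ ⊗[A₀] A) ⊗[B₀] C₀)) :
    ∃ i, Algebra.Unramified (B₀ ⊗[A₀] G i) ((B₀ ⊗[A₀] G i) ⊗[B₀] C₀) := by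
  classical
  obtain ⟨s, hs⟩ := ‹Algebra.FiniteType B₀ C₀›.out
  obtain ⟨n, c, hc'⟩ := s.finite_toSet.fin_param
  let C2 := C₀ ⊗[B₀] C₀
  haveI := h.formallyUnramified
  obtain ⟨t, ht, ht1⟩ := Algebra.FormallyUnramified.iff_exists_tensorProduct.mp
    (inferInstance : Algebra.FormallyUnramified (B₀ ⊗[A₀] A) ((B₀ ⊗[A₀] A) ⊗[B₀] C₀))
  let m2 : ∀ (T : Type u) [CommRing T] [Algebra A₀ T], C2 ⊗[A₀] T →ₐ[A₀] C₀ ⊗[A₀] T := fun T _ _ =>
    Algebra.TensorProduct.map ((Algebra.TensorProduct.lmul' B₀ (S := C₀)).restrictScalars A₀) (AlgHom.id A₀ T)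
  let l₁ : C₀ →ₐ[B₀] C2 := Algebra.TensorProduct.includeLeft
  let l₂ : C₀ →ₐ[B₀] C2 := Algebra.TensorProduct.includeRight
  let j₁ : (B₀ ⊗[A₀] A) ⊗[B₀] C₀ →ₐ[B₀] C2 ⊗[A₀] A :=
    (Algebra.TensorProduct.map l₁ (AlgHom.id A₀ A)).comp (ofBC A₀ B₀ C₀ A)
  let j₂ : (B₀ ⊗[A₀] A) ⊗[B₀] C₀ →ₐ[B₀] C2 ⊗[A₀] A :=
    (Algebra.TensorProduct.map l₂ (AlgHom.id A₀ A)).comp (ofBC A₀ B₀ C₀ A)
  let iA : B₀ ⊗[A₀] A →ₐ[B₀] C2 ⊗[A₀] A := Algebra.TensorProduct.map (Algebra.ofId B₀ C2) (AlgHom.id A₀ A)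
  letI : Algebra (B₀ ⊗[A₀] A) (C2 ⊗[A₀] A) := iA.toRingHom.toAlgebra
  have hj : ∀ (l : C₀ →ₐ[B₀] C2) (a : B₀ ⊗[A₀] A),
      Algebra.TensorProduct.map l (AlgHom.id A₀ A) (inc A₀ B₀ C₀ A a) = iA a := fun l a => by
    induction a using TensorProduct.induction_on with
    | zero => simp
    | tmul b t => simp [inc, iA]
    | add x y hx hy => simp only [map_add, hx, hy]
  let J₁ : (B₀ ⊗[A₀] A) ⊗[B₀] C₀ →ₐ[B₀ ⊗[A₀] A] C2 ⊗[A₀] A :=
    { j₁.toRingHom with commutes' := fun a => (congrArg _ (ofBC_algebraMap A₀ B₀ C₀ A a)).trans (hj l₁ a) }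
  let J₂ : (B₀ ⊗[A₀] A) ⊗[B₀] C₀ →ₐ[B₀ ⊗[A₀] A] C2 ⊗[A₀] A :=
    { j₂.toRingHom with commutes' := fun a => (congrArg _ (ofBC_algebraMap A₀ B₀ C₀ A a)).trans (hj l₂ a) }
  let Θ' := Algebra.TensorProduct.lift J₁ J₂ (fun _ _ => Commute.all _ _)
  have hm1 : ∀ (l : C₀ →ₐ[B₀] C2), (Algebra.TensorProduct.lmul' B₀ (S := C₀)).comp l = AlgHom.id B₀ C₀ →
      ∀ z, m2 A (Algebra.TensorProduct.map l (AlgHom.id A₀ A) z) = z := fun l hl z => by
    induction z using TensorProduct.induction_on with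
    | zero => simp
    | tmul a t =>
      simp only [m2, Algebra.TensorProduct.map_tmul, AlgHom.id_apply, AlgHom.restrictScalars_apply]
      rw [← AlgHom.comp_apply, hl, AlgHom.id_apply]
    | add x y hx hy => simp only [map_add, hx, hy]
  have hm : ∀ z, m2 A (Θ' z) = ofBC A₀ B₀ C₀ A (Algebra.TensorProduct.lmul' (B₀ ⊗[A₀] A) z) := by
    intro z
    induction z using TensorProduct.induction_on with
    | zero => simp
    | tmul x y =>
      rw [Algebra.TensorProduct.lift_tmul, map_mul, Algebra.TensorProduct.lmul'_apply_tmul, map_mul]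
      exact congrArg₂ (· * ·) (hm1 l₁ (AlgHom.ext fun a => by simp [l₁]) _) (hm1 l₂ (AlgHom.ext fun a => by simp [l₂]) _)
    | add x y hx hy => simp only [map_add, hx, hy]
  obtain ⟨i, hi⟩ := exists_lift hc C2 (fun _ : Fin 1 => Θ' t)
  obtain ⟨w, hw⟩ := hi 0
  let δ : Fin n → C2 := fun x => (1 : C₀) ⊗ₜ[B₀] c x - c x ⊗ₜ[B₀] (1 : C₀)
  obtain ⟨k₁, φ, hφ, hk₁⟩ := exists_kill hc C2 i (fun x => (δ x ⊗ₜ[A₀] (1 : G i)) * w) (fun x => by
    rw [lTensor_mul, hw, LinearMap.lTensor_tmul, AlgHom.toLinearMap_apply, map_one]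
    have h1 : Θ' ((1 : (B₀ ⊗[A₀] A) ⊗[B₀] C₀) ⊗ₜ ((1 : B₀ ⊗[A₀] A) ⊗ₜ c x) -
        ((1 : B₀ ⊗[A₀] A) ⊗ₜ c x) ⊗ₜ (1 : (B₀ ⊗[A₀] A) ⊗[B₀] C₀)) = δ x ⊗ₜ[A₀] (1 : A) := by
      rw [map_sub, Algebra.TensorProduct.lift_tmul, Algebra.TensorProduct.lift_tmul, map_one, map_one, one_mul, mul_one]
      show Algebra.TensorProduct.map l₂ _ (ofBC A₀ B₀ C₀ A _) - Algebra.TensorProduct.map l₁ _ (ofBC A₀ B₀ C₀ A _) = _
      rw [ofBC_right, Algebra.TensorProduct.map_tmul, Algebra.TensorProduct.map_tmul, ← TensorProduct.sub_tmul]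
      rfl
    rw [← h1, ← map_mul, ht, map_zero])
  obtain ⟨k, ψ, hψ, hk⟩ := exists_kill hc C₀ k₁ (fun _ : Fin 1 => m2 (G k₁) (φ.toLinearMap.lTensor C2 w) - 1) (fun _ => by
    have hnat : ∀ (T T' : Type u) [CommRing T] [CommRing T'] [Algebra A₀ T] [Algebra A₀ T'] (φ : T →ₐ[A₀] T')
        (z : C2 ⊗[A₀] T), φ.toLinearMap.lTensor C₀ (m2 T z) = m2 T' (φ.toLinearMap.lTensor C2 z) := by
      intro T T' _ _ _ _ φ z
      induction z using TensorProduct.induction_on with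
      | zero => simp
      | tmul a t => simp [m2]
      | add x y hx hy => simp only [map_add, hx, hy]
    rw [map_sub, hnat, ← LinearMap.lTensor_comp_apply, ← AlgHom.comp_toLinearMap, hφ, hw, hm, ht1, map_one,
      sub_eq_zero]
    exact (map_one (Algebra.TensorProduct.map (AlgHom.id A₀ C₀) (g k₁))).symm)
  refine ⟨k, ⟨formallyUnramified_of_sep (s : Set C₀) hs (ψ.toLinearMap.lTensor C2 (φ.toLinearMap.lTensor C2 w))
    (fun y hy => ?_) ?_, inferInstance⟩⟩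
  · obtain ⟨j, rfl⟩ : y ∈ Set.range c := hc'.2 ▸ hy
    have := congrArg (ψ.toLinearMap.lTensor C2) (hk₁ j)
    rw [map_zero, lTensor_mul, lTensor_mul, LinearMap.lTensor_tmul, LinearMap.lTensor_tmul,
      AlgHom.toLinearMap_apply, AlgHom.toLinearMap_apply, map_one, map_one] at this
    exact this
  · have := hk 0
    rw [map_sub, sub_eq_zero] at this
    have hnat : ∀ z : C2 ⊗[A₀] G k₁, ψ.toLinearMap.lTensor C₀ (m2 (G k₁) z) = m2 (G k) (ψ.toLinearMap.lTensor C2 z) := by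
      intro z
      induction z using TensorProduct.induction_on with
      | zero => simp
      | tmul a t => simp [m2]
      | add x y hx hy => simp only [map_add, hx, hy]
    exact (hnat _).symm.trans (this.trans (map_one (Algebra.TensorProduct.map (AlgHom.id A₀ C₀) ψ)))

end main

end Groth.L03.ColimTensor
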