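import Mathlib.RingTheory.AdicCompletion.Exactness
import Mathlib.RingTheory.Flat.Equalizer
import Mathlib.LinearAlgebra.TensorProduct.Quotient
import Mathlib.RingTheory.Flat.Basic

/-!
Exactness of adic completion for arbitrary modules under a purity condition.
-/

set_option autoImplicit false

universe u

namespace Groth.L03.ComplExact

open scoped TensorProduct

variable {R : Type u} [CommRing R] {I : Ideal R}
variable {K M N : Type u} [AddCommGroup K] [Module R K] [AddCommGroup M] [Module R M]
  [AddCommGroup N] [Module R N] {i : K →ₗ[R] M} {g : M →ₗ[R] N}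

theorem mem_smul_top_of_flat [Module.Flat R N] (hi : Function.Injective i)
    (hg : Function.Surjective g) (hig : Function.Exact i g) (J : Ideal R) (k : K)
    (h : i k ∈ (J • ⊤ : Submodule R M)) : k ∈ (J • ⊤ : Submodule R K) := by
  have hinj := LinearMap.lTensor_injective_of_exact_of_flat g hg i hi hig (R ⧸ J)
  have h1 : i.lTensor (R ⧸ J) ((Ideal.Quotient.mk J 1) ⊗ₜ[R] k) = 0 := by
    apply (TensorProduct.quotTensorEquivQuotSMul M J).injective
    rw [LinearMap.lTensor_tmul, TensorProduct.quotTensorEquivQuotSMul_mk_tmul, map_zero, one_smul,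
      Submodule.Quotient.mk_eq_zero]
    exact h
  rw [← map_zero (i.lTensor (R ⧸ J))] at h1
  have h2 := congr_arg (TensorProduct.quotTensorEquivQuotSMul K J) (hinj h1)
  rwa [TensorProduct.quotTensorEquivQuotSMul_mk_tmul, map_zero, one_smul,
    Submodule.Quotient.mk_eq_zero] at h2

/-- If `i k ∈ I ^ (n + c) M` implies `k ∈ I ^ n K`, completion is short exact. -/
theorem exact_map (c : ℕ)
    (hp : ∀ n k, i k ∈ (I ^ (n + c) • ⊤ : Submodule R M) → k ∈ (I ^ n • ⊤ : Submodule R K))
    (hg : Function.Surjective g) (hig : Function.Exact i g) :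
    Function.Injective (AdicCompletion.map I i) ∧
      Function.Exact (AdicCompletion.map I i) (AdicCompletion.map I g) ∧
      Function.Surjective (AdicCompletion.map I g) := by
  refine ⟨?_, ?_, AdicCompletion.map_surjective I hg⟩
  · rw [← LinearMap.ker_eq_bot, LinearMap.ker_eq_bot']
    intro x
    apply AdicCompletion.induction_on I K x
    intro a hx
    refine AdicCompletion.ext fun n => ?_
    have h1 : i (a (n + c)) ∈ (I ^ (n + c) • ⊤ : Submodule R M) :=
      (Submodule.Quotient.mk_eq_zero _).1 (congrArg (fun z => z.val (n + c)) hx)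
    show Submodule.Quotient.mk (a n) = 0
    rw [Submodule.Quotient.mk_eq_zero]
    have h2 := SModEq.sub_mem.1 (a.2 (Nat.le_add_right n c))
    have h3 := Submodule.add_mem _ (hp n _ h1) h2
    rwa [add_sub_cancel] at h3
  · intro x
    constructor
    swap
    · rintro ⟨y, rfl⟩
      have := congrArg (fun f : AdicCompletion I K →ₗ[AdicCompletion I R] AdicCompletion I N => f y)
        (AdicCompletion.map_comp I i g)
      simp only [LinearMap.comp_apply] at this
      rw [this, hig.linearMap_comp_eq_zero, AdicCompletion.map_zero]
      rfl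
    · apply AdicCompletion.induction_on I M x
      intro b hx
      have hd : ∀ n, ∃ d ∈ (I ^ n • ⊤ : Submodule R M), g d = g (b n) := by
        intro n
        have h1 : g (b n) ∈ (I ^ n • ⊤ : Submodule R N) :=
          (Submodule.Quotient.mk_eq_zero _).1 (congrArg (fun z => z.val n) hx)
        rw [← LinearMap.range_eq_top.2 hg, ← Submodule.map_top, ← Submodule.map_smul''] at h1
        exact h1
      choose d hdm hd using hd
      have hy : ∀ n, ∃ y, i y = b (n + c) - d (n + c) := fun n =>
        (hig _).1 (by rw [map_sub, hd, sub_self])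
      choose y hy using hy
      have hc : AdicCompletion.IsAdicCauchy I K y := by
        intro p q hpq
        rw [SModEq.sub_mem]
        refine hp p _ ?_
        rw [map_sub, hy, hy, show b (p + c) - d (p + c) - (b (q + c) - d (q + c)) =
          (b (p + c) - b (q + c)) - d (p + c) + d (q + c) by abel]
        refine add_mem (sub_mem (SModEq.sub_mem.1 (b.2 (by omega))) (hdm _)) ?_
        exact Submodule.smul_mono (Ideal.pow_le_pow_right (by omega)) le_rfl (hdm _)
      refine ⟨AdicCompletion.mk I K ⟨y, hc⟩, AdicCompletion.ext fun n => ?_⟩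
      show Submodule.Quotient.mk (i (y n)) = Submodule.Quotient.mk (b n)
      rw [Submodule.Quotient.eq, hy, show b (n + c) - d (n + c) - b n =
        -(b n - b (n + c)) - d (n + c) by abel]
      exact sub_mem (neg_mem (SModEq.sub_mem.1 (b.2 (Nat.le_add_right n c))))
        (Submodule.smul_mono (Ideal.pow_le_pow_right (Nat.le_add_right n c)) le_rfl (hdm _))

end Groth.L03.ComplExact
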