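import Groth.Prelude.Def_FSch3
import Mathlib.RingTheory.Artinian.Module
import Mathlib.RingTheory.Finiteness.Quotient
import Mathlib.RingTheory.Ideal.Over
import Mathlib.RingTheory.LocalRing.ResidueField.Ideal
import Mathlib.RingTheory.LocalRing.RingHom.Basic
import Mathlib.RingTheory.LocalRing.ResidueField.Fiber

/-! Finiteness of adic completions along quasi-finite local homomorphisms. -/

set_option autoImplicit false

universe u

open scoped TensorProduct

namespace Groth.L03.CompletionFinite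

variable {S T : Type u} [CommRing S] [CommRing T]

theorem cauchy {I : Ideal S} (y : AdicCompletion.AdicCauchySequence I S) {m n : ℕ} (h : m ≤ n) :
    y n - y m ∈ I ^ m := by
  have hy := y.2 h
  rw [SModEq.sub_mem] at hy
  simp only [smul_eq_mul, Ideal.mul_top] at hy
  rw [← neg_sub]
  exact (I ^ m).neg_mem hy

noncomputable def mkSeq (I : Ideal S) (f : ℕ → S) (h : ∀ n, f (n + 1) - f n ∈ I ^ n) :
    AdicCompletion.AdicCauchySequence I S :=
  AdicCompletion.AdicCauchySequence.mk I S f fun n => by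
    rw [SModEq.sub_mem, smul_eq_mul, Ideal.mul_top, ← neg_sub]
    exact (I ^ n).neg_mem (h n)

theorem evalₐ_complMap (I : Ideal S) (K : Ideal T) (g : S →+* T) (h : I.map g ≤ K) (n : ℕ)
    (x : AdicCompletion I S) :
    AdicCompletion.evalₐ K n (FSch.complMap I K g h x) =
      Ideal.quotientMap (K ^ n) g (FSch.pow_le_comap_pow_of_map_le I K g h n) (AdicCompletion.evalₐ I n x) := by
  unfold FSch.complMap
  rw [AdicCompletion.evalₐ_liftRingHom]
  · rfl
  · intro m n hle
    apply RingHom.ext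
    intro z
    obtain ⟨y, rfl⟩ := AdicCompletion.mk_surjective I S z
    simp only [RingHom.coe_comp, Function.comp_apply, AlgHom.toRingHom_eq_coe, AlgHom.coe_toRingHom,
      AdicCompletion.evalₐ_mk, Ideal.quotientMap_mk, Ideal.Quotient.factorPow, Ideal.Quotient.factor_mk]
    rw [Ideal.Quotient.eq, ← map_sub]
    exact FSch.pow_le_comap_pow_of_map_le I K g h m (cauchy y hle)

theorem evalₐ_complMap_mk (I : Ideal S) (K : Ideal T) (g : S →+* T) (h : I.map g ≤ K) (n : ℕ)
    (y : AdicCompletion.AdicCauchySequence I S) :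
    AdicCompletion.evalₐ K n (FSch.complMap I K g h (AdicCompletion.mk I S y)) =
      Ideal.Quotient.mk (K ^ n) (g (y n)) := by
  rw [evalₐ_complMap, AdicCompletion.evalₐ_mk, Ideal.quotientMap_mk]

/-- Cofinal ideals give the same completion. -/
theorem complMap_id_bijective (J K : Ideal S) (h : J.map (RingHom.id S) ≤ K) {N : ℕ} (hN : 0 < N)
    (hK : K ^ N ≤ J) : Function.Bijective (FSch.complMap J K (RingHom.id S) h) := by
  have hJK : J ≤ K := by rwa [Ideal.map_id] at h
  have hpow : ∀ n, K ^ (N * n) ≤ J ^ n := fun n => by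
    rw [pow_mul]; exact Ideal.pow_right_mono hK n
  refine ⟨(injective_iff_map_eq_zero _).2 fun x hx => ?_, fun z => ?_⟩
  · obtain ⟨y, rfl⟩ := AdicCompletion.mk_surjective J S x
    refine AdicCompletion.ext_evalₐ fun n => ?_
    rw [AdicCompletion.evalₐ_mk, map_zero, Ideal.Quotient.eq_zero_iff_mem]
    have h1 := evalₐ_complMap_mk J K (RingHom.id S) h (N * n) y
    rw [hx, map_zero, eq_comm, Ideal.Quotient.eq_zero_iff_mem, RingHom.id_apply] at h1
    have h2 := cauchy y (Nat.le_mul_of_pos_left n hN)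
    rw [← sub_sub_cancel (y (N * n)) (y n)]
    exact (J ^ n).sub_mem (hpow n h1) h2
  · obtain ⟨y, rfl⟩ := AdicCompletion.mk_surjective K S z
    refine ⟨AdicCompletion.mk J S (mkSeq J (fun n => y (N * n)) fun n =>
      hpow n (cauchy y (Nat.mul_le_mul_left N n.le_succ))), ?_⟩
    refine AdicCompletion.ext_evalₐ fun n => ?_
    rw [evalₐ_complMap_mk, AdicCompletion.evalₐ_mk, Ideal.Quotient.eq]
    exact cauchy y (Nat.le_mul_of_pos_left n hN)

variable {R : Type u} [CommRing R] (I : Ideal R) (g : R →+* S)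

theorem complMap_comp (K : Ideal S) (h : I.map g ≤ K) (h' : (I.map g).map (RingHom.id S) ≤ K) :
    FSch.complMap I K g h =
      (FSch.complMap (I.map g) K (RingHom.id S) h').comp (FSch.complMap I (I.map g) g le_rfl) := by
  refine RingHom.ext fun x => AdicCompletion.ext_evalₐ fun n => ?_
  obtain ⟨y, rfl⟩ := AdicCompletion.mk_surjective I R x
  rw [RingHom.comp_apply, evalₐ_complMap_mk, evalₐ_complMap, evalₐ_complMap_mk, Ideal.quotientMap_mk]
  rfl

variable {d : ℕ} (s : Fin d → S)

theorem exists_step (hs : ∀ x : S, ∃ c : Fin d → R, x - ∑ j, g (c j) * s j ∈ I.map g) (n : ℕ) (x : S)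
    (hx : x ∈ (I.map g) ^ n) :
    ∃ c : Fin d → R, (∀ j, c j ∈ I ^ n) ∧ x - ∑ j, g (c j) * s j ∈ (I.map g) ^ (n + 1) := by
  rw [← Ideal.map_pow] at hx
  suffices H : ∀ t : S, ∃ c : Fin d → R, (∀ j, c j ∈ I ^ n) ∧
      t * x - ∑ j, g (c j) * s j ∈ (I.map g) ^ (n + 1) by simpa using H 1
  refine Submodule.span_induction (p := fun x _ => ∀ t : S, ∃ c : Fin d → R, (∀ j, c j ∈ I ^ n) ∧
      t * x - ∑ j, g (c j) * s j ∈ (I.map g) ^ (n + 1)) ?_ ?_ ?_ ?_ hx
  · rintro _ ⟨a, ha, rfl⟩ t
    obtain ⟨e, he⟩ := hs t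
    refine ⟨fun j => a * e j, fun j => (I ^ n).mul_mem_right _ ha, ?_⟩
    have : t * g a - ∑ j, g (a * e j) * s j = g a * (t - ∑ j, g (e j) * s j) := by
      simp [Finset.mul_sum, mul_sub, mul_assoc, mul_comm t]
    rw [this, pow_succ, ← Ideal.map_pow]
    exact Ideal.mul_mem_mul (Ideal.mem_map_of_mem g ha) he
  · exact fun t => ⟨0, fun j => (I ^ n).zero_mem, by simp⟩
  · intro a b _ _ ha hb t
    obtain ⟨c, hc, hca⟩ := ha t
    obtain ⟨e, he, heb⟩ := hb t
    refine ⟨c + e, fun j => (I ^ n).add_mem (hc j) (he j), ?_⟩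
    convert Ideal.add_mem _ hca heb using 1
    simp only [Pi.add_apply, map_add, add_mul, Finset.sum_add_distrib, mul_add]
    ring
  · intro r a _ ha t
    simpa [smul_eq_mul, mul_assoc] using ha (t * r)

/-- A map which is finite modulo `I` is finite on completions. -/
theorem complMap_finite (hs : ∀ x : S, ∃ c : Fin d → R, x - ∑ j, g (c j) * s j ∈ I.map g) :
    (FSch.complMap I (I.map g) g le_rfl).Finite := by
  set φ := FSch.complMap I (I.map g) g le_rfl
  let : Algebra (AdicCompletion I R) (AdicCompletion (I.map g) S) := φ.toAlgebra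
  let f : (Fin d → AdicCompletion I R) →ₗ[AdicCompletion I R] AdicCompletion (I.map g) S :=
    Fintype.linearCombination (AdicCompletion I R) fun j => algebraMap S (AdicCompletion (I.map g) S) (s j)
  refine Module.Finite.of_surjective f fun z => ?_
  obtain ⟨y, rfl⟩ := AdicCompletion.mk_surjective (I.map g) S z
  let P : ℕ → (Fin d → R) → Prop := fun n x => y n - ∑ j, g (x j) * s j ∈ (I.map g) ^ n
  have step : ∀ n (x : {x : Fin d → R // P n x}), ∃ x' : {x : Fin d → R // P (n + 1) x},
      ∀ j, x'.1 j - x.1 j ∈ I ^ n := by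
    rintro n ⟨x, hx⟩
    have h1 : y (n + 1) - ∑ j, g (x j) * s j ∈ (I.map g) ^ n := by
      have := Ideal.add_mem _ (cauchy y n.le_succ) hx
      rwa [sub_add_sub_cancel] at this
    obtain ⟨c, hc, hc'⟩ := exists_step I g s hs n _ h1
    refine ⟨⟨x + c, ?_⟩, fun j => by simpa using hc j⟩
    show _ ∈ _
    convert hc' using 1
    simp only [Pi.add_apply, map_add, add_mul, Finset.sum_add_distrib]
    ring
  choose next hnext using step
  let X : ∀ n, {x : Fin d → R // P n x} := fun n =>
    Nat.rec ⟨0, by simp [P]⟩ (fun n x => next n x) n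
  refine ⟨fun j => AdicCompletion.mk I R (mkSeq I (fun n => (X n).1 j) fun n => hnext n (X n) j), ?_⟩
  refine AdicCompletion.ext_evalₐ fun n => ?_
  rw [Fintype.linearCombination_apply, map_sum]
  simp only [Algebra.smul_def, map_mul, RingHom.algebraMap_toAlgebra, φ, evalₐ_complMap_mk, AlgHom.commutes,
    Ideal.Quotient.algebraMap_eq, AdicCompletion.evalₐ_mk, mkSeq, AdicCompletion.AdicCauchySequence.mk_coe]
  simp only [← map_mul, ← map_sum]
  rw [Ideal.Quotient.eq, ← neg_sub]
  exact Submodule.neg_mem _ (X n).2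

theorem main (R S : Type u) [CommRing R] [CommRing S]
    [IsLocalRing R] [IsLocalRing S] [Algebra R S]
    (hn : (IsLocalRing.maximalIdeal S).FG)
    (hfib : Module.Finite (IsLocalRing.maximalIdeal R).ResidueField ((IsLocalRing.maximalIdeal R).Fiber S))
    (h : (IsLocalRing.maximalIdeal R).map (algebraMap R S) ≤ IsLocalRing.maximalIdeal S)
    (h' : ((IsLocalRing.maximalIdeal R).map (algebraMap R S)).map (RingHom.id S) ≤ IsLocalRing.maximalIdeal S) :
    Function.Bijective (FSch.complMap ((IsLocalRing.maximalIdeal R).map (algebraMap R S))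
        (IsLocalRing.maximalIdeal S) (RingHom.id S) h') ∧
      (FSch.complMap (IsLocalRing.maximalIdeal R) (IsLocalRing.maximalIdeal S) (algebraMap R S) h).Finite := by
  set m := IsLocalRing.maximalIdeal R
  set J := m.map (algebraMap R S)
  have hbij := m.bijective_algebraMap_quotient_residueField
  let e : (R ⧸ m) ≃ₐ[R] m.ResidueField :=
    AlgEquiv.ofBijective (IsScalarTower.toAlgHom R (R ⧸ m) m.ResidueField) hbij
  have : Module.Finite R m.ResidueField := Module.Finite.equiv e.toLinearEquiv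
  have : Module.Finite R (m.Fiber S) := Module.Finite.trans m.ResidueField _
  let q : R ⧸ m →ₐ[R] S ⧸ J := Ideal.Quotient.liftₐ m (Algebra.ofId R (S ⧸ J)) fun a ha => by
    show algebraMap R (S ⧸ J) a = 0
    rw [IsScalarTower.algebraMap_apply R S (S ⧸ J), Ideal.Quotient.algebraMap_eq, Ideal.Quotient.eq_zero_iff_mem]
    exact Ideal.mem_map_of_mem _ ha
  let F : m.Fiber S →ₐ[R] S ⧸ J := Algebra.TensorProduct.lift (q.comp e.symm.toAlgHom)
    (Ideal.Quotient.mkₐ R J) fun _ _ => Commute.all _ _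
  have hF : Function.Surjective F := fun z => by
    obtain ⟨x, rfl⟩ := Ideal.Quotient.mk_surjective z
    exact ⟨1 ⊗ₜ x, by simp [F]⟩
  have hfin : Module.Finite R (S ⧸ J) := Module.Finite.of_surjective F.toLinearMap hF
  obtain ⟨d, b, hb⟩ := Module.Finite.exists_fin (R := R) (M := S ⧸ J)
  choose s hs using fun j => Ideal.Quotient.mk_surjective (b j)
  have hspan : ∀ x : S, ∃ c : Fin d → R, x - ∑ j, algebraMap R S (c j) * s j ∈ J := fun x => by
    obtain ⟨c, hc⟩ := (Submodule.mem_span_range_iff_exists_fun R).1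
      (hb.ge (Submodule.mem_top (x := Ideal.Quotient.mk J x)))
    refine ⟨c, ?_⟩
    rw [← Ideal.Quotient.eq_zero_iff_mem, map_sub, sub_eq_zero, ← hc, map_sum]
    refine Finset.sum_congr rfl fun j _ => ?_
    rw [map_mul, hs, Algebra.smul_def]
    rfl
  have hJ : J ≠ ⊤ := ne_top_of_le_ne_top (IsLocalRing.maximalIdeal.isMaximal S).ne_top h
  have : Nontrivial (S ⧸ J) := Ideal.Quotient.nontrivial_iff.2 hJ
  have : IsLocalRing (S ⧸ J) := IsLocalRing.of_surjective' _ Ideal.Quotient.mk_surjective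
  let : Field (R ⧸ m) := Ideal.Quotient.field m
  have : Module.Finite (R ⧸ m) (S ⧸ J) := Module.Finite.of_restrictScalars_finite R _ _
  have : IsArtinianRing (S ⧸ J) := IsArtinianRing.of_finite (R ⧸ m) (S ⧸ J)
  obtain ⟨N, hN⟩ := IsArtinianRing.isNilpotent_jacobson_bot (R := S ⧸ J)
  have hK : IsLocalRing.maximalIdeal S ^ (N + 1) ≤ J := fun x hx => by
    have h1 := Ideal.mem_map_of_mem (Ideal.Quotient.mk J) hx
    rw [Ideal.map_pow] at h1
    have h2 : (IsLocalRing.maximalIdeal S).map (Ideal.Quotient.mk J) ≤ Ideal.jacobson ⊥ := by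
      rw [IsLocalRing.jacobson_eq_maximalIdeal ⊥ bot_ne_top]
      refine IsLocalRing.le_maximalIdeal fun htop => ?_
      have := congrArg (Ideal.comap (Ideal.Quotient.mk J)) htop
      rw [Ideal.comap_map_of_surjective _ Ideal.Quotient.mk_surjective, Ideal.comap_top, ← RingHom.ker_eq_comap_bot,
        Ideal.mk_ker, sup_eq_left.2 h] at this
      exact (IsLocalRing.maximalIdeal.isMaximal S).ne_top this
    have h3 := Ideal.pow_right_mono h2 _ h1
    rw [pow_succ, hN, zero_mul, Ideal.zero_eq_bot, Ideal.mem_bot, Ideal.Quotient.eq_zero_iff_mem] at h3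
    exact h3
  refine ⟨complMap_id_bijective J _ h' N.succ_pos hK, ?_⟩
  rw [complMap_comp m (algebraMap R S) _ h h']
  exact (RingHom.Finite.of_surjective _ (complMap_id_bijective J _ h' N.succ_pos hK).2).comp
    (complMap_finite m (algebraMap R S) s hspan)

end Groth.L03.CompletionFinite
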