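import Mathlib.RingTheory.Kaehler.Basic
import Mathlib.RingTheory.Ideal.Cotangent
import Mathlib.RingTheory.Smooth.Basic

/-!
The conormal sequence split by a section modulo the square of the ideal.
-/

set_option autoImplicit false
set_option linter.style.haveILetI false

universe u

namespace Groth.L03.CotSplit

open TensorProduct KaehlerDifferential

variable (A : Type u) [CommRing A] (B : Type u) [CommRing B] [Algebra A B] (C : Type u) [CommRing C]
  [Algebra B C]

/-- A section `σ` modulo `J²` gives a map back from `C ⊗ Ω` to `B/J²`. -/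
theorem exists_retraction (hπ : Function.Surjective (algebraMap B C))
    (σ : B →ₐ[A] B ⧸ (RingHom.ker (algebraMap B C)) ^ 2)
    (hσ : ∀ b, Ideal.Quotient.mk _ b - σ b ∈ (RingHom.ker (algebraMap B C)).cotangentIdeal) :
    ∃ g : C ⊗[B] Ω[B⁄A] →ₗ[B] B ⧸ (RingHom.ker (algebraMap B C)) ^ 2,
      ∀ b : B, g ((1 : C) ⊗ₜ D A B b) = Ideal.Quotient.mk _ b - σ b := by
  let J := RingHom.ker (algebraMap B C)
  let mk := Ideal.Quotient.mk (J ^ 2)
  have hmul : ∀ x y, x ∈ J.cotangentIdeal → y ∈ J.cotangentIdeal → x * y = 0 := fun x y hx hy => by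
    have h := Ideal.mul_mem_mul hx hy
    rwa [← sq, J.cotangentIdeal_square, Submodule.mem_bot] at h
  let d : B →ₗ[A] B ⧸ J ^ 2 := (Ideal.Quotient.mkₐ A (J ^ 2)).toLinearMap - σ.toLinearMap
  have hd : ∀ b, d b = mk b - σ b := fun b => rfl
  let D' : Derivation A B (B ⧸ J ^ 2) := Derivation.mk' d fun b c => by
    have h := hmul _ _ (hσ b) (hσ c)
    rw [hd, hd, hd, map_mul, map_mul, ← sub_eq_zero]
    show mk b * mk c - σ b * σ c - (mk b * (mk c - σ c) + mk c * (mk b - σ b)) = 0
    linear_combination (-1 : B ⧸ J ^ 2) * h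
  let l := D'.liftKaehlerDifferential
  have hl : ∀ ω, l ω ∈ J.cotangentIdeal := by
    intro ω
    have hω : ω ∈ Submodule.span B (Set.range (D A B)) := by rw [span_range_derivation]; trivial
    induction hω using Submodule.span_induction with
    | mem x hx =>
      obtain ⟨b, rfl⟩ := hx
      rw [Derivation.liftKaehlerDifferential_comp_D]
      exact hσ b
    | zero => rw [map_zero]; exact zero_mem _
    | add x y _ _ hx hy => rw [map_add]; exact add_mem hx hy
    | smul a x _ hx => rw [map_smul, Algebra.smul_def]; exact Ideal.mul_mem_left _ _ hx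
  let l' : B →ₗ[B] Ω[B⁄A] →ₗ[B] B ⧸ J ^ 2 := LinearMap.toSpanSingleton B _ l
  have hker : LinearMap.ker (Algebra.linearMap B C) ≤ LinearMap.ker l' := fun j hj => by
    refine LinearMap.mem_ker.2 (LinearMap.ext fun ω => ?_)
    show j • l ω = 0
    rw [Algebra.smul_def]
    exact hmul _ _ ⟨j, show j ∈ J from hj, rfl⟩ (hl ω)
  let e := (Algebra.linearMap B C).quotKerEquivOfSurjective hπ
  refine ⟨TensorProduct.lift ((Submodule.liftQ _ l' hker) ∘ₗ e.symm.toLinearMap), fun b => ?_⟩
  have he : e.symm 1 = Submodule.Quotient.mk 1 := e.injective (by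
    rw [e.apply_symm_apply]; exact (map_one (algebraMap B C)).symm)
  rw [TensorProduct.lift.tmul, LinearMap.comp_apply, LinearEquiv.coe_coe, he, Submodule.liftQ_apply,
    LinearMap.toSpanSingleton_apply, one_smul, Derivation.liftKaehlerDifferential_comp_D]
  rfl

variable [Algebra A C] [IsScalarTower A B C]

theorem kerCotangentToTensor_surjective (hC : Function.Surjective (algebraMap A C)) :
    Function.Surjective (kerCotangentToTensor A B C) := by
  haveI : Subsingleton Ω[C⁄A] := KaehlerDifferential.subsingleton_of_surjective A C hC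
  have hπ : Function.Surjective (algebraMap B C) := fun c => by
    obtain ⟨a, rfl⟩ := hC c
    exact ⟨algebraMap A B a, (IsScalarTower.algebraMap_apply A B C a).symm⟩
  intro z
  have h : z ∈ LinearMap.range (kerCotangentToTensor A B C) := by
    rw [range_kerCotangentToTensor A B C hπ]
    exact Subsingleton.elim _ _
  exact h

end Groth.L03.CotSplit
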