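import Mathlib.RingTheory.Length
import Mathlib.RingTheory.SimpleModule.Basic
import Mathlib.Algebra.Module.LocalizedModule.Basic
import Mathlib.Algebra.Module.LocalizedModule.Exact
import Mathlib.RingTheory.Localization.AtPrime.Basic
import Mathlib.RingTheory.Spectrum.Maximal.Basic

/-!
The length over a base ring of a finite length module is the sum over the maximal ideals of
residue lengths times local lengths.
-/

namespace Groth.L03.LengthSum

universe u v

variable (A : Type u) {B : Type u} [CommRing A] [CommRing B] [Algebra A B]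

/-- local length -/
noncomputable abbrev lloc (m : MaximalSpectrum B) (M : Type v) [AddCommGroup M] [Module B M] : ℕ∞ :=
  Module.length (Localization.AtPrime m.asIdeal) (LocalizedModule m.asIdeal.primeCompl M)

theorem lloc_congr (m : MaximalSpectrum B) {M N : Type v} [AddCommGroup M] [Module B M] [AddCommGroup N] [Module B N]
    (e : M ≃ₗ[B] N) : lloc m M = lloc m N := by
  refine le_antisymm (Module.length_le_of_injective (LocalizedModule.map m.asIdeal.primeCompl e.toLinearMap)
    (LocalizedModule.map_injective _ _ e.injective)) (Module.length_le_of_injective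
      (LocalizedModule.map m.asIdeal.primeCompl e.symm.toLinearMap) (LocalizedModule.map_injective _ _ e.symm.injective))

theorem lloc_add (m : MaximalSpectrum B) {M : Type v} [AddCommGroup M] [Module B M] (N : Submodule B M) :
    lloc m M = lloc m N + lloc m (M ⧸ N) :=
  Module.length_eq_add_of_exact (LocalizedModule.map m.asIdeal.primeCompl N.subtype)
    (LocalizedModule.map m.asIdeal.primeCompl N.mkQ)
    (LocalizedModule.map_injective _ _ N.subtype_injective)
    (LocalizedModule.map_surjective _ _ N.mkQ_surjective)
    (LocalizedModule.map_exact _ _ _ (LinearMap.exact_subtype_mkQ N))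

theorem lloc_subsingleton (m : MaximalSpectrum B) (M : Type v) [AddCommGroup M] [Module B M] [Subsingleton M] :
    lloc m M = 0 := by
  haveI : Subsingleton (LocalizedModule m.asIdeal.primeCompl M) := by
    rw [LocalizedModule.subsingleton_iff]
    exact fun x => ⟨1, one_mem _, Subsingleton.elim _ _⟩
  exact Module.length_eq_zero

theorem lloc_quot_ne {m m₀ : MaximalSpectrum B} (h : m ≠ m₀) : lloc m (B ⧸ m₀.asIdeal) = 0 := by
  haveI : Subsingleton (LocalizedModule m.asIdeal.primeCompl (B ⧸ m₀.asIdeal)) := by
    rw [LocalizedModule.subsingleton_iff]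
    intro x
    have hne : ¬ m₀.asIdeal ≤ m.asIdeal := fun hle =>
      h (MaximalSpectrum.ext (m₀.isMaximal.eq_of_le m.isMaximal.ne_top hle).symm)
    obtain ⟨r, hr, hr'⟩ := SetLike.not_le_iff_exists.1 hne
    obtain ⟨b, rfl⟩ := Ideal.Quotient.mk_surjective x
    exact ⟨r, hr', Ideal.Quotient.eq_zero_iff_mem.2 (m₀.asIdeal.mul_mem_right b hr)⟩
  exact Module.length_eq_zero

theorem lloc_quot_self (m : MaximalSpectrum B) : lloc m (B ⧸ m.asIdeal) = 1 := by
  set S := m.asIdeal.primeCompl
  let L := Localization.AtPrime m.asIdeal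
  let e₀ : LocalizedModule S (B ⧸ m.asIdeal) := LocalizedModule.mk (Ideal.Quotient.mk _ 1) 1
  let p : L →ₗ[L] LocalizedModule S (B ⧸ m.asIdeal) := LinearMap.toSpanSingleton L _ e₀
  have hp : Function.Surjective p := by
    intro y
    induction y using LocalizedModule.induction_on with
    | _ q s =>
      obtain ⟨b, rfl⟩ := Ideal.Quotient.mk_surjective q
      refine ⟨Localization.mk b s, ?_⟩
      show Localization.mk b s • e₀ = _
      rw [LocalizedModule.mk_smul_mk, mul_one]
      congr 1
      show Ideal.Quotient.mk m.asIdeal (b * 1) = _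
      rw [mul_one]
  have hker : IsLocalRing.maximalIdeal L ≤ LinearMap.ker p := by
    rw [← Localization.AtPrime.map_eq_maximalIdeal, Ideal.map_le_iff_le_comap]
    intro b hb
    show algebraMap B L b • e₀ = 0
    rw [algebraMap_smul, LocalizedModule.smul'_mk,
      show b • (Ideal.Quotient.mk m.asIdeal 1 : B ⧸ m.asIdeal) = 0 from
        Ideal.Quotient.eq_zero_iff_mem.2 (show b * 1 ∈ m.asIdeal by rw [mul_one]; exact hb),
      LocalizedModule.zero_mk]
  haveI : IsSimpleModule L (L ⧸ IsLocalRing.maximalIdeal L) :=
    isSimpleModule_iff_quot_maximal.2 ⟨_, IsLocalRing.maximalIdeal.isMaximal L, ⟨LinearEquiv.refl _ _⟩⟩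
  refine le_antisymm ((Module.length_le_of_surjective (Submodule.liftQ _ p hker) ?_).trans
    (le_of_eq (Module.length_eq_one L _))) ?_
  · intro y
    obtain ⟨x, rfl⟩ := hp y
    exact ⟨Submodule.Quotient.mk x, rfl⟩
  · haveI : Nontrivial (LocalizedModule S (B ⧸ m.asIdeal)) := by
      by_contra hnt
      rw [not_nontrivial_iff_subsingleton, LocalizedModule.subsingleton_iff] at hnt
      obtain ⟨r, hr, hr0⟩ := hnt (Ideal.Quotient.mk _ 1)
      exact hr (Ideal.Quotient.eq_zero_iff_mem.1 (by
        rw [← mul_one r]; exact hr0))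
    exact Order.one_le_iff_pos.2 Module.length_pos

/-- the decomposition -/
theorem length_eq_finsum {M : Type u} [AddCommGroup M] [Module B M] [Module A M] [IsScalarTower A B M]
    (hM : IsFiniteLength B M) :
    {m : MaximalSpectrum B | lloc m M ≠ 0}.Finite ∧
      Module.length A M = ∑ᶠ m : MaximalSpectrum B, Module.length A (B ⧸ m.asIdeal) * lloc m M := by
  suffices H : ∀ (M : Type u) [AddCommGroup M] [Module B M], IsFiniteLength B M →
      ∀ [Module A M] [IsScalarTower A B M],
        {m : MaximalSpectrum B | lloc m M ≠ 0}.Finite ∧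
          Module.length A M = ∑ᶠ m : MaximalSpectrum B, Module.length A (B ⧸ m.asIdeal) * lloc m M from H M hM
  intro M _ _ hM
  induction hM with
  | @of_subsingleton M _ _ hsub =>
    intro _ _
    refine ⟨by simp [lloc_subsingleton], ?_⟩
    rw [Module.length_eq_zero, finsum_eq_zero_of_forall_eq_zero fun m => by rw [lloc_subsingleton, mul_zero]]
  | @of_simple_quotient M _ _ N hs hN ih =>
    intro _ _
    obtain ⟨hfin, hlen⟩ := ih
    obtain ⟨I, hI, ⟨e⟩⟩ := isSimpleModule_iff_quot_maximal.1 hs
    let m₀ : MaximalSpectrum B := ⟨I, hI⟩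
    have hl : ∀ m : MaximalSpectrum B, lloc m M = lloc m N + lloc m (B ⧸ m₀.asIdeal) := fun m => by
      rw [lloc_add m N]
      congr 1
      exact lloc_congr m e
    classical
    have hset : {m : MaximalSpectrum B | lloc m M ≠ 0} ⊆ insert m₀ {m | lloc m N ≠ 0} := by
      intro m hm
      by_cases h : m = m₀
      · exact Or.inl h
      · refine Or.inr fun h0 => hm ?_
        rw [hl, h0, lloc_quot_ne h, add_zero]
    refine ⟨(hfin.insert m₀).subset hset, ?_⟩
    have h1 : Module.length A M = Module.length A N + Module.length A (B ⧸ I) := by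
      rw [Module.length_eq_add_of_exact (N.subtype.restrictScalars A) (N.mkQ.restrictScalars A)
        N.subtype_injective N.mkQ_surjective (LinearMap.exact_subtype_mkQ N)]
      congr 1
      exact (e.restrictScalars A).length_eq
    rw [h1, hlen]
    simp only [hl, mul_add]
    rw [finsum_add_distrib (hfin.subset fun m hm h0 => hm (by simp [h0]))
      ((Set.finite_singleton m₀).subset fun m hm => by_contra fun h => hm (by
        show _ * lloc m (B ⧸ m₀.asIdeal) = 0
        rw [lloc_quot_ne h, mul_zero]))]
    congr 1
    rw [finsum_eq_single _ m₀ fun m hm => by rw [lloc_quot_ne hm, mul_zero], lloc_quot_self, mul_one]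

end Groth.L03.LengthSum
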