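import Groth.Agent.L03.Akizuki
import Groth.Agent.L03.LengthSum
import Mathlib.RingTheory.Nakayama
import Mathlib.RingTheory.Ideal.GoingUp
import Mathlib.RingTheory.IntegralClosure.Algebra.Basic
import Mathlib.RingTheory.OrderOfVanishing.Basic
import Mathlib.RingTheory.Localization.Module
import Mathlib.LinearAlgebra.Dimension.Finrank
import Mathlib.LinearAlgebra.Dimension.Constructions
import Mathlib.LinearAlgebra.FiniteDimensional.Basic
import Mathlib.RingTheory.Artinian.Module

/-!
Degree inequality in the Krull–Akizuki situation, with equality exactly for finite extensions.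
-/

namespace Groth.L03.DegreeOrd

universe u v w

open Groth.L03.Akizuki Groth.L03

variable {R : Type u} [CommRing R] [IsDomain R] [IsNoetherianRing R]

/-- `length (N / xN) = r · ord x` for a lattice `N` of an `r`-dimensional vector space. -/
theorem length_eq_of_lattice [Ring.KrullDimLE 1 R] {K : Type v} [Field K] [Algebra R K]
    [IsFractionRing R K] {V : Type w} [AddCommGroup V] [Module K V] [Module R V]
    [IsScalarTower R K V] [FiniteDimensional K V] {N : Type*} [AddCommGroup N] [Module R N]
    [Module.Finite R N] (ι : N →ₗ[R] V) (hι : Function.Injective ι) (hspan : Submodule.span K (Set.range ι) = ⊤) {x : R} (hx : x ≠ 0) :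
    Module.length R (N ⧸ xSub x N) = Module.finrank K V * Ring.ord R x := by
  classical
  haveI : Module.IsTorsionFree R V := Module.isTorsionFree_iff_smul_eq_zero.2 fun r v h => by
    rw [← algebraMap_smul K r v, smul_eq_zero] at h
    exact h.imp_left fun h => (injective_iff_map_eq_zero _).1 (IsFractionRing.injective R K) r h
  haveI : Module.IsTorsionFree R N := hι.moduleIsTorsionFree ι (map_smul ι)
  obtain ⟨n, f, g, c, hc, hgf, hfg⟩ := Lattice.exists_free_comp (R := R) N
  have hginj : Function.Injective g := Lattice.injective_of_comp g f hc hfg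
  have hn : n = Module.finrank K V := by
    refine le_antisymm ?_ ?_
    rotate_left
    · have hle : Submodule.span K (Set.range ι) ≤
          Submodule.span K (Set.range fun i => ι (g (Pi.single i 1))) := by
        refine Submodule.span_le.2 ?_
        rintro _ ⟨y, rfl⟩
        have hc0 : algebraMap R K c ≠ 0 := fun h => hc ((injective_iff_map_eq_zero _).1 (IsFractionRing.injective R K) c h)
        refine (Submodule.smul_mem_iff _ hc0).1 ?_
        rw [algebraMap_smul, ← map_smul, ← hgf, pi_eq_sum_univ' (f y), map_sum, map_sum]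
        refine Submodule.sum_mem _ fun i _ => ?_
        rw [map_smul, map_smul, ← algebraMap_smul K]
        exact Submodule.smul_mem _ _ (Submodule.subset_span ⟨i, rfl⟩)
      rw [hspan, top_le_iff] at hle
      have h3 := finrank_range_le_card (R := K) (fun i => ι (g (Pi.single i 1)))
      rwa [Set.finrank, hle, finrank_top, Fintype.card_fin] at h3
    have h1 : LinearIndependent R fun i => ι (g (Pi.single i 1)) := by
      have := (Pi.basisFun R (Fin n)).linearIndependent.map' (ι ∘ₗ g)
        (LinearMap.ker_eq_bot.2 (hι.comp hginj))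
      simpa [Function.comp_def] using this
    have h2 := ((LinearIndependent.iff_fractionRing R K).1 h1).fintype_card_le_finrank
    simpa using h2
  let F := Fin n → R
  let W : Submodule R N := LinearMap.range g
  let Q : Submodule R N := LinearMap.range (g ∘ₗ (x • LinearMap.id : F →ₗ[R] F))
  have hQW : Q ≤ W := LinearMap.range_comp_le_range _ _
  have hQX : Q ≤ xSub x N := by
    rintro _ ⟨v, rfl⟩
    exact ⟨g v, by simp⟩
  let i₁ : (F ⧸ xSub x F) →ₗ[R] N ⧸ Q :=
    (xSub x F).mapQ Q g (by rintro _ ⟨v, rfl⟩; exact ⟨v, rfl⟩)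
  have hi₁ : Function.Injective i₁ := by
    rw [← LinearMap.ker_eq_bot, LinearMap.ker_eq_bot']
    intro z hz
    obtain ⟨v, rfl⟩ := Submodule.mkQ_surjective _ z
    obtain ⟨w, hw⟩ := (Submodule.Quotient.mk_eq_zero Q).1 hz
    exact (Submodule.Quotient.mk_eq_zero _).2 ⟨w, hginj hw⟩
  have he₁ : Function.Exact i₁ (Submodule.factor hQW) := by
    intro z
    obtain ⟨y, rfl⟩ := Q.mkQ_surjective z
    constructor
    · intro h
      obtain ⟨v, rfl⟩ := (Submodule.Quotient.mk_eq_zero W).1 h
      exact ⟨Submodule.Quotient.mk v, rfl⟩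
    · rintro ⟨v, hv⟩
      obtain ⟨v, rfl⟩ := Submodule.mkQ_surjective _ v
      rw [← hv]
      exact (Submodule.Quotient.mk_eq_zero W).2 ⟨v, rfl⟩
  let i₂ : (N ⧸ W) →ₗ[R] N ⧸ Q :=
    W.mapQ Q (x • LinearMap.id) (by rintro _ ⟨v, rfl⟩; exact ⟨v, by simp⟩)
  have hi₂ : Function.Injective i₂ := by
    rw [← LinearMap.ker_eq_bot, LinearMap.ker_eq_bot']
    intro z hz
    obtain ⟨y, rfl⟩ := Submodule.mkQ_surjective _ z
    obtain ⟨w, hw⟩ := (Submodule.Quotient.mk_eq_zero Q).1 hz
    refine (Submodule.Quotient.mk_eq_zero W).2 ⟨w, smul_right_injective N hx ?_⟩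
    simpa using hw
  have he₂ : Function.Exact i₂ (Submodule.factor hQX) := by
    intro z
    obtain ⟨y, rfl⟩ := Q.mkQ_surjective z
    constructor
    · intro h
      obtain ⟨v, rfl⟩ := (Submodule.Quotient.mk_eq_zero (xSub x N)).1 h
      exact ⟨Submodule.Quotient.mk v, rfl⟩
    · rintro ⟨v, hv⟩
      obtain ⟨v, rfl⟩ := Submodule.mkQ_surjective _ v
      rw [← hv]
      exact (Submodule.Quotient.mk_eq_zero _).2 ⟨v, rfl⟩
  have hfinW : Module.length R (N ⧸ W) ≠ ⊤ := by
    obtain ⟨m, p, hp⟩ := Module.Finite.exists_fin' R N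
    have hle : xSub c (Fin m → R) ≤ LinearMap.ker (W.mkQ ∘ₗ p) := by
      rintro _ ⟨v, rfl⟩
      exact (Submodule.Quotient.mk_eq_zero W).2 ⟨f (p v), by simp [hgf]⟩
    have hsurj : Function.Surjective ((xSub c (Fin m → R)).liftQ (W.mkQ ∘ₗ p) hle) := by
      intro y
      obtain ⟨y, rfl⟩ := W.mkQ_surjective y
      obtain ⟨v, rfl⟩ := hp y
      exact ⟨Submodule.Quotient.mk v, rfl⟩
    refine ne_top_of_le_ne_top ?_ (Module.length_le_of_surjective _ hsurj)
    rw [length_free]
    exact WithTop.mul_ne_top (ENat.coe_ne_top m) (Ring.ord_ne_top (mem_nonZeroDivisors_of_ne_zero hc))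
  have e1 := Module.length_eq_add_of_exact i₁ (Submodule.factor hQW) hi₁
    (Submodule.factor_surjective hQW) he₁
  have e2 := Module.length_eq_add_of_exact i₂ (Submodule.factor hQX) hi₂
    (Submodule.factor_surjective hQX) he₂
  rw [e2, add_comm] at e1
  rw [WithTop.add_right_cancel hfinW e1, length_free, hn]

section main

variable {A B : Type u} [CommRing A] [CommRing B] [Algebra A B]

/-- the local length of `B/xB` -/
theorem lloc_quotient_span (m : MaximalSpectrum B) (x : B) :
    LengthSum.lloc m (B ⧸ Ideal.span ({x} : Set B)) =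
      Module.length (Localization.AtPrime m.asIdeal)
        (Localization.AtPrime m.asIdeal ⧸ Ideal.span ({algebraMap B (Localization.AtPrime m.asIdeal) x} : Set _)) := by
  set S := m.asIdeal.primeCompl
  let L := Localization.AtPrime m.asIdeal
  let e₀ : LocalizedModule S (B ⧸ Ideal.span ({x} : Set B)) := LocalizedModule.mk (Ideal.Quotient.mk _ 1) 1
  let p : L →ₗ[L] LocalizedModule S (B ⧸ Ideal.span ({x} : Set B)) := LinearMap.toSpanSingleton L _ e₀
  have hpmk : ∀ b s, p (Localization.mk b s) = LocalizedModule.mk (Ideal.Quotient.mk (Ideal.span ({x} : Set B)) b) s := by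
    intro b s
    show Localization.mk b s • e₀ = _
    rw [LocalizedModule.mk_smul_mk, mul_one]
    congr 1
    show Ideal.Quotient.mk (Ideal.span ({x} : Set B)) (b * 1) = _
    rw [mul_one]
  have hp : Function.Surjective p := by
    intro y
    induction y using LocalizedModule.induction_on with
    | _ q s =>
      obtain ⟨b, rfl⟩ := Ideal.Quotient.mk_surjective q
      exact ⟨_, hpmk b s⟩
  have hker : LinearMap.ker p = Ideal.span ({algebraMap B L x} : Set L) := by
    refine le_antisymm ?_ ((Ideal.span_singleton_le_iff_mem (I := LinearMap.ker p)).2 ?_)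
    · intro y hy
      induction y using Localization.induction_on with
      | _ bs =>
        obtain ⟨b, s⟩ := bs
        rw [LinearMap.mem_ker, hpmk, ← LocalizedModule.zero_mk (S := S) 1, LocalizedModule.mk_eq] at hy
        obtain ⟨u, hu⟩ := hy
        simp only [one_smul, smul_zero] at hu
        have hub : (u : B) * b ∈ Ideal.span ({x} : Set B) := Ideal.Quotient.eq_zero_iff_mem.1 hu
        have h := Ideal.mem_map_of_mem (algebraMap B L) hub
        rw [Ideal.map_span, Set.image_singleton, map_mul, Ideal.unit_mul_mem_iff_mem _ (IsLocalization.map_units L u)] at h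
        rw [Localization.mk_eq_mk', ← mul_one b, IsLocalization.mk'_eq_mul_mk'_one, mul_one]
        exact Ideal.mul_mem_right _ _ h
    · rw [LinearMap.mem_ker, ← Localization.mk_one_eq_algebraMap, hpmk,
        Ideal.Quotient.eq_zero_iff_mem.2 (Ideal.mem_span_singleton_self x), LocalizedModule.zero_mk]
  exact ((Submodule.quotEquivOfEq _ _ hker.symm).trans (p.quotKerEquivOfSurjective hp)).length_eq.symm

theorem span_range_eq_top {K L : Type u} [IsDomain B] [Field K] [Field L] [Algebra B L] [IsFractionRing B L]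
    [Algebra K L] [FiniteDimensional K L] : Submodule.span K (Set.range (algebraMap B L)) = ⊤ := by
  let S := Algebra.adjoin K (Set.range (algebraMap B L))
  have hS : Subalgebra.toSubmodule S = Submodule.span K (Set.range (algebraMap B L)) := by
    rw [Algebra.adjoin_eq_span]
    congr 1
    exact congrArg SetLike.coe (Submonoid.closure_eq (MonoidHom.mrange (algebraMap B L).toMonoidHom))
  rw [← hS, eq_top_iff]
  intro y _
  obtain ⟨b, c, hc, rfl⟩ := IsFractionRing.div_surjective B y
  have hmem : ∀ b : B, algebraMap B L b ∈ S := fun b => Algebra.subset_adjoin ⟨b, rfl⟩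
  show _ ∈ S
  rw [div_eq_mul_inv]
  refine mul_mem (hmem b) ?_
  exact Subalgebra.inv_mem_of_algebraic (A := S) (x := ⟨algebraMap B L c, hmem c⟩) (Algebra.IsAlgebraic.isAlgebraic (R := K) _)

theorem main (A B K L : Type u)
    [CommRing A] [IsDomain A] [IsNoetherianRing A] [IsLocalRing A] (hdim : ringKrullDim A = 1)
    [CommRing B] [IsDomain B] [Algebra A B] [FaithfulSMul A B]
    [Field K] [Field L] [Algebra A K] [IsFractionRing A K] [Algebra B L] [IsFractionRing B L]
    [Algebra K L] [Algebra A L] [IsScalarTower A K L] [IsScalarTower A B L] [FiniteDimensional K L]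
    (x : A) (hx : x ∈ IsLocalRing.maximalIdeal A) (hx0 : x ≠ 0) :
    Finite (MaximalSpectrum B) ∧
      (∑ᶠ m : MaximalSpectrum B,
          Module.length A (B ⧸ m.asIdeal) *
            Module.length (Localization.AtPrime m.asIdeal)
              (Localization.AtPrime m.asIdeal ⧸
                Ideal.span ({algebraMap A (Localization.AtPrime m.asIdeal) x} : Set _)) ≤
        (Module.finrank K L : ℕ∞) * Module.length A (A ⧸ Ideal.span ({x} : Set A))) ∧
      ((∑ᶠ m : MaximalSpectrum B,
          Module.length A (B ⧸ m.asIdeal) *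
            Module.length (Localization.AtPrime m.asIdeal)
              (Localization.AtPrime m.asIdeal ⧸
                Ideal.span ({algebraMap A (Localization.AtPrime m.asIdeal) x} : Set _)) =
        (Module.finrank K L : ℕ∞) * Module.length A (A ⧸ Ideal.span ({x} : Set A))) ↔ Module.Finite A B) := by
  classical
  haveI : Ring.KrullDimLE 1 A := Ring.krullDimLE_iff.2 (by rw [hdim]; simp)
  have hinjAB : Function.Injective (algebraMap A B) := FaithfulSMul.algebraMap_injective A B
  let ι : B →ₗ[A] L := (IsScalarTower.toAlgHom A B L).toLinearMap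
  have hι : Function.Injective ι := IsFractionRing.injective B L
  have hspan : Submodule.span K (Set.range ι) = ⊤ := span_range_eq_top
  let J : Ideal B := Ideal.span ({algebraMap A B x} : Set B)
  have hJ : (J.restrictScalars A) = xSub x B := by
    refine SetLike.ext fun b => ?_
    rw [Submodule.restrictScalars_mem, Ideal.mem_span_singleton']
    exact ⟨fun ⟨c, hc⟩ => ⟨c, by rw [← hc, mul_comm, ← Algebra.smul_def]; rfl⟩,
      fun ⟨c, hc⟩ => ⟨c, by rw [mul_comm, ← Algebra.smul_def, ← hc]; rfl⟩⟩
  let eQ : (B ⧸ xSub x B) ≃ₗ[A] B ⧸ J :=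
    (Submodule.quotEquivOfEq _ _ hJ.symm).trans (Submodule.Quotient.restrictScalarsEquiv A J)
  have hfin0 : (Module.finrank K L : ℕ∞) * Ring.ord A x ≠ ⊤ :=
    WithTop.mul_ne_top (ENat.coe_ne_top _) (Ring.ord_ne_top (mem_nonZeroDivisors_of_ne_zero hx0))
  have hle : Module.length A (B ⧸ J) ≤ (Module.finrank K L : ℕ∞) * Ring.ord A x := by
    rw [← eQ.length_eq]
    exact Akizuki.length_le ι hι hx0
  have hQA : Module.length A (B ⧸ J) ≠ ⊤ := ne_top_of_le_ne_top hfin0 hle
  have hQB : IsFiniteLength B (B ⧸ J) := by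
    rw [← Module.length_ne_top_iff, ← Module.length_top]
    refine ne_top_of_le_ne_top hQA ((Submodule.length_le_length_restrictScalars A ⊤).trans (le_of_eq ?_))
    rw [Submodule.restrictScalars_top, Module.length_top]
  obtain ⟨hsupp, hlen⟩ := LengthSum.length_eq_finsum A hQB
  have hsum : (∑ᶠ m : MaximalSpectrum B,
      Module.length A (B ⧸ m.asIdeal) *
        Module.length (Localization.AtPrime m.asIdeal)
          (Localization.AtPrime m.asIdeal ⧸
            Ideal.span ({algebraMap A (Localization.AtPrime m.asIdeal) x} : Set _))) = Module.length A (B ⧸ J) := by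
    rw [hlen]
    refine finsum_congr fun m => ?_
    rw [lloc_quotient_span, ← IsScalarTower.algebraMap_apply]
  have hfinmax : Finite (MaximalSpectrum B) := by
    refine Set.finite_univ_iff.1 ((hsupp.union (Set.Subsingleton.finite
      (s := {m : MaximalSpectrum B | m.asIdeal = ⊥}) fun m hm m' hm' => MaximalSpectrum.ext (hm.trans hm'.symm))).subset ?_)
    intro m _
    by_cases hxm : algebraMap A B x ∈ m.asIdeal
    · refine Or.inl ?_
      show LengthSum.lloc m (B ⧸ J) ≠ 0
      rw [lloc_quotient_span, ne_eq, Module.length_eq_zero_iff, Submodule.Quotient.subsingleton_iff]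
      intro htop
      have h1 : Ideal.span ({algebraMap B (Localization.AtPrime m.asIdeal) (algebraMap A B x)} : Set _) ≤
          IsLocalRing.maximalIdeal _ :=
        (Ideal.span_singleton_le_iff_mem (I := IsLocalRing.maximalIdeal (Localization.AtPrime m.asIdeal))).2
          ((IsLocalization.AtPrime.to_map_mem_maximal_iff (Localization.AtPrime m.asIdeal) m.asIdeal _).2 hxm)
      rw [htop, top_le_iff] at h1
      exact (IsLocalRing.maximalIdeal.isMaximal _).ne_top h1
    · refine Or.inr (by_contra fun hne => hxm ?_)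
      obtain ⟨b, hb, hb0⟩ := Submodule.exists_mem_ne_zero_of_ne_bot hne
      have halg : IsAlgebraic A b :=
        (isAlgebraic_algebraMap_iff (IsFractionRing.injective B L)).1
          ((IsFractionRing.isAlgebraic_iff A K L).2 (Algebra.IsAlgebraic.isAlgebraic _))
      have hc : m.asIdeal.comap (algebraMap A B) ≠ ⊥ := Ideal.comap_ne_bot_of_algebraic_mem hb0 hb halg
      haveI : (m.asIdeal.comap (algebraMap A B)).IsPrime := Ideal.IsPrime.comap _
      have hmax := Ideal.isMaximal_of_isPrime_of_ne_bot _ hc
      exact (IsLocalRing.eq_maximalIdeal hmax).ge hx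
  refine ⟨hfinmax, hsum ▸ hle, ?_⟩
  rw [hsum]
  constructor
  · intro heq
    haveI : IsNoetherian A (B ⧸ J) := (isFiniteLength_iff_isNoetherian_isArtinian.1 (Module.length_ne_top_iff.1 hQA)).1
    obtain ⟨t, ht⟩ := Module.Finite.fg_top (R := A) (M := B ⧸ J)
    obtain ⟨s, hs, hs'⟩ := (Submodule.fg_span_iff_fg_span_finset_subset (Set.range ι)).1
      (IsNoetherian.noetherian (Submodule.span K (Set.range ι)))
    obtain ⟨s₀, -, hs₀⟩ := Finset.subset_set_image_iff.1 (show (s : Set L) ⊆ ι '' Set.univ by rwa [Set.image_univ])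
    obtain ⟨t₀, -, ht₀⟩ := Finset.subset_set_image_iff.1
      (show (t : Set (B ⧸ J)) ⊆ Ideal.Quotient.mk J '' Set.univ by
        rw [Set.image_univ, Ideal.Quotient.mk_surjective.range_eq]; exact Set.subset_univ _)
    let M₁ : Submodule A B := Submodule.span A ((s₀ : Set B) ∪ t₀)
    have hM₁fg : M₁.FG := ⟨s₀ ∪ t₀, by rw [Finset.coe_union]⟩
    -- the reduction map of a lattice is bijective
    have key : ∀ M : Submodule A B, M.FG → M₁ ≤ M →
        (∀ z : B ⧸ J, ∃ y ∈ M, Ideal.Quotient.mk J y = z) ∧
          ∀ y ∈ M, y ∈ J → y ∈ Ideal.span ({x} : Set A) • M := by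
      intro M hM hle'
      haveI : Module.Finite A M := Module.Finite.iff_fg.2 hM
      have hsp : Submodule.span K (Set.range (ι ∘ₗ M.subtype)) = ⊤ := by
        rw [eq_top_iff, ← hspan, hs']
        refine Submodule.span_mono fun z hz => ?_
        rw [← hs₀, Finset.coe_image] at hz
        obtain ⟨w, hw, rfl⟩ := hz
        exact ⟨⟨w, hle' (Submodule.subset_span (Or.inl hw))⟩, rfl⟩
      have hlenM := length_eq_of_lattice (ι ∘ₗ M.subtype) (hι.comp Subtype.val_injective) hsp hx0
      let j₀ : M →ₗ[A] B ⧸ J := (Ideal.Quotient.mkₐ A J).toLinearMap ∘ₗ M.subtype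
      let j : (M ⧸ xSub x M) →ₗ[A] B ⧸ J := (xSub x M).liftQ j₀ (by
        rintro _ ⟨v, rfl⟩
        refine Ideal.Quotient.eq_zero_iff_mem.2 ?_
        show ((x • v : M) : B) ∈ J
        rw [Submodule.coe_smul, Algebra.smul_def]
        exact Ideal.mul_mem_right _ _ (Ideal.mem_span_singleton_self _))
      have hsurj : ∀ z : B ⧸ J, ∃ y ∈ M, Ideal.Quotient.mk J y = z := by
        intro z
        have hz : z ∈ Submodule.span A (t : Set (B ⧸ J)) := ht ▸ Submodule.mem_top
        have hsub : Submodule.span A (t : Set (B ⧸ J)) ≤ M.map (Ideal.Quotient.mkₐ A J).toLinearMap := by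
          refine Submodule.span_le.2 fun w hw => ?_
          rw [← ht₀, Finset.coe_image] at hw
          obtain ⟨v, hv, rfl⟩ := hw
          exact Submodule.mem_map_of_mem (hle' (Submodule.subset_span (Or.inr hv)))
        obtain ⟨y, hy, rfl⟩ := hsub hz
        exact ⟨y, hy, rfl⟩
      refine ⟨hsurj, fun y hy hyJ => ?_⟩
      have hjs : Function.Surjective j := fun z => by
        obtain ⟨y, hy, rfl⟩ := hsurj z
        exact ⟨Submodule.Quotient.mk ⟨y, hy⟩, rfl⟩
      have h1 := Module.length_eq_add_of_exact (LinearMap.ker j).subtype j (Submodule.subtype_injective _) hjs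
        (LinearMap.exact_subtype_ker_map j)
      rw [hlenM, show Module.length A (B ⧸ J) = (Module.finrank K L : ℕ∞) * Ring.ord A x from heq] at h1
      have h2 : Module.length A (LinearMap.ker j) = 0 :=
        (WithTop.add_right_cancel hfin0 (h1.symm.trans (zero_add _).symm))
      haveI := Module.length_eq_zero_iff.1 h2
      have h3 : (Submodule.Quotient.mk ⟨y, hy⟩ : M ⧸ xSub x M) ∈ LinearMap.ker j :=
        Ideal.Quotient.eq_zero_iff_mem.2 hyJ
      have h4 : (Submodule.Quotient.mk ⟨y, hy⟩ : M ⧸ xSub x M) = 0 :=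
        congrArg Subtype.val (Subsingleton.elim (⟨_, h3⟩ : LinearMap.ker j) 0)
      obtain ⟨v, hv⟩ := (Submodule.Quotient.mk_eq_zero _).1 h4
      have h5 : x • (v : B) = y := congrArg Subtype.val hv
      rw [← h5]
      exact Submodule.smul_mem_smul (Ideal.mem_span_singleton_self x) v.2
    suffices htop : M₁ = ⊤ from ⟨htop ▸ hM₁fg⟩
    refine eq_top_iff.2 fun b _ => ?_
    let M₂ := M₁ ⊔ Submodule.span A {b}
    have hM₂fg : M₂.FG := hM₁fg.sup (Submodule.fg_span_singleton b)
    have h6 : M₂ ≤ M₁ := Submodule.le_of_le_smul_of_le_jacobson_bot (I := Ideal.span ({x} : Set A)) hM₂fg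
      (((Ideal.span_singleton_le_iff_mem (I := IsLocalRing.maximalIdeal A)).2 hx).trans (IsLocalRing.maximalIdeal_le_jacobson _)) (by
        intro y hy
        obtain ⟨y₁, hy₁, hyy⟩ := (key M₁ hM₁fg le_rfl).1 (Ideal.Quotient.mk J y)
        have h7 : y - y₁ ∈ J := Ideal.Quotient.eq.1 hyy.symm
        have h8 := (key M₂ hM₂fg le_sup_left).2 _ (sub_mem hy (Submodule.mem_sup_left hy₁)) h7
        exact Submodule.mem_sup.2 ⟨y₁, hy₁, _, h8, add_sub_cancel y₁ y⟩)
    exact h6 (Submodule.mem_sup_right (Submodule.mem_span_singleton_self b))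
  · intro hfin
    rw [← eQ.length_eq]
    exact length_eq_of_lattice ι hι hspan hx0

end main

end Groth.L03.DegreeOrd
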