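import Mathlib.LinearAlgebra.Matrix.Polynomial
import Mathlib.LinearAlgebra.Matrix.Charpoly.Minpoly
import Mathlib.LinearAlgebra.Charpoly.ToMatrix
import Mathlib.RingTheory.AdjoinRoot
import Mathlib.RingTheory.Norm.Basic

/-!
`det (P(A))` depends only on the characteristic polynomial of `A`.
-/

set_option autoImplicit false

universe u

namespace Groth.L03.DetAeval

open Polynomial

variable {n m : Type*} [Fintype n] [DecidableEq n] [Fintype m] [DecidableEq m]

theorem map_det_aeval {k S : Type*} [CommRing k] [CommRing S] (f : k →+* S) (A : Matrix n n k)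
    (P : k[X]) : f (aeval A P).det = (aeval (A.map f) (P.map f)).det := by
  have hmap : f.mapMatrix (aeval A P) = aeval (A.map f) (P.map f) := by
    induction P using Polynomial.induction_on' with
    | add p q hp hq => rw [map_add, map_add, Polynomial.map_add, map_add, hp, hq]
    | monomial i c =>
      rw [Polynomial.map_monomial, aeval_monomial, aeval_monomial, map_mul, map_pow,
        RingHom.mapMatrix_apply, RingHom.mapMatrix_apply]
      congr 1
      rw [Matrix.algebraMap_eq_diagonal, Matrix.algebraMap_eq_diagonal,
        Matrix.diagonal_map (map_zero f)]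
      rfl
  rw [RingHom.map_det, hmap]

theorem det_aeval_prod {S : Type*} [CommRing S] (A : Matrix n n S) (s : Multiset S) :
    (aeval A (s.map fun a => X - C a).prod).det =
      (s.map fun a => (-1) ^ Fintype.card n * A.charpoly.eval a).prod := by
  let ψ : S[X] →* S := (Matrix.detMonoidHom).comp (aeval A).toRingHom.toMonoidHom
  show ψ _ = _
  rw [map_multiset_prod, Multiset.map_map]
  congr 1
  refine Multiset.map_congr rfl fun a _ => ?_
  show (aeval A (X - C a)).det = _
  rw [map_sub, aeval_X, aeval_C, Matrix.eval_charpoly, ← Matrix.det_neg, neg_sub]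
  rfl

theorem det_aeval_eq_of_monic {k : Type u} [CommRing k] {A : Matrix n n k} {B : Matrix m m k}
    (h : A.charpoly = B.charpoly) {P : k[X]} (hP : P.Monic) :
    (aeval A P).det = (aeval B P).det := by
  cases subsingleton_or_nontrivial k
  · exact Subsingleton.elim _ _
  obtain ⟨S, _, _, _, _, _, hs⟩ := hP.exists_splits_map
  apply FaithfulSMul.algebraMap_injective k S
  rw [map_det_aeval, map_det_aeval]
  obtain ⟨s, hs'⟩ := splits_iff_exists_multiset.1 hs
  rw [(hP.map (algebraMap k S)).leadingCoeff, map_one, one_mul] at hs'
  rw [hs', det_aeval_prod, det_aeval_prod, Matrix.charpoly_map, Matrix.charpoly_map, h,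
    ← A.charpoly_natDegree_eq_dim, ← B.charpoly_natDegree_eq_dim, h]

theorem aeval_aux {k : Type u} [CommRing k] (M : Matrix n n k) (P : k[X]) (N : ℕ) :
    aeval (M.map C) (X ^ N + C (X : k[X]) * P.map C) =
      (X : k[X]) • (aeval M P).map C + (M ^ N).map C := by
  have h1 : ∀ q : k[X], aeval (M.map C) (q.map C) = (aeval M q).map C := by
    intro q
    induction q using Polynomial.induction_on' with
    | add p q hp hq =>
      rw [Polynomial.map_add, map_add, map_add, hp, hq, Matrix.map_add _ (map_add C)]
    | monomial i c =>
      rw [Polynomial.map_monomial, aeval_monomial, aeval_monomial, ← Algebra.smul_def,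
        ← Algebra.smul_def]
      rw [show M.map C = (C : k →+* k[X]).mapMatrix M from rfl, ← map_pow]
      ext a b
      simp
  have h2 : (M.map C) ^ N = (M ^ N).map C := (map_pow (C : k →+* k[X]).mapMatrix M _).symm
  simp only [map_add, map_mul, map_pow, aeval_X, aeval_C, ← Algebra.smul_def, h1, h2]
  rw [add_comm]

theorem det_aeval_eq {k : Type u} [CommRing k] {A : Matrix n n k} {B : Matrix m m k}
    (h : A.charpoly = B.charpoly) (P : k[X]) : (aeval A P).det = (aeval B P).det := by
  cases subsingleton_or_nontrivial k
  · exact Subsingleton.elim _ _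
  let Q : k[X][X] := X ^ (P.natDegree + 1) + C (X : k[X]) * P.map C
  have hQ : Q.Monic := by
    refine monic_X_pow_add (lt_of_le_of_lt degree_le_natDegree ?_)
    refine Nat.cast_lt.2 (Nat.lt_succ_of_le ?_)
    exact le_trans (natDegree_C_mul_le _ _) natDegree_map_le
  have h' : (A.map (C : k →+* k[X])).charpoly = (B.map (C : k →+* k[X])).charpoly := by
    rw [Matrix.charpoly_map, Matrix.charpoly_map, h]
  have key := det_aeval_eq_of_monic h' hQ
  rw [aeval_aux, aeval_aux] at key
  have hcard : Fintype.card n = Fintype.card m := by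
    rw [← A.charpoly_natDegree_eq_dim, ← B.charpoly_natDegree_eq_dim, h]
  have := congrArg (fun p => Polynomial.coeff p (Fintype.card n)) key
  simp only [coeff_det_X_add_C_card] at this
  rwa [hcard, coeff_det_X_add_C_card] at this

/-- The norm from `k[T]/(χ)` is the determinant of the polynomial in `u`. -/
theorem norm_mk {k : Type u} [CommRing k] {M : Type*} [AddCommGroup M] [Module k M]
    [Module.Free k M] [Module.Finite k M] (f : M →ₗ[k] M) (P : k[X]) :
    Algebra.norm k (AdjoinRoot.mk f.charpoly P) = LinearMap.det (aeval f P) := by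
  classical
  cases subsingleton_or_nontrivial k
  · exact Subsingleton.elim _ _
  let pb := AdjoinRoot.powerBasis' (LinearMap.charpoly_monic f)
  let b := Module.Free.chooseBasis k M
  have hA : (LinearMap.toMatrix b b f).charpoly = f.charpoly := LinearMap.charpoly_toMatrix f b
  have hB : (Algebra.leftMulMatrix pb.basis pb.gen).charpoly = f.charpoly := by
    rw [charpoly_leftMulMatrix]
    refine (minpoly.unique' k pb.gen (LinearMap.charpoly_monic f) ?_ fun q hq => ?_).symm
    · exact (AdjoinRoot.aeval_eq _).trans AdjoinRoot.mk_self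
    · by_cases hq0 : q = 0
      · exact Or.inl hq0
      · refine Or.inr fun h0 => ?_
        change aeval (AdjoinRoot.root f.charpoly) q = 0 at h0
        rw [AdjoinRoot.aeval_eq, AdjoinRoot.mk_eq_zero] at h0
        exact (LinearMap.charpoly_monic f).not_dvd_of_degree_lt hq0 hq h0
  rw [Algebra.norm_eq_matrix_det pb.basis, ← LinearMap.det_toMatrix b,
    ← AdjoinRoot.aeval_eq P]
  change (Algebra.leftMulMatrix pb.basis (aeval pb.gen P)).det = _
  rw [← aeval_algHom_apply, det_aeval_eq (hB.trans hA.symm) P,
    show LinearMap.toMatrix b b (aeval f P) = LinearMap.toMatrixAlgEquiv b (aeval f P) from rfl,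
    ← aeval_algHom_apply]
  rfl

end Groth.L03.DetAeval
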