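import Groth.Agent.L14.SMT.DetNormal
import Groth.Agent.L22.AffineDim
import Mathlib.RingTheory.TensorProduct.MvPolynomial
import Mathlib.FieldTheory.IsAlgClosed.AlgebraicClosure
import Mathlib.RingTheory.KrullDimension.NonZeroDivisors

/-!
Dimension of determinantal rings over an arbitrary field; algebraic extensions of the ground field
preserve the dimension of polynomial quotients.
-/

namespace Groth.L03.DetDim

universe u

open MvPolynomial TensorProduct

theorem mem_of_map_mem {k K : Type u} [Field k] [Field K] [Algebra k K] {σ : Type} (I : Ideal (MvPolynomial σ k))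
    {g : MvPolynomial σ k} (hg : MvPolynomial.map (algebraMap k K) g ∈ I.map (MvPolynomial.map (algebraMap k K))) :
    g ∈ I := by
  classical
  obtain ⟨lam, hlam⟩ := (Algebra.linearMap k K).exists_leftInverse_of_injective
    (LinearMap.ker_eq_bot.2 (algebraMap k K).injective)
  have hl1 : lam 1 = 1 := by simpa using DFunLike.congr_fun hlam 1
  let e := MvPolynomial.algebraTensorAlgEquiv k K (σ := σ)
  have he : ∀ (c : K) (q : MvPolynomial σ k), e (c ⊗ₜ q) = C c * MvPolynomial.map (algebraMap k K) q := by
    intro c q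
    rw [← mul_one c, ← one_mul q, ← Algebra.TensorProduct.tmul_mul_tmul, map_mul, mul_one, one_mul]
    congr 1
    · exact e.commutes c
    · induction q using MvPolynomial.induction_on with
      | C a =>
        rw [map_C, show (C a : MvPolynomial σ k) = algebraMap k _ a from rfl,
          show ((1 : K) ⊗ₜ[k] algebraMap k (MvPolynomial σ k) a) = (algebraMap k K a ⊗ₜ[k] 1) from
            (Algebra.TensorProduct.tmul_one_eq_one_tmul a).symm]
        exact e.commutes _
      | add p q hp hq => rw [TensorProduct.tmul_add, map_add, hp, hq, map_add]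
      | mul_X p i hp =>
        rw [← one_mul (1 : K), ← Algebra.TensorProduct.tmul_mul_tmul, map_mul, hp, map_mul, map_X]
        congr 1
        simp [e]
  let Lam : MvPolynomial σ K →+ MvPolynomial σ k :=
    ((TensorProduct.lid k (MvPolynomial σ k)).toLinearMap ∘ₗ lam.rTensor _).toAddMonoidHom.comp
      e.symm.toRingEquiv.toAddEquiv.toAddMonoidHom
  have hL : ∀ z, Lam (e z) = TensorProduct.lid k _ (lam.rTensor _ z) := fun z => by simp [Lam]
  have hmul : ∀ (y : MvPolynomial σ K) (g : MvPolynomial σ k),
      Lam (y * MvPolynomial.map (algebraMap k K) g) = Lam y * g := by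
    intro y g
    obtain ⟨z, rfl⟩ := e.surjective y
    induction z using TensorProduct.induction_on with
    | zero => simp
    | add a b ha hb => rw [map_add, add_mul, map_add, ha, hb, map_add, add_mul]
    | tmul c q =>
      rw [he, mul_assoc, ← map_mul, ← he, ← he, hL, hL]
      simp
  have key : ∀ x ∈ I.map (MvPolynomial.map (algebraMap k K)), ∀ y, Lam (y * x) ∈ I := by
    intro x hx
    induction hx using Submodule.span_induction with
    | mem x hx =>
      obtain ⟨g, hg, rfl⟩ := hx
      intro y
      rw [hmul]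
      exact I.mul_mem_left _ hg
    | zero => intro y; simp
    | add a b _ _ ha hb => intro y; rw [mul_add, map_add]; exact add_mem (ha y) (hb y)
    | smul r a _ ha => intro y; rw [smul_eq_mul, ← mul_assoc]; exact ha _
  have h := key _ hg 1
  rw [hmul] at h
  have h1 : Lam 1 = 1 := by
    rw [← map_one e, hL, Algebra.TensorProduct.one_def]
    simp [hl1]
  rwa [h1, one_mul] at h

theorem ringKrullDim_map {k K : Type u} [Field k] [Field K] [Algebra k K] [Algebra.IsAlgebraic k K] {σ : Type}
    (I : Ideal (MvPolynomial σ k)) :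
    ringKrullDim (MvPolynomial σ k ⧸ I) =
      ringKrullDim (MvPolynomial σ K ⧸ I.map (MvPolynomial.map (algebraMap k K))) := by
  let φ : MvPolynomial σ k ⧸ I →+* MvPolynomial σ K ⧸ I.map (MvPolynomial.map (algebraMap k K)) :=
    Ideal.quotientMap _ (MvPolynomial.map (algebraMap k K)) Ideal.le_comap_map
  letI : Algebra (MvPolynomial σ k ⧸ I) (MvPolynomial σ K ⧸ I.map (MvPolynomial.map (algebraMap k K))) := φ.toAlgebra
  have hinj : Function.Injective φ := by
    rw [injective_iff_map_eq_zero]
    intro x hx
    obtain ⟨g, rfl⟩ := Ideal.Quotient.mk_surjective x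
    rw [Ideal.quotientMap_mk, Ideal.Quotient.eq_zero_iff_mem] at hx
    exact Ideal.Quotient.eq_zero_iff_mem.2 (mem_of_map_mem I hx)
  haveI : Algebra.IsIntegral (MvPolynomial σ k ⧸ I) (MvPolynomial σ K ⧸ I.map (MvPolynomial.map (algebraMap k K))) := by
    refine ⟨fun y => ?_⟩
    obtain ⟨P, rfl⟩ := Ideal.Quotient.mk_surjective y
    induction P using MvPolynomial.induction_on with
    | C c =>
      obtain ⟨p, hp, hpc⟩ := Algebra.IsIntegral.isIntegral (R := k) c
      refine ⟨p.map ((Ideal.Quotient.mk I).comp C), hp.map _, ?_⟩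
      have h := congrArg ((Ideal.Quotient.mk (I.map (MvPolynomial.map (algebraMap k K)))).comp C) hpc
      rw [map_zero, Polynomial.hom_eval₂] at h
      rw [Polynomial.eval₂_map]
      have hc : (algebraMap (MvPolynomial σ k ⧸ I) _).comp ((Ideal.Quotient.mk I).comp C) =
          ((Ideal.Quotient.mk (I.map (MvPolynomial.map (algebraMap k K)))).comp C).comp (algebraMap k K) :=
        RingHom.ext fun a => by simp [RingHom.algebraMap_toAlgebra, φ]
      rw [hc]
      exact h
    | add p q hp hq => rw [map_add]; exact hp.add hq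
    | mul_X p i hp =>
      rw [map_mul]
      refine hp.mul ?_
      have : Ideal.Quotient.mk (I.map (MvPolynomial.map (algebraMap k K))) (X i) = algebraMap _ _ (Ideal.Quotient.mk I (X i)) := by
        simp [RingHom.algebraMap_toAlgebra, φ]
      rw [this]
      exact isIntegral_algebraMap
  exact (Groth.L22.AffineDim.ringKrullDim_eq_of_isIntegral hinj).symm

theorem minorIdeal_map {R S : Type u} [CommRing R] [CommRing S] (f : R →+* S) {m n : Type} [Fintype m] [Fintype n]
    (A : Matrix m n R) (t : ℕ) : (CAlgX.minorIdeal A t).map f = CAlgX.minorIdeal (A.map f) t := by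
  unfold CAlgX.minorIdeal
  rw [Ideal.map_span, ← Set.range_comp]
  congr 1
  ext x
  simp [RingHom.map_det, Matrix.submatrix_map]

theorem dim (k : Type u) [Field k] (n m r : ℕ) (hr : r ≤ min n m) :
    ringKrullDim (MvPolynomial (Fin n × Fin m) k ⧸ CAlgX.minorIdeal (Matrix.of fun (i : Fin n) (j : Fin m) => (MvPolynomial.X (i, j) : MvPolynomial (Fin n × Fin m) k)) (r + 1)) =
      ((r * (m + n - r) : ℕ) : WithBot ℕ∞) := by
  rcases Nat.eq_zero_or_pos n with hn | hn
  · subst hn
    obtain rfl : r = 0 := by simpa using hr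
    have hI : CAlgX.minorIdeal (Matrix.of fun (i : Fin 0) (j : Fin m) => (MvPolynomial.X (i, j) : MvPolynomial (Fin 0 × Fin m) k)) (0 + 1) = ⊥ := by
      refine Ideal.span_eq_bot.2 ?_
      rintro _ ⟨⟨f, _⟩, rfl⟩
      exact (f 0).elim0
    rw [hI, ringKrullDim_eq_of_ringEquiv (RingEquiv.quotientBot _), ringKrullDim_mvPolynomial_of_isEmpty,
      ringKrullDim_eq_zero_of_field]
    simp
  rcases Nat.eq_zero_or_pos m with hm | hm
  · subst hm
    obtain rfl : r = 0 := by simpa using hr
    have hI : CAlgX.minorIdeal (Matrix.of fun (i : Fin n) (j : Fin 0) => (MvPolynomial.X (i, j) : MvPolynomial (Fin n × Fin 0) k)) (0 + 1) = ⊥ := by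
      refine Ideal.span_eq_bot.2 ?_
      rintro _ ⟨⟨_, f⟩, rfl⟩
      exact (f 0).elim0
    rw [hI, ringKrullDim_eq_of_ringEquiv (RingEquiv.quotientBot _), ringKrullDim_mvPolynomial_of_isEmpty,
      ringKrullDim_eq_zero_of_field]
    simp
  let K := AlgebraicClosure k
  rw [ringKrullDim_map (K := K), minorIdeal_map]
  have hA : (Matrix.of fun (i : Fin n) (j : Fin m) => (MvPolynomial.X (i, j) : MvPolynomial (Fin n × Fin m) k)).map
      (MvPolynomial.map (algebraMap k K)) = W4bk4grassmannian.genMatrix K n m := by
    ext i j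
    simp [W4bk4grassmannian.genMatrix]
  rw [hA]
  have hd : r ≤ m := le_trans hr (min_le_right _ _)
  have hr' : r ≤ n := le_trans hr (min_le_left _ _)
  refine (Groth.L14.SMT.detRing_dim (K := K) (r := n) (d := m) (s := r) hm hd hr' hn).trans ?_
  rw [Groth.L14.SMT.codeg_rankIdx hd hr', Nat.add_comm n m]

end Groth.L03.DetDim
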