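import Groth.Prelude.Def_CAlgX
import Mathlib.RingTheory.Smooth.Locus
import Mathlib.RingTheory.Smooth.Kaehler
import Mathlib.RingTheory.MvPolynomial.Basic
import Mathlib.RingTheory.Polynomial.Basic
import Mathlib.RingTheory.Filtration
import Mathlib.RingTheory.Nakayama
import Mathlib.LinearAlgebra.Matrix.Adjugate
import Mathlib.LinearAlgebra.Matrix.SchurComplement

/-!
Smooth locus of the generic determinantal ring: the rank `r` locus.
-/

namespace Groth.L03.DetSmooth

universe u

open MvPolynomial TensorProduct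

/-- Leibniz rule for products -/
theorem leibniz_finset_prod {R A M : Type*} [CommRing R] [CommRing A] [Algebra R A] [AddCommGroup M] [Module A M]
    [Module R M] (D : Derivation R A M) {ι : Type*} [DecidableEq ι] (s : Finset ι) (x : ι → A) :
    D (∏ i ∈ s, x i) = ∑ i ∈ s, (∏ j ∈ s.erase i, x j) • D (x i) := by
  induction s using Finset.induction with
  | empty => simp
  | insert a s ha ih =>
    rw [Finset.prod_insert ha, Derivation.leibniz, ih, Finset.sum_insert ha, Finset.erase_insert ha,
      Finset.smul_sum, add_comm]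
    congr 1
    refine Finset.sum_congr rfl fun i hi => ?_
    rw [smul_smul, Finset.erase_insert_of_ne (fun h => ha (by rwa [h] at *)),
      Finset.prod_insert (fun h => ha (Finset.mem_of_mem_erase h))]

/-- derivative of a determinant -/
theorem derivation_det {R A M : Type*} [CommRing R] [CommRing A] [Algebra R A] [AddCommGroup M] [Module A M]
    [Module R M] (D : Derivation R A M) {n : Type*} [Fintype n] [DecidableEq n] (X : Matrix n n A) :
    D X.det = ∑ i, ∑ a, X.adjugate i a • D (X a i) := by
  have hadj : ∀ i a, X.adjugate i a =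
      ∑ σ : Equiv.Perm n, Equiv.Perm.sign σ • (if σ i = a then ∏ j ∈ Finset.univ.erase i, X (σ j) j else 0) := by
    intro i a
    rw [Matrix.adjugate_apply, Matrix.det_apply]
    refine Finset.sum_congr rfl fun σ _ => ?_
    congr 1
    split_ifs with h
    · rw [← Finset.mul_prod_erase Finset.univ (fun j => (X.updateRow a (Pi.single i 1)) (σ j) j) (Finset.mem_univ i), h]
      rw [Matrix.updateRow_self, Pi.single_eq_same, one_mul]
      refine Finset.prod_congr rfl fun j hj => ?_
      rw [Matrix.updateRow_ne]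
      exact fun hja => (Finset.ne_of_mem_erase hj) (σ.injective (hja.trans h.symm))
    · refine Finset.prod_eq_zero (Finset.mem_univ (σ.symm a)) ?_
      rw [σ.apply_symm_apply, Matrix.updateRow_self, Pi.single_eq_of_ne]
      exact fun he => h (by rw [← he, σ.apply_symm_apply])
  simp only [hadj, Finset.sum_smul]
  rw [Matrix.det_apply, map_sum]
  calc _ = ∑ σ : Equiv.Perm n, ∑ i, (Equiv.Perm.sign σ • ∏ j ∈ Finset.univ.erase i, X (σ j) j) • D (X (σ i) i) := by
        refine Finset.sum_congr rfl fun σ _ => ?_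
        rw [Units.smul_def, map_zsmul, leibniz_finset_prod, Finset.smul_sum]
        refine Finset.sum_congr rfl fun i _ => ?_
        rw [Units.smul_def, smul_assoc]
    _ = _ := by
        rw [Finset.sum_comm]
        refine Finset.sum_congr rfl fun i _ => ?_
        rw [Finset.sum_comm]
        refine Finset.sum_congr rfl fun σ _ => ?_
        rw [Finset.sum_eq_single (σ i)]
        · rw [if_pos rfl]
        · intro a _ ha
          rw [if_neg (Ne.symm ha), smul_zero, zero_smul]
        · exact fun h => absurd (Finset.mem_univ _) h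

theorem adjugate_mem_minorIdeal {A : Type u} [CommRing A] {n m : Type} [Fintype n] [Fintype m] (X : Matrix n m A)
    {r : ℕ} (fg : (Fin (r + 1) → n) × (Fin (r + 1) → m)) (i a : Fin (r + 1)) :
    (X.submatrix fg.1 fg.2).adjugate i a ∈ CAlgX.minorIdeal X r := by
  rw [Matrix.adjugate_fin_succ_eq_det_submatrix, Matrix.submatrix_submatrix]
  exact Ideal.mul_mem_left _ _ (Ideal.subset_span ⟨(fg.1 ∘ a.succAbove, fg.2 ∘ i.succAbove), rfl⟩)

/-- if the ideal has differentials in `m Ω` and is smooth, it vanishes -/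
theorem eq_bot_of_smooth {k P A : Type u} [CommRing k] [CommRing P] [CommRing A] [IsLocalRing P] [IsNoetherianRing P]
    [Algebra k P] [Algebra k A] [Algebra P A] [IsScalarTower k P A] [Algebra.FormallySmooth k P]
    [Algebra.FormallySmooth k A] (hf : Function.Surjective (algebraMap P A))
    (hK : RingHom.ker (algebraMap P A) ≠ ⊤)
    (hD : ∀ g ∈ RingHom.ker (algebraMap P A),
      KaehlerDifferential.D k P g ∈ IsLocalRing.maximalIdeal P • (⊤ : Submodule P (Ω[P⁄k]))) :
    RingHom.ker (algebraMap P A) = ⊥ := by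
  set K := RingHom.ker (algebraMap P A)
  set m := IsLocalRing.maximalIdeal P
  obtain ⟨l, hl⟩ := (Algebra.FormallySmooth.iff_split_injection (R := k) hf).1 inferInstance
  have h1 : ∀ w ∈ m • (⊤ : Submodule P (Ω[P⁄k])), l ((1 : A) ⊗ₜ w) ∈ m • (⊤ : Submodule P K.Cotangent) := by
    intro w hw
    refine Submodule.smul_induction_on hw (fun c hc v _ => ?_) (fun x y hx hy => ?_)
    · rw [TensorProduct.tmul_smul, LinearMap.map_smul_of_tower]
      exact Submodule.smul_mem_smul hc Submodule.mem_top
    · rw [TensorProduct.tmul_add, map_add]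
      exact add_mem hx hy
  have h2 : (⊤ : Submodule P K.Cotangent) ≤ m • ⊤ := by
    rintro x -
    obtain ⟨g, rfl⟩ := Ideal.toCotangent_surjective K x
    rw [show K.toCotangent g = l ((KaehlerDifferential.kerCotangentToTensor k P A) (K.toCotangent g)) from
      (DFunLike.congr_fun hl _).symm, KaehlerDifferential.kerCotangentToTensor_toCotangent]
    exact h1 _ (hD _ g.2)
  haveI : Module.Finite P K := Module.Finite.iff_fg.2 (IsNoetherian.noetherian _)
  haveI : Module.Finite P K.Cotangent := Module.Finite.of_surjective K.toCotangent K.toCotangent_surjective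
  have h3 : (⊤ : Submodule P K.Cotangent) = ⊥ :=
    Submodule.eq_bot_of_le_smul_of_le_jacobson_bot m ⊤ Module.Finite.fg_top h2
      (IsLocalRing.maximalIdeal_le_jacobson _)
  have h4 : IsIdempotentElem K := by
    refine le_antisymm Ideal.mul_le_left fun g hg => ?_
    have : K.toCotangent ⟨g, hg⟩ = 0 := (Submodule.mem_bot P).1 (h3 ▸ Submodule.mem_top)
    rw [Ideal.toCotangent_eq_zero, pow_two] at this
    exact this
  exact ((Ideal.isIdempotentElem_iff_eq_bot_or_top_of_isLocalRing K).1 h4).resolve_right hK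

theorem det_mul_eq_zero {C : Type*} [CommRing C] {r : ℕ} (U : Matrix (Fin (r + 1)) (Fin r) C)
    (V : Matrix (Fin r) (Fin (r + 1)) C) : (U * V).det = 0 := by
  let U' : Matrix (Fin (r + 1)) (Fin (r + 1)) C := Matrix.of fun i => Fin.snoc (U i) 0
  let V' : Matrix (Fin (r + 1)) (Fin (r + 1)) C := Matrix.of (Fin.snoc V 0)
  have h : U * V = U' * V' := by
    ext i j
    rw [Matrix.mul_apply, Matrix.mul_apply, Fin.sum_univ_castSucc]
    simp [U', V']
  rw [h, Matrix.det_mul, Matrix.det_eq_zero_of_column_eq_zero (A := U') (Fin.last r) (fun i => by simp [U']), zero_mul]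

/-- a matrix with vanishing `r+1`-minors and an invertible `r`-minor factors through it -/
theorem eq_of_minors_eq_zero {C : Type*} [CommRing C] {n m : Type} [Fintype n] [Fintype m] (X : Matrix n m C) {r : ℕ}
    (f : Fin r → n) (g : Fin r → m) [Invertible (X.submatrix f g)]
    (hz : ∀ (f' : Fin (r + 1) → n) (g' : Fin (r + 1) → m), (X.submatrix f' g').det = 0) :
    X = X.submatrix id g * ⅟(X.submatrix f g) * X.submatrix f id := by
  classical
  ext i j
  let f' : Fin r ⊕ Fin 1 → n := Sum.elim f fun _ => i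
  let g' : Fin r ⊕ Fin 1 → m := Sum.elim g fun _ => j
  have h0 : (X.submatrix f' g').det = 0 := by
    have := hz (f' ∘ finSumFinEquiv.symm) (g' ∘ finSumFinEquiv.symm)
    rwa [← Matrix.submatrix_submatrix, Matrix.det_submatrix_equiv_self] at this
  have hb : X.submatrix f' g' = Matrix.fromBlocks (X.submatrix f g) (X.submatrix f fun _ => j)
      (X.submatrix (fun _ => i) g) (X.submatrix (fun _ => i) fun _ => j) := by
    ext (a | a) (b | b) <;> rfl
  rw [hb, Matrix.det_fromBlocks₁₁] at h0
  have hu : IsUnit (X.submatrix f g).det := (Matrix.isUnit_iff_isUnit_det _).1 (isUnit_of_invertible _)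
  have h1 := (IsUnit.mul_right_eq_zero hu).1 h0
  rw [Matrix.det_fin_one, Matrix.sub_apply, sub_eq_zero] at h1
  rw [show X i j = X.submatrix (fun _ : Fin 1 => i) (fun _ : Fin 1 => j) 0 0 from rfl, h1]
  simp [Matrix.mul_apply]

section main

variable (k : Type u) [Field k] (n m r : ℕ)

/-- the generic matrix -/
noncomputable abbrev gen : Matrix (Fin n) (Fin m) (MvPolynomial (Fin n × Fin m) k) :=
  Matrix.of fun (i : Fin n) (j : Fin m) => (MvPolynomial.X (i, j) : MvPolynomial (Fin n × Fin m) k)

/-- the ideal of maximal minors -/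
noncomputable abbrev minors : Ideal (MvPolynomial (Fin n × Fin m) k) := CAlgX.minorIdeal (gen k n m) (r + 1)

theorem formallySmooth_atPrime (P : Ideal (MvPolynomial (Fin n × Fin m) k ⧸ minors k n m r)) [P.IsPrime]
    (hP : ¬ (CAlgX.minorIdeal (gen k n m) r).map (Ideal.Quotient.mk (minors k n m r)) ≤ P) :
    Algebra.FormallySmooth k (Localization.AtPrime P) := by
  classical
  rw [Ideal.map_le_iff_le_comap, CAlgX.minorIdeal, Ideal.span_le, Set.range_subset_iff, not_forall] at hP
  obtain ⟨⟨f, g⟩, hfg⟩ := hP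
  set B := MvPolynomial (Fin n × Fin m) k ⧸ minors k n m r
  set L := Localization.AtPrime P
  refine Algebra.FormallySmooth.of_comp_surjective fun C _ _ J hJ φ => ?_
  let A₁ : Matrix (Fin n) (Fin m) (C ⧸ J) :=
    Matrix.of fun i j => φ (algebraMap B L (Ideal.Quotient.mk _ (X (i, j))))
  have hA₁ : A₁ = (gen k n m).map ((φ.comp (IsScalarTower.toAlgHom k B L)).comp (Ideal.Quotient.mkₐ k _)) := rfl
  let A₂ : Matrix (Fin n) (Fin m) C := Matrix.of fun i j => (Ideal.Quotient.mk_surjective (A₁ i j)).choose
  have hA₂ : A₂.map (Ideal.Quotient.mk J) = A₁ := Matrix.ext fun i j => (Ideal.Quotient.mk_surjective (A₁ i j)).choose_spec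
  have hlift : ∀ c : C, IsUnit (Ideal.Quotient.mk J c) → IsUnit c := by
    intro c hc
    obtain ⟨d, hd⟩ := hc.exists_right_inv
    obtain ⟨d, rfl⟩ := Ideal.Quotient.mk_surjective d
    rw [← map_mul, ← map_one (Ideal.Quotient.mk J), Ideal.Quotient.eq] at hd
    have : IsNilpotent (c * d - 1) := ⟨2, by
      have := Ideal.pow_mem_pow hd 2
      rwa [hJ, Ideal.mem_bot] at this⟩
    have := this.isUnit_add_one
    rw [sub_add_cancel] at this
    exact isUnit_of_mul_isUnit_left this
  have hM₁ : IsUnit (A₁.submatrix f g).det := by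
    rw [hA₁, Matrix.submatrix_map, ← AlgHom.mapMatrix_apply, ← AlgHom.map_det]
    exact (IsLocalization.map_units L (⟨_, hfg⟩ : P.primeCompl)).map φ
  have hM₂ : IsUnit (A₂.submatrix f g).det := hlift _ (by
    rw [RingHom.map_det, RingHom.mapMatrix_apply, ← Matrix.submatrix_map, hA₂]
    exact hM₁)
  haveI := ((Matrix.isUnit_iff_isUnit_det _).2 hM₂).invertible
  haveI := ((Matrix.isUnit_iff_isUnit_det _).2 hM₁).invertible
  let A₃ : Matrix (Fin n) (Fin m) C := A₂.submatrix id g * ⅟(A₂.submatrix f g) * A₂.submatrix f id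
  have hA₃ : A₃.map (Ideal.Quotient.mk J) = A₁ := by
    have hinv : (⅟(A₂.submatrix f g)).map (Ideal.Quotient.mk J) = ⅟(A₁.submatrix f g) := by
      refine (invOf_eq_right_inv ?_).symm
      rw [← hA₂, Matrix.submatrix_map, ← Matrix.map_mul, mul_invOf_self, Matrix.map_one _ (map_zero _) (map_one _)]
    rw [Matrix.map_mul, Matrix.map_mul, hinv, ← Matrix.submatrix_map, ← Matrix.submatrix_map, hA₂]
    refine (eq_of_minors_eq_zero A₁ f g fun f' g' => ?_).symm
    rw [hA₁, Matrix.submatrix_map, ← AlgHom.mapMatrix_apply, ← AlgHom.map_det, AlgHom.comp_apply,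
      Ideal.Quotient.mkₐ_eq_mk, (Ideal.Quotient.eq_zero_iff_mem (I := minors k n m r)).2 (Ideal.subset_span (Set.mem_range_self (f', g')) : ((gen k n m).submatrix f' g').det ∈ minors k n m r), map_zero]
  let ψ₀ : MvPolynomial (Fin n × Fin m) k →ₐ[k] C := MvPolynomial.aeval fun p => A₃ p.1 p.2
  have hψ₀ : (gen k n m).map ψ₀ = A₃ := by
    ext i j
    simp [ψ₀]
  have hker : minors k n m r ≤ RingHom.ker ψ₀ := by
    refine Ideal.span_le.2 ?_
    rintro _ ⟨⟨f', g'⟩, rfl⟩
    show ψ₀ _ = 0
    rw [AlgHom.map_det, AlgHom.mapMatrix_apply, ← Matrix.submatrix_map, hψ₀]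
    show (A₃.submatrix f' g').det = 0
    rw [Matrix.submatrix_mul _ _ f' id g' Function.bijective_id, Matrix.submatrix_mul _ _ f' id id Function.bijective_id]
    exact det_mul_eq_zero _ _
  let ψ₁ : B →ₐ[k] C := Ideal.Quotient.liftₐ (minors k n m r) ψ₀ fun x hx => hker hx
  have hψ₁ : (Ideal.Quotient.mkₐ k J).comp ψ₁ = φ.comp (IsScalarTower.toAlgHom k B L) := by
    refine Ideal.Quotient.algHom_ext k (MvPolynomial.algHom_ext fun p => ?_)
    show Ideal.Quotient.mk J (ψ₁ (Ideal.Quotient.mk _ (X p))) = _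
    show Ideal.Quotient.mk J (ψ₀ (X p)) = A₁ p.1 p.2
    rw [show ψ₀ (X p) = A₃ p.1 p.2 from MvPolynomial.aeval_X _ _]
    exact congrFun (congrFun hA₃ p.1) p.2
  have hu : ∀ y : P.primeCompl, IsUnit (ψ₁ y) := fun y => hlift _ (by
    have h := DFunLike.congr_fun hψ₁ (y : B)
    simp only [AlgHom.comp_apply, Ideal.Quotient.mkₐ_eq_mk] at h
    rw [h]
    exact (IsLocalization.map_units L y).map φ)
  refine ⟨IsLocalization.liftAlgHom (A := k) (S := L) (M := P.primeCompl) (f := ψ₁) hu, ?_⟩
  refine AlgHom.coe_ringHom_injective (IsLocalization.ringHom_ext P.primeCompl (RingHom.ext fun x => ?_))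
  show Ideal.Quotient.mk J (IsLocalization.lift hu (algebraMap B L x)) = φ (algebraMap B L x)
  rw [IsLocalization.lift_eq]
  exact DFunLike.congr_fun hψ₁ x

theorem not_formallySmooth_atPrime (hr : r < min n m) (P : Ideal (MvPolynomial (Fin n × Fin m) k ⧸ minors k n m r))
    [P.IsPrime] (hP : (CAlgX.minorIdeal (gen k n m) r).map (Ideal.Quotient.mk (minors k n m r)) ≤ P) :
    ¬ Algebra.FormallySmooth k (Localization.AtPrime P) := by
  classical
  intro hsm
  let R := MvPolynomial (Fin n × Fin m) k
  let I := minors k n m r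
  let Q := P.comap (Ideal.Quotient.mk I)
  have hIr : CAlgX.minorIdeal (gen k n m) r ≤ Q := Ideal.map_le_iff_le_comap.1 hP
  have hIQ : I ≤ Q := fun x hx => by
    show Ideal.Quotient.mk I x ∈ P
    rw [Ideal.Quotient.eq_zero_iff_mem.2 hx]
    exact zero_mem _
  let R' := Localization.AtPrime Q
  let L := Localization.AtPrime P
  letI : Algebra R' L := (Localization.localRingHom Q P (Ideal.Quotient.mk I) rfl).toAlgebra
  have hmap : ∀ x : R, algebraMap R' L (algebraMap R R' x) = algebraMap (R ⧸ I) L (Ideal.Quotient.mk I x) :=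
    fun x => Localization.localRingHom_to_map Q P (Ideal.Quotient.mk I) rfl x
  haveI : IsScalarTower k R' L := IsScalarTower.of_algebraMap_eq fun a => by
    rw [IsScalarTower.algebraMap_apply k R R', hmap, Ideal.Quotient.mk_algebraMap, ← IsScalarTower.algebraMap_apply]
  haveI : Algebra.FormallyEtale R R' := Algebra.FormallyEtale.of_isLocalization Q.primeCompl
  haveI : Algebra.FormallySmooth k R' := Algebra.FormallySmooth.comp k R R'
  haveI : IsNoetherianRing R' := IsLocalization.isNoetherianRing Q.primeCompl R' inferInstance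
  have hsurj : Function.Surjective (algebraMap R' L) := by
    intro y
    obtain ⟨x, s, rfl⟩ := IsLocalization.exists_mk'_eq P.primeCompl y
    obtain ⟨x, rfl⟩ := Ideal.Quotient.mk_surjective x
    obtain ⟨t, ht⟩ := Ideal.Quotient.mk_surjective (s : R ⧸ I)
    have htQ : t ∈ Q.primeCompl := fun h => s.2 (by rw [← ht]; exact h)
    refine ⟨IsLocalization.mk' R' x ⟨t, htQ⟩, ?_⟩
    rw [IsLocalization.eq_mk'_iff_mul_eq, ← ht, ← hmap, ← hmap, ← map_mul, IsLocalization.mk'_spec]
  have hker : RingHom.ker (algebraMap R' L) ≤ I.map (algebraMap R R') := by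
    intro z hz
    obtain ⟨x, s, rfl⟩ := IsLocalization.exists_mk'_eq Q.primeCompl z
    have h1 : algebraMap R' L (algebraMap R R' x) = 0 := by
      rw [← IsLocalization.mk'_spec R' x s, map_mul, show algebraMap R' L _ = 0 from hz, zero_mul]
    rw [hmap, IsLocalization.map_eq_zero_iff P.primeCompl] at h1
    obtain ⟨⟨c, hc⟩, hcx⟩ := h1
    obtain ⟨c, rfl⟩ := Ideal.Quotient.mk_surjective c
    rw [← map_mul, Ideal.Quotient.eq_zero_iff_mem] at hcx
    rw [IsLocalization.mk'_mem_map_algebraMap_iff]
    exact ⟨c, fun h => hc h, hcx⟩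
  have hD : ∀ g ∈ RingHom.ker (algebraMap R' L),
      KaehlerDifferential.D k R' g ∈ IsLocalRing.maximalIdeal R' • (⊤ : Submodule R' (Ω[R'⁄k])) := by
    intro g hg
    have hg' := hker hg
    have hmem : ∀ y : R, y ∈ Q → algebraMap R R' y ∈ IsLocalRing.maximalIdeal R' := fun y hy =>
      (IsLocalization.AtPrime.to_map_mem_maximal_iff R' Q y).2 hy
    have hle : I.map (algebraMap R R') ≤ IsLocalRing.maximalIdeal R' := Ideal.map_le_iff_le_comap.2 fun y hy => hmem y (hIQ hy)
    clear hg
    induction hg' using Submodule.span_induction with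
    | mem z hz =>
      obtain ⟨y, hy, rfl⟩ := hz
      induction hy using Submodule.span_induction with
      | mem y hy =>
        obtain ⟨⟨a, b⟩, rfl⟩ := hy
        rw [RingHom.map_det, RingHom.mapMatrix_apply, derivation_det]
        refine Submodule.sum_mem _ fun i _ => Submodule.sum_mem _ fun j _ => ?_
        refine Submodule.smul_mem_smul ?_ Submodule.mem_top
        rw [← RingHom.mapMatrix_apply, ← RingHom.map_adjugate, RingHom.mapMatrix_apply, Matrix.map_apply]
        exact hmem _ (hIr (adjugate_mem_minorIdeal _ (a, b) i j))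
      | zero => simp
      | add a b _ _ ha hb => rw [map_add, map_add]; exact add_mem ha hb
      | smul c a ha' ha =>
        rw [smul_eq_mul, map_mul, Derivation.leibniz]
        exact add_mem (Submodule.smul_mem _ _ ha) (Submodule.smul_mem_smul (hmem a (hIQ ha')) Submodule.mem_top)
    | zero => simp
    | add a b _ _ ha hb => rw [map_add]; exact add_mem ha hb
    | smul c a ha' ha =>
      rw [smul_eq_mul, Derivation.leibniz]
      exact add_mem (Submodule.smul_mem _ _ ha) (Submodule.smul_mem_smul (hle ha') Submodule.mem_top)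
  have h0 := eq_bot_of_smooth hsurj (RingHom.ker_ne_top _) hD
  have hn : r + 1 ≤ n := (Nat.succ_le_of_lt hr).trans (min_le_left _ _)
  have hm : r + 1 ≤ m := (Nat.succ_le_of_lt hr).trans (min_le_right _ _)
  set δ : R := ((gen k n m).submatrix (Fin.castLE hn) (Fin.castLE hm)).det
  have hδI : δ ∈ I := Ideal.subset_span ⟨(Fin.castLE hn, Fin.castLE hm), rfl⟩
  have h1 : algebraMap R R' δ ∈ RingHom.ker (algebraMap R' L) := by
    rw [RingHom.mem_ker, hmap, Ideal.Quotient.eq_zero_iff_mem.2 hδI, map_zero]
  rw [h0, Ideal.mem_bot] at h1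
  have h2 : δ = 0 := IsLocalization.injective R' Q.primeCompl_le_nonZeroDivisors (h1.trans (map_zero _).symm)
  have h3 := congrArg (MvPolynomial.aeval (R := k) fun p : Fin n × Fin m => if (p.1 : ℕ) = p.2 then (1 : k) else 0) h2
  rw [map_zero, AlgHom.map_det] at h3
  have h4 : (MvPolynomial.aeval (R := k) fun p : Fin n × Fin m => if (p.1 : ℕ) = p.2 then (1 : k) else 0).mapMatrix
      ((gen k n m).submatrix (Fin.castLE hn) (Fin.castLE hm)) = 1 := by
    ext i j
    simp [Matrix.one_apply, Fin.val_inj]
  rw [h4, Matrix.det_one] at h3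
  exact one_ne_zero h3

end main

end Groth.L03.DetSmooth
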