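import Groth.Prelude.Def_Found
import Mathlib.Algebra.DirectSum.Module
import Mathlib.Order.SuccPred.Limit
import Mathlib.Order.SuccPred.Basic
import Mathlib.Order.WithBot
import Mathlib.SetTheory.Cardinal.Order
import Mathlib.LinearAlgebra.DFinsupp
import Mathlib.Data.Finset.Max
import Mathlib.LinearAlgebra.Quotient.Basic

/-!
Direct sum dévissages.
-/

set_option autoImplicit false

universe u

namespace Groth.L03.Devissage

variable {R : Type u} [CommRing R] {M : Type u} [AddCommGroup M] [Module R M]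

section

variable {S : Type u} [LinearOrder S] [WellFoundedLT S] (Mf : S → Submodule R M) (hmono : Monotone Mf)
  (C : {p : S × S // p.1 ⋖ p.2} → Submodule R M)
  (hC : ∀ p, Mf p.1.1 ⊓ C p = ⊥ ∧ Mf p.1.1 ⊔ C p = Mf p.1.2)

include hmono hC in
/-- The chosen complements form an internal direct sum decomposition. -/
theorem isInternal [DecidableEq {p : S × S // p.1 ⋖ p.2}] (hlim : ∀ s : S, Order.IsSuccPrelimit s → Mf s = ⨆ t : {t : S // t < s}, Mf t.1)
    (htop : (⨆ s, Mf s) = ⊤) : DirectSum.IsInternal C := by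
  classical
  have hle : ∀ p, C p ≤ Mf p.1.2 := fun p => le_sup_right.trans (hC p).2.le
  have hspan : ∀ t, Mf t ≤ ⨆ p, C p := fun t => by
    induction t using (wellFounded_lt (α := S)).induction with
    | _ t ih =>
      by_cases ht : Order.IsSuccPrelimit t
      · rw [hlim t ht]
        exact iSup_le fun s => ih s.1 s.2
      · obtain ⟨s, hs⟩ := Order.not_isSuccPrelimit_iff.1 ht
        rw [← (hC ⟨(s, t), hs⟩).2]
        exact sup_le (ih s hs.lt) (le_iSup C _)
  refine ⟨(injective_iff_map_eq_zero (DirectSum.coeLinearMap C)).2 fun x hx => ?_, fun m => ?_⟩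
  · by_contra hne
    have hsupp : (DFinsupp.support x).Nonempty := by
      rw [Finset.nonempty_iff_ne_empty]; exact fun h => hne (DFinsupp.support_eq_empty.1 h)
    obtain ⟨p, hp, hmax⟩ := Finset.exists_max_image (DFinsupp.support x) (fun p => p.1.2) hsupp
    have hsum : ∑ q ∈ DFinsupp.support x, (x q : M) = 0 := by
      rw [← hx, DirectSum.coeLinearMap_eq_dfinsuppSum]; rfl
    rw [← Finset.add_sum_erase _ _ hp] at hsum
    have hrest : ∑ q ∈ (DFinsupp.support x).erase p, (x q : M) ∈ Mf p.1.1 := by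
      refine Submodule.sum_mem _ fun q hq => ?_
      obtain ⟨hqp, hq⟩ := Finset.mem_erase.1 hq
      refine hmono (?_ : q.1.2 ≤ p.1.1) (hle q (x q).2)
      have hlt : q.1.2 < p.1.2 := (hmax q hq).lt_of_ne fun h => hqp (Subtype.ext (Prod.ext ?_ h))
      · exact le_of_not_gt fun h => p.2.2 h hlt
      · have h1 : q.1.1 ⋖ p.1.2 := h ▸ q.2
        exact le_antisymm (le_of_not_gt fun h' => p.2.2 h' h1.lt) (le_of_not_gt fun h' => h1.2 h' p.2.lt)
    have h0 : (x p : M) ∈ Mf p.1.1 ⊓ C p := by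
      refine ⟨?_, (x p).2⟩
      rw [eq_neg_of_add_eq_zero_left hsum]
      exact neg_mem hrest
    rw [(hC p).1, Submodule.mem_bot] at h0
    exact (DFinsupp.mem_support_iff.1 hp) (Subtype.ext h0)
  · have hm : m ∈ ⨆ p, C p := (htop ▸ iSup_le hspan : (⊤ : Submodule R M) ≤ _) trivial
    rw [← DirectSum.range_coeLinearMap] at hm
    exact hm

include hC in
theorem nonempty_quot_equiv (p : {p : S × S // p.1 ⋖ p.2}) :
    Nonempty (C p ≃ₗ[R] ↥(Mf p.1.2) ⧸ Submodule.comap (Mf p.1.2).subtype (Mf p.1.1)) := by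
  have hle : C p ≤ Mf p.1.2 := le_sup_right.trans (hC p).2.le
  refine ⟨LinearEquiv.ofBijective ((Submodule.mkQ _) ∘ₗ Submodule.inclusion hle) ⟨?_, fun z => ?_⟩⟩
  · refine (injective_iff_map_eq_zero _).2 fun c hc => Subtype.ext ?_
    have h : (c : M) ∈ Mf p.1.1 := (Submodule.Quotient.mk_eq_zero (Submodule.comap (Mf p.1.2).subtype (Mf p.1.1))).1 hc
    have := (hC p).1.le ⟨h, c.2⟩
    exact (Submodule.mem_bot R).1 this
  · obtain ⟨⟨m, hm⟩, rfl⟩ := Submodule.Quotient.mk_surjective _ z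
    obtain ⟨a, ha, c, hc, rfl⟩ := Submodule.mem_sup.1 ((hC p).2.ge hm)
    exact ⟨⟨c, hc⟩, (Submodule.Quotient.eq _).2 (show c - (a + c) ∈ Mf p.1.1 by rw [sub_add_cancel_right]; exact neg_mem ha)⟩

end

omit [AddCommGroup M] [Module R M] in
theorem cg_of_surjective {N P : Type u} [AddCommGroup N] [Module R N] [AddCommGroup P] [Module R P]
    (f : N →ₗ[R] P) (hf : Function.Surjective f) (h : CAlg.IsCountablyGenerated R N) :
    CAlg.IsCountablyGenerated R P := by
  obtain ⟨s, hs, hspan⟩ := h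
  exact ⟨f '' s, hs.image f, by rw [Submodule.span_image, hspan, Submodule.map_top, LinearMap.range_eq_top.2 hf]⟩

/-- A decomposition indexed by a well ordered set gives a dévissage. -/
theorem exists_devissage (ι : Type u) [DecidableEq ι] (N : ι → Submodule R M) (hN : DirectSum.IsInternal N)
    (hcg : ∀ i, CAlg.IsCountablyGenerated R (N i)) :
    ∃ (S : Type u) (_ : LinearOrder S) (_ : WellFoundedLT S) (Mf : S → Submodule R M), Monotone Mf ∧
      (∀ s : S, Order.IsSuccPrelimit s → Mf s = ⨆ t : {t : S // t < s}, Mf t.1) ∧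
      (⨆ s, Mf s) = ⊤ ∧
      (∀ s t : S, s ⋖ t → ∃ C : Submodule R M, Mf s ⊓ C = ⊥ ∧ Mf s ⊔ C = Mf t ∧
        CAlg.IsCountablyGenerated R (↥(Mf t) ⧸ Submodule.comap (Mf t).subtype (Mf s))) := by
  classical
  obtain ⟨_, _⟩ := exists_wellFoundedLT ι
  let Mf : WithTop ι → Submodule R M := fun s => ⨆ (i : ι) (_ : (i : WithTop ι) < s), N i
  have hN' := hN.submodule_iSupIndep
  have hmono : Monotone Mf := fun s t hst => iSup₂_le fun i hi => le_iSup₂_of_le i (hi.trans_le hst) le_rfl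
  refine ⟨WithTop ι, inferInstance, inferInstance, Mf, hmono, fun s hs => ?_, ?_, fun s t hst => ?_⟩
  · refine le_antisymm (iSup₂_le fun i hi => ?_) (iSup_le fun t => hmono t.2.le)
    obtain ⟨t, hit, hts⟩ : ∃ t, (i : WithTop ι) < t ∧ t < s := by
      by_contra hcon
      exact hs (i : WithTop ι) ⟨hi, fun t h1 h2 => hcon ⟨t, h1, h2⟩⟩
    exact (le_iSup₂_of_le i hit le_rfl : N i ≤ Mf t).trans (le_iSup (fun t : {t // t < s} => Mf t.1) ⟨t, hts⟩)
  · refine top_le_iff.1 (hN.submodule_iSup_eq_top.ge.trans (iSup_le fun i => le_iSup_of_le ⊤ ?_))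
    exact le_iSup₂_of_le i (WithTop.coe_lt_top i) le_rfl
  · obtain ⟨i, rfl⟩ := WithTop.ne_top_iff_exists.1 (ne_top_of_lt hst.lt)
    have hdis : Mf i ⊓ N i = ⊥ := by
      refine (hN' i).symm.mono_left ?_ |>.eq_bot
      exact iSup₂_le fun j hj => le_iSup₂_of_le j (fun h => (h ▸ hj).false) le_rfl
    have hsup : Mf i ⊔ N i = Mf t := by
      refine le_antisymm (sup_le (hmono hst.lt.le) (le_iSup₂_of_le i hst.lt le_rfl)) (iSup₂_le fun j hj => ?_)
      rcases lt_trichotomy (j : WithTop ι) i with h | h | h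
      · exact le_sup_of_le_left (le_iSup₂_of_le j h le_rfl)
      · rw [WithTop.coe_injective h]; exact le_sup_right
      · exact absurd hj (hst.2 h)
    have hle : N i ≤ Mf t := le_sup_right.trans hsup.le
    refine ⟨N i, hdis, hsup, cg_of_surjective
      ((Submodule.comap (Mf t).subtype (Mf i)).mkQ ∘ₗ Submodule.inclusion hle) (fun z => ?_) (hcg i)⟩
    obtain ⟨⟨m, hm⟩, rfl⟩ := Submodule.Quotient.mk_surjective _ z
    obtain ⟨a, ha, c, hc, rfl⟩ := Submodule.mem_sup.1 (hsup.ge hm)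
    exact ⟨⟨c, hc⟩, (Submodule.Quotient.eq _).2 (show c - (a + c) ∈ Mf i by rw [sub_add_cancel_right]; exact neg_mem ha)⟩

end Groth.L03.Devissage
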