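import Groth.Prelude.Def_Wider
import Groth.Prelude.Def_DRing2
import Mathlib.Algebra.Homology.DerivedCategory.KProjective
import Mathlib.Algebra.Homology.DerivedCategory.SingleTriangle
import Mathlib.Algebra.Homology.HomotopyCategory.HomComplexSingle
import Mathlib.Algebra.Homology.HomotopyCategory.HomComplexCohomology
import Mathlib.Algebra.Category.ModuleCat.Projective
import Mathlib.RingTheory.Filtration

/-!
`Hom_{D(A)}(K, M[i])` for `K` represented by a K-projective complex `E`, as classes of linear maps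
`E^p → M` with `p + i = 0`, and Artin–Rees for them.
-/

set_option autoImplicit false
universe u

open CategoryTheory CategoryTheory.Limits CochainComplex.HomComplex

attribute [local instance] HasDerivedCategory.standard

set_option backward.isDefEq.respectTransparency false

namespace Groth.L03.ExtPC

variable {A : Type u} [CommRing A]

/-- Modules in degree zero. -/
noncomputable abbrev sg (A : Type u) [CommRing A] : ModuleCat.{u} A ⥤ Dual.D A :=
  DerivedCategory.singleFunctor (ModuleCat.{u} A) 0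

lemma Q_map_eq_zero_iff {E L : CochainComplex (ModuleCat.{u} A) ℤ} [E.IsKProjective] (f : E ⟶ L) :
    DerivedCategory.Q.map f = 0 ↔ (HomotopyCategory.quotient _ _).map f = 0 := by
  have h := (DerivedCategory.quotientCompQhIso (ModuleCat.{u} A)).hom.naturality f
  simp only [Functor.comp_map] at h
  constructor
  · intro hf
    rw [hf, comp_zero] at h
    refine (CochainComplex.IsKProjective.Qh_map_bijective E ((HomotopyCategory.quotient _ _).obj L)).1 ?_
    rw [Functor.map_zero]
    exact (cancel_mono ((DerivedCategory.quotientCompQhIso _).hom.app L)).1 (h.trans zero_comp.symm)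
  · intro hf
    rw [hf, Functor.map_zero, zero_comp] at h
    exact (cancel_epi ((DerivedCategory.quotientCompQhIso _).hom.app E)).1 (h.symm.trans comp_zero.symm)

lemma Q_map_surjective {E L : CochainComplex (ModuleCat.{u} A) ℤ} [E.IsKProjective]
    (φ : DerivedCategory.Q.obj E ⟶ DerivedCategory.Q.obj L) : ∃ f : E ⟶ L, DerivedCategory.Q.map f = φ := by
  obtain ⟨k, hk⟩ := (CochainComplex.IsKProjective.Qh_map_bijective E
    ((HomotopyCategory.quotient _ _).obj L)).surjective
    ((DerivedCategory.quotientCompQhIso _).hom.app E ≫ φ ≫ (DerivedCategory.quotientCompQhIso _).inv.app L)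
  obtain ⟨f, rfl⟩ := (HomotopyCategory.quotient _ _).map_surjective k
  refine ⟨f, ?_⟩
  have h := (DerivedCategory.quotientCompQhIso (ModuleCat.{u} A)).hom.naturality f
  simp only [Functor.comp_map] at h
  rw [hk] at h
  rw [← cancel_epi ((DerivedCategory.quotientCompQhIso _).hom.app E)]
  simpa using h.symm

variable (E : CochainComplex (ModuleCat.{u} A) ℤ) {K : Dual.D A} (eK : DerivedCategory.Q.obj E ≅ K)
  (i p : ℤ) (hp : p + i = 0) (M N : Type u) [AddCommGroup M] [Module A M] [AddCommGroup N] [Module A N]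

/-- `p`-cochains killed by the differential. -/
def Z : Submodule A (E.X p →ₗ[A] M) := LinearMap.ker (LinearMap.lcomp A M (E.d (p - 1) p).hom)

lemma mem_Z (α : E.X p →ₗ[A] M) : α ∈ Z E p M ↔ α ∘ₗ (E.d (p - 1) p).hom = 0 := Iff.rfl

/-- Single functor comparison. -/
noncomputable def e0 : sg A ≅ CochainComplex.singleFunctor (ModuleCat.{u} A) 0 ⋙ DerivedCategory.Q :=
  (SingleFunctors.evaluation _ _ 0).mapIso (DerivedCategory.singleFunctorsPostcompQIso (ModuleCat.{u} A))

variable {M N}

/-- The chain map of a cocycle. -/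
noncomputable def chain (α : Z E p M) :
    E ⟶ ((CochainComplex.singleFunctor (ModuleCat.{u} A) 0).obj (ModuleCat.of A M))⟦i⟧ :=
  Cocycle.equivHomShift.symm (Cocycle.toSingleMk (ModuleCat.ofHom (α : E.X p →ₗ[A] M)) hp (p - 1)
    (sub_add_cancel p 1) (ModuleCat.hom_ext ((mem_Z E p M _).mp α.2)))

/-- The class in `Hom_{D(A)}(K, M[i])` of a cocycle. -/
noncomputable def cls (α : Z E p M) : K ⟶ (Dual.inD A M)⟦i⟧ :=
  eK.inv ≫ DerivedCategory.Q.map (chain E i p hp α) ≫
    (DerivedCategory.Q.commShiftIso i).hom.app _ ≫ ((e0 (A := A)).inv.app (ModuleCat.of A M))⟦i⟧'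

/-- Postcomposition on cocycles. -/
def zmap (g : M →ₗ[A] N) (α : Z E p M) : Z E p N :=
  ⟨g ∘ₗ α, by rw [mem_Z, LinearMap.comp_assoc, (mem_Z E p M _).mp α.2, LinearMap.comp_zero]⟩

lemma chain_natural (g : M →ₗ[A] N) (α : Z E p M) :
    chain E i p hp (zmap E p g α) = chain E i p hp α ≫
      ((CochainComplex.singleFunctor (ModuleCat.{u} A) 0).map (ModuleCat.ofHom g))⟦i⟧' := by
  unfold chain
  rw [← Cocycle.equivHomShift_symm_postcomp, ← Cocycle.toSingleMk_postcomp]
  rfl

lemma cls_natural (g : M →ₗ[A] N) (α : Z E p M) :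
    cls E eK i p hp (zmap E p g α) =
      cls E eK i p hp α ≫ ((sg A).map (ModuleCat.ofHom g))⟦i⟧' := by
  unfold cls
  rw [chain_natural, Functor.map_comp]
  simp only [Category.assoc]
  congr 2
  rw [← Functor.map_comp, ← (e0 (A := A)).inv.naturality, Functor.map_comp]
  exact (DerivedCategory.Q.commShiftIso i).hom.naturality_assoc
    ((CochainComplex.singleFunctor (ModuleCat.{u} A) 0).map (ModuleCat.ofHom g)) _

lemma cls_add (α β : Z E p M) :
    cls E eK i p hp (α + β) = cls E eK i p hp α + cls E eK i p hp β := by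
  have h : chain E i p hp (α + β) = chain E i p hp α + chain E i p hp β := by
    unfold chain
    rw [← map_add, ← Cocycle.toSingleMk_add]
    rfl
  unfold cls
  rw [h, Functor.map_add, Preadditive.add_comp, Preadditive.comp_add]

lemma cls_smul (a : A) (α : Z E p M) : cls E eK i p hp (a • α) = a • cls E eK i p hp α := by
  have h : a • α = zmap E p (a • LinearMap.id) α := Subtype.ext rfl
  rw [h, cls_natural, show ModuleCat.ofHom (a • (LinearMap.id : M →ₗ[A] M)) = a • 𝟙 (ModuleCat.of A M) from rfl,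
    Functor.map_smul, CategoryTheory.Functor.map_id, Functor.map_smul, CategoryTheory.Functor.map_id,
    Linear.comp_smul, Category.comp_id]

/-- The class map. -/
noncomputable def clsL : Z E p M →ₗ[A] (K ⟶ (Dual.inD A M)⟦i⟧) where
  toFun := cls E eK i p hp
  map_add' := cls_add E eK i p hp
  map_smul' := cls_smul E eK i p hp

variable [E.IsKProjective]

lemma cls_eq_zero_iff (α : Z E p M) :
    cls E eK i p hp α = 0 ↔ ∃ β : E.X (p + 1) →ₗ[A] M, β ∘ₗ (E.d p (p + 1)).hom = α.1 := by
  have h1 : cls E eK i p hp α = 0 ↔ DerivedCategory.Q.map (chain E i p hp α) = 0 := by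
    unfold cls
    constructor
    · intro h
      rw [← cancel_epi eK.inv, comp_zero,
        ← cancel_mono ((DerivedCategory.Q.commShiftIso i).hom.app _ ≫ ((e0 (A := A)).inv.app (ModuleCat.of A M))⟦i⟧'),
        Category.assoc, zero_comp]
      exact h
    · intro h; rw [h]; simp
  rw [h1, Q_map_eq_zero_iff, chain, ← CohomologyClass.toHom_mk, CohomologyClass.toHom_mk_eq_zero_iff,
    Cocycle.toSingleMk_mem_coboundaries_iff _ _ _ _ _ (p + 1) rfl]
  constructor
  · rintro ⟨g, hg⟩; exact ⟨g.hom, congrArg ModuleCat.Hom.hom hg⟩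
  · rintro ⟨β, hβ⟩; exact ⟨ModuleCat.ofHom β, ModuleCat.hom_ext hβ⟩

lemma cls_surjective (φ : K ⟶ (Dual.inD A M)⟦i⟧) : ∃ α : Z E p M, cls E eK i p hp α = φ := by
  obtain ⟨f, hf⟩ := Q_map_surjective (eK.hom ≫ φ ≫ ((e0 (A := A)).hom.app (ModuleCat.of A M))⟦i⟧' ≫
    (DerivedCategory.Q.commShiftIso i).inv.app _)
  obtain ⟨g, hg, hgz⟩ := Cocycle.toSingleMk_surjective (Cocycle.equivHomShift f) p hp (p - 1) (sub_add_cancel p 1)
  refine ⟨⟨g.hom, (mem_Z E p M _).mpr (congrArg ModuleCat.Hom.hom hg)⟩, ?_⟩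
  have hc : chain E i p hp (⟨g.hom, (mem_Z E p M _).mpr (congrArg ModuleCat.Hom.hom hg)⟩ : Z E p M) = f :=
    (AddEquiv.symm_apply_eq _).mpr hgz
  unfold cls
  rw [hc, hf]
  simp only [Category.assoc, Iso.inv_hom_id_app_assoc, Iso.inv_hom_id_assoc]
  rw [← Functor.map_comp, Iso.hom_inv_id_app, CategoryTheory.Functor.map_id, Category.comp_id]

/-- The class map is surjective. -/
lemma range_clsL : LinearMap.range (clsL E eK i p hp (M := M)) = ⊤ :=
  LinearMap.range_eq_top.mpr (cls_surjective E eK i p hp)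

omit [E.IsKProjective] in
/-- Cochains with values in `J • M` lie in `J • Hom`. -/
lemma mem_smul_hom {P : Type u} [AddCommGroup P] [Module A P] [Module.Finite A P] [Module.Free A P]
    (J : Ideal A) (α : P →ₗ[A] M) (h : ∀ x, α x ∈ J • (⊤ : Submodule A M)) :
    α ∈ J • (⊤ : Submodule A (P →ₗ[A] M)) := by
  classical
  let b := Module.Free.chooseBasis A P
  have hα : α = ∑ j, (b.coord j).smulRight (α (b j)) := b.ext fun k => by
    rw [LinearMap.sum_apply, Finset.sum_eq_single k]
    · simp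
    · intro j _ hj; simp [hj]
    · simp
  rw [hα]
  refine Submodule.sum_mem _ fun j _ => ?_
  let L : M →ₗ[A] (P →ₗ[A] M) := LinearMap.smulRightₗ (b.coord j)
  have := Submodule.mem_map_of_mem (f := L) (h (b j))
  rw [Submodule.map_smul''] at this
  exact Submodule.smul_mono le_rfl le_top this

variable [IsNoetherianRing A] [Module.Finite A M] [Module.Finite A (E.X p)] [Module.Free A (E.X p)]

/-- Artin–Rees: classes of cochains with values in `Iⁿ M` lie in `I^(n-c) Ext`. -/
theorem exists_mem_smul (I : Ideal A) :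
    ∃ c : ℕ, ∀ n, c ≤ n → ∀ α : Z E p M, (∀ x, α.1 x ∈ I ^ n • (⊤ : Submodule A M)) →
      cls E eK i p hp α ∈ (I ^ (n - c) • ⊤ : Submodule A (K ⟶ (Dual.inD A M)⟦i⟧)) := by
  obtain ⟨c, hc⟩ := Ideal.exists_pow_inf_eq_pow_smul I (Z E p M)
  refine ⟨c, fun n hn α hα => ?_⟩
  have h1 : α.1 ∈ I ^ n • (⊤ : Submodule A (E.X p →ₗ[A] M)) ⊓ Z E p M := ⟨mem_smul_hom _ _ hα, α.2⟩
  rw [hc n hn] at h1
  have h2 : α.1 ∈ I ^ (n - c) • Submodule.map (Z E p M).subtype ⊤ := by
    rw [Submodule.map_top, Submodule.range_subtype]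
    exact Submodule.smul_mono le_rfl inf_le_right h1
  rw [← Submodule.map_smul''] at h2
  obtain ⟨α', hα', he⟩ := h2
  obtain rfl : α' = α := Subtype.ext he
  have h3 := Submodule.mem_map_of_mem (f := clsL E eK i p hp) hα'
  rw [Submodule.map_smul'', Submodule.map_top, range_clsL] at h3
  exact h3

include eK hp in
/-- If `Ext^i(K, M)` is `I`-power torsion, cocycles with values in `Iⁿ M` are coboundaries for large `n`. -/
theorem exists_coboundary (I : Ideal A)
    (htors : ∀ e : K ⟶ (Dual.inD A M)⟦i⟧, ∃ n : ℕ, ∀ x ∈ I ^ n, x • e = 0) :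
    ∃ n₀ : ℕ, ∀ n, n₀ ≤ n → ∀ α : Z E p M, (∀ x, α.1 x ∈ I ^ n • (⊤ : Submodule A M)) →
      ∃ β : E.X (p + 1) →ₗ[A] M, β ∘ₗ (E.d p (p + 1)).hom = α.1 := by
  obtain ⟨c, hc⟩ := exists_mem_smul E eK i p hp (M := M) I
  obtain ⟨s, hs⟩ := (IsNoetherian.noetherian (⊤ : Submodule A (Z E p M)))
  choose N hN using htors
  refine ⟨c + s.sup fun α => N (cls E eK i p hp α), fun n hn α hα => ?_⟩
  rw [← cls_eq_zero_iff E eK i p hp]
  have h := hc n (by omega) α hα
  suffices h0 : (I ^ (n - c) • ⊤ : Submodule A (K ⟶ (Dual.inD A M)⟦i⟧)) = ⊥ by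
    rw [h0] at h; exact (Submodule.mem_bot A).mp h
  rw [eq_bot_iff, Submodule.smul_le]
  intro r hr e he
  clear he
  obtain ⟨β, rfl⟩ := cls_surjective E eK i p hp e
  have hβ : β ∈ Submodule.span A (s : Set (Z E p M)) := hs ▸ Submodule.mem_top
  induction hβ using Submodule.span_induction with
  | mem x hx =>
    rw [Submodule.mem_bot]
    refine hN _ r (Ideal.pow_le_pow_right ?_ hr)
    have := Finset.le_sup (f := fun α => N (cls E eK i p hp α)) hx
    omega
  | zero =>
    rw [Submodule.mem_bot, show cls E eK i p hp 0 = clsL E eK i p hp 0 from rfl, map_zero, smul_zero]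
  | add x y _ _ hx hy =>
    rw [Submodule.mem_bot] at hx hy ⊢
    rw [cls_add, smul_add, hx, hy, add_zero]
  | smul a x _ hx =>
    rw [Submodule.mem_bot] at hx ⊢
    rw [cls_smul, smul_comm, hx, smul_zero]

end Groth.L03.ExtPC
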