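import Groth.Agent.L03.WeakAss
import Groth.Agent.L20.FiberAss
import Mathlib.RingTheory.Localization.BaseChange
import Mathlib.LinearAlgebra.TensorProduct.Quotient
import Mathlib.LinearAlgebra.TensorProduct.RightExactness
import Mathlib.RingTheory.Flat.Basic
import Mathlib.RingTheory.TensorProduct.DirectLimitFG
import Mathlib.RingTheory.Ideal.AssociatedPrime.Finiteness

/-!
Associated primes of `N ⊗ M` and of fibre modules (`FlatCA.ass`).
-/

set_option autoImplicit false
set_option linter.style.haveILetI false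

universe u

open TensorProduct

noncomputable section

namespace Groth.L03.FibreAss

open Groth.L03.WeakAss (annE mem_annE annE_map_of_injective ass_subset_of_injective)

variable {R S : Type u} [CommRing R] [CommRing S] [Algebra R S]
  (N : Type u) [AddCommGroup N] [Module S N] [Module R N] [IsScalarTower R S N]
  (p : Ideal R) [p.IsPrime]

/-- The map `R/p → κ(p)`. -/
abbrev jmap : (R ⧸ p) →ₗ[R] p.ResidueField := (IsScalarTower.toAlgHom R (R ⧸ p) p.ResidueField).toLinearMap

instance isLocalizedModule_jmap : IsLocalizedModule p.primeCompl (jmap p) where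
  map_units s := by
    rw [Module.End.isUnit_iff]
    have hs : algebraMap R p.ResidueField s ≠ 0 := fun h => s.2 (Ideal.algebraMap_residueField_eq_zero.1 h)
    have h : ⇑(algebraMap R (Module.End R p.ResidueField) s) = fun c => algebraMap R p.ResidueField s * c :=
      funext fun c => Algebra.smul_def (s : R) c
    rw [h]
    exact mulLeft_bijective₀ _ hs
  surj c := by
    obtain ⟨a, b, hb, rfl⟩ := IsFractionRing.div_surjective (R ⧸ p) c
    obtain ⟨b, rfl⟩ := Ideal.Quotient.mk_surjective b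
    refine ⟨(a, ⟨b, fun h => nonZeroDivisors.ne_zero hb (Ideal.Quotient.eq_zero_iff_mem.2 h)⟩), ?_⟩
    show b • (algebraMap (R ⧸ p) p.ResidueField a / algebraMap (R ⧸ p) p.ResidueField (Ideal.Quotient.mk p b)) =
      algebraMap (R ⧸ p) p.ResidueField a
    rw [Algebra.smul_def, IsScalarTower.algebraMap_apply R (R ⧸ p) p.ResidueField, Ideal.Quotient.algebraMap_eq]
    exact mul_div_cancel₀ _ (IsFractionRing.to_map_ne_zero_of_mem_nonZeroDivisors hb)
  exists_of_eq {x y} h := ⟨1, by
    rw [one_smul, one_smul]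
    exact IsFractionRing.injective (R ⧸ p) p.ResidueField h⟩

/-- The map `N ⊗ R/p → N ⊗ κ(p)`. -/
abbrev toFibre : N ⊗[R] (R ⧸ p) →ₗ[S] N ⊗[R] p.ResidueField :=
  TensorProduct.AlgebraTensorModule.lTensor S N (jmap p)

theorem toFibre_comm (z : (R ⧸ p) ⊗[R] N) :
    toFibre (S := S) N p (TensorProduct.comm R _ _ z) =
      TensorProduct.comm R _ _ (TensorProduct.AlgebraTensorModule.rTensor R N (jmap p) z) := by
  induction z using TensorProduct.induction_on with
  | zero => simp
  | add a b ha hb => simp only [map_add, ha, hb]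
  | tmul a b => rfl

theorem smul_fibre_injective {s : R} (hs : s ∉ p) {z : N ⊗[R] p.ResidueField} (h : s • z = 0) : z = 0 := by
  obtain ⟨w, rfl⟩ := (TensorProduct.comm R p.ResidueField N).surjective z
  have hb := (Module.End.isUnit_iff _).1 (IsLocalizedModule.map_units
    (f := TensorProduct.AlgebraTensorModule.rTensor R N (jmap p)) (⟨s, hs⟩ : p.primeCompl))
  rw [← map_smul, LinearEquiv.map_eq_zero_iff] at h
  have hw : w = 0 := hb.1 (show s • w = s • (0 : p.ResidueField ⊗[R] N) by rw [smul_zero, h])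
  rw [hw, map_zero]

theorem exists_smul_eq (z : N ⊗[R] p.ResidueField) :
    ∃ s : R, s ∉ p ∧ ∃ m, s • z = toFibre (S := S) N p m := by
  obtain ⟨w, rfl⟩ := (TensorProduct.comm R p.ResidueField N).surjective z
  obtain ⟨⟨m, s⟩, hm⟩ := IsLocalizedModule.surj p.primeCompl
    (TensorProduct.AlgebraTensorModule.rTensor R N (jmap p)) w
  exact ⟨s, s.2, TensorProduct.comm R _ _ m, by rw [toFibre_comm, ← hm, ← map_smul]; rfl⟩

theorem exists_smul_eq_zero {m : N ⊗[R] (R ⧸ p)} (h : toFibre (S := S) N p m = 0) :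
    ∃ s : R, s ∉ p ∧ s • m = 0 := by
  obtain ⟨w, rfl⟩ := (TensorProduct.comm R (R ⧸ p) N).surjective m
  rw [toFibre_comm, LinearEquiv.map_eq_zero_iff] at h
  obtain ⟨s, hs⟩ := IsLocalizedModule.exists_of_eq (S := p.primeCompl)
    (f := TensorProduct.AlgebraTensorModule.rTensor R N (jmap p)) (x₁ := w) (x₂ := 0) (by rw [h, map_zero])
  exact ⟨s, s.2, by rw [← map_smul, show (s : R) • w = 0 by simpa [Submonoid.smul_def] using hs, map_zero]⟩

theorem toFibre_injective [Module.Flat R N] : Function.Injective (toFibre (S := S) N p) :=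
  Module.Flat.lTensor_preserves_injective_linearMap (jmap p) (IsFractionRing.injective (R ⧸ p) p.ResidueField)

/-- `N/pN ≅ N ⊗ R/p` over `S`. -/
theorem nonempty_quotEquiv : Nonempty ((N ⧸ (p.map (algebraMap R S)) • (⊤ : Submodule S N)) ≃ₗ[S] N ⊗[R] (R ⧸ p)) := by
  let P := (p.map (algebraMap R S)) • (⊤ : Submodule S N)
  have hP : ∀ n : N, n ∈ P ↔ n ∈ p • (⊤ : Submodule R N) := fun n => by
    rw [← Submodule.restrictScalars_mem R P, Ideal.smul_restrictScalars, Submodule.restrictScalars_top]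
  let f : N →ₗ[S] N ⊗[R] (R ⧸ p) := (TensorProduct.AlgebraTensorModule.mk R S N (R ⧸ p)).flip 1
  have hf : ∀ n, tensorQuotEquivQuotSMul N p (f n) = Submodule.Quotient.mk n := fun n => by
    show tensorQuotEquivQuotSMul N p (n ⊗ₜ[R] Ideal.Quotient.mk p 1) = _
    rw [tensorQuotEquivQuotSMul_tmul_mk, one_smul]
  have hker : LinearMap.ker f = P := Submodule.ext fun n => by
    rw [LinearMap.mem_ker, hP, ← LinearEquiv.map_eq_zero_iff (tensorQuotEquivQuotSMul N p), hf,
      Submodule.Quotient.mk_eq_zero]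
  have hsurj : Function.Surjective f := fun z => by
    obtain ⟨n, hn⟩ := Submodule.Quotient.mk_surjective _ (tensorQuotEquivQuotSMul N p z)
    exact ⟨n, (tensorQuotEquivQuotSMul N p).injective (by rw [hf, hn])⟩
  exact ⟨(Submodule.quotEquivOfEq _ _ hker.symm).trans (f.quotKerEquivOfSurjective hsurj)⟩

theorem ass_quotient_eq :
    FlatCA.ass S (N ⧸ (p.map (algebraMap R S)) • (⊤ : Submodule S N)) = FlatCA.ass S (N ⊗[R] (R ⧸ p)) := by
  obtain ⟨e⟩ := nonempty_quotEquiv (S := S) N p
  exact Set.Subset.antisymm (ass_subset_of_injective e.toLinearMap e.injective)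
    (ass_subset_of_injective e.symm.toLinearMap e.symm.injective)

theorem ass_fiberMod_eq :
    FlatCA.ass S (FlatCA.fiberMod p S N) = FlatCA.ass S (N ⊗[R] p.ResidueField) :=
  Set.Subset.antisymm (ass_subset_of_injective _ (Groth.L20.fiberModEquiv p S N).injective)
    (ass_subset_of_injective _ (Groth.L20.fiberModEquiv p S N).symm.injective)

omit [p.IsPrime] in
theorem le_comap_of_mem_ass_tensor {q : Ideal S} (hq : q ∈ FlatCA.ass S (N ⊗[R] (R ⧸ p))) :
    p ≤ q.comap (algebraMap R S) := by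
  obtain ⟨-, z, rfl⟩ := hq
  intro a ha
  refine (Ideal.mem_comap.2 (mem_annE.2 ?_))
  rw [algebraMap_smul]
  induction z using TensorProduct.induction_on with
  | zero => rw [smul_zero]
  | add x y hx hy => rw [smul_add, hx, hy, add_zero]
  | tmul n c =>
    obtain ⟨c, rfl⟩ := Ideal.Quotient.mk_surjective c
    rw [← TensorProduct.tmul_smul, ← Ideal.Quotient.mk_eq_mk, ← Submodule.Quotient.mk_smul,
      (Submodule.Quotient.mk_eq_zero p).2 (show a • c ∈ p from p.mul_mem_right c ha), TensorProduct.tmul_zero]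

theorem mem_ass_fibre_of_mem_ass_tensor {q : Ideal S} (hq : q.comap (algebraMap R S) = p)
    (h : q ∈ FlatCA.ass S (N ⊗[R] (R ⧸ p))) : q ∈ FlatCA.ass S (N ⊗[R] p.ResidueField) := by
  obtain ⟨hqp, m, hm⟩ := h
  refine ⟨hqp, toFibre (S := S) N p m, le_antisymm (fun b hb => mem_annE.2 ?_) fun b hb => ?_⟩
  · rw [← map_smul, mem_annE.1 (hm.le hb), map_zero]
  · obtain ⟨s, hs, hs0⟩ := exists_smul_eq_zero (S := S) N p (m := b • m) (by rw [map_smul, mem_annE.1 hb])
    refine (hqp.mem_or_mem (hm.ge (mem_annE.2 (?_ : (algebraMap R S s * b) • m = 0)))).resolve_left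
      fun h => hs (hq.le h)
    rw [mul_smul, algebraMap_smul]; exact hs0

theorem mem_ass_tensor_of_mem_ass_fibre [IsNoetherianRing S] {q : Ideal S}
    (h : q ∈ FlatCA.ass S (N ⊗[R] p.ResidueField)) : q ∈ FlatCA.ass S (N ⊗[R] (R ⧸ p)) := by
  classical
  obtain ⟨hqp, z, hz⟩ := h
  obtain ⟨s, hs, m, hm⟩ := exists_smul_eq (S := S) N p z
  obtain ⟨G, hG⟩ := IsNoetherian.noetherian q
  have hgen : ∀ g ∈ G, ∃ t : R, t ∉ p ∧ t • g • m = 0 := fun g hg =>
    exists_smul_eq_zero (S := S) N p (by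
      rw [map_smul, ← hm, smul_comm, mem_annE.1 (hz.le (hG ▸ Submodule.subset_span hg)), smul_zero])
  choose! t ht ht0 using hgen
  refine ⟨hqp, (∏ g ∈ G, t g) • m, le_antisymm ?_ fun b hb => ?_⟩
  · rw [← hG]
    refine Submodule.span_le.2 fun g hg => mem_annE.2 ?_
    rw [smul_comm, ← Finset.prod_erase_mul _ _ hg, mul_smul, ht0 g hg, smul_zero]
  · have h1 := mem_annE.1 hb
    have h2 := congrArg (toFibre (S := S) N p) h1
    rw [map_smul, map_zero, LinearMap.map_smul_of_tower, ← hm, smul_comm, smul_comm b s z] at h2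
    exact hz.ge (mem_annE.2 (smul_fibre_injective N p hs (smul_fibre_injective N p
      (fun hp => ((‹p.IsPrime›).prod_mem_iff.1 hp).elim fun g hg => ht g hg.1 hg.2) h2)))

theorem comap_eq_of_mem_ass_fibre {q : Ideal S} (h : q ∈ FlatCA.ass S (N ⊗[R] p.ResidueField)) :
    q.comap (algebraMap R S) = p := by
  obtain ⟨hqp, z, hz⟩ := h
  refine le_antisymm (fun a ha => ?_) fun a ha => ?_
  · by_contra hap
    have hz0 : z = 0 := smul_fibre_injective N p hap (by
      rw [← algebraMap_smul S a z]; exact mem_annE.1 (hz.le ha))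
    exact hqp.ne_top ((Ideal.eq_top_iff_one q).2 (hz.ge (mem_annE.2 (by rw [hz0, smul_zero]))))
  · refine hz.ge (mem_annE.2 ?_)
    rw [algebraMap_smul]
    clear hz
    induction z using TensorProduct.induction_on with
    | zero => rw [smul_zero]
    | add x y hx hy => rw [smul_add, hx, hy, add_zero]
    | tmul n c => rw [← TensorProduct.tmul_smul, Algebra.smul_def, Ideal.algebraMap_residueField_eq_zero.2 ha,
        zero_mul, TensorProduct.tmul_zero]

theorem ass_tensor_eq_ass_fibre_of_flat [Module.Flat R N] :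
    FlatCA.ass S (N ⊗[R] (R ⧸ p)) = FlatCA.ass S (N ⊗[R] p.ResidueField) := by
  refine Set.Subset.antisymm (ass_subset_of_injective _ (toFibre_injective (S := S) N p)) ?_
  rintro q ⟨hqp, z, hz⟩
  obtain ⟨s, hs, m, hm⟩ := exists_smul_eq (S := S) N p z
  refine ⟨hqp, m, le_antisymm (fun b hb => mem_annE.2 (toFibre_injective (S := S) N p ?_)) fun b hb => hz.ge (mem_annE.2 ?_)⟩
  · rw [map_zero, map_smul, ← hm, smul_comm, mem_annE.1 (hz.le hb), smul_zero]
  · refine smul_fibre_injective N p hs ?_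
    rw [smul_comm, hm, ← map_smul, mem_annE.1 hb, map_zero]

variable {N}

/-- A prime associated to the middle of an exact sequence is associated to one of the outer terms. -/
theorem mem_ass_or {A : Type u} [CommRing A] {M₁ M₂ M₃ : Type u} [AddCommGroup M₁] [Module A M₁]
    [AddCommGroup M₂] [Module A M₂] [AddCommGroup M₃] [Module A M₃] (f : M₁ →ₗ[A] M₂) (g : M₂ →ₗ[A] M₃)
    (hf : Function.Injective f) (hfg : Function.Exact f g) {q : Ideal A} (h : q ∈ FlatCA.ass A M₂) :
    q ∈ FlatCA.ass A M₁ ∨ q ∈ FlatCA.ass A M₃ := by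
  obtain ⟨hq, z, hz⟩ := h
  by_cases hc : ∀ b : A, b • g z = 0 → b ∈ q
  · exact Or.inr ⟨hq, g z, le_antisymm
      (fun b hb => mem_annE.2 (by rw [← map_smul, mem_annE.1 (hz.le hb), map_zero])) fun b hb => hc b (mem_annE.1 hb)⟩
  · push Not at hc
    obtain ⟨b, hb, hbq⟩ := hc
    obtain ⟨m, hm⟩ := (hfg (b • z)).1 (by rw [map_smul, hb])
    refine Or.inl ⟨hq, m, le_antisymm (fun c hc => mem_annE.2 (hf ?_)) fun c hc => ?_⟩
    · rw [map_zero, map_smul, hm, smul_comm, mem_annE.1 (hz.le hc), smul_zero]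
    · have h1 := congrArg f (mem_annE.1 hc)
      rw [map_smul, map_zero, hm, smul_smul] at h1
      exact (hq.mem_or_mem (hz.ge (mem_annE.2 h1))).resolve_right hbq

end Groth.L03.FibreAss
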