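import Mathlib.Algebra.Module.Torsion.Free
import Mathlib.RingTheory.Finiteness.Basic
import Mathlib.LinearAlgebra.Finsupp.LinearCombination
import Mathlib.LinearAlgebra.LinearIndependent.Basic
import Mathlib.LinearAlgebra.Dual.Defs

/-!
A finite module over a domain agrees with a finite free module up to a nonzero scalar.
-/

namespace Groth.L03.Lattice

universe u v

theorem exists_free_comp {R : Type u} [CommRing R] [IsDomain R] (M : Type v) [AddCommGroup M]
    [Module R M] [Module.Finite R M] :
    ∃ (n : ℕ) (f : M →ₗ[R] (Fin n → R)) (g : (Fin n → R) →ₗ[R] M) (c : R),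
      c ≠ 0 ∧ (∀ x, g (f x) = c • x) ∧ ∀ y, f (g y) = c • y := by
  classical
  obtain ⟨S, hS⟩ := Module.Finite.fg_top (R := R) (M := M)
  obtain ⟨T, hT, hTmax⟩ := (S.powerset.filter fun T : Finset M =>
    LinearIndependent R (fun x : (T : Set M) => (x : M))).exists_max_image Finset.card
      ⟨∅, Finset.mem_filter.2 ⟨Finset.empty_mem_powerset S,
        by rw [Finset.coe_empty]; exact linearIndependent_empty R M⟩⟩
  rw [Finset.mem_filter, Finset.mem_powerset] at hT
  set N := Submodule.span R (T : Set M)
  have hd : ∀ s ∈ S, ∃ d : R, d ≠ 0 ∧ d • s ∈ N := by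
    intro s hs
    by_cases hsT : s ∈ T
    · exact ⟨1, one_ne_zero, by rw [one_smul]; exact Submodule.subset_span hsT⟩
    by_contra hcon
    push Not at hcon
    have hli : LinearIndependent R (fun x : ((insert s T : Finset M) : Set M) => (x : M)) := by
      have hli' : LinearIndepOn R id (T : Set M) := hT.2
      have : LinearIndepOn R id (insert s (T : Set M)) := by
        rw [linearIndepOn_iff'] at hli' ⊢
        intro t c ht hc i hi
        by_cases hst : s ∈ t
        · by_cases hcs : c s = 0
          · rcases eq_or_ne i s with rfl | hne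
            · exact hcs
            refine hli' (t.erase s) c ?_ ?_ i (Finset.mem_erase.2 ⟨hne, hi⟩)
            · intro x hx
              rw [Finset.mem_coe, Finset.mem_erase] at hx
              exact (ht hx.2).resolve_left hx.1
            · rw [← Finset.add_sum_erase _ _ hst, hcs, zero_smul, zero_add] at hc
              exact hc
          · exfalso
            apply hcon _ hcs
            rw [← Finset.add_sum_erase _ _ hst] at hc
            change c s • s + _ = 0 at hc
            rw [add_eq_zero_iff_eq_neg] at hc
            rw [hc]
            refine N.neg_mem (Submodule.sum_mem _ fun x hx => N.smul_mem _ ?_)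
            rw [Finset.mem_erase] at hx
            exact Submodule.subset_span ((ht hx.2).resolve_left hx.1)
        · refine hli' t c (fun x hx => (ht hx).resolve_left ?_) hc i hi
          rintro rfl
          exact hst hx
      rw [← Finset.coe_insert] at this
      exact this
    have := hTmax (insert s T) (Finset.mem_filter.2
      ⟨Finset.mem_powerset.2 (Finset.insert_subset hs hT.1), hli⟩)
    rw [Finset.card_insert_of_notMem hsT] at this
    omega
  choose d hd0 hdN using hd
  set D := ∏ s ∈ S.attach, d s.1 s.2
  have hD : D ≠ 0 := Finset.prod_ne_zero_iff.2 fun s _ => hd0 _ _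
  have hall : ∀ x : M, D • x ∈ N := by
    intro x
    have : Submodule.span R (S : Set M) ≤ N.comap (D • LinearMap.id : M →ₗ[R] M) := by
      refine Submodule.span_le.2 fun s hs => ?_
      simp only [SetLike.mem_coe, Submodule.mem_comap, LinearMap.smul_apply, LinearMap.id_apply]
      obtain ⟨e, he⟩ : d s hs ∣ D := Finset.dvd_prod_of_mem (fun s : S => d s.1 s.2) (Finset.mem_attach S ⟨s, hs⟩)
      rw [show D = d s hs * e from he, mul_comm, mul_smul]
      exact N.smul_mem _ (hdN s hs)
    simpa using this (hS ▸ Submodule.mem_top : x ∈ _)
  let v : Fin T.card → M := fun i => (T.equivFin.symm i : M)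
  have hv : LinearIndependent R v := hT.2.comp _ T.equivFin.symm.injective
  have hrange : LinearMap.range (Fintype.linearCombination R v) = N := by
    rw [Fintype.range_linearCombination]
    congr 1
    ext x
    simp only [Set.mem_range, Finset.mem_coe, v]
    exact ⟨fun ⟨i, hi⟩ => hi ▸ (T.equivFin.symm i).2,
      fun hx => ⟨T.equivFin ⟨x, hx⟩, by simp⟩⟩
  set g := Fintype.linearCombination R v with hg
  have hginj : Function.Injective g := by
    rw [← LinearMap.ker_eq_bot, LinearMap.ker_eq_bot']
    intro c hc
    funext i
    exact Fintype.linearIndependent_iff.1 hv c (by rw [← hc, hg, Fintype.linearCombination_apply]) i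
  let e : (Fin T.card → R) ≃ₗ[R] N :=
    (LinearEquiv.ofInjective g hginj).trans (LinearEquiv.ofEq _ _ hrange)
  let f : M →ₗ[R] (Fin T.card → R) :=
    e.symm.toLinearMap ∘ₗ (D • LinearMap.id : M →ₗ[R] M).codRestrict N hall
  have hgf : ∀ x, g (f x) = D • x := by
    intro x
    have : ((e (f x) : N) : M) = D • x := by simp [f]
    simpa [e] using this
  refine ⟨T.card, f, g, D, hD, hgf, fun y => hginj ?_⟩
  rw [hgf, map_smul]

theorem injective_of_comp {R : Type u} [CommRing R] [IsDomain R] {M N : Type*} [AddCommGroup M]
    [Module R M] [Module.IsTorsionFree R M] [AddCommGroup N] [Module R N] (f : M →ₗ[R] N)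
    (g : N →ₗ[R] M) {c : R} (hc : c ≠ 0) (h : ∀ x, g (f x) = c • x) : Function.Injective f := by
  intro x y hxy
  exact smul_right_injective M hc (show c • x = c • y by rw [← h, ← h, hxy])

end Groth.L03.Lattice
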