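import Mathlib.RingTheory.Flat.Tensor
import Mathlib.RingTheory.Flat.Stability
import Mathlib.RingTheory.Ideal.Quotient.Operations
import Mathlib.RingTheory.Noetherian.Basic
import Mathlib.RingTheory.Ideal.Quotient.Noetherian
import Mathlib.LinearAlgebra.TensorProduct.RightExactness
import Mathlib.Algebra.Module.Torsion.Basic
import Mathlib.LinearAlgebra.DirectSum.Finsupp
import Mathlib.LinearAlgebra.TensorProduct.Quotient
import Groth.Agent.L03.Lattice

/-!
Flatness descends along finite injective maps (Noetherian base).
-/

set_option autoImplicit false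
set_option linter.style.haveILetI false
set_option linter.unusedSimpArgs false

open TensorProduct LinearMap

universe u

namespace Groth.L03.FlatDescent

/-- `- ⊗ M` is exact on injections between modules killed by `J`. -/
def Exact' (R : Type u) [CommRing R] (M : Type u) [AddCommGroup M] [Module R M] (J : Ideal R) :
    Prop :=
  ∀ (N N' : Type u) [AddCommGroup N] [Module R N] [AddCommGroup N'] [Module R N']
    (g : N →ₗ[R] N'), Function.Injective g → (∀ r ∈ J, ∀ x : N', r • x = 0) →
      Function.Injective (g.rTensor M)

section BaseChange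

variable {R : Type u} [CommRing R] (A : Type u) [CommRing A] [Algebra R A]
variable (M : Type u) [AddCommGroup M] [Module R M]

/-- Over an algebra, tensoring with `A ⊗ M` is tensoring with `M`. -/
theorem injective_iff {N N' : Type u} [AddCommGroup N] [Module R N] [Module A N]
    [IsScalarTower R A N] [AddCommGroup N'] [Module R N'] [Module A N'] [IsScalarTower R A N']
    (g : N →ₗ[A] N') :
    Function.Injective (g.rTensor (A ⊗[R] M)) ↔
      Function.Injective ((g.restrictScalars R).rTensor M) := by
  let e := AlgebraTensorModule.cancelBaseChange R A A N M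
  let e' := AlgebraTensorModule.cancelBaseChange R A A N' M
  have h : ∀ x, e' (g.rTensor (A ⊗[R] M) x) = (g.restrictScalars R).rTensor M (e x) := by
    intro x
    induction x using TensorProduct.induction_on with
    | zero => simp
    | tmul n y =>
      induction y using TensorProduct.induction_on with
      | zero => simp
      | tmul a m => simp [e, e']
      | add a b ha hb => rw [TensorProduct.tmul_add, map_add, map_add, map_add, map_add, ha, hb]
    | add a b ha hb => simp [map_add, ha, hb]
  have h' : e' ∘ g.rTensor (A ⊗[R] M) = (g.restrictScalars R).rTensor M ∘ e := funext h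
  constructor
  · intro hinj
    refine Function.Injective.of_comp_right (g := e) ?_ e.surjective
    rw [← h']
    exact e'.injective.comp hinj
  · intro hinj
    refine Function.Injective.of_comp (f := e') ?_
    rw [h']
    exact hinj.comp e.injective

theorem injective_of_flat [Module.Flat A (A ⊗[R] M)] {N N' : Type u} [AddCommGroup N] [Module R N]
    [Module A N] [IsScalarTower R A N] [AddCommGroup N'] [Module R N'] [Module A N']
    [IsScalarTower R A N'] (g : N →ₗ[A] N') (hg : Function.Injective g) :
    Function.Injective ((g.restrictScalars R).rTensor M) :=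
  (injective_iff A M g).1 (Module.Flat.rTensor_preserves_injective_linearMap g hg)

theorem exact'_of_flat_quotient (J : Ideal R) [Module.Flat (R ⧸ J) ((R ⧸ J) ⊗[R] M)] :
    Exact' R M J := by
  intro N N' _ _ _ _ g hg hJ
  have hN' : Module.IsTorsionBySet R N' J := fun x r => hJ r r.2 x
  have hN : Module.IsTorsionBySet R N J := fun x r => hg (by
    show g ((r : R) • x) = g 0
    rw [map_smul, map_zero, hJ r r.2])
  letI := hN.module
  letI := hN'.module
  haveI : IsScalarTower R (R ⧸ J) N := hN.isScalarTower
  haveI : IsScalarTower R (R ⧸ J) N' := hN'.isScalarTower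
  exact injective_of_flat (R ⧸ J) M
    (g.extendScalarsOfSurjective (S := R ⧸ J) Ideal.Quotient.mk_surjective) hg

end BaseChange

section Core

variable {R : Type u} [CommRing R] {S : Type u} [CommRing S] [Algebra R S]
variable {M : Type u} [AddCommGroup M] [Module R M]

theorem comap_map_eq_of_forall (J : Ideal R) (a : R)
    (hinj : Function.Injective (algebraMap R S)) (hJ : ∀ r, r ∈ J ↔ r * a = 0) :
    (J.map (algebraMap R S)).comap (algebraMap R S) = J := by
  refine le_antisymm (fun r hr => (hJ r).2 (hinj ?_)) Ideal.le_comap_map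
  rw [Ideal.mem_comap] at hr
  rw [map_mul, map_zero]
  generalize algebraMap R S r = s at hr
  induction hr using Submodule.span_induction with
  | mem x hx =>
    obtain ⟨j, hj, rfl⟩ := hx
    rw [← map_mul, (hJ j).1 hj, map_zero]
  | zero => simp
  | add x y _ _ hx hy => rw [add_mul, hx, hy, add_zero]
  | smul c x _ hx => rw [smul_eq_mul, mul_assoc, hx, mul_zero]

/-- The induction step. -/
theorem flat_of_exact' [IsNoetherianRing R] [Module.Finite R S]
    (hinj : Function.Injective (algebraMap R S)) [Module.Flat S (S ⊗[R] M)]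
    (hQ : ∀ J : Ideal R, J ≠ ⊥ → (J.map (algebraMap R S)).comap (algebraMap R S) = J →
      Exact' R M J) : Module.Flat R M := by
  classical
  rw [Module.Flat.iff_rTensor_injective']
  intro I
  rw [injective_iff_map_eq_zero]
  intro x hx
  -- the ideal generated in `S`
  let P : Ideal R → Submodule S S := fun I => I.map (algebraMap R S)
  have hP : ∀ (I : Ideal R), Function.Injective
      (((P I).subtype.restrictScalars R).rTensor M) := fun I =>
    injective_of_flat S M (P I).subtype (P I).injective_subtype
  let g : ∀ I : Ideal R, I →ₗ[R] P I := fun I =>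
    ((Algebra.linearMap R S).comp I.subtype).codRestrict ((P I).restrictScalars R)
      (fun r => Ideal.mem_map_of_mem _ r.2)
  have hgmap : ∀ I : Ideal R, ((P I).subtype.restrictScalars R) ∘ₗ g I =
      (Algebra.linearMap R S) ∘ₗ I.subtype := fun I => rfl
  have hzero : ∀ (I : Ideal R) (y : I ⊗[R] M), I.subtype.rTensor M y = 0 →
      (g I).rTensor M y = 0 := fun I y hy => by
    apply hP I
    rw [← rTensor_comp_apply, hgmap, rTensor_comp_apply, hy, map_zero, map_zero]
  by_cases hdom : IsDomain R
  · -- domain case
    obtain ⟨n, f, f', c₀, hc₀, hff, -⟩ := Groth.L03.Lattice.exists_free_comp (R := R) S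
    obtain ⟨φ, hc⟩ : ∃ φ : S →ₗ[R] R, φ 1 ≠ 0 := by
      by_contra h
      simp only [not_exists, not_not] at h
      have hf1 : f 1 = 0 := funext fun i => h (LinearMap.proj i ∘ₗ f)
      have h0 := hff 1
      rw [hf1, map_zero, ← Algebra.algebraMap_eq_smul_one] at h0
      exact hc₀ (hinj (h0.symm.trans (map_zero _).symm))
    set c := φ 1 with hcdef
    have hφ : ∀ r, φ (algebraMap R S r) = r * c := fun r => by
      rw [Algebra.algebraMap_eq_smul_one, map_smul, smul_eq_mul]
    have hQc : ∀ n : ℕ, Exact' R M (Ideal.span {c ^ n}) := by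
      intro n
      let J : Ideal R := ((Ideal.span {c ^ (n + 1)}).map (algebraMap R S)).comap (algebraMap R S)
      have hJle : J ≤ Ideal.span {c ^ n} := by
        intro r hr
        rw [Ideal.mem_comap, Ideal.map_span, Set.image_singleton, Ideal.mem_span_singleton'] at hr
        obtain ⟨s, hs⟩ := hr
        rw [Ideal.mem_span_singleton']
        refine ⟨φ s, mul_right_cancel₀ hc ?_⟩
        rw [← hφ r, ← hs, mul_comm s, ← Algebra.smul_def, map_smul, smul_eq_mul, pow_succ]
        ring
      have hJ0 : J ≠ ⊥ := fun h => by
        have : c ^ (n + 1) ∈ J := Ideal.le_comap_map (Ideal.mem_span_singleton_self _)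
        rw [h, Ideal.mem_bot] at this
        exact hc (eq_zero_of_pow_eq_zero this)
      have hJc : (J.map (algebraMap R S)).comap (algebraMap R S) = J := by
        simp only [J, Ideal.map_comap_map]
      intro N N' _ _ _ _ g hg hk
      exact hQ J hJ0 hJc N N' g hg fun r hr => hk r (hJle hr)
    -- `c` kills the kernels
    have hkill : ∀ (I : Ideal R) (y : I ⊗[R] M), I.subtype.rTensor M y = 0 → c • y = 0 := by
      intro I y hy
      have hmem : ∀ p : P I, φ (p : S) ∈ I := by
        rintro ⟨p, hp⟩
        show φ p ∈ I
        induction hp using Submodule.span_induction with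
        | mem z hz =>
          obtain ⟨r, hr, rfl⟩ := hz
          rw [hφ]
          exact I.mul_mem_right _ hr
        | zero => simp
        | add z w _ _ hz hw => rw [map_add]; exact add_mem hz hw
        | smul s z hz' hz =>
          clear hz
          induction hz' using Submodule.span_induction generalizing s with
          | mem w hw =>
            obtain ⟨r, hr, rfl⟩ := hw
            rw [smul_eq_mul, mul_comm, ← Algebra.smul_def, map_smul, smul_eq_mul]
            exact I.mul_mem_right _ hr
          | zero => simp
          | add w w' _ _ hw hw' => rw [smul_add, map_add]; exact add_mem (hw s) (hw' s)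
          | smul s' w _ hw => rw [← mul_smul]; exact hw _
      let ψ : P I →ₗ[R] I := (φ ∘ₗ (P I).subtype.restrictScalars R).codRestrict I hmem
      have hψ : ψ ∘ₗ g I = c • LinearMap.id := by
        refine LinearMap.ext fun r => Subtype.ext ?_
        show φ (algebraMap R S r.1) = c • r.1
        rw [hφ, smul_eq_mul, mul_comm]
      have h := congrArg (ψ.rTensor M) (hzero I y hy)
      rwa [← rTensor_comp_apply, hψ, rTensor_smul, rTensor_id, map_zero] at h
    -- `c` is regular on `M`
    have hregM : ∀ m : M, c • m = 0 → m = 0 := by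
      intro m hm
      let ι : (R ⧸ Ideal.span {c}) →ₗ[R] R ⧸ Ideal.span {c ^ 2} :=
        Submodule.mapQ _ _ (LinearMap.mulLeft R c) (by
          intro r hr
          rw [Ideal.mem_span_singleton'] at hr
          obtain ⟨s, rfl⟩ := hr
          rw [Submodule.mem_comap, LinearMap.mulLeft_apply, Ideal.mem_span_singleton']
          exact ⟨s, by ring⟩)
      have hι : Function.Injective ι := by
        rw [injective_iff_map_eq_zero]
        intro z hz
        obtain ⟨r, rfl⟩ := Submodule.Quotient.mk_surjective _ z
        rw [Submodule.mapQ_apply, Submodule.Quotient.mk_eq_zero, LinearMap.mulLeft_apply,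
          Ideal.mem_span_singleton'] at hz
        obtain ⟨s, hs⟩ := hz
        rw [Submodule.Quotient.mk_eq_zero, Ideal.mem_span_singleton']
        exact ⟨s, mul_left_cancel₀ hc (by rw [← hs]; ring)⟩
      have h1 : (Submodule.Quotient.mk (1 : R) : R ⧸ Ideal.span {c}) ⊗ₜ[R] m = 0 := by
        apply hQc 2 _ _ ι hι (fun r hr z => by
          obtain ⟨w, rfl⟩ := Submodule.Quotient.mk_surjective _ z
          rw [← Submodule.Quotient.mk_smul, Submodule.Quotient.mk_eq_zero, smul_eq_mul]
          exact Ideal.mul_mem_right _ _ hr)
        rw [rTensor_tmul, map_zero, Submodule.mapQ_apply, LinearMap.mulLeft_apply, mul_one,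
          show c = c • (1 : R) by simp, Submodule.Quotient.mk_smul, TensorProduct.smul_tmul, hm,
          TensorProduct.tmul_zero]
      obtain ⟨m', hm'⟩ : ∃ m' : M, c • m' = m := by
        have h2 := congrArg (TensorProduct.quotTensorEquivQuotSMul M (Ideal.span {c})) h1
        rw [map_zero] at h2
        have h3 : (1 : R) • m ∈ Ideal.span {c} • (⊤ : Submodule R M) := by
          rw [← Submodule.Quotient.mk_eq_zero]
          simpa using h2
        rw [one_smul, Submodule.ideal_span_singleton_smul] at h3
        obtain ⟨m', -, hm'⟩ := h3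
        exact ⟨m', hm'⟩
      have hc2 : c ^ 2 ≠ 0 := pow_ne_zero 2 hc
      let e : R ≃ₗ[R] Ideal.span {c ^ 2} := LinearEquiv.toSpanNonzeroSingleton R R (c ^ 2) hc2
      have h4 := hkill (Ideal.span {c ^ 2}) (e 1 ⊗ₜ m') (by
        rw [rTensor_tmul, show (Ideal.span {c ^ 2}).subtype (e 1) = c ^ 2 • (1 : R) by simp [e],
          TensorProduct.smul_tmul, pow_two, mul_smul, hm', hm, TensorProduct.tmul_zero])
      have h5 := congrArg (fun z => TensorProduct.lid R M (e.symm.toLinearMap.rTensor M z)) h4
      simp only [map_smul, rTensor_tmul, LinearEquiv.coe_coe, LinearEquiv.symm_apply_apply,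
        TensorProduct.lid_tmul, one_smul, map_zero] at h5
      rw [← hm', h5]
    -- `c` is regular on `I ⊗ M`
    let p : (I →₀ R) →ₗ[R] I := Finsupp.linearCombination R (fun i => i)
    have hp : Function.Surjective p := fun i => ⟨Finsupp.single i 1, by simp [p]⟩
    have hregF : ∀ z : (I →₀ R) ⊗[R] M, c • z = 0 → z = 0 := fun z hz => by
      apply (TensorProduct.finsuppScalarLeft R M I).injective
      rw [map_zero]
      ext i
      apply hregM
      rw [← Finsupp.smul_apply, ← map_smul, hz]
      simp
    obtain ⟨z, rfl⟩ := rTensor_surjective M hp x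
    have hcz := hkill I _ hx
    rw [← map_smul] at hcz
    let K : Submodule R (I →₀ R) := LinearMap.ker p
    letI : AddCommGroup K := K.addCommGroup
    have hexK : Function.Exact K.subtype p := by
      rw [LinearMap.exact_iff, Submodule.range_subtype]
    obtain ⟨k, hk⟩ := (rTensor_exact M hexK hp _).1 hcz
    let cK : K →ₗ[R] K := c • LinearMap.id
    let cF : (I →₀ R) →ₗ[R] (I →₀ R) := c • LinearMap.id
    let κ : (K ⧸ LinearMap.range cK) →ₗ[R] (I →₀ R) ⧸ LinearMap.range cF :=
      Submodule.mapQ _ _ K.subtype (by
        rintro _ ⟨y, rfl⟩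
        exact ⟨y.1, rfl⟩)
    have hκ : Function.Injective κ := by
      rw [injective_iff_map_eq_zero]
      intro y hy
      obtain ⟨y, rfl⟩ := Submodule.Quotient.mk_surjective _ y
      rw [Submodule.mapQ_apply, Submodule.Quotient.mk_eq_zero] at hy
      obtain ⟨w, hw⟩ := hy
      rw [Submodule.Quotient.mk_eq_zero]
      refine ⟨⟨w, ?_⟩, Subtype.ext hw⟩
      have h := congrArg p hw
      rw [show cF w = c • w from rfl, map_smul,
        show p (K.subtype y) = 0 from y.2] at h
      have h' : c * ((p w : I) : R) = 0 := congrArg Subtype.val h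
      exact LinearMap.mem_ker.2 (Subtype.ext ((mul_eq_zero.1 h').resolve_left hc))
    have hk0 : (LinearMap.range cK).mkQ.rTensor M k = 0 := by
      apply hQc 1 _ _ κ hκ (fun r hr w => by
        obtain ⟨w, rfl⟩ := Submodule.Quotient.mk_surjective _ w
        rw [pow_one, Ideal.mem_span_singleton'] at hr
        obtain ⟨s, rfl⟩ := hr
        rw [← Submodule.Quotient.mk_smul, Submodule.Quotient.mk_eq_zero]
        exact ⟨s • w, by show c • s • w = _; rw [smul_smul, mul_comm]⟩)
      rw [map_zero, ← rTensor_comp_apply,
        show κ ∘ₗ (LinearMap.range cK).mkQ = (LinearMap.range cF).mkQ ∘ₗ K.subtype from rfl,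
        rTensor_comp_apply, hk, map_smul, ← LinearMap.smul_apply, ← rTensor_smul]
      have : c • (LinearMap.range cF).mkQ = 0 := LinearMap.ext fun w => by
        rw [LinearMap.smul_apply, ← map_smul, Submodule.mkQ_apply, LinearMap.zero_apply,
          Submodule.Quotient.mk_eq_zero]
        exact ⟨w, rfl⟩
      rw [this, rTensor_zero, LinearMap.zero_apply]
    have hexc : Function.Exact cK (LinearMap.range cK).mkQ := by
      rw [LinearMap.exact_iff, Submodule.ker_mkQ]
    obtain ⟨k', hk'⟩ := (rTensor_exact M hexc (Submodule.mkQ_surjective _) _).1 hk0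
    have hzk : z = K.subtype.rTensor M k' := by
      rw [← sub_eq_zero]
      apply hregF
      rw [smul_sub, ← hk, ← hk', sub_eq_zero, ← map_smul]
      congr 1
    rw [hzk, ← rTensor_comp_apply, show p ∘ₗ K.subtype = 0 from LinearMap.ext fun w => w.2,
      rTensor_zero, LinearMap.zero_apply]
  · -- non-domain case
    cases subsingleton_or_nontrivial R
    · haveI : Subsingleton (I ⊗[R] M) := Module.subsingleton R _
      exact Subsingleton.elim _ _
    obtain ⟨a, b, hab, ha, hb⟩ : ∃ a b : R, a * b = 0 ∧ a ≠ 0 ∧ b ≠ 0 := by
      by_contra h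
      refine hdom (@IsDomain.mk _ _ ?_ ?_) <;> try infer_instance
      have : NoZeroDivisors R := ⟨fun {a b} hab => by
        by_contra hne
        rw [not_or] at hne
        exact h ⟨a, b, hab, hne.1, hne.2⟩⟩
      exact NoZeroDivisors.to_isCancelMulZero R
    let J₀ : Ideal R := LinearMap.ker (LinearMap.mulRight R b)
    have hJ₀mem : ∀ r, r ∈ J₀ ↔ r * b = 0 := fun r => Iff.rfl
    let J₁ : Ideal R := J₀.annihilator
    have hJ₁mem : ∀ r, r ∈ J₁ ↔ ∀ j ∈ J₀, r * j = 0 := fun r => Submodule.mem_annihilator
    have hbJ₁ : b ∈ J₁ := (hJ₁mem b).2 fun j hj => by rw [mul_comm]; exact (hJ₀mem j).1 hj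
    have hJ₀ : J₀ ≠ ⊥ := fun h => ha (by
      have : a ∈ J₀ := (hJ₀mem a).2 hab
      rwa [h, Ideal.mem_bot] at this)
    have hJ₁ : J₁ ≠ ⊥ := fun h => hb (by rwa [h, Ideal.mem_bot] at hbJ₁)
    have hJ₀c := comap_map_eq_of_forall J₀ b hinj hJ₀mem
    have hJ₁c : (J₁.map (algebraMap R S)).comap (algebraMap R S) = J₁ := by
      refine le_antisymm (fun r hr => (hJ₁mem r).2 fun j hj => hinj ?_) Ideal.le_comap_map
      rw [Ideal.mem_comap] at hr
      rw [map_mul, map_zero]
      generalize algebraMap R S r = s at hr
      induction hr using Submodule.span_induction with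
      | mem x hx =>
        obtain ⟨k, hk, rfl⟩ := hx
        rw [← map_mul, (hJ₁mem k).1 hk j hj, map_zero]
      | zero => simp
      | add x y _ _ hx hy => rw [add_mul, hx, hy, add_zero]
      | smul c x _ hx => rw [smul_eq_mul, mul_assoc, hx, mul_zero]
    -- small ideals
    have hsmall : ∀ I₀ : Ideal R, I₀ ≤ J₀ → ∀ y : I₀ ⊗[R] M, I₀.subtype.rTensor M y = 0 → y = 0 := by
      intro I₀ hle y hy
      have hginj : Function.Injective (g I₀) := fun r r' h =>
        Subtype.ext (hinj (congrArg (fun p : P I₀ => (p : S)) h))
      refine (injective_iff_map_eq_zero _).1 (hQ J₁ hJ₁ hJ₁c _ _ (g I₀) hginj ?_) y (hzero I₀ y hy)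
      rintro r hr ⟨p, hp⟩
      refine Subtype.ext ?_
      show r • p = 0
      induction hp using Submodule.span_induction with
      | mem z hz =>
        obtain ⟨j, hj, rfl⟩ := hz
        rw [Algebra.smul_def, ← map_mul, (hJ₁mem r).1 hr j (hle hj), map_zero]
      | zero => simp
      | add z w _ _ hz hw => rw [smul_add, hz, hw, add_zero]
      | smul s z _ hz => rw [smul_comm, hz, smul_zero]
    let I₀ := I ⊓ J₀
    let inc : I₀ →ₗ[R] I := Submodule.inclusion inf_le_left
    let q : (I ⧸ LinearMap.range inc) →ₗ[R] R ⧸ J₀ :=
      Submodule.mapQ _ _ I.subtype (by rintro _ ⟨r, rfl⟩; exact r.2.2)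
    have hq : Function.Injective q := by
      rw [injective_iff_map_eq_zero]
      intro y hy
      obtain ⟨y, rfl⟩ := Submodule.Quotient.mk_surjective _ y
      rw [Submodule.mapQ_apply, Submodule.Quotient.mk_eq_zero] at hy
      rw [Submodule.Quotient.mk_eq_zero]
      exact ⟨⟨y.1, y.2, hy⟩, rfl⟩
    have hxq : (LinearMap.range inc).mkQ.rTensor M x = 0 := by
      apply hQ J₀ hJ₀ hJ₀c _ _ q hq (fun r hr w => by
        obtain ⟨w, rfl⟩ := Submodule.Quotient.mk_surjective _ w
        rw [← Submodule.Quotient.mk_smul, Submodule.Quotient.mk_eq_zero]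
        exact J₀.mul_mem_right _ hr)
      rw [map_zero, ← rTensor_comp_apply,
        show q ∘ₗ (LinearMap.range inc).mkQ = J₀.mkQ ∘ₗ I.subtype from rfl, rTensor_comp_apply,
        hx, map_zero]
    have hexi : Function.Exact inc (LinearMap.range inc).mkQ := by
      rw [LinearMap.exact_iff, Submodule.ker_mkQ]
    obtain ⟨w, rfl⟩ := (rTensor_exact M hexi (Submodule.mkQ_surjective _) _).1 hxq
    rw [hsmall I₀ inf_le_right w, map_zero]
    rw [← rTensor_comp_apply] at hx
    exact hx

end Core

/-- Flatness descends along a finite injective map of a Noetherian ring. -/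
theorem flat_of_finite_injective (R S : Type u) [CommRing R] [IsNoetherianRing R] [CommRing S]
    [Algebra R S] [Module.Finite R S] (hinj : Function.Injective (algebraMap R S))
    (M : Type u) [AddCommGroup M] [Module R M] [Module.Flat S (S ⊗[R] M)] : Module.Flat R M := by
  suffices key : ∀ I : Ideal R, (I.map (algebraMap R S)).comap (algebraMap R S) = I →
      Exact' R M I from
    flat_of_exact' hinj fun J _ hJ => key J hJ
  intro I
  induction I using (wellFounded_gt (α := Ideal R)).induction with
  | h I ih =>
    intro hI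
    let S' := S ⧸ I.map (algebraMap R S)
    letI : Algebra (R ⧸ I) S' := Ideal.Quotient.algebraQuotientOfLEComap Ideal.le_comap_map
    haveI : IsScalarTower R (R ⧸ I) S' := IsScalarTower.of_algebraMap_eq fun r => rfl
    haveI : Module.Finite (R ⧸ I) S' := Module.Finite.of_restrictScalars_finite R _ _
    have hinj' : Function.Injective (algebraMap (R ⧸ I) S') :=
      Ideal.quotientMap_injective' hI.le
    haveI : Module.Flat S' (S' ⊗[R ⧸ I] ((R ⧸ I) ⊗[R] M)) :=
      Module.Flat.of_linearEquiv
        ((AlgebraTensorModule.cancelBaseChange R (R ⧸ I) S' S' M).trans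
          (AlgebraTensorModule.cancelBaseChange R S S' S' M).symm)
    have hflat : Module.Flat (R ⧸ I) ((R ⧸ I) ⊗[R] M) := by
      refine flat_of_exact' hinj' fun J hJ0 hJc => ?_
      let J' : Ideal R := J.comap (Ideal.Quotient.mk I)
      have hlt : I < J' := by
        refine lt_of_le_of_ne (fun r hr => ?_) fun h => hJ0 ?_
        · rw [Ideal.mem_comap, Ideal.Quotient.eq_zero_iff_mem.2 hr]
          exact J.zero_mem
        · rw [← Ideal.map_comap_of_surjective _ Ideal.Quotient.mk_surjective J]
          show Ideal.map _ J' = ⊥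
          rw [← h, Ideal.map_quotient_self]
      have hJ'c : (J'.map (algebraMap R S)).comap (algebraMap R S) = J' := by
        refine le_antisymm ?_ Ideal.le_comap_map
        have hmap : J'.map (algebraMap R S) ≤
            (J.map (algebraMap (R ⧸ I) S')).comap (Ideal.Quotient.mk (I.map (algebraMap R S))) := by
          rw [Ideal.map_le_iff_le_comap]
          intro r hr
          rw [Ideal.mem_comap, Ideal.mem_comap]
          exact Ideal.mem_map_of_mem (algebraMap (R ⧸ I) S') (Ideal.mem_comap.1 hr)
        intro r hr
        rw [Ideal.mem_comap, ← hJc, Ideal.mem_comap]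
        exact hmap hr
      intro N N' _ _ _ _ g hg hk
      letI : Module R N := Module.compHom N (Ideal.Quotient.mk I)
      letI : Module R N' := Module.compHom N' (Ideal.Quotient.mk I)
      haveI : IsScalarTower R (R ⧸ I) N := IsScalarTower.of_algebraMap_smul fun r x => rfl
      haveI : IsScalarTower R (R ⧸ I) N' := IsScalarTower.of_algebraMap_smul fun r x => rfl
      rw [injective_iff (R ⧸ I) M g]
      exact ih J' hlt hJ'c N N' (g.restrictScalars R) hg fun r hr x => hk _ hr x
    exact exact'_of_flat_quotient M I

end Groth.L03.FlatDescent
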