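import Groth.Agent.L03.QuasiRegularBC
import Groth.Agent.S5803
import Groth.Agent.S2586
import Mathlib.RingTheory.FiniteType
import Mathlib.RingTheory.Flat.Localization
import Mathlib.RingTheory.LocalRing.ResidueField.Fiber
import Mathlib.RingTheory.Ideal.Over
import Mathlib.RingTheory.TensorProduct.Maps

/-!
Quotient by a sequence that is quasi-regular modulo a locally nilpotent ideal of the base, with
flat reduced quotient, is flat.
-/

namespace Groth.L03.FlatQuotientNil

universe u

open TensorProduct

variable {A' B' : Type u} [CommRing A'] [CommRing B'] [Algebra A' B']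

theorem le_prime {I : Ideal A'} (hI : ∀ x ∈ I, IsNilpotent x) (p : Ideal A') [p.IsPrime] : I ≤ p :=
  fun x hx => by
    obtain ⟨n, hn⟩ := hI x hx
    exact Ideal.IsPrime.mem_of_pow_mem ‹_› n (hn ▸ zero_mem p)

/-- the fibre of `B'` over `p ⊇ I` as a base change of `B'/IB'` -/
theorem isQuasiRegular_fibre (I : Ideal A') (p : Ideal A') [p.IsPrime] (hIp : I ≤ p) {r : ℕ} (f' : Fin r → B')
    (hq : CAlgX.IsQuasiRegular (fun i => Ideal.Quotient.mk (Ideal.map (algebraMap A' B') I) (f' i)))
    (hflat : Module.Flat (A' ⧸ I)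
      ((B' ⧸ Ideal.map (algebraMap A' B') I) ⧸
        Ideal.span (Set.range (fun i => Ideal.Quotient.mk (Ideal.map (algebraMap A' B') I) (f' i))))) :
    CAlgX.IsQuasiRegular (fun i => algebraMap B' (B' ⊗[A'] p.ResidueField) (f' i)) := by
  set IB := Ideal.map (algebraMap A' B') I
  let φ : A' ⧸ I →+* p.ResidueField := Ideal.Quotient.lift I (algebraMap A' p.ResidueField)
    fun a ha => Ideal.algebraMap_residueField_eq_zero.2 (hIp ha)
  letI : Algebra (A' ⧸ I) p.ResidueField := φ.toAlgebra
  haveI : IsScalarTower A' (A' ⧸ I) p.ResidueField := .of_algebraMap_eq' rfl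
  let incR : p.ResidueField →ₐ[A'] B' ⊗[A'] p.ResidueField := Algebra.TensorProduct.includeRight
  letI : Algebra (A' ⧸ I) (B' ⊗[A'] p.ResidueField) :=
    (incR.toRingHom.comp φ).toAlgebra
  haveI : IsScalarTower A' (A' ⧸ I) (B' ⊗[A'] p.ResidueField) :=
    .of_algebraMap_eq fun a => (incR.commutes a).symm
  let toC : B' ⧸ IB →ₐ[A' ⧸ I] B' ⊗[A'] p.ResidueField :=
    { toRingHom := Ideal.Quotient.lift IB (algebraMap B' (B' ⊗[A'] p.ResidueField)) (by
        intro b hb
        refine (Ideal.map_le_iff_le_comap.2 (fun a ha => ?_) hb :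
          b ∈ RingHom.ker (algebraMap B' (B' ⊗[A'] p.ResidueField)))
        show algebraMap B' (B' ⊗[A'] p.ResidueField) (algebraMap A' B' a) = 0
        rw [← IsScalarTower.algebraMap_apply, ← incR.commutes,
          Ideal.algebraMap_residueField_eq_zero.2 (hIp ha), map_zero])
      commutes' := fun a => by
        obtain ⟨a, rfl⟩ := Ideal.Quotient.mk_surjective a
        show algebraMap B' (B' ⊗[A'] p.ResidueField) (algebraMap A' B' a) = incR (algebraMap A' p.ResidueField a)
        rw [incR.commutes, ← IsScalarTower.algebraMap_apply] }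
  let F : p.ResidueField ⊗[A' ⧸ I] (B' ⧸ IB) →ₐ[A' ⧸ I] B' ⊗[A'] p.ResidueField :=
    Algebra.TensorProduct.lift
      ({ toRingHom := incR.toRingHom, commutes' := fun _ => rfl } :
        p.ResidueField →ₐ[A' ⧸ I] B' ⊗[A'] p.ResidueField)
      toC (fun _ _ => Commute.all _ _)
  let G : B' ⊗[A'] p.ResidueField →ₐ[A'] p.ResidueField ⊗[A' ⧸ I] (B' ⧸ IB) :=
    Algebra.TensorProduct.lift
      (((Algebra.TensorProduct.includeRight : B' ⧸ IB →ₐ[A' ⧸ I] p.ResidueField ⊗[A' ⧸ I] (B' ⧸ IB)).restrictScalars A').comp
        (Ideal.Quotient.mkₐ A' IB))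
      ((Algebra.TensorProduct.includeLeft :
        p.ResidueField →ₐ[A'] p.ResidueField ⊗[A' ⧸ I] (B' ⧸ IB)))
      (fun _ _ => Commute.all _ _)
  have hFG : ∀ x, F (G x) = x := by
    intro x
    induction x using TensorProduct.induction_on with
    | zero => simp
    | tmul b k => simp [F, G, toC, incR, Algebra.TensorProduct.tmul_mul_tmul]
    | add x y hx hy => rw [map_add, map_add, hx, hy]
  have hGF : ∀ x, G (F x) = x := by
    intro x
    induction x using TensorProduct.induction_on with
    | zero => simp
    | tmul k b =>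
      obtain ⟨b, rfl⟩ := Ideal.Quotient.mk_surjective b
      simp [F, G, toC, incR, Algebra.TensorProduct.tmul_mul_tmul]
    | add x y hx hy => rw [map_add, map_add, hx, hy]
  let e : p.ResidueField ⊗[A' ⧸ I] (B' ⧸ IB) ≃+* B' ⊗[A'] p.ResidueField :=
    RingEquiv.ofRingHom F.toRingHom G.toRingHom (RingHom.ext hFG) (RingHom.ext hGF)
  refine Groth.L03.QuasiRegularBC.map_equiv e _ _ (fun i => ?_)
    (Groth.L03.QuasiRegularBC.baseChange p.ResidueField _ hflat hq)
  show F ((1 : p.ResidueField) ⊗ₜ Ideal.Quotient.mk IB (f' i)) = algebraMap B' _ (f' i)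
  simp [F, toC, incR]

/-- regularity in the localized fibre -/
theorem isRegular_localized_fibre [Algebra.FiniteType A' B'] (q : Ideal B') [q.IsPrime]
    {r : ℕ} (f' : Fin r → B') (hfq : ∀ i, f' i ∈ q)
    (hC : CAlgX.IsQuasiRegular
      (fun i => algebraMap B' (B' ⊗[A'] (q.comap (algebraMap A' B')).ResidueField) (f' i))) :
    RingTheory.Sequence.IsRegular
      (LocalizedModule q.primeCompl (B' ⊗[A'] (q.comap (algebraMap A' B')).ResidueField)) (List.ofFn f') := by
  set p := q.comap (algebraMap A' B') with hp
  let C := B' ⊗[A'] p.ResidueField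
  let S := Algebra.algebraMapSubmonoid C q.primeCompl
  let L := Localization S
  haveI : IsLocalization (Algebra.algebraMapSubmonoid C q.primeCompl) L := inferInstanceAs (IsLocalization S L)
  -- the map to the residue field of q
  let ψ : C →ₐ[A'] q.ResidueField :=
    Algebra.TensorProduct.lift (IsScalarTower.toAlgHom A' B' q.ResidueField)
      ({ toRingHom := Ideal.ResidueField.map p q (algebraMap A' B') hp
         commutes' := fun a => by
           show Ideal.ResidueField.map p q (algebraMap A' B') hp (algebraMap A' p.ResidueField a) = _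
           rw [Ideal.ResidueField.map_algebraMap, ← IsScalarTower.algebraMap_apply] } :
        p.ResidueField →ₐ[A'] q.ResidueField)
      (fun _ _ => Commute.all _ _)
  have hψ : ∀ b : B', ψ (algebraMap B' C b) = algebraMap B' q.ResidueField b := fun b => by
    simp [ψ, C, Algebra.TensorProduct.algebraMap_apply]
  haveI : Nontrivial L := by
    refine (IsLocalization.lift (M := S) (S := L) (g := ψ.toRingHom) (fun s => ?_)).domain_nontrivial
    obtain ⟨_, b, hb, rfl⟩ := s
    show IsUnit (ψ (algebraMap B' C b))
    rw [hψ]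
    exact isUnit_iff_ne_zero.2 fun h => hb (Ideal.algebraMap_residueField_eq_zero.1 h)
  -- the local ring at q surjects
  have hunit : ∀ s : q.primeCompl, IsUnit (algebraMap B' L s) := fun s => by
    rw [IsScalarTower.algebraMap_apply B' C L]
    exact IsLocalization.map_units L (⟨_, Algebra.mem_algebraMapSubmonoid_of_mem s⟩ : S)
  let Bq := Localization.AtPrime q
  let φ : Bq →+* L := IsLocalization.lift (M := q.primeCompl) hunit
  have hφb : ∀ b, φ (algebraMap B' Bq b) = algebraMap B' L b := fun b => IsLocalization.lift_eq _ _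
  have hφ : Function.Surjective φ := by
    have h1 : ∀ z : C, algebraMap C L z ∈ φ.range := by
      intro z
      induction z using TensorProduct.induction_on with
      | zero => rw [map_zero]; exact zero_mem _
      | add x y hx hy => rw [map_add]; exact add_mem hx hy
      | tmul b k =>
        obtain ⟨k, rfl⟩ := IsLocalRing.residue_surjective k
        obtain ⟨a, s, rfl⟩ := IsLocalization.exists_mk'_eq p.primeCompl k
        have hs : algebraMap A' B' s ∈ q.primeCompl := s.2
        refine ⟨IsLocalization.mk' Bq (b * algebraMap A' B' a) ⟨_, hs⟩, ?_⟩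
        rw [IsLocalization.lift_mk'_spec]
        rw [IsScalarTower.algebraMap_apply B' C L, IsScalarTower.algebraMap_apply B' C L, ← map_mul]
        congr 1
        have e2 : (algebraMap A' p.ResidueField a) =
            algebraMap A' p.ResidueField s * IsLocalRing.residue _ (IsLocalization.mk' (Localization.AtPrime p) a s) := by
          rw [IsScalarTower.algebraMap_apply A' (Localization.AtPrime p) p.ResidueField,
            IsScalarTower.algebraMap_apply A' (Localization.AtPrime p) p.ResidueField (s : A'),
            IsLocalRing.ResidueField.algebraMap_eq, ← map_mul, IsLocalization.mk'_spec']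
        show algebraMap B' C (b * algebraMap A' B' a) = algebraMap B' C (algebraMap A' B' s) * (b ⊗ₜ _)
        rw [Algebra.TensorProduct.algebraMap_apply, Algebra.TensorProduct.algebraMap_apply]
        simp only [Algebra.algebraMap_self_apply, Algebra.TensorProduct.tmul_mul_tmul, one_mul]
        rw [mul_comm b, ← Algebra.smul_def, TensorProduct.smul_tmul, Algebra.smul_def, mul_one, e2,
          ← Algebra.smul_def (s : A') (IsLocalRing.residue _ _), ← TensorProduct.smul_tmul, Algebra.smul_def, Algebra.TensorProduct.tmul_mul_tmul, one_mul]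
    intro y
    obtain ⟨z, s, rfl⟩ := IsLocalization.exists_mk'_eq S y
    obtain ⟨x, hx⟩ := h1 z
    obtain ⟨_, b, hb, rfl⟩ := s
    refine ⟨x * IsLocalization.mk' Bq 1 ⟨b, hb⟩, ?_⟩
    rw [map_mul, hx, eq_comm, IsLocalization.mk'_eq_iff_eq_mul, mul_assoc]
    rw [show algebraMap C L (algebraMap B' C b) = φ (algebraMap B' Bq b) by
      rw [hφb, ← IsScalarTower.algebraMap_apply], ← map_mul, IsLocalization.mk'_spec, map_one, map_one, mul_one]
  -- the images of f' lie in the Jacobson radical
  have hjac : ∀ i, algebraMap B' L (f' i) ∈ Ring.jacobson L := by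
    intro i
    rw [Ring.jacobson_eq_sInf_isMaximal, Submodule.mem_sInf]
    intro m hm
    haveI := Ideal.comap_isMaximal_of_surjective φ hφ (K := m) (H := hm)
    rw [← hφb]
    have := (IsLocalRing.eq_maximalIdeal this).ge
      ((IsLocalization.AtPrime.to_map_mem_maximal_iff Bq q (f' i)).2 (hfq i))
    exact this
  haveI : IsNoetherianRing C := by
    haveI : IsNoetherianRing (p.ResidueField ⊗[A'] B') :=
      Algebra.FiniteType.isNoetherianRing p.ResidueField _
    exact isNoetherianRing_of_ringEquiv _ (Algebra.TensorProduct.comm A' p.ResidueField B').toRingEquiv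
  haveI : IsNoetherianRing L := IsLocalization.isNoetherianRing S L inferInstance
  have hL : CAlgX.IsQuasiRegular (fun i => algebraMap B' L (f' i)) := by
    rw [funext fun i => IsScalarTower.algebraMap_apply B' C L (f' i)]
    exact Groth.L03.QuasiRegularBC.localization S L _ hC
  have hw := Groth.Agent.S5803.result L r _ hjac hL
  rw [show (fun i => algebraMap B' L (f' i)) = algebraMap B' L ∘ f' from rfl, ← List.map_ofFn,
    RingTheory.Sequence.isWeaklyRegular_map_algebraMap_iff] at hw
  let loc : C →ₗ[B'] L := (IsScalarTower.toAlgHom B' C L).toLinearMap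
  haveI : IsLocalizedModule q.primeCompl loc :=
    isLocalizedModule_iff_isLocalization.2 (inferInstanceAs (IsLocalization S L))
  let e : LocalizedModule q.primeCompl C ≃ₗ[B'] L := IsLocalizedModule.iso q.primeCompl loc
  refine ⟨(e.isWeaklyRegular_congr _).2 hw, fun htop => ?_⟩
  obtain ⟨m, hm⟩ := Ideal.exists_maximal L
  have hle : Ideal.ofList (List.ofFn f') • (⊤ : Submodule B' L) ≤ m.restrictScalars B' := by
    refine Submodule.smul_le.2 fun b hb x _ => ?_
    have hbm : algebraMap B' L b ∈ m := by
      refine (Ideal.span_le.2 ?_ hb : b ∈ m.comap (algebraMap B' L))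
      intro y hy
      obtain ⟨i, rfl⟩ := List.mem_ofFn.1 hy
      exact (Ring.jacobson_eq_sInf_isMaximal L ▸ hjac i : _ ∈ sInf _) |> fun h => Submodule.mem_sInf.1 h m hm
    show b • x ∈ m
    rw [Algebra.smul_def]
    exact m.mul_mem_right _ hbm
  have h1 : e.symm 1 ∈ Ideal.ofList (List.ofFn f') • (⊤ : Submodule B' _) := htop ▸ Submodule.mem_top
  have h2 := Submodule.mem_map_of_mem (f := (e : _ →ₗ[B'] L)) h1
  rw [Submodule.map_smul''] at h2
  have h3 := hle (Submodule.smul_mono le_rfl le_top h2)
  have h4 : (1 : L) ∈ m := by simpa using h3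
  exact hm.ne_top (m.eq_top_iff_one.2 h4)

theorem flat_quotient [Module.Flat A' B'] [Algebra.FinitePresentation A' B']
    (I : Ideal A') (hI : ∀ x ∈ I, IsNilpotent x) {r : ℕ} (f' : Fin r → B')
    (hq : CAlgX.IsQuasiRegular (fun i => Ideal.Quotient.mk (Ideal.map (algebraMap A' B') I) (f' i)))
    (hflat : Module.Flat (A' ⧸ I)
      ((B' ⧸ Ideal.map (algebraMap A' B') I) ⧸
        Ideal.span (Set.range (fun i => Ideal.Quotient.mk (Ideal.map (algebraMap A' B') I) (f' i))))) :
    Module.Flat A' (B' ⧸ Ideal.span (Set.range f')) := by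
  refine Module.flat_of_isLocalized_maximal (R := A') (S := B') (M := B' ⧸ Ideal.span (Set.range f'))
    (fun P _ => LocalizedModule P.primeCompl (B' ⧸ Ideal.span (Set.range f')))
    (fun P _ => LocalizedModule.mkLinearMap _ _) (fun q hqmax => ?_)
  by_cases hfq : ∀ i, f' i ∈ q
  · set p := q.comap (algebraMap A' B')
    have hreg := isRegular_localized_fibre q f' hfq (isQuasiRegular_fibre I p (le_prime hI p) f' hq hflat)
    haveI hflatq : Module.Flat A' (LocalizedModule q.primeCompl B') :=
      Module.Flat.of_linearEquiv ((IsLocalizedModule.iso q.primeCompl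
        (Algebra.linearMap B' (Localization q.primeCompl))).restrictScalars A')
    have h := (Groth.Agent.S2586.result (A := A') B' q (List.ofFn f')
      (by intro b hb; obtain ⟨i, rfl⟩ := List.mem_ofFn.1 hb; exact hfq i) hflatq hreg).2 r
      (by rw [List.length_ofFn])
    have hset : (Ideal.span {b | b ∈ (List.ofFn f').take r} • (⊤ : Submodule B' B')) =
        Ideal.span (Set.range f') := by
      rw [smul_eq_mul, Ideal.mul_top, List.take_of_length_le (List.length_ofFn ..).le]
      congr 1
      exact Set.ext fun b => List.mem_ofFn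
    rw [hset] at h
    exact h
  · push_neg at hfq
    obtain ⟨i, hi⟩ := hfq
    haveI : Subsingleton (LocalizedModule q.primeCompl (B' ⧸ Ideal.span (Set.range f'))) := by
      rw [LocalizedModule.subsingleton_iff]
      intro m
      obtain ⟨b, rfl⟩ := Ideal.Quotient.mk_surjective m
      refine ⟨f' i, hi, (Submodule.Quotient.mk_eq_zero _).2 ?_⟩
      exact Ideal.mul_mem_right _ _ (Ideal.subset_span ⟨i, rfl⟩)
    infer_instance

end Groth.L03.FlatQuotientNil
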