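import Mathlib.RingTheory.Regular.RegularSequence
import Mathlib.RingTheory.Flat.EquationalCriterion
import Mathlib.LinearAlgebra.TensorProduct.RightExactness
import Mathlib.RingTheory.TensorProduct.Finite
import Mathlib.RingTheory.Nakayama
import Mathlib.RingTheory.LocalRing.RingHom.Basic

/-!
Flatness of a module from flatness of its quotient by a regular sequence.
-/

namespace Groth.L03.FlatRegSeq

universe u

open TensorProduct IsLocalRing RingTheory.Sequence
open scoped Pointwise

variable {A B : Type u} [CommRing A] [CommRing B] [Algebra A B] [IsNoetherianRing A] [IsLocalRing B]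
  [IsNoetherianRing B]

theorem lTensor_smul {M : Type u} [AddCommGroup M] [Module B M] [Module A M] [IsScalarTower A B M]
    {N N' : Type u} [AddCommGroup N] [Module A N] [AddCommGroup N'] [Module A N'] (f : N →ₗ[A] N') (b : B)
    (z : M ⊗[A] N) : f.lTensor M (b • z) = b • f.lTensor M z := by
  induction z using TensorProduct.induction_on with
  | zero => simp
  | tmul m n => rfl
  | add a c ha hc => simp only [smul_add, map_add, ha, hc]

theorem flat_of_quotSMulTop (M : Type u) [AddCommGroup M] [Module B M] [Module A M] [IsScalarTower A B M]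
    [Module.Finite B M] {x : B} (hx : x ∈ maximalIdeal B) (hreg : IsSMulRegular M x)
    [Module.Flat A (QuotSMulTop x M)] : Module.Flat A M := by
  refine Module.Flat.iff_lTensor_injective'.2 fun I => ?_
  haveI : Module.Finite A I := Module.Finite.iff_fg.mpr (IsNoetherian.noetherian I)
  haveI : Module.Finite B (M ⊗[A] I) :=
    Module.Finite.equiv (AlgebraTensorModule.cancelBaseChange A B B M I)
  let Φ : M ⊗[A] I →ₗ[B] M ⊗[A] A :=
    { toFun := I.subtype.lTensor M
      map_add' := map_add _
      map_smul' := fun b z => lTensor_smul I.subtype b z }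
  have hex : Function.Exact ((LinearMap.lsmul B M x).restrictScalars A)
      ((Submodule.mkQ (x • ⊤ : Submodule B M)).restrictScalars A) := fun y => by
    show Submodule.mkQ (x • ⊤ : Submodule B M) y = 0 ↔ _
    rw [Submodule.mkQ_apply, Submodule.Quotient.mk_eq_zero, Submodule.mem_smul_pointwise_iff_exists]
    exact ⟨fun ⟨z, _, hz⟩ => ⟨z, hz⟩, fun ⟨z, hz⟩ => ⟨z, trivial, hz⟩⟩
  have hker : LinearMap.ker Φ ≤ Ideal.span {x} • LinearMap.ker Φ := by
    intro z hz
    rw [LinearMap.mem_ker] at hz
    have h1 : ((Submodule.mkQ (x • ⊤ : Submodule B M)).restrictScalars A).rTensor I z = 0 := by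
      apply Module.Flat.lTensor_preserves_injective_linearMap (M := QuotSMulTop x M) I.subtype
        Subtype.val_injective
      rw [map_zero, ← LinearMap.comp_apply, LinearMap.lTensor_comp_rTensor,
        ← LinearMap.rTensor_comp_lTensor, LinearMap.comp_apply]
      show _ = _
      rw [show I.subtype.lTensor M z = 0 from hz, map_zero]
    obtain ⟨z', hz'⟩ := (rTensor_exact I hex (Submodule.mkQ_surjective _) z).1 h1
    have hsmul : ∀ w : M ⊗[A] I, ((LinearMap.lsmul B M x).restrictScalars A).rTensor I w = x • w := fun w => by
      induction w using TensorProduct.induction_on with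
      | zero => simp
      | tmul m n => rfl
      | add a c ha hc => rw [map_add, ha, hc, smul_add]
    rw [hsmul] at hz'
    have hz'0 : Φ z' = 0 := by
      apply (AlgebraTensorModule.rid A B M).injective
      rw [map_zero]
      refine hreg.right_eq_zero_of_smul ?_
      rw [← map_smul, ← map_smul, hz', hz, map_zero]
    rw [← hz']
    exact Submodule.smul_mem_smul (Ideal.mem_span_singleton_self x) (LinearMap.mem_ker.2 hz'0)
  have h0 := Submodule.eq_bot_of_le_smul_of_le_jacobson_bot (Ideal.span {x}) (LinearMap.ker Φ)
    (IsNoetherian.noetherian _) hker (le_trans ((Ideal.span_singleton_le_iff_mem _).2 hx) (maximalIdeal_le_jacobson _))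
  exact (LinearMap.ker_eq_bot.1 h0 : Function.Injective Φ)

theorem flat_quotients : ∀ (l : List B), (∀ f ∈ l, f ∈ maximalIdeal B) →
    ∀ (M : Type u) [AddCommGroup M] [Module B M] [Module A M] [IsScalarTower A B M] [Module.Finite B M],
      IsWeaklyRegular M l → Module.Flat A (M ⧸ (Ideal.ofList l • (⊤ : Submodule B M))) →
      ∀ i ≤ l.length, Module.Flat A (M ⧸ (Ideal.ofList (l.take i) • (⊤ : Submodule B M))) := by
  intro l
  induction l with
  | nil =>
    intro _ M _ _ _ _ _ _ hfl i _
    rw [List.take_nil]
    exact hfl
  | cons g t ih =>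
    intro hl M _ _ _ _ _ hreg hfl i hi
    obtain ⟨hg, ht⟩ := (isWeaklyRegular_cons_iff _ g t).mp hreg
    have e : ∀ j, (M ⧸ (Ideal.ofList ((g :: t).take (j + 1)) • (⊤ : Submodule B M))) ≃ₗ[B] _ := fun j =>
      Submodule.quotEquivOfEq _ _ (by rw [List.take_succ_cons]) ≪≫ₗ
        Submodule.quotOfListConsSMulTopEquivQuotSMulTopInner M g (t.take j)
    have hfl' : Module.Flat A (QuotSMulTop g M ⧸ (Ideal.ofList t • (⊤ : Submodule B (QuotSMulTop g M)))) :=
      Module.Flat.of_linearEquiv ((Submodule.quotOfListConsSMulTopEquivQuotSMulTopInner M g t).restrictScalars A).symm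
    have hall := ih (fun f hf => hl f (List.mem_cons_of_mem _ hf)) (QuotSMulTop g M) ht hfl'
    cases i with
    | succ j =>
      haveI := hall j (by simpa using hi)
      exact Module.Flat.of_linearEquiv ((e j).restrictScalars A)
    | zero =>
      haveI : Module.Flat A (QuotSMulTop g M) := by
        haveI := hall 0 (Nat.zero_le _)
        exact Module.Flat.of_linearEquiv
          ((Submodule.quotEquivOfEqBot (Ideal.ofList (t.take 0) • (⊤ : Submodule B (QuotSMulTop g M)))
            (by simp)).restrictScalars A).symm
      haveI := flat_of_quotSMulTop (A := A) M (hl g List.mem_cons_self) hg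
      exact Module.Flat.of_linearEquiv
        ((Submodule.quotEquivOfEqBot (Ideal.ofList ((g :: t).take 0) • (⊤ : Submodule B M))
          (by simp)).restrictScalars A)

end Groth.L03.FlatRegSeq
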