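import Mathlib.RingTheory.Flat.Basic
import Mathlib.RingTheory.Flat.EquationalCriterion
import Mathlib.LinearAlgebra.TensorProduct.RightExactness
import Mathlib.RingTheory.Ideal.AssociatedPrime.Finiteness
import Mathlib.LinearAlgebra.Finsupp.LinearCombination

/-!
Flatness over a Noetherian ring is detected on quotients by prime ideals.
-/

namespace Groth.L03.FlatTorPrime

universe u

open TensorProduct

variable {A : Type u} [CommRing A]

theorem swap {X Y U V : Type*} [AddCommMonoid X] [Module A X] [AddCommMonoid Y] [Module A Y]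
    [AddCommMonoid U] [Module A U] [AddCommMonoid V] [Module A V] (a : U →ₗ[A] V) (g : X →ₗ[A] Y)
    (z : U ⊗[A] X) : a.rTensor Y (g.lTensor U z) = g.lTensor V (a.rTensor X z) := by
  rw [← LinearMap.comp_apply, ← LinearMap.comp_apply, LinearMap.rTensor_comp_lTensor,
    LinearMap.lTensor_comp_rTensor]

variable {K F M X Y Z : Type*} [AddCommGroup K] [Module A K] [AddCommGroup F] [Module A F]
  [AddCommGroup M] [Module A M] [AddCommGroup X] [Module A X] [AddCommGroup Y] [Module A Y]
  [AddCommGroup Z] [Module A Z] {e : K →ₗ[A] F} {π : F →ₗ[A] M} {i : X →ₗ[A] Y} {q : Y →ₗ[A] Z}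
  (hex : Function.Exact e π) (hπ : Function.Surjective π) (hiq : Function.Exact i q)
  (hq : Function.Surjective q)

include hex hπ hiq hq

theorem left_injective (he : Function.Injective (e.rTensor Y)) (h : Function.Injective (i.lTensor M)) :
    ∀ x : K ⊗[A] Z, e.rTensor Z x = 0 → x = 0 := by
  intro y hy
  obtain ⟨k, rfl⟩ := LinearMap.lTensor_surjective K hq y
  rw [swap] at hy
  obtain ⟨w, hw⟩ := (lTensor_exact F hiq hq _).1 hy
  have hw0 : π.rTensor X w = 0 := by
    refine h ?_
    rw [← swap, hw, map_zero]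
    exact (rTensor_exact Y hex hπ _).2 ⟨k, rfl⟩
  obtain ⟨z, rfl⟩ := (rTensor_exact X hex hπ w).1 hw0
  rw [← swap] at hw
  have hk : i.lTensor K z = k := he hw
  rw [← hk]
  exact (lTensor_exact K hiq hq).apply_apply_eq_zero z

theorem right_injective (hi : Function.Injective (i.lTensor F))
    (h : ∀ x : K ⊗[A] Z, e.rTensor Z x = 0 → x = 0) : Function.Injective (i.lTensor M) := by
  rw [injective_iff_map_eq_zero]
  intro x hx
  obtain ⟨y, rfl⟩ := LinearMap.rTensor_surjective X hπ x
  rw [← swap] at hx
  obtain ⟨k, hk⟩ := (rTensor_exact Y hex hπ _).1 hx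
  have hk0 : q.lTensor K k = 0 := h _ (by
    rw [swap, hk]
    exact (lTensor_exact F hiq hq).apply_apply_eq_zero y)
  obtain ⟨z, rfl⟩ := (lTensor_exact K hiq hq k).1 hk0
  rw [swap] at hk
  have hy : e.rTensor X z = y := hi hk
  rw [← hy]
  exact (rTensor_exact X hex hπ).apply_apply_eq_zero z

omit hex hπ in
theorem middle (hi : Function.Injective (i.lTensor F))
    (hX : ∀ x : K ⊗[A] X, e.rTensor X x = 0 → x = 0)
    (hZ : ∀ x : K ⊗[A] Z, e.rTensor Z x = 0 → x = 0) :
    ∀ x : K ⊗[A] Y, e.rTensor Y x = 0 → x = 0 := by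
  intro x hx
  have hx3 : q.lTensor K x = 0 := hZ _ (by rw [swap, hx, map_zero])
  obtain ⟨y, rfl⟩ := (lTensor_exact K hiq hq x).1 hx3
  rw [swap] at hx
  rw [hX y (hi (hx.trans (map_zero _).symm)), map_zero]

omit hex hπ hiq hq

theorem flat_of_presentation [IsNoetherianRing A] {M : Type u} [AddCommGroup M] [Module A M]
    {K F : Type u} [AddCommGroup K] [Module A K] [AddCommGroup F] [Module A F] [Module.Flat A F]
    (e : K →ₗ[A] F) (π : F →ₗ[A] M) (he : Function.Injective e) (hex : Function.Exact e π)
    (hπ : Function.Surjective π)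
    (h : ∀ p : Ideal A, p.IsPrime → Function.Injective (p.subtype.lTensor M)) : Module.Flat A M := by
  refine Module.Flat.iff_lTensor_injective'.2 fun J => ?_
  refine right_injective hex hπ (LinearMap.exact_subtype_mkQ J) (Submodule.mkQ_surjective J)
    (Module.Flat.lTensor_preserves_injective_linearMap J.subtype Subtype.val_injective) ?_
  refine IsNoetherianRing.induction_on_isQuotientEquivQuotientPrime A (M := A ⧸ J) inferInstance
    (motive := fun N _ _ _ => ∀ x : K ⊗[A] N, e.rTensor N x = 0 → x = 0) ?_ ?_ ?_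
  · intro N _ _ _ _ x _
    exact Subsingleton.elim x 0
  · intro N _ _ _ p eN x hx
    have h1 := left_injective hex hπ (LinearMap.exact_subtype_mkQ p.asIdeal)
      (Submodule.mkQ_surjective p.asIdeal)
      (Module.Flat.rTensor_preserves_injective_linearMap e he) (h p.asIdeal p.isPrime)
      (eN.toLinearMap.lTensor _ x) (by rw [swap, hx, map_zero])
    exact (LinearEquiv.lTensor _ eN).injective (h1.trans (map_zero _).symm)
  · intro N₁ _ _ _ N₂ _ _ _ N₃ _ _ _ f g hf hg hfg h1 h3
    exact middle hfg hg (Module.Flat.lTensor_preserves_injective_linearMap f hf) h1 h3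

theorem flat_of_prime [IsNoetherianRing A] {M : Type u} [AddCommGroup M] [Module A M]
    (h : ∀ p : Ideal A, p.IsPrime → Function.Injective (p.subtype.lTensor M)) : Module.Flat A M :=
  flat_of_presentation (K := ↥(LinearMap.ker (Finsupp.linearCombination A (id : M → M)))) (LinearMap.ker (Finsupp.linearCombination A (id : M → M))).subtype
    (Finsupp.linearCombination A (id : M → M)) Subtype.val_injective (LinearMap.exact_subtype_ker_map _)
    (fun m => ⟨Finsupp.single m 1, by rw [Finsupp.linearCombination_single, one_smul]; rfl⟩) h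

end Groth.L03.FlatTorPrime
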