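import Groth.Agent.S9158
import Mathlib.RingTheory.Spectrum.Prime.ConstructibleSet
import Mathlib.RingTheory.Spectrum.Prime.Jacobson
import Mathlib.Topology.JacobsonSpace
import Mathlib.RingTheory.Jacobson.Ring
import Mathlib.RingTheory.Localization.Away.AdjoinRoot
import Mathlib.LinearAlgebra.FreeModule.Basic

/-!
Images of constructible sets under morphisms of finite type.
-/

set_option autoImplicit false
set_option linter.style.haveILetI false

universe u

namespace Groth.L03.FtImage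

open PrimeSpectrum

/-- A finite type extension of a nonzero algebra over a domain has all primes outside some `D(a)` in its image. -/
theorem exists_prime_over {R T : Type u} [CommRing R] [IsDomain R] [CommRing T] [IsDomain T] [Algebra R T]
    [Algebra.FiniteType R T] (hinj : Function.Injective (algebraMap R T)) :
    ∃ a : R, a ≠ 0 ∧ ∀ P : Ideal R, P.IsPrime → a ∉ P → ∃ Q : Ideal T, Q.IsPrime ∧ Q.comap (algebraMap R T) = P := by
  obtain ⟨U, hU, hUd, hUf⟩ := Groth.Agent.S9158.result R T T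
  obtain ⟨u, huU, -⟩ := hUd.inter_open_nonempty _ isOpen_univ ⟨⟨⊥, Ideal.isPrime_bot⟩, trivial⟩ |>.imp
    fun u h => And.intro h.2 trivial
  obtain ⟨f, hf, -, hfree, -, -, -⟩ := hUf u huU
  have hf0 : f ≠ 0 := fun h => hf (h ▸ zero_mem _)
  refine ⟨f, hf0, fun P hP hfP => ?_⟩
  haveI := hP
  let Rf := Localization.Away f
  let L := LocalizedModule (Submonoid.powers f) T
  haveI : Module.Free Rf L := hfree
  let ι := Module.Free.ChooseBasisIndex Rf L
  let b := Module.Free.chooseBasis Rf L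
  have hne : Nontrivial L := by
    refine ⟨LocalizedModule.mk (1 : T) 1, 0, fun h => ?_⟩
    rw [← LocalizedModule.zero_mk (1 : Submonoid.powers f), LocalizedModule.mk_eq] at h
    obtain ⟨⟨_, n, rfl⟩, hc⟩ := h
    simp only [one_smul, smul_zero, Submonoid.smul_def] at hc
    rw [Algebra.smul_def, mul_one] at hc
    exact pow_ne_zero n hf0 (hinj (hc.trans (map_zero _).symm))
  obtain ⟨i⟩ := b.index_nonempty
  refine (Ideal.comap_map_eq_self_iff_of_isPrime P).1 (le_antisymm (fun a ha => ?_) Ideal.le_comap_map) |>.imp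
    fun Q h => ⟨h.1, h.2⟩
  let PR : Ideal Rf := P.map (algebraMap R Rf)
  have hsub : ∀ t ∈ P.map (algebraMap R T), ∀ x : T,
      LocalizedModule.mk (t * x) (1 : Submonoid.powers f) ∈ PR • (⊤ : Submodule Rf L) := by
    intro t ht
    induction ht using Submodule.span_induction with
    | mem y hy =>
      intro x
      obtain ⟨r, hr, rfl⟩ := hy
      have : LocalizedModule.mk (algebraMap R T r * x) (1 : Submonoid.powers f) =
          algebraMap R Rf r • (LocalizedModule.mk x 1 : L) := by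
        rw [algebraMap_smul, LocalizedModule.smul'_mk, Algebra.smul_def]
      rw [this]
      exact Submodule.smul_mem_smul (Ideal.mem_map_of_mem _ hr) Submodule.mem_top
    | zero => intro x; rw [zero_mul, LocalizedModule.zero_mk]; exact zero_mem _
    | add y z _ _ hy hz =>
      intro x
      have := add_mem (hy x) (hz x)
      rwa [LocalizedModule.mk_add_mk, one_mul, one_smul, one_smul, ← add_mul] at this
    | smul c y _ hy => intro x; rw [smul_eq_mul, mul_comm c, mul_assoc]; exact hy _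
  have hall : ∀ z : L, algebraMap R Rf a • z ∈ PR • (⊤ : Submodule Rf L) := by
    intro z
    induction z using LocalizedModule.induction_on with
    | h x s =>
      obtain ⟨w, hw⟩ := IsLocalization.map_units Rf (s : Submonoid.powers f)
      have h1 := Submodule.smul_mem _ ((w⁻¹ : Rfˣ) : Rf) (hsub _ ha x)
      refine (congrArg (· ∈ PR • (⊤ : Submodule Rf L)) ?_).mp h1
      have h2 : algebraMap R Rf (s : R) • (LocalizedModule.mk x s : L) = LocalizedModule.mk x 1 := by
        rw [algebraMap_smul, LocalizedModule.smul'_mk]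
        exact LocalizedModule.mk_cancel s x
      have h4 : (LocalizedModule.mk (algebraMap R T a * x) 1 : L) = algebraMap R Rf a • LocalizedModule.mk x 1 := by
        rw [algebraMap_smul, LocalizedModule.smul'_mk, Algebra.smul_def]
      rw [h4, ← h2, ← hw, smul_smul, smul_smul, mul_right_comm, Units.inv_mul, one_mul]
  have h1 := hall (b i)
  have h2 : ∀ z ∈ PR • (⊤ : Submodule Rf L), b.repr z i ∈ PR := by
    intro z hz
    induction hz using Submodule.smul_induction_on' with
    | smul r hr x _ => rw [map_smul, Finsupp.smul_apply, smul_eq_mul]; exact PR.mul_mem_right _ hr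
    | add x _ y _ hx hy => rw [map_add, Finsupp.add_apply]; exact PR.add_mem hx hy
  have h3 := h2 _ h1
  rw [map_smul, Finsupp.smul_apply, b.repr_self, Finsupp.single_eq_same, smul_eq_mul, mul_one] at h3
  have hdis : Disjoint (Submonoid.powers f : Set R) (P : Set R) :=
    Ideal.disjoint_powers_iff_notMem _ (hP.isRadical) |>.2 hfP
  rw [← IsLocalization.under_map_of_isPrime_disjoint (Submonoid.powers f) Rf hP hdis]
  exact h3

variable {R S : Type u} [CommRing R] [CommRing S] [Algebra R S]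

/-- Near the generic point of an irreducible closed set, the image of a constructible set is everything. -/
theorem exists_subset_image [Algebra.FiniteType R S] {E : Set (PrimeSpectrum S)} (hE : Topology.IsConstructible E)
    {ξ : PrimeSpectrum R} (hξ : ξ ∈ comap (algebraMap R S) '' E) :
    ∃ a : R, a ∉ ξ.asIdeal ∧ (basicOpen a : Set (PrimeSpectrum R)) ∩ closure {ξ} ⊆ comap (algebraMap R S) '' E := by
  obtain ⟨q, hqE, rfl⟩ := hξ
  obtain ⟨D, rfl⟩ := exists_constructibleSetData_iff.2 hE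
  obtain ⟨C, hCD, hqC⟩ := Set.mem_iUnion₂.1 hqE
  obtain ⟨hg, hf⟩ := hqC
  rw [mem_zeroLocus] at hg
  have hf' : C.f ∉ q.asIdeal := fun h => hf (Set.singleton_subset_iff.2 h)
  let p := (comap (algebraMap R S) q).asIdeal
  let q' : Ideal S := q.asIdeal
  let S₀ := S ⧸ q'
  let f₀ : S₀ := Ideal.Quotient.mk q' C.f
  have hf₀ : f₀ ≠ 0 := fun h => hf' (Ideal.Quotient.eq_zero_iff_mem.1 h)
  let T := Localization.Away f₀
  haveI : IsDomain T := IsLocalization.isDomain_localization (powers_le_nonZeroDivisors_of_noZeroDivisors hf₀)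
  letI : Algebra (R ⧸ p) S₀ :=
    (Ideal.quotientMap q' (algebraMap R S) le_rfl).toAlgebra
  haveI : IsScalarTower R (R ⧸ p) S₀ := IsScalarTower.of_algebraMap_eq fun _ => rfl
  haveI : Algebra.FiniteType (R ⧸ p) S₀ := Algebra.FiniteType.of_restrictScalars_finiteType R _ _
  haveI : Algebra.FiniteType (R ⧸ p) T := Algebra.FiniteType.trans (R := R ⧸ p) (S := S₀) inferInstance inferInstance
  have hinj : Function.Injective (algebraMap (R ⧸ p) T) := by
    rw [IsScalarTower.algebraMap_eq (R ⧸ p) S₀ T]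
    exact (IsLocalization.injective T (powers_le_nonZeroDivisors_of_noZeroDivisors hf₀)).comp
      (Ideal.quotientMap_injective' (H := le_rfl) le_rfl)
  obtain ⟨a₀, ha₀, ha⟩ := exists_prime_over hinj
  obtain ⟨a, rfl⟩ := Ideal.Quotient.mk_surjective a₀
  refine ⟨a, fun h => ha₀ (Ideal.Quotient.eq_zero_iff_mem.2 h), fun P hP => ?_⟩
  obtain ⟨haP, hPc⟩ := hP
  have hle : p ≤ P.asIdeal := (le_iff_mem_closure _ _).2 hPc
  haveI : (P.asIdeal.map (Ideal.Quotient.mk p)).IsPrime :=
    Ideal.map_isPrime_of_surjective Ideal.Quotient.mk_surjective (Ideal.mk_ker.trans_le hle)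
  have hc : (P.asIdeal.map (Ideal.Quotient.mk p)).comap (Ideal.Quotient.mk p) = P.asIdeal := by
    rw [Ideal.comap_map_quotientMk, sup_eq_right.mpr hle]
  obtain ⟨Q, hQ, hQP⟩ := ha _ this fun h => haP (hc ▸ Ideal.mem_comap.2 h)
  haveI := hQ
  refine ⟨⟨Q.comap ((algebraMap S₀ T).comp (Ideal.Quotient.mk q')), Ideal.IsPrime.comap _⟩,
    Set.mem_iUnion₂.2 ⟨C, hCD, ?_, ?_⟩, ?_⟩
  · rw [mem_zeroLocus]
    intro x hx
    show algebraMap S₀ T (Ideal.Quotient.mk q' x) ∈ Q
    rw [Ideal.Quotient.eq_zero_iff_mem.2 (hg hx), map_zero]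
    exact zero_mem _
  · intro h
    have h0 := Set.singleton_subset_iff.1 ((mem_zeroLocus _ _).1 h)
    have h1 : algebraMap S₀ T f₀ ∈ Q := h0
    exact hQ.ne_top (Q.eq_top_of_isUnit_mem h1 (IsLocalization.map_units T (⟨f₀, Submonoid.mem_powers f₀⟩ : Submonoid.powers f₀)))
  · refine PrimeSpectrum.ext ?_
    show (Q.comap ((algebraMap S₀ T).comp (Ideal.Quotient.mk q'))).comap (algebraMap R S) = P.asIdeal
    rw [← hc, ← hQP, Ideal.comap_comap, Ideal.comap_comap]
    rfl

/-- Near the generic point of an irreducible closed set not in the image, the image is empty. -/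
theorem exists_disjoint_image {E : Set (PrimeSpectrum S)} (hE : Topology.IsConstructible E)
    {ξ : PrimeSpectrum R} (hξ : ξ ∉ comap (algebraMap R S) '' E) :
    ∃ a : R, a ∉ ξ.asIdeal ∧ (basicOpen a : Set (PrimeSpectrum R)) ∩ closure {ξ} ∩ comap (algebraMap R S) '' E = ∅ := by
  classical
  obtain ⟨D, rfl⟩ := exists_constructibleSetData_iff.2 hE
  have key : ∀ C ∈ D, ∃ a : R, a ∉ ξ.asIdeal ∧
      ∀ q : PrimeSpectrum S, q ∈ C.toSet → ξ.asIdeal ≤ (comap (algebraMap R S) q).asIdeal → algebraMap R S a ∈ q.asIdeal := by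
    intro C hC
    by_contra hcon
    push Not at hcon
    let I := Ideal.span (Set.range C.g) ⊔ ξ.asIdeal.map (algebraMap R S)
    let M : Submonoid S := Submonoid.map (algebraMap R S).toMonoidHom ξ.asIdeal.primeCompl ⊔ Submonoid.powers C.f
    have hdis : Disjoint (I : Set S) (M : Set S) := by
      rw [Set.disjoint_left]
      intro x hxI hxM
      obtain ⟨_, ⟨a, ha, rfl⟩, _, ⟨n, rfl⟩, rfl⟩ := Submonoid.mem_sup.1 hxM
      obtain ⟨q, hq, hle, hnot⟩ := hcon a ha
      obtain ⟨hg, hf⟩ := hq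
      have hI : I ≤ q.asIdeal := sup_le (Ideal.span_le.2 ((mem_zeroLocus _ _).1 hg)) (Ideal.map_le_iff_le_comap.2 hle)
      exact ((q.isPrime.mem_or_mem (hI hxI)).elim hnot
        fun h => hf (Set.singleton_subset_iff.2 (q.isPrime.mem_of_pow_mem n h)))
    obtain ⟨q, hq, hIq, hqM⟩ := Ideal.exists_le_prime_disjoint I M hdis
    refine hξ ⟨⟨q, hq⟩, Set.mem_iUnion₂.2 ⟨C, hC, ?_, fun h => ?_⟩, PrimeSpectrum.ext (le_antisymm ?_ ?_)⟩
    · exact (mem_zeroLocus _ _).2 fun x hx => hIq (Ideal.mem_sup_left (Ideal.subset_span hx))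
    · exact Set.disjoint_left.1 hqM (Set.singleton_subset_iff.1 h) (Submonoid.mem_sup_right (Submonoid.mem_powers _))
    · intro a ha
      by_contra haξ
      exact Set.disjoint_left.1 hqM ha (Submonoid.mem_sup_left ⟨a, haξ, rfl⟩)
    · exact Ideal.map_le_iff_le_comap.1 (le_sup_right.trans hIq)
  choose! a ha hav using key
  refine ⟨∏ C ∈ D, a C, show _ ∈ ξ.asIdeal.primeCompl from prod_mem fun C hC => ha C hC,
    Set.eq_empty_iff_forall_notMem.2 ?_⟩
  rintro P ⟨⟨hP, hPc⟩, q, hq, rfl⟩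
  obtain ⟨C, hC, hqC⟩ := Set.mem_iUnion₂.1 hq
  exact hP (Ideal.mem_of_dvd _ (Finset.dvd_prod_of_mem a hC) (hav C hC q hqC ((le_iff_mem_closure _ _).2 hPc)))

theorem subset_closure_basicOpen_inter {a : R} {ξ : PrimeSpectrum R} (ha : a ∉ ξ.asIdeal) :
    closure ({ξ} : Set (PrimeSpectrum R)) ⊆ closure ((basicOpen a : Set (PrimeSpectrum R)) ∩ closure {ξ}) :=
  closure_minimal (Set.singleton_subset_iff.2 (subset_closure ⟨ha, subset_closure rfl⟩)) isClosed_closure

variable [IsJacobsonRing R] [IsJacobsonRing S]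

omit [IsJacobsonRing S] in
theorem isClosed_singleton_comap [Algebra.FiniteType R S] {y : PrimeSpectrum S} (hy : IsClosed ({y} : Set (PrimeSpectrum S))) :
    IsClosed ({comap (algebraMap R S) y} : Set (PrimeSpectrum R)) := by
  rw [isClosed_singleton_iff_isMaximal] at hy ⊢
  haveI := hy
  letI := Ideal.Quotient.field y.asIdeal
  haveI : Module.Finite R (S ⧸ y.asIdeal) := finite_of_finite_type_of_isJacobsonRing _ _
  have h : (comap (algebraMap R S) y).asIdeal = (⊥ : Ideal (S ⧸ y.asIdeal)).comap (algebraMap R (S ⧸ y.asIdeal)) := by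
    rw [IsScalarTower.algebraMap_eq R S (S ⧸ y.asIdeal), ← Ideal.comap_comap, ← RingHom.ker_eq_comap_bot,
      Ideal.Quotient.algebraMap_eq, Ideal.mk_ker]
    rfl
  rw [h]
  haveI : (⊥ : Ideal (S ⧸ y.asIdeal)).IsMaximal := Ideal.bot_isMaximal
  exact Ideal.isMaximal_comap_of_isIntegral_of_isMaximal _

omit [IsJacobsonRing R] in
omit [Algebra R S] in
theorem isClosed_singleton_of_closed_in {E : Set (PrimeSpectrum S)} (hE : Topology.IsConstructible E)
    {y : PrimeSpectrum S} (hy : y ∈ E) (h : closure {y} ∩ E = {y}) : IsClosed ({y} : Set (PrimeSpectrum S)) := by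
  obtain ⟨D, rfl⟩ := exists_constructibleSetData_iff.2 hE
  obtain ⟨C, hCD, hg, hf⟩ := Set.mem_iUnion₂.1 hy
  refine isClosed_singleton_of_isLocallyClosed_singleton ?_
  refine ⟨(zeroLocus {C.f})ᶜ, zeroLocus (Set.range C.g) ∩ closure {y}, (isClosed_zeroLocus _).isOpen_compl,
    (isClosed_zeroLocus _).inter isClosed_closure, ?_⟩
  refine Set.Subset.antisymm (Set.singleton_subset_iff.2 ⟨hf, hg, subset_closure rfl⟩) fun z hz => ?_
  exact h.subset ⟨hz.2.2, Set.mem_iUnion₂.2 ⟨C, hCD, hz.2.1, hz.1⟩⟩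

theorem exists_closed_over [Algebra.FiniteType R S] {E : Set (PrimeSpectrum S)} (hE : Topology.IsConstructible E)
    {x : PrimeSpectrum R} (hx : IsClosed ({x} : Set (PrimeSpectrum R))) (hxE : x ∈ comap (algebraMap R S) '' E) :
    ∃ y ∈ E, IsClosed ({y} : Set (PrimeSpectrum S)) ∧ comap (algebraMap R S) y = x := by
  obtain ⟨q, hq, rfl⟩ := hxE
  obtain ⟨D, rfl⟩ := exists_constructibleSetData_iff.2 hE
  obtain ⟨C, hCD, hg, hf⟩ := Set.mem_iUnion₂.1 hq
  have hlc : IsLocallyClosed ((zeroLocus {C.f})ᶜ ∩ (zeroLocus (Set.range C.g) ∩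
      comap (algebraMap R S) ⁻¹' {comap (algebraMap R S) q})) :=
    ⟨_, _, (isClosed_zeroLocus _).isOpen_compl,
      (isClosed_zeroLocus _).inter (hx.preimage (continuous_comap _)), rfl⟩
  have hne : ((zeroLocus {C.f})ᶜ ∩ (zeroLocus (Set.range C.g) ∩
      comap (algebraMap R S) ⁻¹' {comap (algebraMap R S) q})).Nonempty := ⟨q, hf, hg, rfl⟩
  obtain ⟨y, ⟨hyf, hyg, hyx⟩, hy⟩ := nonempty_inter_closedPoints hne hlc
  exact ⟨y, Set.mem_iUnion₂.2 ⟨C, hCD, hyg, hyf⟩, hy, hyx⟩

end Groth.L03.FtImage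

namespace Groth.L03.FtImage

open PrimeSpectrum

variable {R S : Type u} [CommRing R] [CommRing S] [Algebra R S] [IsJacobsonRing R] [IsJacobsonRing S]
  [Algebra.FiniteType R S] {E : Set (PrimeSpectrum S)}

theorem image_closedIn_eq (hE : Topology.IsConstructible E) :
    comap (algebraMap R S) '' {y | y ∈ E ∧ closure {y} ∩ E = {y}} =
      {x | IsClosed ({x} : Set (PrimeSpectrum R))} ∩ comap (algebraMap R S) '' E := by
  refine Set.Subset.antisymm ?_ ?_
  · rintro _ ⟨y, ⟨hy, hy'⟩, rfl⟩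
    exact ⟨isClosed_singleton_comap (isClosed_singleton_of_closed_in hE hy hy'), y, hy, rfl⟩
  · rintro x ⟨hx, hxE⟩
    obtain ⟨y, hy, hyc, rfl⟩ := exists_closed_over hE hx hxE
    exact ⟨y, ⟨hy, by rw [hyc.closure_eq, Set.inter_eq_left.2 (Set.singleton_subset_iff.2 hy)]⟩, rfl⟩

theorem closedIn_image_eq (hE : Topology.IsConstructible E) :
    {x | x ∈ comap (algebraMap R S) '' E ∧ closure {x} ∩ comap (algebraMap R S) '' E = {x}} =
      {x | IsClosed ({x} : Set (PrimeSpectrum R))} ∩ comap (algebraMap R S) '' E := by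
  refine Set.Subset.antisymm ?_ ?_
  · rintro x ⟨hxE, hx⟩
    obtain ⟨a, ha, hsub⟩ := exists_subset_image hE hxE
    refine ⟨isClosed_singleton_of_isLocallyClosed_singleton ⟨(basicOpen a : Set (PrimeSpectrum R)), closure ({x} : Set (PrimeSpectrum R)), (basicOpen a).isOpen, isClosed_closure,
      Set.Subset.antisymm (Set.singleton_subset_iff.2 ⟨ha, subset_closure rfl⟩)
        fun z hz => hx.subset ⟨hz.2, hsub hz⟩⟩, hxE⟩
  · rintro x ⟨hx, hxE⟩
    exact ⟨hxE, by rw [hx.closure_eq, Set.inter_eq_left.2 (Set.singleton_subset_iff.2 hxE)]⟩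

end Groth.L03.FtImage
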