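import Groth.Agent.S2672
import Groth.Agent.S9257
import Groth.Agent.S0564
import Groth.Agent.L01.CompletionReg
import Groth.Agent.L06.FormSmoothField2
import Mathlib.FieldTheory.Perfect
import Mathlib.FieldTheory.PurelyInseparable.Basic
import Mathlib.RingTheory.DedekindDomain.PID
import Mathlib.Data.ZMod.QuotientRing
import Mathlib.Algebra.Field.ULift

/-!
The ring of integers is a G-ring.
-/

namespace Groth.L03.GRingInt

universe u

open TensorProduct

/-- over a perfect field, regular implies geometrically regular -/
theorem geomReg_of_perfect (k S : Type u) [Field k] [PerfectField k] [CommRing S] [Algebra k S]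
    [IsRegularRing S] : CAlg.IsGeometricallyRegular k S := by
  refine (Groth.Agent.S2672.result k S).1.2 fun k' _ _ hfin hpi => ?_
  haveI := hfin
  haveI := hpi
  haveI : Algebra.IsSeparable k k' := Algebra.IsAlgebraic.isSeparable_of_perfectField
  have hb : Function.Bijective (algebraMap k k') :=
    ⟨(algebraMap k k').injective, IsPurelyInseparable.surjective_algebraMap_of_isSeparable k k'⟩
  exact IsRegularRing.of_ringEquiv
    ((Algebra.TensorProduct.lid k S).symm.trans
      (Algebra.TensorProduct.congr (AlgEquiv.ofBijective (Algebra.ofId k k') hb) AlgEquiv.refl)).toRingEquiv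

theorem geomReg_generic_formalFibre (A : Type u) [CommRing A] [IsDomain A] [IsRegularLocalRing A]
    [PerfectField (⊥ : Ideal A).ResidueField] :
    CAlg.IsGeometricallyRegular (⊥ : Ideal A).ResidueField (EGA4.formalFibre A (⊥ : Ideal A)) := by
  haveI : IsRegularLocalRing (EGA4.Cpl A) := (Groth.L01.CompletionReg.isRegularLocalRing_iff_completion A).1 inferInstance
  haveI : IsRegularRing (EGA4.Cpl A) := isRegularRing_iff.2 fun p _ => Groth.Agent.S0564.result _ p
  let K := (⊥ : Ideal A).ResidueField
  haveI : IsLocalization (nonZeroDivisors A) K := inferInstanceAs (IsFractionRing A K)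
  haveI : IsLocalization (Algebra.algebraMapSubmonoid (EGA4.Cpl A) (nonZeroDivisors A)) (EGA4.Cpl A ⊗[A] K) :=
    IsLocalization.tensor (R := A) (S := EGA4.Cpl A) K (nonZeroDivisors A)
  haveI : IsRegularRing (EGA4.Cpl A ⊗[A] K) :=
    Groth.L06.FormSmooth.isRegularRing_of_isLocalization (Algebra.algebraMapSubmonoid (EGA4.Cpl A) (nonZeroDivisors A)) _
  haveI : IsRegularRing (EGA4.formalFibre A (⊥ : Ideal A)) :=
    IsRegularRing.of_ringEquiv (Algebra.TensorProduct.comm A (EGA4.Cpl A) K).toRingEquiv
  exact geomReg_of_perfect _ _

/-- a PID whose residue fields at all primes, generic one included, are perfect is a G-ring -/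
theorem isGRing_of_pid (R : Type u) [CommRing R] [IsDomain R] [IsPrincipalIdealRing R] [CharZero R]
    (hfin : ∀ q : Ideal R, q ≠ ⊥ → Finite (R ⧸ q)) : CAlg.IsGRing R := by
  refine (Groth.Agent.S9257.result R).2 fun q _ P _ => ?_
  haveI : IsPrincipalIdealRing (R ⧸ q) :=
    IsPrincipalIdealRing.of_surjective (Ideal.Quotient.mk q) Ideal.Quotient.mk_surjective
  haveI : IsRegularRing (R ⧸ q) := inferInstance
  haveI : IsRegularLocalRing (Localization.AtPrime P) := IsRegularRing.isRegularLocalRing_localization P
  haveI : IsDomain (Localization.AtPrime P) :=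
    IsLocalization.isDomain_localization P.primeCompl_le_nonZeroDivisors
  haveI : PerfectField (⊥ : Ideal (Localization.AtPrime P)).ResidueField := by
    by_cases hq : q = ⊥
    · have hinj : Function.Injective (algebraMap (R ⧸ q) (⊥ : Ideal (Localization.AtPrime P)).ResidueField) := by
        rw [IsScalarTower.algebraMap_eq (R ⧸ q) (Localization.AtPrime P), RingHom.coe_comp]
        have h1 : Function.Injective (algebraMap (Localization.AtPrime P) (⊥ : Ideal (Localization.AtPrime P)).ResidueField) :=
          (RingHom.injective_iff_ker_eq_bot _).2 (Ideal.ker_algebraMap_residueField ⊥)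
        exact h1.comp (IsLocalization.injective (Localization.AtPrime P) P.primeCompl_le_nonZeroDivisors)
      have hinj' : Function.Injective (Ideal.Quotient.mk q) := by
        rw [RingHom.injective_iff_ker_eq_bot, Ideal.mk_ker, hq]
      haveI : CharZero (R ⧸ q) := charZero_of_injective_ringHom hinj'
      haveI : CharZero (⊥ : Ideal (Localization.AtPrime P)).ResidueField := charZero_of_injective_ringHom hinj
      infer_instance
    · haveI := hfin q hq
      haveI : Finite (Localization.AtPrime P) := IsLocalization.finite (R ⧸ q) P.primeCompl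
      haveI : Finite (Localization.AtPrime P ⧸ (⊥ : Ideal (Localization.AtPrime P))) :=
        Finite.of_surjective _ Ideal.Quotient.mk_surjective
      infer_instance
  exact geomReg_generic_formalFibre (Localization.AtPrime P)

/-- `ℤ` is a G-ring -/
theorem isGRing_int : CAlg.IsGRing (ULift.{u} ℤ) := by
  let e : ℤ ≃+* ULift.{u} ℤ := ULift.ringEquiv.symm
  haveI : IsPrincipalIdealRing (ULift.{u} ℤ) := IsPrincipalIdealRing.of_surjective e.toRingHom e.surjective
  haveI : IsDomain (ULift.{u} ℤ) := e.symm.toMulEquiv.isDomain
  haveI : CharZero (ULift.{u} ℤ) := charZero_of_injective_ringHom (f := e.toRingHom) e.injective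
  refine isGRing_of_pid _ fun q hq => ?_
  let q' := q.comap e.toRingHom
  have hq' : q' ≠ ⊥ := fun h => hq (by
    rw [← Ideal.map_comap_of_surjective e.toRingHom e.surjective q, show q.comap e.toRingHom = ⊥ from h, Ideal.map_bot])
  obtain ⟨n, hn⟩ := IsPrincipalIdealRing.principal q'
  have hn0 : n.natAbs ≠ 0 := by
    intro h
    refine hq' ?_
    rw [hn, Int.natAbs_eq_zero.1 h]
    simp
  haveI : NeZero n.natAbs := ⟨hn0⟩
  haveI : Finite (ℤ ⧸ q') := by
    rw [hn]
    exact Finite.of_equiv (ZMod n.natAbs) (Int.quotientSpanEquivZMod n).symm.toEquiv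
  exact Finite.of_surjective (Ideal.quotientMap q e.toRingHom le_rfl)
    (Ideal.quotientMap_surjective e.surjective)

end Groth.L03.GRingInt
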