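import Groth.Agent.L22.AffineDim
import Mathlib.RingTheory.KrullDimension.Polynomial
import Mathlib.Algebra.MvPolynomial.Funext
import Mathlib.RingTheory.Ideal.MinimalPrime.Localization

/-!
A general vector avoids the kernels of a family of surjections of large rank.
-/

set_option autoImplicit false
set_option linter.style.haveILetI false

universe u

open MvPolynomial

namespace Groth.L03.GeneralVector

variable {k : Type u} [Field k] {A : Type u} [CommRing A] [Algebra k A]

/-- If polynomials in `N` variables inject in a finitely generated algebra, it has dimension at least `N`. -/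
theorem le_ringKrullDim_of_injective {B : Type u} [CommRing B] [Algebra k B] [Algebra.FiniteType k B] {N : ℕ}
    (θ : MvPolynomial (Fin N) k →ₐ[k] B) (hθ : Function.Injective θ) :
    (N : WithBot ℕ∞) ≤ ringKrullDim B := by
  obtain ⟨P, hP, hPθ⟩ : ∃ P : Ideal B, P.IsPrime ∧ P.comap θ.toRingHom = ⊥ := by
    have h0 : (⊥ : Ideal B).comap θ.toRingHom = ⊥ := by
      rw [← RingHom.ker_eq_comap_bot]
      exact (RingHom.injective_iff_ker_eq_bot _).1 hθ
    have hmem : (⊥ : Ideal (MvPolynomial (Fin N) k)) ∈ ((⊥ : Ideal B).comap θ.toRingHom).minimalPrimes := by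
      rw [h0]
      exact ⟨⟨Ideal.isPrime_bot, le_rfl⟩, fun _ _ _ => bot_le⟩
    obtain ⟨P, hP, -, he⟩ := Ideal.exists_comap_eq_of_mem_minimalPrimes θ.toRingHom _ hmem
    exact ⟨P, hP, he⟩
  haveI := hP
  obtain ⟨d, -, -, -, hd, htr⟩ := Groth.L22.AffineDim.exists_normalization k (B ⧸ P)
  let χ : MvPolynomial (Fin N) k →ₐ[k] B ⧸ P := (Ideal.Quotient.mkₐ k P).comp θ
  have hχ : Function.Injective χ := (injective_iff_map_eq_zero _).2 fun p hp => by
    have : p ∈ P.comap θ.toRingHom := Ideal.mem_comap.2 (Ideal.Quotient.eq_zero_iff_mem.1 (show Ideal.Quotient.mk P (θ p) = 0 from hp))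
    rwa [hPθ] at this
  have h1 := trdeg_le_of_injective χ hχ
  rw [MvPolynomial.trdeg_of_isDomain, htr] at h1
  have hNd : N ≤ d := by simpa using h1
  refine le_trans ?_ (ringKrullDim_le_of_surjective (Ideal.Quotient.mk P) Ideal.Quotient.mk_surjective)
  rw [hd]
  exact_mod_cast hNd

variable {N ρ : ℕ} (a : Matrix (Fin ρ) (Fin N) A) (s : Matrix (Fin N) (Fin ρ) A)

noncomputable def form (i : Fin ρ) : MvPolynomial (Fin N) A := ∑ j, C (a i j) * X j

theorem nonempty_equiv (has : a * s = 1) :
    Nonempty (MvPolynomial (Fin N) A ≃+*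
      MvPolynomial (Fin ρ) (MvPolynomial (Fin N) A ⧸ Ideal.span (Set.range (form a)))) := by
  classical
  set I := Ideal.span (Set.range (form a))
  let q := Ideal.Quotient.mk I
  let φ : MvPolynomial (Fin N) A →+* MvPolynomial (Fin ρ) (MvPolynomial (Fin N) A ⧸ I) :=
    eval₂Hom (C.comp (q.comp C)) fun j => C (q (X j)) + ∑ i, C (q (C (s j i))) * X i
  let ψ₀ : MvPolynomial (Fin N) A →+* MvPolynomial (Fin N) A :=
    eval₂Hom C fun j => X j - ∑ i, C (s j i) * form a i
  have has' : ∀ l i, ∑ j, a l j * s j i = if l = i then 1 else 0 := fun l i => by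
    have := congrFun (congrFun has l) i
    rwa [Matrix.mul_apply, Matrix.one_apply] at this
  have hψ₀ : ∀ l, ψ₀ (form a l) = 0 := fun l => by
    have : ψ₀ (form a l) = form a l - ∑ i, C (∑ j, a l j * s j i) * form a i := by
      conv_lhs => rw [form]
      simp only [map_sum, map_mul, ψ₀, eval₂Hom_C, eval₂Hom_X']
      simp only [mul_sub, Finset.sum_sub_distrib, Finset.mul_sum, Finset.sum_mul, mul_assoc]
      rw [Finset.sum_comm]
      rfl
    rw [this]
    simp only [has', apply_ite C, C_1, C_0, ite_mul, one_mul, zero_mul, Finset.sum_ite_eq, Finset.mem_univ,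
      if_true, sub_self]
  let ψB : MvPolynomial (Fin N) A ⧸ I →+* MvPolynomial (Fin N) A :=
    Ideal.Quotient.lift I ψ₀ fun p hp => by
      have : I ≤ RingHom.ker ψ₀ := Ideal.span_le.2 (by rintro _ ⟨l, rfl⟩; exact hψ₀ l)
      exact this hp
  let ψ : MvPolynomial (Fin ρ) (MvPolynomial (Fin N) A ⧸ I) →+* MvPolynomial (Fin N) A :=
    eval₂Hom ψB (form a)
  have hφform : ∀ i, φ (form a i) = X i := fun i => by
    have h1 : φ (form a i) = C (q (form a i)) + ∑ l, C (q (C (∑ j, a i j * s j l))) * X l := by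
      conv_lhs => rw [form]
      conv_rhs => rw [form]
      simp only [map_sum, map_mul, φ, eval₂Hom_C, eval₂Hom_X', RingHom.coe_comp, Function.comp_apply]
      simp only [mul_add, Finset.sum_add_distrib, Finset.mul_sum, Finset.sum_mul, mul_assoc]
      rw [Finset.sum_comm (γ := Fin ρ)]
    rw [h1, show q (form a i) = 0 from Ideal.Quotient.eq_zero_iff_mem.2 (Ideal.subset_span (Set.mem_range_self i)), C_0, zero_add]
    simp only [has', apply_ite C, apply_ite q, C_1, C_0, map_one, map_zero, ite_mul, one_mul, zero_mul,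
      Finset.sum_ite_eq, Finset.mem_univ, if_true]
  refine ⟨RingEquiv.ofRingHom φ ψ ?_ ?_⟩
  · refine ringHom_ext (fun b => ?_) fun i => ?_
    · obtain ⟨p, rfl⟩ := Ideal.Quotient.mk_surjective b
      show φ (ψ (C (q p))) = C (q p)
      rw [show ψ (C (q p)) = ψ₀ p by simp [ψ, ψB, q]]
      suffices H : φ.comp ψ₀ = C.comp q from congrArg (fun F : _ →+* _ => F p) H
      refine ringHom_ext (fun r => ?_) fun j => ?_
      · simp [φ, ψ₀]
      · simp only [RingHom.comp_apply, ψ₀, eval₂Hom_X', map_sub, map_sum, map_mul, hφform]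
        simp only [φ, eval₂Hom_C, eval₂Hom_X', RingHom.coe_comp, Function.comp_apply]
        ring
    · show φ (ψ (X i)) = X i
      rw [show ψ (X i) = form a i by simp [ψ]]
      exact hφform i
  · refine ringHom_ext (fun r => ?_) fun j => ?_
    · simp [φ, ψ, ψB, ψ₀, q]
    · simp [φ, ψ, ψB, ψ₀, q]

/-- A nonzero polynomial off whose zero set the vectors generate the unit ideal. -/
theorem exists_poly [Algebra.FiniteType k A] (has : a * s = 1) {d : ℕ} (hd : ringKrullDim A ≤ d) (hdρ : d < ρ) :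
    ∃ f : MvPolynomial (Fin N) k, f ≠ 0 ∧ ∀ c : Fin N → k, eval c f ≠ 0 →
      Ideal.span (Set.range fun i => ∑ j, algebraMap k A (c j) * a i j) = ⊤ := by
  classical
  set I := Ideal.span (Set.range (form a))
  let θ : MvPolynomial (Fin N) k →ₐ[k] MvPolynomial (Fin N) A ⧸ I :=
    (Ideal.Quotient.mkₐ k I).comp (aeval X)
  haveI : IsNoetherianRing A := Algebra.FiniteType.isNoetherianRing k A
  haveI : Algebra.FiniteType k (MvPolynomial (Fin N) A) :=
    Algebra.FiniteType.trans (inferInstance : Algebra.FiniteType k A) inferInstance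
  haveI : Algebra.FiniteType k (MvPolynomial (Fin N) A ⧸ I) :=
    (inferInstance : Algebra.FiniteType k (MvPolynomial (Fin N) A)).of_surjective _ (Ideal.Quotient.mkₐ_surjective k I)
  have hker : ¬ Function.Injective θ := fun hθ => by
    have h1 := le_ringKrullDim_of_injective θ hθ
    obtain ⟨e⟩ := nonempty_equiv a s has
    haveI : IsNoetherianRing (MvPolynomial (Fin N) A ⧸ I) := inferInstance
    have h2 := ringKrullDim_eq_of_ringEquiv e
    rw [MvPolynomial.ringKrullDim_of_isNoetherianRing, MvPolynomial.ringKrullDim_of_isNoetherianRing,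
      Nat.card_fin, Nat.card_fin] at h2
    have h3 : ((N + ρ : ℕ) : WithBot ℕ∞) ≤ ((d + N : ℕ) : WithBot ℕ∞) := by
      push_cast
      exact (add_le_add h1 le_rfl).trans (h2.ge.trans (add_le_add hd le_rfl))
    have h4 : N + ρ ≤ d + N := by exact_mod_cast h3
    omega
  obtain ⟨f, hf, hf0⟩ : ∃ f, θ f = 0 ∧ f ≠ 0 := by
    by_contra hcon
    refine hker ((injective_iff_map_eq_zero _).2 fun f hf => ?_)
    by_contra h0
    exact hcon ⟨f, hf, h0⟩
  refine ⟨f, hf0, fun c hc => ?_⟩
  by_contra hne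
  obtain ⟨m, hm, hle⟩ := Ideal.exists_le_maximal _ hne
  letI := Ideal.Quotient.field m
  let π : MvPolynomial (Fin N) A →+* A ⧸ m :=
    eval₂Hom (Ideal.Quotient.mk m) fun j => Ideal.Quotient.mk m (algebraMap k A (c j))
  have hI : I ≤ RingHom.ker π := Ideal.span_le.2 (by
    rintro _ ⟨i, rfl⟩
    rw [SetLike.mem_coe, RingHom.mem_ker, form, map_sum]
    refine (Finset.sum_congr rfl fun j _ => show π (C (a i j) * X j) =
      Ideal.Quotient.mk m (a i j * algebraMap k A (c j)) by simp [π]).trans ?_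
    rw [← map_sum]
    refine Ideal.Quotient.eq_zero_iff_mem.2 (hle ?_)
    exact Ideal.subset_span ⟨i, Finset.sum_congr rfl fun j _ => mul_comm _ _⟩)
  have h0 : π (aeval (X : Fin N → MvPolynomial (Fin N) A) f) = 0 :=
    hI (Ideal.Quotient.eq_zero_iff_mem.1 hf)
  have h1 : π.comp (aeval (X : Fin N → MvPolynomial (Fin N) A)).toRingHom =
      ((Ideal.Quotient.mk m).comp (algebraMap k A)).comp (eval c) := by
    refine ringHom_ext (fun r => ?_) fun j => ?_
    · simp [π, MvPolynomial.algebraMap_apply]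
    · simp [π]
  have h2 := congrArg (fun F : _ →+* _ => F f) h1
  refine hc (((Ideal.Quotient.mk m).comp (algebraMap k A)).injective ?_)
  rw [map_zero]
  exact h2.symm.trans h0

/-- Finitely many nonzero polynomials over an infinite field are simultaneously nonzero somewhere. -/
theorem exists_eval_ne_zero [Infinite k] {ι : Type*} (T : Finset ι) {n : ℕ} (f : ι → MvPolynomial (Fin n) k)
    (hf : ∀ i ∈ T, f i ≠ 0) : ∃ c : Fin n → k, ∀ i ∈ T, eval c (f i) ≠ 0 := by
  have h : ∏ i ∈ T, f i ≠ 0 := Finset.prod_ne_zero_iff.2 hf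
  obtain ⟨c, hc⟩ : ∃ c : Fin n → k, eval c (∏ i ∈ T, f i) ≠ 0 := by
    by_contra hcon
    refine h (MvPolynomial.funext fun c => ?_)
    rw [map_zero]
    by_contra h0
    exact hcon ⟨c, h0⟩
  rw [map_prod, Finset.prod_ne_zero_iff] at hc
  exact ⟨c, hc⟩

end Groth.L03.GeneralVector
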