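import Groth.Agent.L02.SepClosedTensor
import Groth.Agent.L25.GeomIrred
import Mathlib.RingTheory.Spectrum.Prime.Chevalley
import Mathlib.RingTheory.LocalRing.ResidueField.Fiber
import Mathlib.RingTheory.Ideal.GoingDown
import Mathlib.RingTheory.TensorProduct.Free
import Mathlib.RingTheory.Flat.FaithfullyFlat.Algebra
import Mathlib.FieldTheory.IsSepClosed

/-!
Geometrically irreducible, connected and integral algebras over a field.
-/

set_option autoImplicit false
universe u

open TensorProduct PrimeSpectrum

namespace Groth.L03.GeomIrred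

variable {k : Type u} [Field k]

/-- The fibre of `Spec (R ⊗[k] S) → Spec R` over `p` is `Spec (κ(p) ⊗[k] S)`. -/
noncomputable def fibHomeo (R S : Type u) [CommRing R] [CommRing S] [Algebra k R] [Algebra k S]
    (p : PrimeSpectrum R) :
    comap (algebraMap R (R ⊗[k] S)) ⁻¹' {p} ≃ₜ PrimeSpectrum (p.asIdeal.ResidueField ⊗[k] S) :=
  (PrimeSpectrum.preimageHomeomorphFiber R (R ⊗[k] S) p).trans
    (PrimeSpectrum.homeomorphOfRingEquiv
      (Algebra.TensorProduct.cancelBaseChange k R R p.asIdeal.ResidueField S).toRingEquiv)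

theorem isPreirreducible_fibre (R S : Type u) [CommRing R] [CommRing S] [Algebra k R] [Algebra k S]
    (hS : ∀ (k' : Type u) [Field k'] [Algebra k k'], IrreducibleSpace (PrimeSpectrum (k' ⊗[k] S)))
    (p : PrimeSpectrum R) : IsPreirreducible (comap (algebraMap R (R ⊗[k] S)) ⁻¹' {p}) := by
  haveI := hS p.asIdeal.ResidueField
  haveI : IrreducibleSpace ↥(comap (algebraMap R (R ⊗[k] S)) ⁻¹' {p}) :=
    (fibHomeo R S p).irreducibleSpace_iff.mpr inferInstance
  have := (IrreducibleSpace.isIrreducible_univ ↥(comap (algebraMap R (R ⊗[k] S)) ⁻¹' {p})).image _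
    continuous_subtype_val.continuousOn
  rw [Set.image_univ, Subtype.range_coe] at this
  exact this.isPreirreducible

theorem comap_surjective (R S : Type u) [CommRing R] [CommRing S] [Algebra k R] [Algebra k S] [Nontrivial S] :
    Function.Surjective (comap (algebraMap R (R ⊗[k] S))) := fun p => by
  haveI : Nontrivial (p.asIdeal.ResidueField ⊗[k] S) :=
    (Algebra.TensorProduct.includeRight_injective (algebraMap k p.asIdeal.ResidueField).injective :
      Function.Injective (Algebra.TensorProduct.includeRight : S → p.asIdeal.ResidueField ⊗[k] S)).nontrivial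
  obtain ⟨q⟩ : Nonempty (PrimeSpectrum (p.asIdeal.ResidueField ⊗[k] S)) := inferInstance
  exact ⟨((fibHomeo R S p).symm q).1, ((fibHomeo R S p).symm q).2⟩

theorem nontrivial_of_irreducible (S : Type u) [CommRing S] [Algebra k S]
    (hS : ∀ (k' : Type u) [Field k'] [Algebra k k'], IrreducibleSpace (PrimeSpectrum (k' ⊗[k] S))) :
    Nontrivial S := by
  haveI := hS k
  haveI : Nontrivial (k ⊗[k] S) := PrimeSpectrum.nonempty_iff_nontrivial.mp inferInstance
  exact (Algebra.TensorProduct.lid k S).symm.toEquiv.nontrivial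

theorem irreducible_tensor (R S : Type u) [CommRing R] [CommRing S] [Algebra k R] [Algebra k S]
    [IrreducibleSpace (PrimeSpectrum R)]
    (hS : ∀ (k' : Type u) [Field k'] [Algebra k k'], IrreducibleSpace (PrimeSpectrum (k' ⊗[k] S))) :
    IrreducibleSpace (PrimeSpectrum (R ⊗[k] S)) := by
  haveI := nontrivial_of_irreducible S hS
  have h := (IrreducibleSpace.isIrreducible_univ (PrimeSpectrum R)).preimage_of_isPreirreducible_fiber
    (comap (algebraMap R (R ⊗[k] S))) isOpenMap_comap_algebraMap_tensorProduct_of_field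
    (isPreirreducible_fibre R S hS)
    (by rw [Set.univ_inter, (comap_surjective R S).range_eq]; exact Set.univ_nonempty)
  rw [Set.preimage_univ] at h
  exact (irreducibleSpace_def _).mpr h

theorem connectedSpace_iff_idem {A : Type u} [CommRing A] :
    ConnectedSpace (PrimeSpectrum A) ↔ Nontrivial A ∧ ∀ e : A, IsIdempotentElem e → e = 0 ∨ e = 1 := by
  rw [connectedSpace_iff_clopen, PrimeSpectrum.nonempty_iff_nontrivial]
  refine and_congr_right fun _ => ⟨fun h e he => ?_, fun h s hs => ?_⟩
  · rcases h _ (PrimeSpectrum.isClopen_iff.mpr ⟨e, he, rfl⟩) with h0 | h1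
    · left
      exact basicOpen_injOn_isIdempotentElem he IsIdempotentElem.zero (SetLike.ext' (by rw [h0]; simp))
    · right
      exact basicOpen_injOn_isIdempotentElem he IsIdempotentElem.one (SetLike.ext' (by rw [h1]; simp))
  · obtain ⟨e, he, rfl⟩ := PrimeSpectrum.isClopen_iff.mp hs
    rcases h e he with rfl | rfl <;> simp

theorem connectedSpace_of_injective {A B : Type u} [CommRing A] [CommRing B] (f : A →+* B)
    (hf : Function.Injective f) (h : ConnectedSpace (PrimeSpectrum B)) : ConnectedSpace (PrimeSpectrum A) := by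
  rw [connectedSpace_iff_idem] at h ⊢
  haveI := h.1
  refine ⟨f.domain_nontrivial, fun e he => ?_⟩
  rcases h.2 (f e) (he.map f) with h0 | h1
  · exact .inl (hf (h0.trans (map_zero f).symm))
  · exact .inr (hf (h1.trans (map_one f).symm))

theorem nontrivial_of_connected (S : Type u) [CommRing S] [Algebra k S]
    (hS : ∀ (k' : Type u) [Field k'] [Algebra k k'], ConnectedSpace (PrimeSpectrum (k' ⊗[k] S))) :
    Nontrivial S := by
  haveI := (connectedSpace_iff_idem.mp (hS k)).1
  exact (Algebra.TensorProduct.lid k S).symm.toEquiv.nontrivial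

theorem exists_idem (R S : Type u) [CommRing R] [CommRing S] [Algebra k R] [Algebra k S]
    (hS : ∀ (k' : Type u) [Field k'] [Algebra k k'], ConnectedSpace (PrimeSpectrum (k' ⊗[k] S)))
    (x : R ⊗[k] S) (hx : IsIdempotentElem x) :
    ∃ e : R, IsIdempotentElem e ∧ algebraMap R (R ⊗[k] S) e = x := by
  haveI := nontrivial_of_connected S hS
  let π := comap (algebraMap R (R ⊗[k] S))
  let U : Set (PrimeSpectrum (R ⊗[k] S)) := basicOpen x
  have hU : IsClopen U := PrimeSpectrum.isClopen_iff.mpr ⟨x, hx, rfl⟩
  have hfib : ∀ p, IsPreconnected (π ⁻¹' {p}) := fun p => by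
    haveI := hS p.asIdeal.ResidueField
    haveI : ConnectedSpace ↥(π ⁻¹' {p}) := (fibHomeo R S p).symm.surjective.connectedSpace
      (fibHomeo R S p).symm.continuous
    exact isPreconnected_iff_preconnectedSpace.mpr inferInstance
  have hdis : ∀ a b, π a = π b → a ∈ U → b ∈ U := fun a b hab ha =>
    (hfib (π b)).subset_isClopen hU ⟨a, hab, ha⟩ rfl
  have himg : IsClopen (π '' U) := by
    refine ⟨isOpen_compl_iff.mp ?_, isOpenMap_comap_algebraMap_tensorProduct_of_field _ hU.2⟩
    have : (π '' U)ᶜ = π '' Uᶜ := by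
      refine Set.Subset.antisymm (fun p hp => ?_) ?_
      · obtain ⟨a, rfl⟩ := comap_surjective (k := k) R S p
        exact ⟨a, fun ha => hp ⟨a, ha, rfl⟩, rfl⟩
      · rintro _ ⟨a, ha, rfl⟩ ⟨b, hb, hba⟩
        exact ha (hdis b a hba hb)
    rw [this]
    exact isOpenMap_comap_algebraMap_tensorProduct_of_field _ hU.1.isOpen_compl
  obtain ⟨e, he, heq⟩ := PrimeSpectrum.isClopen_iff.mp himg
  refine ⟨e, he, basicOpen_injOn_isIdempotentElem (he.map _) hx ?_⟩
  rw [← comap_basicOpen]
  refine SetLike.ext' ?_
  show π ⁻¹' ((basicOpen e : Set (PrimeSpectrum R))) = U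
  rw [← heq]
  exact Set.Subset.antisymm (fun a ⟨b, hb, hba⟩ => hdis b a hba hb) (Set.subset_preimage_image _ _)

theorem connected_tensor (R S : Type u) [CommRing R] [CommRing S] [Algebra k R] [Algebra k S]
    [ConnectedSpace (PrimeSpectrum R)]
    (hS : ∀ (k' : Type u) [Field k'] [Algebra k k'], ConnectedSpace (PrimeSpectrum (k' ⊗[k] S))) :
    ConnectedSpace (PrimeSpectrum (R ⊗[k] S)) := by
  haveI := nontrivial_of_connected S hS
  obtain ⟨hR, hR'⟩ := connectedSpace_iff_idem.mp ‹ConnectedSpace (PrimeSpectrum R)›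
  refine connectedSpace_iff_idem.mpr ⟨?_, fun x hx => ?_⟩
  · exact (Algebra.TensorProduct.includeLeft_injective (S := R) (algebraMap k S).injective :
      Function.Injective (Algebra.TensorProduct.includeLeft : R → R ⊗[k] S)).nontrivial
  · obtain ⟨e, he, rfl⟩ := exists_idem R S hS x hx
    rcases hR' e he with rfl | rfl
    · exact .inl (map_zero _)
    · exact .inr (map_one _)

/-- Finitely many elements of `F ⊗ R` live over a finite subextension. -/
theorem exists_finite_range (F R : Type u) [Field F] [Algebra k F] [Algebra.IsAlgebraic k F] [CommRing R]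
    [Algebra k R] (x y : F ⊗[k] R) :
    ∃ L : IntermediateField k F, FiniteDimensional k L ∧
      x ∈ (Algebra.TensorProduct.map L.val (AlgHom.id k R)).range ∧
      y ∈ (Algebra.TensorProduct.map L.val (AlgHom.id k R)).range := by
  have mono : ∀ (L M : IntermediateField k F), L ≤ M →
      (Algebra.TensorProduct.map L.val (AlgHom.id k R)).range ≤
        (Algebra.TensorProduct.map M.val (AlgHom.id k R)).range := by
    rintro L M hLM _ ⟨t, rfl⟩
    refine ⟨Algebra.TensorProduct.map (IntermediateField.inclusion hLM) (AlgHom.id k R) t, ?_⟩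
    show Algebra.TensorProduct.map M.val (AlgHom.id k R) _ = Algebra.TensorProduct.map L.val (AlgHom.id k R) t
    rw [← AlgHom.comp_apply, ← Algebra.TensorProduct.map_comp]
    rfl
  have one : ∀ z : F ⊗[k] R, ∃ L : IntermediateField k F, FiniteDimensional k L ∧
      z ∈ (Algebra.TensorProduct.map L.val (AlgHom.id k R)).range := by
    intro z
    induction z using TensorProduct.induction_on with
    | zero => exact ⟨⊥, inferInstance, zero_mem _⟩
    | tmul a b =>
      exact ⟨IntermediateField.adjoin k {a},
        IntermediateField.adjoin.finiteDimensional (Algebra.IsIntegral.isIntegral a),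
        ⟨(⟨a, IntermediateField.mem_adjoin_simple_self k a⟩ : IntermediateField.adjoin k {a}) ⊗ₜ b, by simp⟩⟩
    | add z w hz hw =>
      obtain ⟨L, _, hz⟩ := hz
      obtain ⟨M, _, hw⟩ := hw
      exact ⟨L ⊔ M, inferInstance, add_mem (mono L _ le_sup_left hz) (mono M _ le_sup_right hw)⟩
  obtain ⟨L, _, hx⟩ := one x
  obtain ⟨M, _, hy⟩ := one y
  exact ⟨L ⊔ M, inferInstance, mono L _ le_sup_left hx, mono M _ le_sup_right hy⟩

theorem map_injective {F F' : Type u} [CommRing F] [CommRing F'] [Algebra k F] [Algebra k F'] (j : F →ₐ[k] F')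
    (hj : Function.Injective j) (R : Type u) [CommRing R] [Algebra k R] :
    Function.Injective (Algebra.TensorProduct.map j (AlgHom.id k R)) :=
  Module.Flat.rTensor_preserves_injective_linearMap (M := R) j.toLinearMap hj

/-- Irreducibility may be checked over a separable closure. -/
theorem irreducible_of_sepClosure (R : Type u) [CommRing R] [Algebra k R]
    (h : IrreducibleSpace (PrimeSpectrum (SeparableClosure k ⊗[k] R))) (k' : Type u) [Field k'] [Algebra k k'] :
    IrreducibleSpace (PrimeSpectrum (k' ⊗[k] R)) := by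
  rw [irreducibleSpace_iff_isPrime_nilradical] at h ⊢
  let C := AlgebraicClosure k'
  refine Groth.L02.SepClosedTensor.isPrime_nilradical_of_injective
    (Algebra.TensorProduct.map (IsScalarTower.toAlgHom k k' C) (AlgHom.id k R)).toRingHom
    (map_injective _ (algebraMap k' C).injective R) ?_
  let j : SeparableClosure k →ₐ[k] C := IsAlgClosed.lift
  letI : Algebra (SeparableClosure k) C := j.toRingHom.toAlgebra
  haveI : IsScalarTower k (SeparableClosure k) C := .of_algebraMap_eq fun x => (j.commutes x).symm
  refine Groth.L02.SepClosedTensor.isPrime_nilradical_of_injective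
    (Algebra.TensorProduct.cancelBaseChange k (SeparableClosure k) C C R).symm.toRingEquiv.toRingHom
    (Algebra.TensorProduct.cancelBaseChange k (SeparableClosure k) C C R).symm.injective
    (Groth.L02.SepClosedTensor.isPrime_nilradical_tensor (k := SeparableClosure k) ?_ h)
  rw [nilradical_eq_zero]; exact Ideal.isPrime_bot

end Groth.L03.GeomIrred
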