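import Groth.Agent.L03.GRingInt
import Groth.Agent.L05.Henselization.Local
import Groth.Agent.L05.Henselization.StrictUniq
import Groth.Agent.S2045
import Groth.Agent.S0599
import Groth.Agent.L06.GRingTransport
import Groth.Agent.S9330
import Mathlib.RingTheory.Henselian

/-!
A henselian local ring is a directed colimit of henselian local G-rings.
-/

namespace Groth.L03.HenselGLim

universe u

open Groth.L05.Henselization IsLocalRing

section generic

variable {ι : Type u} [Preorder ι] [IsDirectedOrder ι] [Nonempty ι] (L : ι → Type u) [∀ i, CommRing (L i)]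
  [∀ i, IsLocalRing (L i)] (f : ∀ i j : ι, i ≤ j → (L i →+* L j)) [DirectedSystem L (fun i j h => f i j h)]

/-- colimit of henselizations of a local system with henselian colimit -/
theorem exists_system (hf : ∀ i j h, IsLocalHom (f i j h)) (A : Type u) [CommRing A] [HenselianLocalRing A]
    (e : DirectLimit L f ≃+* A) (he : ∀ i, IsLocalHom (e.toRingHom.comp (DirectLimit.Ring.of L f i))) :
    ∃ (g : ∀ i j : ι, i ≤ j → (PairHens (L i) (maximalIdeal (L i)) →+* PairHens (L j) (maximalIdeal (L j))))
      (_ : DirectedSystem (fun i => PairHens (L i) (maximalIdeal (L i))) (fun i j h => g i j h)),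
      (∀ (i j : ι) (h : i ≤ j), IsLocalHom (g i j h)) ∧
      Nonempty (A ≃+* DirectLimit (fun i => PairHens (L i) (maximalIdeal (L i))) g) := by
  classical
  let I : ∀ i, Ideal (L i) := fun i => maximalIdeal (L i)
  let B : ι → Type u := fun i => PairHens (L i) (I i)
  have hB : ∀ i, Hens2.IsPairHenselization (L i) (I i) (B i) := fun i => isPairHenselization (L i) (I i)
  have hI : ∀ (i j : ι) (h : i ≤ j), (I i).map (f i j h) ≤ I j := fun i j h => by
    haveI := hf i j h
    exact ((local_hom_TFAE (f i j h)).out 0 2 rfl rfl).mp inferInstance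
  have hgex : ∀ (i j : ι) (h : i ≤ j), ∃! g : B i →+* B j,
      g.comp (algebraMap (L i) (B i)) = (algebraMap (L j) (B j)).comp (f i j h) := fun i j h =>
    (hB i).2 (B j) _ _ (hB j).1 (by rw [← Ideal.map_map]; exact Ideal.map_mono (hI i j h))
  let g : ∀ i j : ι, i ≤ j → (B i →+* B j) := fun i j h => (hgex i j h).exists.choose
  have hg : ∀ (i j : ι) (h : i ≤ j), (g i j h).comp (algebraMap (L i) (B i)) = (algebraMap (L j) (B j)).comp (f i j h) :=
    fun i j h => (hgex i j h).exists.choose_spec
  haveI hsys : DirectedSystem B (fun i j h => g i j h) := by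
    refine ⟨fun i x => ?_, fun k j i hij hjk x => ?_⟩
    · refine DFunLike.congr_fun ((hgex i i le_rfl).unique (hg i i le_rfl) (y₂ := RingHom.id _) ?_) x
      refine RingHom.ext fun a => ?_
      simp only [RingHom.comp_apply, RingHom.id_apply]
      exact (congrArg (algebraMap (L i) (B i)) (DirectedSystem.map_self' (f := fun i j h => f i j h) a)).symm
    · refine DFunLike.congr_fun ((hgex i k (hij.trans hjk)).unique (y₁ := (g j k hjk).comp (g i j hij)) ?_
        (hg i k (hij.trans hjk))) x
      refine RingHom.ext fun a => ?_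
      have e1 := DFunLike.congr_fun (hg i j hij) a
      have e2 := DFunLike.congr_fun (hg j k hjk) (f i j hij a)
      simp only [RingHom.comp_apply] at e1 e2 ⊢
      rw [e1, e2]
      exact congrArg (algebraMap (L k) (B k)) (DirectedSystem.map_map' (f := fun i j h => f i j h) hij hjk a)
  have hcompat : ∀ i j (h : i ≤ j) (x : L i),
      ((DirectLimit.Ring.of B g j).comp (algebraMap (L j) (B j))) (f i j h x) =
        ((DirectLimit.Ring.of B g i).comp (algebraMap (L i) (B i))) x := fun i j h x => by
    have e1 := DFunLike.congr_fun (hg i j h) x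
    simp only [RingHom.comp_apply] at e1 ⊢
    rw [← e1, DirectLimit.Ring.of_f]
  let α : DirectLimit L f →+* DirectLimit B g :=
    DirectLimit.Ring.lift L f _ (fun i => (DirectLimit.Ring.of B g i).comp (algebraMap (L i) (B i))) hcompat
  letI : Algebra (DirectLimit L f) (DirectLimit B g) := α.toAlgebra
  have hD := Groth.Agent.S9330.result L f I hI B hB g hg
    (fun i x => rfl)
  have hIA : (⨆ i, (I i).map (DirectLimit.Ring.of L f i)).map e.toRingHom ≤ maximalIdeal A := by
    rw [Ideal.map_iSup]
    refine iSup_le fun i => ?_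
    rw [Ideal.map_map]
    haveI := he i
    exact ((local_hom_TFAE (e.toRingHom.comp (DirectLimit.Ring.of L f i))).out 0 2 rfl rfl).mp inferInstance
  obtain ⟨ψ, hψ, -⟩ := hD.2 A (maximalIdeal A) e.toRingHom inferInstance hIA
  have hid : (α.comp e.symm.toRingHom).comp ψ = RingHom.id _ := by
    refine (hD.2 (DirectLimit B g) _ α hD.1 le_rfl).unique ?_ (RingHom.id_comp _)
    rw [RingHom.comp_assoc, hψ, RingHom.comp_assoc]
    exact RingHom.ext fun x => congrArg α (e.symm_apply_apply x)
  have hbij : Function.Bijective ψ := by
    refine ⟨Function.LeftInverse.injective (g := α.comp e.symm.toRingHom) (DFunLike.congr_fun hid), fun a => ?_⟩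
    exact ⟨α (e.symm a), (DFunLike.congr_fun hψ (e.symm a)).trans (e.apply_symm_apply a)⟩
  refine ⟨g, hsys, fun i j h => ?_, ⟨(RingEquiv.ofBijective ψ hbij).symm⟩⟩
  haveI := (isLocalRing_of_isPairHenselization (L i) (hB i)).1
  haveI := (isLocalRing_of_isPairHenselization (L j) (hB j)).1
  refine ((local_hom_TFAE (g i j h)).out 0 2 rfl rfl).mpr ?_
  rw [← map_maximalIdeal_of_isPairHenselization (L i) (hB i),
    ← map_maximalIdeal_of_isPairHenselization (L j) (hB j), Ideal.map_map, hg, ← Ideal.map_map]
  exact Ideal.map_mono (hI i j h)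

end generic

theorem henselianLocal_and_gring (L : Type u) [CommRing L] [IsLocalRing L] (hL : CAlg.IsGRing L) :
    HenselianLocalRing (PairHens L (maximalIdeal L)) ∧ CAlg.IsGRing (PairHens L (maximalIdeal L)) := by
  have h := isPairHenselization L (maximalIdeal L)
  haveI := (isLocalRing_of_isPairHenselization L h).1
  haveI := isLocalHom_of_isPairHenselization L h
  haveI := isHenselization_of_isPairHenselization L h
  haveI := hL.1
  exact ⟨Hensel.IsHenselization.henselian (R := L), Groth.Agent.S2045.result hL⟩

section construction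

variable (A : Type u) [CommRing A] [HenselianLocalRing A]

/-- the subring generated by a finite set -/
abbrev Sub (s : Finset A) : Subalgebra ℤ A := Algebra.adjoin ℤ (s : Set A)

/-- the prime below the maximal ideal -/
abbrev pr (s : Finset A) : Ideal (Sub A s) := (maximalIdeal A).comap (Sub A s).val

/-- the local stage -/
abbrev Stage (s : Finset A) : Type u := Localization.AtPrime (pr A s)

theorem unit_val (s : Finset A) (t : (pr A s).primeCompl) : IsUnit ((Sub A s).val.toRingHom t.1) := by
  by_contra h
  exact t.2 h

/-- the inclusion of a stage into `A` -/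
noncomputable def incl (s : Finset A) : Stage A s →+* A :=
  IsLocalization.lift (M := (pr A s).primeCompl) (g := (Sub A s).val.toRingHom) (unit_val A s)

theorem incl_algebraMap (s : Finset A) (x : Sub A s) : incl A s (algebraMap _ _ x) = x :=
  IsLocalization.lift_eq _ x

theorem incl_injective (s : Finset A) : Function.Injective (incl A s) := by
  rw [injective_iff_map_eq_zero]
  intro y hy
  obtain ⟨x, t, rfl⟩ := IsLocalization.exists_mk'_eq (pr A s).primeCompl y
  rw [incl, IsLocalization.lift_mk'_spec, mul_zero] at hy
  have hx : x = 0 := Subtype.ext hy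
  rw [hx, IsLocalization.mk'_zero]

theorem pr_mono {s t : Finset A} (h : s ⊆ t) :
    pr A s = (pr A t).comap (Subalgebra.inclusion (Algebra.adjoin_mono (Finset.coe_subset.2 h))).toRingHom := rfl

/-- transition maps -/
noncomputable def trans (s t : Finset A) (h : s ≤ t) : Stage A s →+* Stage A t :=
  Localization.localRingHom (pr A s) (pr A t) _ (pr_mono A h)

theorem incl_trans (s t : Finset A) (h : s ≤ t) : (incl A t).comp (trans A s t h) = incl A s := by
  refine IsLocalization.ringHom_ext (pr A s).primeCompl (RingHom.ext fun x => ?_)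
  simp only [RingHom.comp_apply, trans, Localization.localRingHom_to_map, incl_algebraMap]
  rfl

theorem isLocalHom_incl (s : Finset A) : IsLocalHom (incl A s) := by
  refine ((local_hom_TFAE (incl A s)).out 0 2 rfl rfl).mpr ?_
  rw [← Localization.AtPrime.map_eq_maximalIdeal, Ideal.map_map, Ideal.map_le_iff_le_comap]
  intro x hx
  show incl A s (algebraMap _ _ x) ∈ maximalIdeal A
  rw [incl_algebraMap]
  exact hx

noncomputable instance : DirectedSystem (Stage A) (fun i j h => trans A i j h) where
  map_self i x := incl_injective A i (DFunLike.congr_fun (incl_trans A i i le_rfl) x)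
  map_map k j i hij hjk x := incl_injective A k (by
    rw [← RingHom.comp_apply (incl A k), incl_trans, ← RingHom.comp_apply (incl A j), incl_trans,
      ← RingHom.comp_apply (incl A k), incl_trans])

theorem isGRing_stage (s : Finset A) : CAlg.IsGRing (Stage A s) := by
  letI : Algebra (ULift.{u} ℤ) (Sub A s) :=
    ((Int.castRingHom (Sub A s)).comp (ULift.ringEquiv : ULift.{u} ℤ ≃+* ℤ).toRingHom).toAlgebra
  haveI : Algebra.FiniteType ℤ (Sub A s) := (Sub A s).fg_iff_finiteType.1 ⟨s, rfl⟩
  haveI : Algebra.FiniteType (ULift.{u} ℤ) (Sub A s) := by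
    obtain ⟨t, ht⟩ := (inferInstance : Algebra.FiniteType ℤ (Sub A s)).out
    refine ⟨⟨t, eq_top_iff.2 fun b hbT => ?_⟩⟩
    clear hbT
    have hb : b ∈ Algebra.adjoin ℤ (t : Set (Sub A s)) := ht ▸ Algebra.mem_top
    induction hb using Algebra.adjoin_induction with
    | mem x hx => exact Algebra.subset_adjoin hx
    | algebraMap n =>
      have : algebraMap (ULift.{u} ℤ) (Sub A s) ⟨n⟩ = algebraMap ℤ (Sub A s) n := rfl
      rw [← this]
      exact Subalgebra.algebraMap_mem _ _
    | add x y _ _ hx hy => exact add_mem hx hy
    | mul x y _ _ hx hy => exact mul_mem hx hy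
  have h : CAlg.IsGRing (Sub A s) := Groth.Agent.S0599.result _ Groth.L03.GRingInt.isGRing_int _
  haveI := h.1
  refine ⟨IsLocalization.isNoetherianRing (pr A s).primeCompl _ inferInstance, fun P _ => ?_⟩
  haveI := IsLocalization.isLocalization_isLocalization_atPrime_isLocalization (pr A s).primeCompl
    (Localization.AtPrime P) P
  exact Groth.L06.GRingTransport.isRegularHom_completion_of_ringEquiv
    (IsLocalization.algEquiv (P.comap (algebraMap (Sub A s) (Stage A s))).primeCompl
      (Localization.AtPrime (P.comap (algebraMap (Sub A s) (Stage A s)))) (Localization.AtPrime P)).toRingEquiv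
    (h.2 _)

theorem stages :
    ∃ e : DirectLimit (Stage A) (fun i j h => trans A i j h) ≃+* A,
      ∀ s, IsLocalHom (e.toRingHom.comp (DirectLimit.Ring.of (Stage A) (fun i j h => trans A i j h) s)) := by
  classical
  have hc : ∀ s t (h : s ≤ t) (x : Stage A s), incl A t (trans A s t h x) = incl A s x :=
    fun s t h x => DFunLike.congr_fun (incl_trans A s t h) x
  let φ : DirectLimit (Stage A) (fun i j h => trans A i j h) →+* A :=
    DirectLimit.Ring.lift (Stage A) (fun i j h => trans A i j h) A (incl A) hc
  have hφ : ∀ s x, φ (DirectLimit.Ring.of (Stage A) (fun i j h => trans A i j h) s x) = incl A s x :=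
    fun s x => rfl
  have hbij : Function.Bijective φ := by
    constructor
    · rw [injective_iff_map_eq_zero]
      intro z
      induction z using DirectLimit.induction with
      | _ i x =>
        intro hx
        have h0 : x = 0 := incl_injective A i (by rw [← hφ, map_zero]; exact hx)
        show DirectLimit.Ring.of (Stage A) (fun i j h => trans A i j h) i x = 0
        rw [h0, map_zero]
    · intro a
      refine ⟨DirectLimit.Ring.of _ _ ({a} : Finset A)
        (algebraMap _ _ (⟨a, Algebra.subset_adjoin (by simp)⟩ : Sub A {a})), ?_⟩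
      rw [hφ, incl_algebraMap]
  refine ⟨RingEquiv.ofBijective φ hbij, fun s => ?_⟩
  rw [show (RingEquiv.ofBijective φ hbij).toRingHom.comp (DirectLimit.Ring.of _ _ s) = incl A s from
    RingHom.ext (hφ s)]
  exact isLocalHom_incl A s

end construction

theorem main (A : Type u) [CommRing A] [HenselianLocalRing A] :
    ∃ (ι : Type u) (_ : Preorder ι) (_ : IsDirectedOrder ι) (_ : Nonempty ι) (G : ι → Type u)
      (_ : ∀ i, CommRing (G i)) (f : ∀ i j : ι, i ≤ j → (G i →+* G j))
      (_ : DirectedSystem G (fun i j h => f i j h)),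
      (∀ i, HenselianLocalRing (G i) ∧ CAlg.IsGRing (G i)) ∧
      (∀ (i j : ι) (h : i ≤ j), IsLocalHom (f i j h)) ∧
      Nonempty (A ≃+* DirectLimit G f) := by
  classical
  obtain ⟨e, he⟩ := stages A
  obtain ⟨g, hsys, hloc, hiso⟩ := exists_system (Stage A) (fun i j h => trans A i j h)
    (fun i j h => by rw [trans]; exact Localization.isLocalHom_localRingHom _ _ _ (pr_mono A h)) A e he
  exact ⟨Finset A, inferInstance, inferInstance, inferInstance,
    fun s => PairHens (Stage A s) (maximalIdeal (Stage A s)), inferInstance, g, hsys,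
    fun s => henselianLocal_and_gring _ (isGRing_stage A s), hloc, hiso⟩

end Groth.L03.HenselGLim
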