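import Groth.Agent.L04.Depth2
import Mathlib.RingTheory.Support
import Mathlib.RingTheory.KrullDimension.Module
import Mathlib.Algebra.Module.LocalizedModule.Exact

/-!
Depth and Serre conditions of `Hom` modules and of finite powers.
-/

set_option autoImplicit false
universe u

namespace Groth.L03.HomDepth

open LocCoh

variable {R : Type u} [CommRing R] [IsNoetherianRing R]

theorem exists_hom_equiv_ker (M N : Type u) [AddCommGroup M] [Module R M] [Module.Finite R M]
    [AddCommGroup N] [Module R N] :
    ∃ (n m : ℕ) (w : (Fin n → N) →ₗ[R] (Fin m → N)), Nonempty ((M →ₗ[R] N) ≃ₗ[R] LinearMap.ker w) := by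
  obtain ⟨n, π, hπ⟩ := Module.Finite.exists_fin' R M
  obtain ⟨m, g, hg⟩ := Submodule.fg_iff_exists_fin_generating_family.1
    (IsNoetherian.noetherian (LinearMap.ker π))
  let w : (Fin n → N) →ₗ[R] (Fin m → N) :=
    LinearMap.pi fun j => ∑ i, g j i • LinearMap.proj i
  let ev : (M →ₗ[R] N) →ₗ[R] (Fin n → N) :=
    LinearMap.pi fun i => LinearMap.applyₗ (π (Pi.single i 1))
  have hev : ∀ (φ : M →ₗ[R] N) (c : Fin n → R), φ (π c) = ∑ i, c i • ev φ i := fun φ c => by
    conv_lhs => rw [pi_eq_sum_univ' c]
    simp [ev, map_sum]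
  refine ⟨n, m, w, ⟨LinearEquiv.ofBijective (ev.codRestrict _ fun φ => ?_)
    ⟨fun φ ψ h => ?_, fun c => ?_⟩⟩⟩
  · rw [LinearMap.mem_ker]
    funext j
    simp only [w, LinearMap.pi_apply, LinearMap.sum_apply, LinearMap.smul_apply,
      LinearMap.proj_apply, Pi.zero_apply]
    rw [← hev, show π (g j) = 0 from hg.le (Submodule.subset_span ⟨j, rfl⟩), map_zero]
  · refine LinearMap.ext fun x => ?_
    obtain ⟨c, rfl⟩ := hπ x
    rw [hev, hev, show ev φ = ev ψ from congrArg Subtype.val h]
  · have hle : LinearMap.ker π ≤ LinearMap.ker (Fintype.linearCombination R c.1) := by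
      rw [← hg, Submodule.span_le]
      rintro _ ⟨j, rfl⟩
      have := congrFun (LinearMap.mem_ker.1 c.2) j
      simpa [w, Fintype.linearCombination_apply] using this
    let φ : M →ₗ[R] N := (LinearMap.ker π).liftQ (Fintype.linearCombination R c.1) hle ∘ₗ
      (π.quotKerEquivOfSurjective hπ).symm.toLinearMap
    have hφ : ∀ d, φ (π d) = Fintype.linearCombination R c.1 d := fun d => by
      simp [φ]
    refine ⟨φ, Subtype.ext (funext fun i => ?_)⟩
    show φ (π (Pi.single i 1)) = c.1 i
    rw [hφ]
    simp

variable (N : Type u) [AddCommGroup N] [Module R N] [Module.Finite R N]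

/-- Finite powers have at least the depth of the module. -/
theorem le_idealDepth_pow (I : Ideal R) {j : ℕ} (h : (j : ℕ∞) ≤ idealDepth I N) :
    ∀ k : ℕ, (j : ℕ∞) ≤ idealDepth I (Fin k → N) := by
  intro k
  induction k with
  | zero =>
    rw [Groth.L04.idealDepth_eq_top (Subsingleton.elim _ _)]
    exact le_top
  | succ k ih =>
    rw [Groth.L04.idealDepth_congr (Fin.consLinearEquiv R fun _ : Fin (k + 1) => N).symm]
    exact Groth.L04.le_idealDepth_mid LinearMap.inl_injective LinearMap.snd_surjective
      Function.Exact.inl_snd h ih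

theorem localized_pow (p : Ideal R) [p.IsPrime] (k : ℕ) :
    (∀ j : ℕ, (j : ℕ∞) ≤ depth (Localization.AtPrime p) (LocalizedModule p.primeCompl N) →
      (j : ℕ∞) ≤ depth (Localization.AtPrime p) (LocalizedModule p.primeCompl (Fin k → N))) ∧
    Module.support (Localization.AtPrime p) (LocalizedModule p.primeCompl (Fin k → N)) ⊆
      Module.support (Localization.AtPrime p) (LocalizedModule p.primeCompl N) := by
  induction k with
  | zero =>
    haveI : Subsingleton (LocalizedModule p.primeCompl (Fin 0 → N)) := ⟨fun a b => by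
      induction a using LocalizedModule.induction_on with
      | h m s => induction b using LocalizedModule.induction_on with
        | h n t => rw [Subsingleton.elim m 0, Subsingleton.elim n 0, LocalizedModule.zero_mk, LocalizedModule.zero_mk]⟩
    refine ⟨fun j _ => ?_, by rw [Module.support_eq_empty]; exact Set.empty_subset _⟩
    rw [LocCoh.depth, Groth.L04.idealDepth_eq_top (Subsingleton.elim _ _)]
    exact le_top
  | succ k ih =>
    let c := (Fin.consLinearEquiv R fun _ : Fin (k + 1) => N)
    let f : N →ₗ[R] (Fin (k + 1) → N) := c.toLinearMap ∘ₗ LinearMap.inl R N (Fin k → N)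
    let g : (Fin (k + 1) → N) →ₗ[R] (Fin k → N) := LinearMap.snd R N (Fin k → N) ∘ₗ c.symm.toLinearMap
    have hf : Function.Injective (LocalizedModule.map p.primeCompl f) :=
      LocalizedModule.map_injective _ _ (c.injective.comp (LinearMap.inl_injective (R := R) (M := N) (M₂ := Fin k → N)))
    have hg : Function.Surjective (LocalizedModule.map p.primeCompl g) :=
      LocalizedModule.map_surjective _ _ ((LinearMap.snd_surjective (R := R) (M := N) (M₂ := Fin k → N)).comp c.symm.surjective)
    have hfg : Function.Exact (LocalizedModule.map p.primeCompl f) (LocalizedModule.map p.primeCompl g) := by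
      refine LocalizedModule.map_exact _ f g ?_
      intro y
      constructor
      · intro hy
        refine ⟨(c.symm y).1, ?_⟩
        show c ((c.symm y).1, 0) = y
        rw [show ((c.symm y).1, (0 : Fin k → N)) = c.symm y from Prod.ext rfl hy.symm, LinearEquiv.apply_symm_apply]
      · rintro ⟨x, rfl⟩
        show (c.symm (c (x, 0))).2 = 0
        rw [LinearEquiv.symm_apply_apply]
    refine ⟨fun j hj => Groth.L04.le_idealDepth_mid hf hg hfg hj (ih.1 j hj), ?_⟩
    rw [Module.support_of_exact hfg hf hg]
    exact Set.union_subset le_rfl ih.2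

/-- `Hom(M, N)` inherits Serre's condition `S_k` from `N` for `k ≤ 2`. -/
theorem hasSk_hom (M : Type u) [AddCommGroup M] [Module R M] [Module.Finite R M] (k : ℕ) (hk : k ≤ 2)
    (hN : HasSk k R N) : HasSk k R (M →ₗ[R] N) := by
  obtain ⟨n, m, w, ⟨e⟩⟩ := exists_hom_equiv_ker (R := R) M N
  let i : (M →ₗ[R] N) →ₗ[R] (Fin n → N) := (LinearMap.ker w).subtype ∘ₗ e.toLinearMap
  have hi : Function.Injective i := Subtype.val_injective.comp e.injective
  have key : ∀ (p : Ideal R) [p.IsPrime] (j : ℕ), j ≤ k →
      (j : WithBot ℕ∞) ≤ Module.supportDim (Localization.AtPrime p) (LocalizedModule p.primeCompl (M →ₗ[R] N)) →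
      (j : ℕ∞) ≤ depth (Localization.AtPrime p) (LocalizedModule p.primeCompl N) := by
    intro p _ j hj hd
    have hsub : Module.support (Localization.AtPrime p) (LocalizedModule p.primeCompl (M →ₗ[R] N)) ⊆
        Module.support (Localization.AtPrime p) (LocalizedModule p.primeCompl N) :=
      (Module.support_subset_of_injective _ (LocalizedModule.map_injective p.primeCompl i hi)).trans
        (localized_pow N p n).2
    have h1 := hd.trans (Order.krullDim_le_of_strictMono (fun x => ⟨x.1, hsub x.2⟩) fun a b h => h :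
      Module.supportDim (Localization.AtPrime p) (LocalizedModule p.primeCompl (M →ₗ[R] N)) ≤
        Module.supportDim (Localization.AtPrime p) (LocalizedModule p.primeCompl N))
    have h2 := le_trans (le_min (show (j : WithBot ℕ∞) ≤ (k : WithBot ℕ∞) from Nat.cast_le.2 hj) h1) (hN p)
    exact_mod_cast h2
  refine Groth.L04.hasSk_of_exact i hi w ?_ k hk (fun p _ hd => (localized_pow N p n).1 k (key p k le_rfl hd))
    (fun h p _ hd => ?_) (fun h p _ hd => ?_)
  · intro y
    exact ⟨fun hy => ⟨e.symm ⟨y, hy⟩, by simp [i]⟩, fun ⟨x, hx⟩ => hx ▸ (e x).2⟩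
  · have := (localized_pow N p m).1 1 ((by exact_mod_cast one_le_two (α := ℕ∞) : ((1 : ℕ) : ℕ∞) ≤ (2 : ℕ)).trans
      (key p 2 h.ge (by exact_mod_cast hd)))
    exact_mod_cast this
  · have := (localized_pow N p n).1 1 (key p 1 (h ▸ one_le_two) (by exact_mod_cast hd))
    exact_mod_cast this

theorem depth_hom [IsLocalRing R] (M : Type u) [AddCommGroup M] [Module R M] [Module.Finite R M] :
    (1 ≤ depth R N → 1 ≤ depth R (M →ₗ[R] N)) ∧ (2 ≤ depth R N → 2 ≤ depth R (M →ₗ[R] N)) := by
  obtain ⟨n, m, w, ⟨e⟩⟩ := exists_hom_equiv_ker (R := R) M N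
  simp only [LocCoh.depth]
  rw [Groth.L04.idealDepth_congr e]
  refine ⟨fun h => (Groth.L04.idealDepth_ker _ w).1 ?_, fun h => (Groth.L04.idealDepth_ker _ w).2 ?_ ?_⟩
  · exact_mod_cast le_idealDepth_pow N _ (j := 1) (by exact_mod_cast h) n
  · exact_mod_cast le_idealDepth_pow N _ (j := 2) (by exact_mod_cast h) n
  · exact_mod_cast le_idealDepth_pow N _ (j := 1) (by exact_mod_cast (one_le_two (α := ℕ∞)).trans h) m

end Groth.L03.HomDepth
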