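import Mathlib.RingTheory.HopfAlgebra.Basic
import Mathlib.RingTheory.TensorProduct.Maps
import Mathlib.LinearAlgebra.TensorProduct.Associator

/-!
Transport of a Hopf algebra structure along an isomorphism of algebras.
-/

namespace Groth.L03.HopfShrink

open TensorProduct Coalgebra

universe u v w

variable {R : Type u} [CommRing R] {A : Type v} [CommRing A] [HopfAlgebra R A] {B : Type w}
  [CommRing B] [Algebra R B] (e : A ≃ₐ[R] B)

/-- The transported coalgebra. -/
@[reducible] noncomputable def coalgebra : Coalgebra R B where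
  comul := (Algebra.TensorProduct.map (e : A →ₐ[R] B) (e : A →ₐ[R] B)).toLinearMap ∘ₗ comul ∘ₗ
    e.symm.toLinearMap
  counit := counit ∘ₗ e.symm.toLinearMap
  coassoc := by
    refine LinearMap.ext fun x => ?_
    obtain ⟨a, rfl⟩ := e.surjective x
    have h := congrArg (TensorProduct.map e.toLinearMap (TensorProduct.map e.toLinearMap e.toLinearMap))
      (LinearMap.congr_fun (Coalgebra.coassoc (R := R) (A := A)) a)
    simp only [LinearMap.comp_apply, LinearEquiv.coe_coe] at h ⊢
    simp only [AlgHom.toLinearMap_apply]
    erw [e.symm_apply_apply]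
    rw [← (ℛ R a).eq] at h ⊢
    simp only [map_sum, LinearMap.rTensor_tmul, LinearMap.lTensor_tmul, Algebra.TensorProduct.map_tmul,
      AlgEquiv.coe_toAlgHom, AlgEquiv.toLinearMap_apply, AlgEquiv.symm_apply_apply,
      LinearMap.comp_apply, AlgHom.toLinearMap_apply, TensorProduct.map_tmul] at h ⊢
    refine Eq.trans (Finset.sum_congr rfl fun i _ => ?_) (h.trans (Finset.sum_congr rfl fun i _ => ?_))
    · induction comul (R := R) ((ℛ R a).left i) using TensorProduct.induction_on with
      | zero => simp
      | tmul p q => simp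
      | add p q hp hq => simp only [map_add, TensorProduct.add_tmul, hp, hq]
    · induction comul (R := R) ((ℛ R a).right i) using TensorProduct.induction_on with
      | zero => simp
      | tmul p q => simp
      | add p q hp hq => simp only [map_add, TensorProduct.tmul_add, hp, hq]
  rTensor_counit_comp_comul := by
    refine LinearMap.ext fun x => ?_
    obtain ⟨a, rfl⟩ := e.surjective x
    have h := congrArg (TensorProduct.map LinearMap.id e.toLinearMap)
      (LinearMap.congr_fun (Coalgebra.rTensor_counit_comp_comul (R := R) (A := A)) a)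
    simp only [LinearMap.comp_apply] at h ⊢
    simp only [AlgHom.toLinearMap_apply]
    simp only [AlgEquiv.toLinearMap_apply, AlgEquiv.symm_apply_apply]
    rw [← (ℛ R a).eq] at h ⊢
    simpa [map_sum] using h
  lTensor_counit_comp_comul := by
    refine LinearMap.ext fun x => ?_
    obtain ⟨a, rfl⟩ := e.surjective x
    have h := congrArg (TensorProduct.map e.toLinearMap LinearMap.id)
      (LinearMap.congr_fun (Coalgebra.lTensor_counit_comp_comul (R := R) (A := A)) a)
    simp only [LinearMap.comp_apply] at h ⊢
    simp only [AlgHom.toLinearMap_apply]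
    simp only [AlgEquiv.toLinearMap_apply, AlgEquiv.symm_apply_apply]
    rw [← (ℛ R a).eq] at h ⊢
    simpa [map_sum] using h

/-- The transported Hopf algebra. -/
@[reducible] noncomputable def hopfAlgebra : HopfAlgebra R B :=
  letI := coalgebra e
  letI : Bialgebra R B := Bialgebra.mk' R B
    (by show counit (R := R) (e.symm 1) = 1; rw [map_one, Bialgebra.counit_one])
    (by intro a b; show counit (R := R) (e.symm (a * b)) = _; rw [map_mul, Bialgebra.counit_mul]; rfl)
    (by
      show Algebra.TensorProduct.map (e : A →ₐ[R] B) (e : A →ₐ[R] B) (comul (R := R) (e.symm 1)) = 1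
      rw [map_one, Bialgebra.comul_one, map_one])
    (by
      intro a b
      show Algebra.TensorProduct.map (e : A →ₐ[R] B) (e : A →ₐ[R] B) (comul (R := R) (e.symm (a * b))) = _
      rw [map_mul, Bialgebra.comul_mul, map_mul]
      rfl)
  { antipode := e.toLinearMap ∘ₗ HopfAlgebra.antipode R ∘ₗ e.symm.toLinearMap
    mul_antipode_rTensor_comul := by
      refine LinearMap.ext fun x => ?_
      obtain ⟨a, rfl⟩ := e.surjective x
      show LinearMap.mul' R B ((e.toLinearMap ∘ₗ HopfAlgebra.antipode R ∘ₗ e.symm.toLinearMap).rTensor B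
        (Algebra.TensorProduct.map (e : A →ₐ[R] B) (e : A →ₐ[R] B) (comul (R := R) (e.symm (e a))))) =
        algebraMap R B (counit (R := R) (e.symm (e a)))
      rw [e.symm_apply_apply, ← e.commutes, ← HopfAlgebra.mul_antipode_rTensor_comul_apply (R := R) a,
        ← (ℛ R a).eq]
      simp [map_sum]
    mul_antipode_lTensor_comul := by
      refine LinearMap.ext fun x => ?_
      obtain ⟨a, rfl⟩ := e.surjective x
      show LinearMap.mul' R B ((e.toLinearMap ∘ₗ HopfAlgebra.antipode R ∘ₗ e.symm.toLinearMap).lTensor B
        (Algebra.TensorProduct.map (e : A →ₐ[R] B) (e : A →ₐ[R] B) (comul (R := R) (e.symm (e a))))) =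
        algebraMap R B (counit (R := R) (e.symm (e a)))
      rw [e.symm_apply_apply, ← e.commutes, ← HopfAlgebra.mul_antipode_lTensor_comul_apply (R := R) a,
        ← (ℛ R a).eq]
      simp [map_sum] }

/-- Cocommutativity descends along the isomorphism. -/
theorem isCocomm (h : letI := hopfAlgebra e; Coalgebra.IsCocomm R B) : Coalgebra.IsCocomm R A := by
  letI := hopfAlgebra e
  refine ⟨LinearMap.ext fun a => ?_⟩
  have h1 := LinearMap.congr_fun (h.comm_comp_comul) (e a)
  change TensorProduct.comm R B B (Algebra.TensorProduct.map (e : A →ₐ[R] B) (e : A →ₐ[R] B)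
      (comul (R := R) (e.symm (e a)))) =
    Algebra.TensorProduct.map (e : A →ₐ[R] B) (e : A →ₐ[R] B) (comul (R := R) (e.symm (e a))) at h1
  rw [e.symm_apply_apply] at h1
  apply (Algebra.TensorProduct.congr e e).injective
  refine Eq.trans ?_ h1
  show Algebra.TensorProduct.map (e : A →ₐ[R] B) (e : A →ₐ[R] B)
    (TensorProduct.comm R A A (comul (R := R) a)) = _
  rw [← (ℛ R a).eq]
  simp [map_sum]

end Groth.L03.HopfShrink
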