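import Mathlib.RingTheory.Spectrum.Prime.Topology
import Mathlib.RingTheory.Ideal.Quotient.Operations

/-!
Connected components of the prime spectrum as zero loci of idempotents.
-/

namespace Groth.L03.Idem

open PrimeSpectrum

universe u

variable {R : Type u} [CommRing R]

/-- The idempotents contained in an ideal. -/
def idems (P : Ideal R) : Set R := {e | IsIdempotentElem e ∧ e ∈ P}

theorem exists_idem_fix (P : Ideal R) {x : R} (hx : x ∈ Ideal.span (idems P)) :
    ∃ e ∈ idems P, e * x = x := by
  induction hx using Submodule.span_induction with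
  | mem x h => exact ⟨x, h, h.1.eq⟩
  | zero => exact ⟨0, ⟨IsIdempotentElem.zero, P.zero_mem⟩, mul_zero 0⟩
  | smul a x _ ih =>
    obtain ⟨e, he, hex⟩ := ih
    exact ⟨e, he, by rw [smul_eq_mul, mul_left_comm, hex]⟩
  | add x y _ _ ihx ihy =>
    obtain ⟨e, he, hex⟩ := ihx
    obtain ⟨f, hf, hfy⟩ := ihy
    refine ⟨e + f - e * f, ⟨?_, P.sub_mem (P.add_mem he.2 hf.2) (P.mul_mem_left _ hf.2)⟩, ?_⟩
    · have h1 := he.1.eq
      have h2 := hf.1.eq
      unfold IsIdempotentElem
      linear_combination (1 - 2 * f + f * f) * h1 + (1 - e) * h2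
    · linear_combination (1 - f) * hex + (1 - e) * hfy

theorem connectedComponent_eq (p : PrimeSpectrum R) :
    connectedComponent p = zeroLocus (idems p.asIdeal) := by
  refine Set.Subset.antisymm (fun q hq e he => ?_) ?_
  · have hclo : IsClopen (zeroLocus ({e} : Set R)) :=
      isClopen_iff_zeroLocus.2 ⟨e, he.1, rfl⟩
    have := hclo.connectedComponent_subset (x := p)
      (by simpa [mem_zeroLocus] using he.2) hq
    simpa [mem_zeroLocus] using this
  set I := Ideal.span (idems p.asIdeal) with hI
  have hpI : I ≤ p.asIdeal := Ideal.span_le.2 fun e he => he.2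
  have himg : zeroLocus (idems p.asIdeal) = Set.range (comap (Ideal.Quotient.mk I)) := by
    rw [range_comap_of_surjective _ _ Ideal.Quotient.mk_surjective, Ideal.mk_ker, hI,
      zeroLocus_span]
  have hpre : IsPreconnected (zeroLocus (idems p.asIdeal)) := by
    rw [himg]
    haveI : PreconnectedSpace (PrimeSpectrum (R ⧸ I)) := by
      refine preconnectedSpace_iff_clopen.2 fun s hs => ?_
      obtain ⟨e, he, rfl⟩ := PrimeSpectrum.isClopen_iff.1 hs
      obtain ⟨a, rfl⟩ := Ideal.Quotient.mk_surjective e
      have ha : a * a - a ∈ I := by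
        rw [← Ideal.Quotient.mk_eq_mk_iff_sub_mem, map_mul, he.eq]
      obtain ⟨e, he', hea⟩ := exists_idem_fix _ ha
      have hf : IsIdempotentElem (a * (1 - e)) := by
        unfold IsIdempotentElem
        linear_combination (a * a) * he'.1.eq - hea
      have hcong : Ideal.Quotient.mk I (a * (1 - e)) = Ideal.Quotient.mk I a := by
        have : Ideal.Quotient.mk I e = 0 :=
          Ideal.Quotient.eq_zero_iff_mem.2 (Ideal.subset_span he')
        rw [map_mul, map_sub, this, map_one, sub_zero, mul_one]
      by_cases hfp : a * (1 - e) ∈ p.asIdeal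
      · left
        have h0 : Ideal.Quotient.mk I (a * (1 - e)) = 0 := Ideal.Quotient.eq_zero_iff_mem.2 (Ideal.subset_span (show a * (1 - e) ∈ idems p.asIdeal from ⟨hf, hfp⟩))
        rw [← hcong, h0, basicOpen_zero]
        rfl
      · right
        have h1 : 1 - a * (1 - e) ∈ p.asIdeal := by
          refine (p.isPrime.mem_or_mem ?_).resolve_left hfp
          rw [mul_sub, mul_one, hf.eq, sub_self]
          exact zero_mem _
        have : Ideal.Quotient.mk I (1 - a * (1 - e)) = 0 := Ideal.Quotient.eq_zero_iff_mem.2 (Ideal.subset_span (show 1 - a * (1 - e) ∈ idems p.asIdeal from ⟨hf.one_sub, h1⟩))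
        rw [map_sub, hcong, map_one, sub_eq_zero] at this
        rw [← this, basicOpen_one]
        rfl
    exact isPreconnected_range (continuous_comap _)
  exact hpre.subset_connectedComponent (by simp [mem_zeroLocus, Set.subset_def, idems])

theorem mem_span_idems_or (p : PrimeSpectrum R) {e : R} (he : IsIdempotentElem e) :
    e ∈ Ideal.span (idems p.asIdeal) ∨ 1 - e ∈ Ideal.span (idems p.asIdeal) := by
  by_cases h : e ∈ p.asIdeal
  · exact Or.inl (Ideal.subset_span ⟨he, h⟩)
  · refine Or.inr (Ideal.subset_span ⟨he.one_sub, (p.isPrime.mem_or_mem ?_).resolve_left h⟩)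
    rw [mul_sub, mul_one, he.eq, sub_self]
    exact zero_mem _

end Groth.L03.Idem
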