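import Mathlib.RingTheory.Localization.Integral
import Mathlib.RingTheory.IntegralClosure.IsIntegralClosure.Basic

/-!
Integral elements in localizations.
-/

namespace Groth.L03.IntLoc

universe u

variable {A B As Bs : Type*} [CommRing A] [CommRing B] [CommRing As] [CommRing Bs]
  [Algebra A B] [Algebra A As] [Algebra B Bs] [Algebra As Bs] [Algebra A Bs]
  [IsScalarTower A B Bs] [IsScalarTower A As Bs]

theorem exists_integral_mul (S : Submonoid A) [IsLocalization S As]
    [IsLocalization (Algebra.algebraMapSubmonoid B S) Bs] (x : Bs) (hx : IsIntegral As x) :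
    ∃ b : B, IsIntegral A b ∧ ∃ s ∈ S, x * algebraMap A Bs s = algebraMap B Bs b := by
  obtain ⟨m, hm⟩ := hx.exists_multiple_integral_of_isLocalization S
  obtain ⟨⟨b, ⟨_, s, hs, rfl⟩⟩, hb⟩ := IsLocalization.surj (Algebra.algebraMapSubmonoid B S) (m • x)
  have hyb : IsIntegral A (algebraMap B Bs b) := by
    rw [← hb, ← IsScalarTower.algebraMap_apply A B Bs, mul_comm, ← Algebra.smul_def]
    exact hm.smul s
  obtain ⟨p, hp, hp0⟩ := hyb
  rw [← Polynomial.aeval_def, Polynomial.aeval_algebraMap_apply,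
    IsLocalization.map_eq_zero_iff (Algebra.algebraMapSubmonoid B S)] at hp0
  obtain ⟨⟨_, t, ht, rfl⟩, ht0⟩ := hp0
  replace ht0 : algebraMap A B t * Polynomial.aeval b p = 0 := ht0
  refine ⟨algebraMap A B t * b, ?_, t * ((m : A) * s), S.mul_mem ht (S.mul_mem m.2 hs), ?_⟩
  · rcases Nat.eq_zero_or_pos p.natDegree with h0 | hpos
    · have h1 : p = 1 := hp.natDegree_eq_zero.1 h0
      rw [h1, map_one, mul_one] at ht0
      rw [ht0, zero_mul]
      exact isIntegral_zero
    refine ⟨p.scaleRoots t, (Polynomial.monic_scaleRoots_iff _).2 hp, ?_⟩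
    rw [Polynomial.eval₂_eq_sum_range, Polynomial.natDegree_scaleRoots]
    have : ∀ i ∈ Finset.range (p.natDegree + 1),
        algebraMap A B ((p.scaleRoots t).coeff i) * (algebraMap A B t * b) ^ i =
        algebraMap A B t ^ p.natDegree * (algebraMap A B (p.coeff i) * b ^ i) := by
      intro i hi
      rw [Polynomial.coeff_scaleRoots, map_mul, map_pow, mul_pow]
      have : i ≤ p.natDegree := Nat.lt_succ_iff.1 (Finset.mem_range.1 hi)
      rw [← Nat.sub_add_cancel this, pow_add, Nat.add_sub_cancel]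
      ring
    rw [Finset.sum_congr rfl this, ← Finset.mul_sum, ← Polynomial.eval₂_eq_sum_range,
      ← Polynomial.aeval_def]
    obtain ⟨k, hk⟩ := Nat.exists_eq_succ_of_ne_zero hpos.ne'
    rw [hk, pow_succ, mul_assoc]
    erw [ht0]
    rw [mul_zero]
  · rw [map_mul (algebraMap B Bs), ← IsScalarTower.algebraMap_apply A B Bs, ← hb, Submonoid.smul_def,
      Algebra.smul_def, ← IsScalarTower.algebraMap_apply A B Bs, map_mul, map_mul]
    ring

end Groth.L03.IntLoc
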