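import Groth.Prelude.Def_W4c2quivmodsheafKron
import Mathlib.LinearAlgebra.FiniteDimensional.Lemmas
import Mathlib.LinearAlgebra.Dimension.Constructions

/-!
Semistability of Kronecker modules in extreme and square dimension vectors.
-/

namespace Groth.L03.Kron

universe u v w

variable {K : Type u} [Field K] {V : Type v} {W : Type w} [AddCommGroup V] [Module K V]
  [FiniteDimensional K V] [AddCommGroup W] [Module K W] [FiniteDimensional K W] {n : ℕ}

/-- the sum map -/
noncomputable def σ (f : Fin n → (V →ₗ[K] W)) : (Fin n → V) →ₗ[K] W := ∑ j, f j ∘ₗ LinearMap.proj j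

/-- the product map -/
noncomputable def π (f : Fin n → (V →ₗ[K] W)) : V →ₗ[K] (Fin n → W) := LinearMap.pi f

theorem σ_apply (f : Fin n → (V →ₗ[K] W)) (v : Fin n → V) : σ f v = ∑ j, f j (v j) := by
  simp [σ]

theorem mem_range_σ (f : Fin n → (V →ₗ[K] W)) (j : Fin n) (v : V) : f j v ∈ LinearMap.range (σ f) := by
  classical
  refine ⟨Pi.single j v, ?_⟩
  rw [σ_apply, Finset.sum_eq_single j (fun i _ hi => by simp [Pi.single_eq_of_ne hi]) (by simp)]
  simp

variable {f : Fin n → (V →ₗ[K] W)}

theorem surjective_of_semistable (hV : 0 < Module.finrank K V) (hf : KronMod.IsSemistable f) :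
    Function.Surjective (σ f) := by
  rw [← LinearMap.range_eq_top]
  by_contra hne
  have h := hf.2 ⊤ (LinearMap.range (σ f))
    (fun j => Submodule.map_le_iff_le_comap.2 fun v _ => mem_range_σ f j v)
    (fun h => by
      rw [← finrank_top K V, h.1, finrank_bot] at hV
      exact lt_irrefl _ hV)
    (fun h => hne h.2)
  rw [finrank_top] at h
  have := Submodule.finrank_lt hne
  nlinarith

theorem injective_of_semistable (hW : 0 < Module.finrank K W) (hf : KronMod.IsSemistable f) :
    Function.Injective (π f) := by
  rw [← LinearMap.ker_eq_bot]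
  by_contra hne
  have h := hf.2 (LinearMap.ker (π f)) ⊥
    (fun j => Submodule.map_le_iff_le_comap.2 fun v hv => by
      rw [Submodule.mem_comap, Submodule.mem_bot]
      exact congrFun (LinearMap.mem_ker.1 hv) j)
    (fun h => hne h.1)
    (fun h => by
      rw [← finrank_top K W, ← h.2, finrank_bot] at hW
      exact lt_irrefl _ hW)
  rw [finrank_bot, mul_zero] at h
  have h1 : 1 ≤ Module.finrank K (LinearMap.ker (π f)) := Submodule.one_le_finrank_iff.2 hne
  nlinarith

theorem not_semistable (hV : 0 < Module.finrank K V) (hW : 0 < Module.finrank K W)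
    (h : n * Module.finrank K V < Module.finrank K W ∨ n * Module.finrank K W < Module.finrank K V) :
    ¬ KronMod.IsSemistable f := by
  intro hf
  rcases h with h | h
  · have := LinearMap.finrank_le_finrank_of_surjective (surjective_of_semistable hV hf)
    rw [Module.finrank_pi_fintype] at this
    simp at this
    omega
  · have := LinearMap.finrank_le_finrank_of_injective (injective_of_semistable hW hf)
    rw [Module.finrank_pi_fintype] at this
    simp at this
    omega

theorem semistable_iff_sum (hV : 0 < Module.finrank K V)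
    (hW : Module.finrank K W = n * Module.finrank K V) :
    KronMod.IsSemistable f ↔ Function.Bijective (σ f) := by
  have hd : Module.finrank K (Fin n → V) = Module.finrank K W := by
    rw [Module.finrank_pi_fintype, hW]; simp
  refine ⟨fun hf => ⟨(LinearMap.injective_iff_surjective_of_finrank_eq_finrank hd).2
    (surjective_of_semistable hV hf), surjective_of_semistable hV hf⟩, fun h => ⟨by omega, ?_⟩⟩
  intro V' W' hs _ _
  let ι : (Fin n → V') →ₗ[K] W' := LinearMap.codRestrict W'
    (σ f ∘ₗ LinearMap.pi fun j => V'.subtype ∘ₗ LinearMap.proj j) fun v => by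
      rw [LinearMap.comp_apply, σ_apply]
      exact Submodule.sum_mem _ fun j _ => hs j (Submodule.mem_map_of_mem (v j).2)
  have hι : Function.Injective ι := fun a b hab => funext fun j => Subtype.ext
    (congrFun (h.1 (congrArg Subtype.val hab)) j)
  have := LinearMap.finrank_le_finrank_of_injective hι
  rw [Module.finrank_pi_fintype] at this
  simp at this
  rw [hW]
  nlinarith

theorem semistable_iff_prod (hW : 0 < Module.finrank K W)
    (hV : Module.finrank K V = n * Module.finrank K W) :
    KronMod.IsSemistable f ↔ Function.Bijective (π f) := by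
  have hd : Module.finrank K V = Module.finrank K (Fin n → W) := by
    rw [Module.finrank_pi_fintype, hV]; simp
  refine ⟨fun hf => ⟨injective_of_semistable hW hf, (LinearMap.injective_iff_surjective_of_finrank_eq_finrank hd).1
    (injective_of_semistable hW hf)⟩, fun h => ⟨by omega, ?_⟩⟩
  intro V' W' hs _ _
  let ι : V' →ₗ[K] (Fin n → W') := LinearMap.pi fun j => LinearMap.codRestrict W' (f j ∘ₗ V'.subtype)
    fun v => hs j (Submodule.mem_map_of_mem v.2)
  have hι : Function.Injective ι := fun a b hab => Subtype.ext
    (h.1 (funext fun j => congrArg Subtype.val (congrFun hab j)))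
  have := LinearMap.finrank_le_finrank_of_injective hι
  rw [Module.finrank_pi_fintype] at this
  simp at this
  rw [hV]
  nlinarith

theorem semistable_of_bijective {k : ℕ} (hk : 1 ≤ k) (hV : Module.finrank K V = k) (hW : Module.finrank K W = k)
    (z : Fin n → K) (hz : Function.Bijective (∑ j, z j • f j : V →ₗ[K] W)) : KronMod.IsSemistable f := by
  refine ⟨by omega, fun V' W' hs _ _ => ?_⟩
  let ι : V' →ₗ[K] W' := LinearMap.codRestrict W' ((∑ j, z j • f j) ∘ₗ V'.subtype) fun v => by
    rw [LinearMap.comp_apply, LinearMap.sum_apply]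
    exact Submodule.sum_mem _ fun j _ => Submodule.smul_mem _ _ (hs j (Submodule.mem_map_of_mem v.2))
  have := LinearMap.finrank_le_finrank_of_injective (f := ι) fun a b hab =>
    Subtype.ext (hz.1 (congrArg Subtype.val hab))
  rw [hV, hW]
  exact Nat.mul_le_mul_left k this

theorem exists_bijective_two (hV : Module.finrank K V = 2) (hW : Module.finrank K W = 2)
    (hf : KronMod.IsSemistable f) :
    ∃ z : Fin n → K, Function.Bijective (∑ j, z j • f j : V →ₗ[K] W) := by
  classical
  by_contra hno
  push Not at hno
  have hninj : ∀ z : Fin n → K, LinearMap.ker (∑ j, z j • f j : V →ₗ[K] W) ≠ ⊥ := fun z h =>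
    hno z ⟨LinearMap.ker_eq_bot.1 h, (LinearMap.injective_iff_surjective_of_finrank_eq_finrank
      (hV.trans hW.symm)).1 (LinearMap.ker_eq_bot.1 h)⟩
  have hone : ∀ j, f j ≠ 0 → Module.finrank K (LinearMap.range (f j)) = 1 ∧
      Module.finrank K (LinearMap.ker (f j)) = 1 := by
    intro j hj
    have h1 := hninj (Pi.single j 1)
    rw [Finset.sum_eq_single j (fun i _ hi => by simp [Pi.single_eq_of_ne hi]) (by simp), Pi.single_eq_same,
      one_smul] at h1
    have h2 := Submodule.one_le_finrank_iff.2 h1
    have h3 : 1 ≤ Module.finrank K (LinearMap.range (f j)) :=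
      Submodule.one_le_finrank_iff.2 fun h => hj (LinearMap.range_eq_bot.1 h)
    have h4 := LinearMap.finrank_range_add_finrank_ker (f j)
    omega
  have key : ∀ i j, f i ≠ 0 → f j ≠ 0 → LinearMap.range (f i) ≠ LinearMap.range (f j) →
      LinearMap.ker (f i) = LinearMap.ker (f j) := by
    intro i j hi hj hr
    have hij : i ≠ j := fun h => hr (h ▸ rfl)
    obtain ⟨x, hx, hx0⟩ := Submodule.exists_mem_ne_zero_of_ne_bot (hninj (Pi.single i 1 + Pi.single j 1))
    rw [LinearMap.mem_ker] at hx
    have hsum : f i x + f j x = 0 := by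
      simpa [add_smul, Finset.sum_add_distrib, Pi.single_apply, ite_smul] using hx
    have hix : f i x = 0 := by
      by_contra hne
      have hm : f i x ∈ LinearMap.range (f j) := ⟨-x, by rw [map_neg]; exact neg_eq_of_add_eq_zero_left hsum⟩
      exact hr ((eq_span_singleton_of_mem_of_finrank_eq_one (hone i hi).1 ⟨x, rfl⟩ hne).trans
        (eq_span_singleton_of_mem_of_finrank_eq_one (hone j hj).1 hm hne).symm)
    have hjx : f j x = 0 := by rwa [hix, zero_add] at hsum
    exact (eq_span_singleton_of_mem_of_finrank_eq_one (hone i hi).2 (LinearMap.mem_ker.2 hix) hx0).trans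
      (eq_span_singleton_of_mem_of_finrank_eq_one (hone j hj).2 (LinearMap.mem_ker.2 hjx) hx0).symm
  have hinj := injective_of_semistable (by omega) hf
  have hsurj := surjective_of_semistable (by omega) hf
  obtain ⟨i, hi⟩ : ∃ i, f i ≠ 0 := by
    by_contra hall
    push Not at hall
    obtain ⟨v, hv⟩ := Module.finrank_pos_iff_exists_ne_zero.1 (show 0 < Module.finrank K V by omega)
    exact hv (hinj (funext fun j => by simp [π, hall j]))
  obtain ⟨j, hj⟩ : ∃ j, ¬ LinearMap.range (f j) ≤ LinearMap.range (f i) := by
    by_contra hall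
    push Not at hall
    have hle : LinearMap.range (σ f) ≤ LinearMap.range (f i) := by
      rintro _ ⟨v, rfl⟩
      rw [σ_apply]
      exact Submodule.sum_mem _ fun j _ => hall j ⟨v j, rfl⟩
    rw [LinearMap.range_eq_top.2 hsurj, top_le_iff] at hle
    have := (hone i hi).1
    rw [hle, finrank_top, hW] at this
    omega
  obtain ⟨k, hk⟩ : ∃ k, ¬ LinearMap.ker (f i) ≤ LinearMap.ker (f k) := by
    by_contra hall
    push Not at hall
    obtain ⟨v, hv, hv0⟩ := Submodule.exists_mem_ne_zero_of_ne_bot (p := LinearMap.ker (f i)) fun h => by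
      have := (hone i hi).2
      rw [h, finrank_bot] at this
      omega
    exact hv0 (hinj (funext fun l => by simpa [π] using hall l hv))
  have hj0 : f j ≠ 0 := fun h => hj (by simp [h])
  have hk0 : f k ≠ 0 := fun h => hk (by simp [h])
  have hrj : LinearMap.range (f j) ≠ LinearMap.range (f i) := fun h => hj h.le
  have hkk : LinearMap.ker (f i) ≠ LinearMap.ker (f k) := fun h => hk h.le
  have hkj : LinearMap.ker (f j) = LinearMap.ker (f i) := key j i hj0 hi hrj
  have hrk : LinearMap.range (f k) = LinearMap.range (f i) := by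
    by_contra h
    exact hkk (key k i hk0 hi h).symm
  exact hkk (hkj ▸ key j k hj0 hk0 (hrk ▸ hrj))

end Groth.L03.Kron

/-- The sum map as a linear map. -/
theorem Groth.L03.Kron.coe_sum {K : Type*} [Field K] {V W : Type*} [AddCommGroup V] [Module K V]
    [AddCommGroup W] [Module K W] {n : ℕ} (f : Fin n → (V →ₗ[K] W)) :
    (fun v : Fin n → V => ∑ j, f j (v j)) = ⇑(∑ j, f j ∘ₗ LinearMap.proj j : (Fin n → V) →ₗ[K] W) := by
  funext v; simp
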