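import Groth.Agent.L03.Kron

/-!
Stability of Kronecker modules.
-/

namespace Groth.L03.Kron

universe u v w

variable {K : Type u} [Field K] {V : Type v} {W : Type w} [AddCommGroup V] [Module K V]
  [FiniteDimensional K V] [AddCommGroup W] [Module K W] [FiniteDimensional K W] {n : ℕ}
  {f : Fin n → (V →ₗ[K] W)}

theorem not_stable_of_bijective (hV : 0 < Module.finrank K V)
    (hW : Module.finrank K W = n * Module.finrank K V) (hd : Module.finrank K V ≠ 1)
    (hb : Function.Bijective (σ f)) : ¬ KronMod.IsStable f := by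
  classical
  intro hf
  obtain ⟨v, hv⟩ := Module.finrank_pos_iff_exists_ne_zero.1 hV
  let V' : Submodule K V := K ∙ v
  have hV' : Module.finrank K V' = 1 := finrank_span_singleton hv
  let ι : (Fin n → V') →ₗ[K] W := σ f ∘ₗ LinearMap.pi fun j => V'.subtype ∘ₗ LinearMap.proj j
  have hs : KronMod.IsSubrep f V' (LinearMap.range ι) := fun j => Submodule.map_le_iff_le_comap.2 fun x hx => by
    refine ⟨Pi.single j ⟨x, hx⟩, ?_⟩
    rw [LinearMap.comp_apply, σ_apply, Finset.sum_eq_single j (fun i _ hi => by simp [Pi.single_eq_of_ne hi]) (by simp)]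
    simp
  have h := hf.2 V' (LinearMap.range ι) hs (fun h => by
      have := hV'
      rw [h.1, finrank_bot] at this
      omega)
    (fun h => hd (by
      have := hV'
      rw [h.1, finrank_top] at this
      exact this))
  have h1 : Module.finrank K (LinearMap.range ι) ≤ n * 1 := by
    refine (LinearMap.finrank_range_le ι).trans ?_
    rw [Module.finrank_pi_fintype]
    simp [hV']
  rw [hW, hV'] at h
  nlinarith

theorem stable_of_semistable_one (hV : Module.finrank K V = 1)
    (hW : Module.finrank K W = n * Module.finrank K V) (hf : KronMod.IsSemistable f) : KronMod.IsStable f := by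
  refine ⟨hf.1, fun V' W' hs h1 h2 => ?_⟩
  have hle := hf.2 V' W' hs h1 h2
  refine lt_of_le_of_ne hle fun he => ?_
  have hV' := Submodule.finrank_le V'
  rw [hV] at hV' he
  rcases Nat.le_one_iff_eq_zero_or_eq_one.1 hV' with h | h
  · rw [h, mul_zero, one_mul] at he
    exact h1 ⟨Submodule.finrank_eq_zero.1 h, Submodule.finrank_eq_zero.1 he.symm⟩
  · rw [h, mul_one, one_mul] at he
    exact h2 ⟨Submodule.eq_top_of_finrank_eq (h.trans hV.symm), Submodule.eq_top_of_finrank_eq he.symm⟩

theorem semistable_one_one_iff (hV : Module.finrank K V = 1) (hW : Module.finrank K W = 1) :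
    (KronMod.IsSemistable f ↔ f ≠ 0) ∧ (KronMod.IsStable f ↔ f ≠ 0) := by
  have key : f ≠ 0 → KronMod.IsStable f := by
    intro hf0
    obtain ⟨j, hj⟩ := Function.ne_iff.1 hf0
    refine ⟨by omega, fun V' W' hs h1 h2 => ?_⟩
    rw [hV, hW, one_mul, one_mul]
    have hV' := Submodule.finrank_le V'
    have hW' := Submodule.finrank_le W'
    rw [hV] at hV'
    rw [hW] at hW'
    rcases Nat.le_one_iff_eq_zero_or_eq_one.1 hV' with h | h
    · rw [h]
      refine Nat.pos_of_ne_zero fun h' => h1 ⟨Submodule.finrank_eq_zero.1 h, Submodule.finrank_eq_zero.1 h'⟩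
    · exfalso
      have hVt : V' = ⊤ := Submodule.eq_top_of_finrank_eq (h.trans hV.symm)
      have hle := hs j
      rw [hVt, Submodule.map_top] at hle
      have h3 := (Submodule.one_le_finrank_iff.2 fun h => hj (LinearMap.range_eq_bot.1 h)).trans
        (Submodule.finrank_mono hle)
      exact h2 ⟨hVt, Submodule.eq_top_of_finrank_eq (by omega)⟩
  have hne : KronMod.IsSemistable f → f ≠ 0 := by
    rintro hf rfl
    have := hf.2 ⊤ ⊥ (fun j => by simp)
      (fun h => by
        rw [← finrank_top K V, h.1, finrank_bot] at hV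
        exact absurd hV (by omega))
      (fun h => by
        rw [← finrank_top K W, ← h.2, finrank_bot] at hW
        exact absurd hW (by omega))
    rw [finrank_top, finrank_bot, hV, hW] at this
    exact absurd this (by omega)
  refine ⟨⟨hne, fun h => ?_⟩, ⟨fun h => hne ⟨h.1, fun a b c d e => (h.2 a b c d e).le⟩, key⟩⟩
  exact ⟨(key h).1, fun a b c d e => ((key h).2 a b c d e).le⟩

end Groth.L03.Kron
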