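import Groth.Agent.L20.RG.FlatOpenFt
import Mathlib.RingTheory.MvPolynomial.Localization
import Mathlib.RingTheory.FinitePresentation

/-!
# Flat algebras of finite type which are locally finitely presented
-/

set_option autoImplicit false
set_option linter.style.haveILetI false
set_option backward.isDefEq.respectTransparency.types false
universe u

noncomputable section

namespace Groth.L03.LocFPFlat

open MvPolynomial

variable {R S : Type u} [CommRing R] [CommRing S] [Algebra R S]

attribute [local instance] MvPolynomial.algebraMvPolynomial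

/-- At a prime where the algebra is finitely presented, finitely many relations suffice. -/
theorem exists_fg_le_at {n : ℕ} (φ : MvPolynomial (Fin n) R →ₐ[R] S) (hφ : Function.Surjective φ)
    (p : Ideal R) [p.IsPrime]
    [Algebra.FinitePresentation (Localization.AtPrime p) (Localization (Algebra.algebraMapSubmonoid S p.primeCompl))] :
    ∃ I₁ : Ideal (MvPolynomial (Fin n) R), I₁.FG ∧ I₁ ≤ RingHom.ker φ ∧
      ∀ x ∈ RingHom.ker φ, ∃ m : R, m ∉ p ∧ C m * x ∈ I₁ := by
  classical
  let Rp := Localization.AtPrime p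
  let Sp := Localization (Algebra.algebraMapSubmonoid S p.primeCompl)
  let φp : MvPolynomial (Fin n) Rp →ₐ[Rp] Sp := MvPolynomial.aeval fun i => algebraMap S Sp (φ (X i))
  let mp : MvPolynomial (Fin n) R →+* MvPolynomial (Fin n) Rp := MvPolynomial.map (algebraMap R Rp)
  have hcomm : ∀ x, φp (mp x) = algebraMap S Sp (φ x) := by
    intro x
    have : φp.toRingHom.comp mp = (algebraMap S Sp).comp φ.toRingHom := by
      refine MvPolynomial.ringHom_ext (fun r => ?_) fun i => ?_
      · simp [mp, φp, ← IsScalarTower.algebraMap_apply]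
      · simp [mp, φp]
    exact congr($this x)
  haveI := MvPolynomial.isLocalization (σ := Fin n) p.primeCompl Rp
  have hsurj : Function.Surjective φp := fun y => by
    obtain ⟨⟨s, ⟨_, m, hm, rfl⟩⟩, hy⟩ := IsLocalization.surj (Algebra.algebraMapSubmonoid S p.primeCompl) y
    obtain ⟨x, rfl⟩ := hφ s
    obtain ⟨u, hu⟩ := IsLocalization.map_units Rp (⟨m, hm⟩ : p.primeCompl)
    refine ⟨C (↑u⁻¹ : Rp) * mp x, ?_⟩
    rw [map_mul, hcomm, ← hy]
    have h1 : algebraMap S Sp (algebraMap R S m) = algebraMap Rp Sp u := by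
      rw [hu, ← IsScalarTower.algebraMap_apply, ← IsScalarTower.algebraMap_apply]
    simp only [φp, MvPolynomial.aeval_C]
    show algebraMap Rp Sp (↑u⁻¹ : Rp) * (y * algebraMap S Sp (algebraMap R S m)) = y
    rw [h1, mul_left_comm, ← map_mul, Units.inv_mul, map_one, mul_one]
  obtain ⟨G, hG⟩ := Algebra.FinitePresentation.ker_fg_of_mvPolynomial φp hsurj
  have hlift : ∀ g ∈ G, ∃ g₀ ∈ RingHom.ker φ, ∃ v : MvPolynomial (Fin n) Rp, IsUnit v ∧ mp g₀ = v * g := by
    intro g hg
    obtain ⟨⟨x, ⟨_, m, hm, rfl⟩⟩, hx⟩ := IsLocalization.surj (p.primeCompl.map (C (σ := Fin n))) g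
    have hg0 : φp g = 0 := hG.le (Submodule.subset_span hg)
    have h0 : algebraMap S Sp (φ x) = 0 := by
      rw [← hcomm x, show mp x = algebraMap (MvPolynomial (Fin n) R) (MvPolynomial (Fin n) Rp) x from rfl, ← hx,
        map_mul, hg0, zero_mul]
    obtain ⟨⟨_, t, ht, rfl⟩, htx⟩ := (IsLocalization.map_eq_zero_iff (Algebra.algebraMapSubmonoid S p.primeCompl) Sp _).1 h0
    refine ⟨C t * x, ?_, mp (C t) * mp (C m), ?_, ?_⟩
    · rw [RingHom.mem_ker, map_mul, ← MvPolynomial.algebraMap_eq, AlgHom.commutes]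
      exact htx
    · exact (IsLocalization.map_units (MvPolynomial (Fin n) Rp)
        (⟨C t, t, ht, rfl⟩ : p.primeCompl.map (C (σ := Fin n)))).mul
        (IsLocalization.map_units (MvPolynomial (Fin n) Rp) (⟨C m, m, hm, rfl⟩ : p.primeCompl.map (C (σ := Fin n))))
    · rw [map_mul, show mp x = algebraMap (MvPolynomial (Fin n) R) (MvPolynomial (Fin n) Rp) x from rfl, ← hx]
      show mp (C t) * (g * mp (C m)) = mp (C t) * mp (C m) * g
      ring
  choose g₀ hg₀ v hv hgv using hlift
  let T : Finset (MvPolynomial (Fin n) R) := G.attach.image fun g => g₀ g.1 g.2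
  refine ⟨Ideal.span (T : Set (MvPolynomial (Fin n) R)), ⟨T, rfl⟩, ?_, fun x hx => ?_⟩
  · rw [Ideal.span_le]
    intro y hy
    obtain ⟨g, -, rfl⟩ := Finset.mem_image.1 hy
    exact hg₀ g.1 g.2
  · have hker : RingHom.ker φp.toRingHom ≤ (Ideal.span (T : Set (MvPolynomial (Fin n) R))).map mp := by
      rw [← hG, Ideal.span_le]
      intro g hg
      obtain ⟨w, hw⟩ := hv g hg
      have : g = (↑w⁻¹ : MvPolynomial (Fin n) Rp) * mp (g₀ g hg) := by
        rw [hgv g hg, ← hw, Units.inv_mul_cancel_left]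
      rw [SetLike.mem_coe, this]
      exact Ideal.mul_mem_left _ _ (Ideal.mem_map_of_mem _ (Ideal.subset_span
        (Finset.mem_image.2 ⟨⟨g, hg⟩, Finset.mem_attach _ _, rfl⟩)))
    have h1 : mp x ∈ (Ideal.span (T : Set (MvPolynomial (Fin n) R))).map mp := hker (by
      rw [RingHom.mem_ker]
      show φp (mp x) = 0
      rw [hcomm, RingHom.mem_ker.1 hx, map_zero])
    obtain ⟨⟨⟨a, ha⟩, ⟨_, m, hm, rfl⟩⟩, he⟩ :=
      (IsLocalization.mem_map_algebraMap_iff (p.primeCompl.map (C (σ := Fin n))) (MvPolynomial (Fin n) Rp)).1 h1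
    change mp x * mp (C m) = mp a at he
    rw [← map_mul] at he
    obtain ⟨⟨_, t, ht, rfl⟩, ht'⟩ :=
      (IsLocalization.eq_iff_exists (p.primeCompl.map (C (σ := Fin n))) (MvPolynomial (Fin n) Rp)).1 he
    refine ⟨t * m, p.primeCompl.mul_mem ht hm, ?_⟩
    rw [map_mul, mul_assoc, mul_comm (C m) x]
    change C t * (x * C m) = C t * a at ht'
    rw [ht']
    exact Ideal.mul_mem_left _ _ ha

/-- An element of a flat module killed at each of the finitely many primes vanishes. -/
theorem eq_zero_of_locally {M : Type u} [AddCommGroup M] [Module R M] [Module.Flat R M] (s : Finset (PrimeSpectrum R))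
    (hs : Function.Injective fun r : R => fun p : s => algebraMap R (Localization.AtPrime p.1.asIdeal) r)
    (x : M) (h : ∀ p ∈ s, ∃ r : R, r ∉ p.asIdeal ∧ r • x = 0) : x = 0 := by
  classical
  let P := (p : s) → Localization.AtPrime p.1.asIdeal
  let f : R →ₗ[R] P := LinearMap.pi fun p => Algebra.linearMap R (Localization.AtPrime p.1.asIdeal)
  have hf : Function.Injective f := hs
  have hinj : Function.Injective (f.lTensor M) := Module.Flat.lTensor_preserves_injective_linearMap f hf
  have h0 : ∀ (p : s) (a : Localization.AtPrime p.1.asIdeal), x ⊗ₜ[R] a = 0 := by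
    intro p a
    obtain ⟨r, hr, hrx⟩ := h p.1 p.2
    obtain ⟨u, hu⟩ := IsLocalization.map_units (Localization.AtPrime p.1.asIdeal) (⟨r, hr⟩ : p.1.asIdeal.primeCompl)
    have : a = r • ((↑u⁻¹ : Localization.AtPrime p.1.asIdeal) * a) := by
      rw [Algebra.smul_def, ← hu, Units.mul_inv_cancel_left]
    rw [this, ← TensorProduct.smul_tmul, hrx, TensorProduct.zero_tmul]
  have h1 : f.lTensor M (x ⊗ₜ[R] (1 : R)) = 0 := by
    refine (TensorProduct.piRight R R M fun p : s => Localization.AtPrime p.1.asIdeal).injective ?_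
    funext p
    rw [map_zero, LinearMap.lTensor_tmul]
    simp only [TensorProduct.piRight_apply, TensorProduct.piRightHom_tmul]
    exact h0 p _
  have h2 : x ⊗ₜ[R] (1 : R) = 0 := hinj (h1.trans (map_zero _).symm)
  simpa using congrArg (TensorProduct.rid R M) h2

theorem finitePresentation [Algebra.FiniteType R S] [Module.Flat R S] (s : Finset (PrimeSpectrum R))
    (hs : Function.Injective fun r : R => fun p : s => algebraMap R (Localization.AtPrime p.1.asIdeal) r)
    (hloc : ∀ (p : Ideal R) [p.IsPrime],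
      Algebra.FinitePresentation (Localization.AtPrime p) (Localization (Algebra.algebraMapSubmonoid S p.primeCompl))) :
    Algebra.FinitePresentation R S := by
  classical
  obtain ⟨n, φ, hφ⟩ := Algebra.FiniteType.iff_quotient_mvPolynomial''.mp (inferInstance : Algebra.FiniteType R S)
  let P := MvPolynomial (Fin n) R
  letI : Algebra P S := φ.toRingHom.toAlgebra
  haveI : IsScalarTower R P S := IsScalarTower.of_algebraMap_eq' φ.comp_algebraMap.symm
  have hF : ∀ p : PrimeSpectrum R, ∃ I₁ : Ideal P, I₁.FG ∧ I₁ ≤ RingHom.ker φ ∧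
      ∀ x ∈ RingHom.ker φ, ∃ m : R, m ∉ p.asIdeal ∧ C m * x ∈ I₁ := fun p => by
    haveI := hloc p.asIdeal
    exact exists_fg_le_at φ hφ p.asIdeal
  choose F hFfg hFle hFx using hF
  let I₀ : Ideal P := s.sup F
  have hI₀fg : I₀.FG := Finset.sup_induction Submodule.fg_bot (fun _ ha _ hb => Submodule.FG.sup ha hb) fun p _ => hFfg p
  have hI₀le : I₀ ≤ RingHom.ker φ := Finset.sup_le fun p _ => hFle p
  let π₀ : P →ₗ[P] S := Algebra.linearMap P S
  suffices hg : ∀ q : PrimeSpectrum P, ∃ g : P, g ∉ q.asIdeal ∧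
      Module.FinitePresentation (Localization.Away g) (LocalizedModule (Submonoid.powers g) S) by
    choose g hg hfp using hg
    haveI : Module.Finite P S := Module.Finite.of_surjective π₀ hφ
    haveI : Module.FinitePresentation P S := by
      refine Module.FinitePresentation.of_localizationSpan (Set.range g) ?_ ?_
      · by_contra hne
        obtain ⟨m, hm, hle⟩ := Ideal.exists_le_maximal _ hne
        exact hg ⟨m, hm.isPrime⟩ (hle (Ideal.subset_span ⟨⟨m, hm.isPrime⟩, rfl⟩))
      · rintro ⟨_, q, rfl⟩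
        exact hfp q
    refine Algebra.FinitePresentation.of_surjective (f := IsScalarTower.toAlgHom R P S) hφ ?_
    exact Module.FinitePresentation.fg_ker π₀ hφ
  intro q
  let p : PrimeSpectrum R := ⟨q.asIdeal.comap (algebraMap R P), inferInstance⟩
  let I₁ : Ideal P := F p ⊔ I₀
  have hI₁le : I₁ ≤ LinearMap.ker π₀ := sup_le (hFle p) hI₀le
  have hI₁fg : I₁.FG := Submodule.FG.sup (hFfg p) hI₀fg
  haveI : Module.FinitePresentation P (P ⧸ I₁) :=
    Module.finitePresentation_of_surjective (Submodule.mkQ I₁) (Submodule.mkQ_surjective I₁)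
      (by rw [Submodule.ker_mkQ]; exact hI₁fg)
  let π : (P ⧸ I₁) →ₗ[P] S := Submodule.liftQ I₁ π₀ hI₁le
  have hπ : Function.Surjective π := fun y => by
    obtain ⟨x, hx⟩ := hφ y
    exact ⟨Submodule.Quotient.mk x, hx⟩
  have hkill : ∀ x, π x = 0 → ∀ p' : PrimeSpectrum R, (p' = p ∨ p' ∈ s) → ∃ m : R, m ∉ p'.asIdeal ∧ (C m : P) • x = 0 := by
    intro x hx p' hp'
    obtain ⟨v, rfl⟩ := Submodule.Quotient.mk_surjective I₁ x
    obtain ⟨m, hm, hmv⟩ := hFx p' v hx
    refine ⟨m, hm, ?_⟩
    rw [← Submodule.Quotient.mk_smul, Submodule.Quotient.mk_eq_zero]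
    have hle : F p' ≤ I₁ := by
      rcases hp' with rfl | hp'
      · exact le_sup_left
      · exact (Finset.le_sup (f := F) hp').trans le_sup_right
    exact hle hmv
  let T := q.asIdeal.primeCompl
  let fX := LocalizedModule.mkLinearMap T (P ⧸ I₁)
  let fY := LocalizedModule.mkLinearMap T S
  let πT := IsLocalizedModule.map T fX fY π
  have hbij : Function.Bijective πT := by
    refine ⟨(injective_iff_map_eq_zero _).mpr fun y hy => ?_, IsLocalizedModule.map_surjective T fX fY π hπ⟩
    obtain ⟨⟨x, t⟩, hx⟩ := IsLocalizedModule.surj T fX y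
    have h1 : fY (π x) = 0 := by
      rw [← IsLocalizedModule.map_apply T fX fY π, ← hx, Submonoid.smul_def, map_smul, hy, smul_zero]
    obtain ⟨c, hc⟩ := (IsLocalizedModule.eq_zero_iff T fY).mp h1
    obtain ⟨m, hm, hmx⟩ := hkill ((c : P) • x) (by rw [map_smul]; exact hc) p (Or.inl rfl)
    refine IsLocalizedModule.smul_injective fX (⟨C m, hm⟩ * c * t) ?_
    show (⟨C m, hm⟩ * c * t : T) • y = (⟨C m, hm⟩ * c * t : T) • 0
    rw [smul_zero, mul_smul, mul_smul, hx, Submonoid.smul_def, Submonoid.smul_def, ← map_smul, ← map_smul, hmx, map_zero]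
  haveI : Module.Flat R (LocalizedModule T S) := Groth.L20.FibreCrit.flat_localizedModule_of_flat T
  haveI : Module.Flat R (LocalizedModule T (P ⧸ I₁)) :=
    Module.Flat.of_linearEquiv ((LinearEquiv.ofBijective πT hbij).restrictScalars R)
  obtain ⟨g, hg, hflat⟩ := Groth.L20.exists_flat_away T (R := R) (M := P ⧸ I₁)
  refine ⟨g, hg, (Groth.L20.RG.fp_flat_of_ker π hπ dvd_rfl (fun Q _ hQ => (Groth.L20.RG.flat_away_iff g).mp hflat Q hQ)
    fun x hx => ?_).1⟩
  have h0 : LocalizedModule.mkLinearMap (Submonoid.powers g) (P ⧸ I₁) x = 0 := by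
    refine eq_zero_of_locally s hs _ fun p' hp' => ?_
    obtain ⟨m, hm, hmx⟩ := hkill x hx p' (Or.inr hp')
    refine ⟨m, hm, ?_⟩
    rw [← algebraMap_smul P m, ← map_smul, show algebraMap R P m = C m from rfl, hmx, map_zero]
  obtain ⟨⟨_, k, rfl⟩, hk⟩ := (IsLocalizedModule.eq_zero_iff (Submonoid.powers g)
    (LocalizedModule.mkLinearMap (Submonoid.powers g) (P ⧸ I₁))).mp h0
  exact ⟨k, hk⟩

end Groth.L03.LocFPFlat
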