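import Mathlib.RingTheory.Etale.Field
import Mathlib.RingTheory.Unramified.Pi
import Mathlib.RingTheory.TensorProduct.Finite
import Mathlib.RingTheory.Unramified.Field
import Mathlib.RingTheory.Ideal.MinimalPrime.Localization
import Mathlib.RingTheory.Ideal.MinimalPrime.Noetherian
import Mathlib.RingTheory.FiniteType
import Mathlib.FieldTheory.IsAlgClosed.AlgebraicClosure
import Mathlib.LinearAlgebra.Dimension.Constructions
import Mathlib.RingTheory.Artinian.Ring

/-!
Finite étale subalgebras of an algebra of finite type over a field.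
-/

universe u

open TensorProduct

namespace Groth.L03.MaxEtaleSub

variable {k : Type u} [Field k] {B : Type u} [CommRing B] [Algebra k B]

/-- finite étale subalgebra -/
def Good (E : Subalgebra k B) : Prop := Module.Finite k E ∧ Algebra.Etale k E

theorem good_of_surjective {C : Type u} [CommRing C] [Algebra k C] [Module.Finite k C] [Algebra.FormallyUnramified k C]
    (E : Subalgebra k B) (f : C →ₐ[k] E) (hf : Function.Surjective f) : Good E := by
  have : Module.Finite k E := Module.Finite.of_surjective f.toLinearMap hf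
  have : Algebra.FormallyUnramified k E := .of_surjective f hf
  have : Algebra.FormallyEtale k E := .of_formallyUnramified_of_field k E
  exact ⟨‹_›, ⟨‹_›, Algebra.FinitePresentation.of_finiteType.1 inferInstance⟩⟩

theorem good_bot : Good (⊥ : Subalgebra k B) :=
  good_of_surjective ⊥ (Algebra.ofId k _) (fun ⟨x, hx⟩ => by
    obtain ⟨c, rfl⟩ := Algebra.mem_bot.1 hx
    exact ⟨c, rfl⟩)

theorem good_sup {E E' : Subalgebra k B} (h : Good E) (h' : Good E') : Good (E ⊔ E') := by
  obtain ⟨hf, he⟩ := h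
  obtain ⟨hf', he'⟩ := h'
  haveI : Algebra.FormallyUnramified k (E ⊗[k] E') := .comp k E _
  let μ := Algebra.TensorProduct.productMap E.val E'.val
  have hμ : μ.range = E ⊔ E' := by
    rw [Algebra.TensorProduct.productMap_range, Subalgebra.range_val, Subalgebra.range_val]
  refine good_of_surjective _ ((Subalgebra.equivOfEq _ _ hμ).toAlgHom.comp μ.rangeRestrict) ?_
  exact (Subalgebra.equivOfEq _ _ hμ).surjective.comp μ.rangeRestrict_surjective

/-- the range of an idempotent split -/
theorem exists_good_of_idem {e : B} (he : IsIdempotentElem e) (A : Subalgebra k B) (hA : e ∈ A) :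
    ∃ E : Subalgebra k B, E ≤ A ∧ Good E ∧ e ∈ E := by
  have h' : e * (1 - e) = 0 := by rw [mul_sub, mul_one, he.eq, sub_self]
  let g : (k × k) →ₐ[k] B := AlgHom.ofLinearMap
    ((LinearMap.toSpanSingleton k B e).coprod (LinearMap.toSpanSingleton k B (1 - e))) (by simp)
    (fun x y => by
      simp only [LinearMap.coprod_apply, LinearMap.toSpanSingleton_apply, Prod.fst_mul, Prod.snd_mul, add_mul, mul_add,
        smul_mul_smul_comm, he.eq, he.one_sub.eq, h', mul_comm (1 - e) e, smul_zero, add_zero, zero_add])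
  refine ⟨g.range, ?_, good_of_surjective (C := Fin 2 → k) _ (g.rangeRestrict.comp ((Pi.evalAlgHom k (fun _ : Fin 2 => k) 0).prod (Pi.evalAlgHom k (fun _ : Fin 2 => k) 1))) (g.rangeRestrict_surjective.comp fun x => ⟨![x.1, x.2], by simp⟩), ⟨(1, 0), by simp [g]⟩⟩
  rintro _ ⟨⟨a, b⟩, rfl⟩
  show g (a, b) ∈ A
  simp only [g, AlgHom.ofLinearMap_apply, LinearMap.coprod_apply, LinearMap.toSpanSingleton_apply]
  exact add_mem (A.smul_mem hA a) (A.smul_mem (sub_mem (one_mem A) hA) b)

/-- dimensions of finite étale subalgebras are bounded -/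
theorem exists_bound [Algebra.FiniteType k B] :
    ∃ N : ℕ, ∀ E : Subalgebra k B, Good E → Module.finrank k E ≤ N := by
  let K := AlgebraicClosure k
  haveI : IsNoetherianRing (K ⊗[k] B) := Algebra.FiniteType.isNoetherianRing K (K ⊗[k] B)
  refine ⟨Nat.card (minimalPrimes (K ⊗[k] B)), fun E hE => ?_⟩
  obtain ⟨hf, he⟩ := hE
  let φ : K ⊗[k] E →ₐ[K] K ⊗[k] B := Algebra.TensorProduct.map (AlgHom.id K K) E.val
  have hφ : Function.Injective φ :=
    Module.Flat.lTensor_preserves_injective_linearMap E.val.toLinearMap Subtype.val_injective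
  haveI : IsArtinianRing (K ⊗[k] E) := isArtinian_of_tower K inferInstance
  rw [← Module.finrank_baseChange (R := K) (S := k) (M' := E),
    (Algebra.FormallyEtale.equivPiOfIsSepClosed K (K ⊗[k] E)).toLinearEquiv.finrank_eq]
  haveI : Fintype (PrimeSpectrum (K ⊗[k] E)) := Fintype.ofFinite _
  rw [Module.finrank_pi, ← Nat.card_eq_fintype_card]
  haveI : Finite (minimalPrimes (K ⊗[k] B)) := (minimalPrimes.finite_of_isNoetherianRing _).to_subtype
  refine Nat.card_le_card_of_surjective
    (fun P : minimalPrimes (K ⊗[k] B) => (⟨P.1.comap φ.toRingHom,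
      haveI := P.2.1.1; Ideal.IsPrime.comap _⟩ : PrimeSpectrum (K ⊗[k] E))) ?_
  rintro ⟨Q, hQ⟩
  have hmin : Q ∈ minimalPrimes (K ⊗[k] E) := by
    refine ⟨⟨hQ, bot_le⟩, fun q hq hle => ?_⟩
    haveI := hq.1
    exact ((IsArtinianRing.isMaximal_of_isPrime q).eq_of_le hQ.ne_top hle).ge
  obtain ⟨P, hP, hPQ⟩ := Ideal.exists_comap_eq_of_mem_minimalPrimes_of_injective hφ Q hmin
  obtain ⟨P', hP', hle⟩ := Ideal.exists_minimalPrimes_le (show (⊥ : Ideal (K ⊗[k] B)) ≤ P from bot_le)
  refine ⟨⟨P', hP'⟩, PrimeSpectrum.ext (?_ : P'.comap φ.toRingHom = Q)⟩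
  haveI := hP'.1.1
  exact (IsArtinianRing.isMaximal_of_isPrime (P'.comap φ.toRingHom)).eq_of_le hQ.ne_top
    (le_trans (Ideal.comap_mono hle) hPQ.le)

/-- the largest one -/
theorem exists_largest [Algebra.FiniteType k B] (A : Subalgebra k B) :
    ∃ E : Subalgebra k B, E ≤ A ∧ Good E ∧ ∀ E' : Subalgebra k B, E' ≤ A → Good E' → E' ≤ E := by
  classical
  obtain ⟨N, hN⟩ := exists_bound (k := k) (B := B)
  let p : ℕ → Prop := fun n => ∃ E : Subalgebra k B, E ≤ A ∧ Good E ∧ Module.finrank k E = n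
  have h0 : p (Module.finrank k (⊥ : Subalgebra k B)) := ⟨⊥, bot_le, good_bot, rfl⟩
  obtain ⟨E, hEA, hE, hn⟩ : p (Nat.findGreatest p N) :=
    Nat.findGreatest_spec (hN _ good_bot) h0
  refine ⟨E, hEA, hE, fun E' hE'A hE' => ?_⟩
  have hs : p (Module.finrank k ↥(E ⊔ E')) := ⟨E ⊔ E', sup_le hEA hE'A, good_sup hE hE', rfl⟩
  have hle := Nat.le_findGreatest (hN _ (good_sup hE hE')) hs
  rw [← hn] at hle
  haveI := (good_sup hE hE').1
  have := Submodule.eq_of_le_of_finrank_le
    (show E.toSubmodule ≤ (E ⊔ E').toSubmodule from fun x hx => (le_sup_left : E ≤ E ⊔ E') hx) hle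
  exact le_sup_right.trans (Subalgebra.toSubmodule_injective this).ge

end Groth.L03.MaxEtaleSub
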