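import Groth.Agent.L21.RR.Mul
import Groth.Agent.L21.RR.Finite
import Mathlib.RingTheory.Ideal.KrullsHeightTheorem

/-!
# The multiplicity of a curve at a point bounds the degree of a module with a section vanishing there
-/

set_option autoImplicit false
set_option linter.style.haveILetI false
set_option backward.isDefEq.respectTransparency false

universe u v

open CategoryTheory CategoryTheory.Limits AlgebraicGeometry TopologicalSpace IsLocalRing

noncomputable section

namespace Groth.L03.MultDeg

open Groth.L21.RR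

theorem not_pow_le {R : Type v} [CommRing R] [IsLocalRing R] [IsNoetherianRing R] (hR : 2 ≤ ringKrullDim R) {h : R}
    (hh : h ∈ maximalIdeal R) (i : ℕ) : ¬ maximalIdeal R ^ i ≤ maximalIdeal R ^ (i + 1) ⊔ Ideal.span {h} := by
  intro hle
  have h1 : maximalIdeal R ^ i ≤ Ideal.span {h} := by
    refine Submodule.le_of_le_smul_of_le_jacobson_bot (I := maximalIdeal R) (IsNoetherian.noetherian _)
      (maximalIdeal_le_jacobson _) ?_
    rw [smul_eq_mul, ← pow_succ', sup_comm]
    exact hle
  obtain ⟨P, hP, hPm⟩ := Ideal.exists_minimalPrimes_le ((Ideal.span_singleton_le_iff_mem _).2 hh)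
  haveI := hP.1.1
  have hmP : maximalIdeal R ≤ P := by
    rcases Nat.eq_zero_or_pos i with rfl | hi
    · exact absurd ((h1.trans hP.1.2)) (by
        rw [pow_zero, Ideal.one_eq_top, top_le_iff]; exact hP.1.1.ne_top)
    · exact hP.1.1.le_of_pow_le (h1.trans hP.1.2)
  have he : P = maximalIdeal R := le_antisymm hPm hmP
  have h2 := Ideal.height_le_one_of_isPrincipal_of_mem_minimalPrimes (Ideal.span {h}) P hP
  rw [he] at h2
  rw [← IsLocalRing.maximalIdeal_height_eq_ringKrullDim] at hR
  have h3 : (2 : ℕ∞) ≤ (maximalIdeal R).height := WithBot.coe_le_coe.1 hR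
  exact absurd (h3.trans h2) (by norm_num)

variable {C : Scheme.{u}} (k : Type u) [Field k] [C.Over (Spec (CommRingCat.of k))]
  [IsProper (C ↘ Spec (CommRingCat.of k))] [IsIntegral C]

/-- A section vanishing at a point of multiplicity `m` has at least `m` zeros. -/
theorem le_h0_cokernel (hd : topologicalKrullDim C ≤ 1) {L : C.Modules} (hL : PicF.IsInvertible L)
    {φ : Coh.structureModule C ⟶ L} (hφ : φ ≠ 0) (Q : C) (hQ : ¬ Function.Surjective (st φ Q))
    {R : Type v} [CommRing R] [IsLocalRing R] [IsNoetherianRing R] (hR : 2 ≤ ringKrullDim R)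
    (ψ : R →+* C.presheaf.stalk Q) (hψ : Function.Surjective ψ) (m : ℕ)
    (hker : RingHom.ker ψ ≤ maximalIdeal R ^ m) : m ≤ h k 0 (cokernel φ) := by
  haveI := isNoetherian_of_proper (X := C) k
  obtain ⟨e, he⟩ := exists_frame_stalk hL Q
  obtain ⟨b, hb⟩ := he.2 (st φ Q (one C Q))
  have hbu : ¬ IsUnit b := fun hu => hQ ((surjective_st_iff he φ hb).2 hu)
  obtain ⟨h', rfl⟩ := hψ b
  have hh : h' ∈ maximalIdeal R := (mem_maximalIdeal _).2 fun hu => hbu (hu.map ψ)
  let q : C.presheaf.stalk Q →ₗ[C.presheaf.stalk Q] (cokernel φ).presheaf.stalk Q :=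
    LinearMap.toSpanSingleton _ _ (st (cokernel.π φ) Q e)
  have hq : ∀ c, q c = 0 → c ∈ Ideal.span {ψ h'} := by
    intro c hc
    have hc' : st (cokernel.π φ) Q (c • e) = 0 := (map_smul _ _ _).trans hc
    obtain ⟨w, hw⟩ := exists_of_st_cokernel φ Q _ hc'
    obtain ⟨a, ha⟩ := (bijective_smul_one Q).2 w
    rw [← ha] at hw
    have h2 : (fun a => a • e) (a * ψ h') = (fun a => a • e) c := by
      show (a * ψ h') • e = c • e
      rw [← hw, map_smul, ← hb, mul_smul]
    rw [← he.1 h2]
    exact Ideal.mul_mem_left _ _ (Ideal.mem_span_singleton_self _)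
  have hQc := (Groth.L16.CohKernel.isCoh_kernel_cokernel (Groth.L16.CohClosedPush.isCoh_structure (X := C))
    (Groth.L16.ProperFinite.isCoh_of_isInvertible hL) φ).2
  haveI : Module.Finite k (Coh.HH C (cokernel φ) 0) := finite_HH' k hQc 0
  let γ : Coh.HH C (cokernel φ) 0 → (cokernel φ).presheaf.stalk Q := fun x =>
    (cokernel φ).presheaf.germ ⊤ Q trivial (e0 (cokernel φ) x)
  have hγ : ∀ v, ∃ x, γ x = v := fun v => by
    obtain ⟨s, hs, -⟩ := exists_section_germ (suppClosed_cokernel hd hL hφ) Q v
    exact ⟨(e0 (cokernel φ)).symm s, by simp only [γ, AddEquiv.apply_symm_apply, hs]⟩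
  let N : ℕ → Submodule (C.presheaf.stalk Q) ((cokernel φ).presheaf.stalk Q) := fun i =>
    Submodule.map q ((maximalIdeal R ^ i).map ψ)
  let T : ℕ → Submodule k (Coh.HH C (cokernel φ) 0) := fun i =>
    { carrier := {x | γ x ∈ N i}
      zero_mem' := by
        show γ 0 ∈ N i
        rw [show γ 0 = 0 by simp only [γ, map_zero]]
        exact Submodule.zero_mem _
      add_mem' := fun {x y} hx hy => by
        show γ (x + y) ∈ N i
        rw [show γ (x + y) = γ x + γ y by simp only [γ, map_add]]
        exact Submodule.add_mem _ hx hy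
      smul_mem' := fun c x hx => by
        show γ (c • x) ∈ N i
        simp only [γ, e0_smul k]
        rw [Groth.L20.ModStalk.germ_smul]
        exact Submodule.smul_mem _ _ hx }
  have hlt : ∀ i, i < m → T (i + 1) < T i := by
    intro i hi
    refine lt_of_le_not_ge (fun x hx => Submodule.map_mono (Ideal.map_mono (Ideal.pow_le_pow_right (Nat.le_succ i))) hx)
      fun hle => not_pow_le hR hh i fun r hr => ?_
    obtain ⟨x, hx⟩ := hγ (q (ψ r))
    have hxi : x ∈ T i := by
      show γ x ∈ N i
      rw [hx]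
      exact Submodule.mem_map_of_mem (Ideal.mem_map_of_mem ψ hr)
    obtain ⟨w, hw, hqw⟩ := Submodule.mem_map.1 (show γ x ∈ Submodule.map q ((maximalIdeal R ^ (i + 1)).map ψ) from hle hxi)
    obtain ⟨r', hr', rfl⟩ := (Ideal.mem_map_iff_of_surjective ψ hψ).1 hw
    obtain ⟨c, hc⟩ := Ideal.mem_span_singleton'.1 (hq (ψ r - ψ r') (by rw [map_sub, hqw, hx, sub_self]))
    obtain ⟨c', rfl⟩ := hψ c
    have h4 : r - r' - c' * h' ∈ maximalIdeal R ^ (i + 1) :=
      Ideal.pow_le_pow_right hi (hker (by rw [RingHom.mem_ker, map_sub, map_sub, map_mul, hc, sub_self]))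
    have h5 : r = (r - r' - c' * h' + r') + c' * h' := by ring
    rw [h5]
    exact Submodule.add_mem_sup ((maximalIdeal R ^ (i + 1)).add_mem h4 hr')
      (Ideal.mul_mem_left _ _ (Ideal.mem_span_singleton_self _))
  have key : ∀ j, j ≤ m → j ≤ Module.finrank k (T (m - j)) := by
    intro j
    induction j with
    | zero => intro _; exact Nat.zero_le _
    | succ j ih =>
      intro hj
      have h6 := Submodule.finrank_lt_finrank_of_lt (hlt (m - (j + 1)) (by omega))
      rw [show m - (j + 1) + 1 = m - j by omega] at h6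
      have := ih (by omega)
      omega
  have h7 := key m le_rfl
  exact h7.trans (Submodule.finrank_le _)

end Groth.L03.MultDeg
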