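import Mathlib.RingTheory.Nullstellensatz
import Mathlib.RingTheory.Valuation.LocalSubring
import Mathlib.RingTheory.AlgebraicIndependent.TranscendenceBasis
import Mathlib.RingTheory.Algebraic.Integral
import Mathlib.LinearAlgebra.Dimension.Free
import Mathlib.RingTheory.Localization.FractionRing
import Mathlib.LinearAlgebra.FiniteDimensional.Basic
import Mathlib.Algebra.BigOperators.Field

/-!
Hopf's inequality for one-generic bilinear maps over an algebraically closed field.
-/

set_option autoImplicit false
set_option linter.style.haveILetI false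

universe u

namespace Groth.L03.OneGeneric

open MvPolynomial

variable {k : Type u} [Field k] [IsAlgClosed k]

theorem card_le {a b c : ℕ} (i₁ : Fin a) (j₁ : Fin b) (C : Fin c → Fin a → Fin b → k)
    (h : ∀ (x : Fin a → k) (y : Fin b → k), (∀ r, ∑ i, ∑ j, C r i j * (x i * y j) = 0) →
      x = 0 ∨ y = 0) : a + b ≤ c + 1 := by
  classical
  let A := MvPolynomial (Fin a ⊕ Fin b) k
  let K := FractionRing A
  let xA : Fin a → A := fun i => X (Sum.inl i)
  let yA : Fin b → A := fun j => X (Sum.inr j)
  let L : Fin c → A := fun r => ∑ i, ∑ j, MvPolynomial.C (C r i j) * (xA i * yA j)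
  -- each product lies in the radical of the ideal of the forms
  have hrad : ∀ i j, ∃ N, (xA i * yA j) ^ N ∈ Ideal.span (Set.range L) := by
    intro i j
    show xA i * yA j ∈ (Ideal.span (Set.range L)).radical
    rw [← MvPolynomial.vanishingIdeal_zeroLocus_eq_radical (K := k)]
    intro P hP
    have hL : ∀ r, ∑ i, ∑ j, C r i j * (P (Sum.inl i) * P (Sum.inr j)) = 0 := fun r => by
      simpa [L, xA, yA] using hP (L r) (Ideal.subset_span ⟨r, rfl⟩)
    rcases h _ _ hL with h0 | h0
    · have := congrFun h0 i
      simp [xA, yA, show P (Sum.inl i) = 0 from this]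
    · have := congrFun h0 j
      simp [xA, yA, show P (Sum.inr j) = 0 from this]
  let φ : A →+* K := algebraMap A K
  let z : Fin a × Fin b → K := fun p => φ (xA p.1) * φ (yA p.2)
  have hX : ∀ v, φ (X v) ≠ 0 := fun v =>
    (map_ne_zero_iff φ (IsFractionRing.injective A K)).2 (MvPolynomial.X_ne_zero v)
  have hz0 : ∀ p, z p ≠ 0 := fun p => mul_ne_zero (hX _) (hX _)
  let G : Set K := Set.range (algebraMap k K) ∪ Set.range (fun r => φ (L r))
  -- the products lie in every valuation ring containing the forms
  have hval : ∀ V : ValuationSubring K, G ⊆ V.toSubring → ∀ p, z p ∈ V := by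
    intro V hV p
    by_contra hp
    haveI : Nonempty (Fin a × Fin b) := ⟨p⟩
    obtain ⟨q, -, hq⟩ := Finset.exists_max_image Finset.univ (fun p => V.valuation (z p))
      Finset.univ_nonempty
    have hq' : ∀ p, z p / z q ∈ V := fun p => by
      rw [← V.valuation_le_one_iff, map_div₀,
        div_le_one₀ (zero_lt_iff.2 (by simp [hz0 q]))]
      exact hq p (Finset.mem_univ _)
    have hq1 : 1 < V.valuation (z q) := by
      refine lt_of_lt_of_le ?_ (hq p (Finset.mem_univ _))
      rw [← not_le, V.valuation_le_one_iff]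
      exact hp
    obtain ⟨i₀, j₀⟩ := q
    let P : Fin a ⊕ Fin b → V := Sum.elim (fun i => ⟨z (i, j₀) / z (i₀, j₀), hq' _⟩)
      (fun j => ⟨z (i₀, j) / z (i₀, j₀), hq' _⟩)
    let kV : k →+* V := (algebraMap k K).codRestrict V.toSubring fun t => hV (Or.inl ⟨t, rfl⟩)
    let e : A →+* V := MvPolynomial.eval₂Hom kV P
    let ρ : V →+* IsLocalRing.ResidueField V := IsLocalRing.residue V
    have hx : ∀ i, (P (Sum.inl i) : K) = φ (xA i) / φ (xA i₀) := fun i =>
      mul_div_mul_right _ _ (hX _)
    have hy : ∀ j, (P (Sum.inr j) : K) = φ (yA j) / φ (yA j₀) := fun j =>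
      mul_div_mul_left _ _ (hX _)
    have heC : ∀ t, (e (MvPolynomial.C t) : K) = φ (MvPolynomial.C t) := fun t =>
      (congrArg Subtype.val (MvPolynomial.eval₂Hom_C kV P t)).trans
        (IsScalarTower.algebraMap_apply k A K t)
    have heX : ∀ v, (e (X v) : K) = (P v : K) := fun v =>
      congrArg Subtype.val (MvPolynomial.eval₂Hom_X' kV P v)
    have heL : ∀ r, ρ (e (L r)) = 0 := by
      intro r
      show IsLocalRing.residue V (e (L r)) = 0
      rw [IsLocalRing.residue_eq_zero_iff, V.valuation_lt_one_iff]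
      have hval : (e (L r) : K) = φ (L r) / z (i₀, j₀) := by
        show V.subtype.comp e (L r) = _
        simp only [L, map_sum, map_mul, RingHom.comp_apply,
          show ∀ t : V, V.subtype t = (t : K) from fun _ => rfl, xA, yA, heC, heX, hx, hy]
        rw [Finset.sum_div]
        refine Finset.sum_congr rfl fun i _ => ?_
        rw [Finset.sum_div]
        refine Finset.sum_congr rfl fun j _ => ?_
        simp only [z, xA, yA]; ring
      rw [hval, map_div₀, div_lt_one₀ (zero_lt_iff.2 (by simp [hz0]))]
      exact lt_of_le_of_lt ((V.valuation_le_one_iff _).2 (hV (Or.inr ⟨r, rfl⟩))) hq1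
    obtain ⟨N, hN⟩ := hrad i₀ j₀
    have hker : ρ (e ((xA i₀ * yA j₀) ^ N)) = 0 := by
      have hle : Ideal.span (Set.range L) ≤ RingHom.ker (ρ.comp e) := by
        rw [Ideal.span_le]
        rintro _ ⟨r, rfl⟩
        exact heL r
      exact hle hN
    have h1 : e (xA i₀ * yA j₀) = 1 := by
      refine Subtype.ext ?_
      simp [xA, yA, heX, P, div_self (hz0 (i₀, j₀))]
    rw [map_pow, h1, one_pow, map_one] at hker
    exact one_ne_zero hker
  -- integrality
  have hint : ∀ p, IsIntegral (Subring.closure G) (z p) := by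
    intro p
    have : z p ∈ (⨅ V : {V : ValuationSubring K // G ⊆ V.toSubring}, V.1.toSubring) :=
      Subring.mem_iInf.2 fun V => hval V.1 V.2 p
    rw [iInf_valuationSubring_superset] at this
    exact this
  -- the field is algebraic over the algebra generated by the forms and one coordinate
  let g : Option (Fin c) → K := fun o => o.elim (φ (xA i₁)) (fun r => φ (L r))
  let T : Subalgebra k K := Algebra.adjoin k (Set.range g)
  have hsub : ∀ x ∈ Subring.closure G, x ∈ T := by
    intro x hx
    refine (Subring.closure_le (t := T.toSubring)).2 ?_ hx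
    rintro y (⟨t, rfl⟩ | ⟨r, rfl⟩)
    · exact T.algebraMap_mem t
    · exact Algebra.subset_adjoin ⟨some r, rfl⟩
  have hzalg : ∀ p, IsAlgebraic T (z p) := by
    intro p
    refine IsIntegral.isAlgebraic ?_
    obtain ⟨q, hq, hq0⟩ := hint p
    refine ⟨q.map ((Subring.closure G).subtype.codRestrict T.toSubring fun x => hsub x x.2),
      hq.map _, ?_⟩
    rw [Polynomial.eval₂_map]
    exact hq0
  let Cl : Subalgebra T K := Subalgebra.algebraicClosure T K
  have hx1 : φ (xA i₁) ∈ Cl :=
    Cl.algebraMap_mem (⟨φ (xA i₁), Algebra.subset_adjoin ⟨none, rfl⟩⟩ : T)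
  have hy' : ∀ j, φ (yA j) ∈ Cl := fun j => by
    have := Cl.mul_mem (IsAlgebraic.inv hx1) (hzalg (i₁, j))
    rwa [show (φ (xA i₁))⁻¹ * z (i₁, j) = φ (yA j) from inv_mul_cancel_left₀ (hX _) _] at this
  have hx' : ∀ i, φ (xA i) ∈ Cl := fun i => by
    have := Cl.mul_mem (hzalg (i, j₁)) (IsAlgebraic.inv (hy' j₁))
    rwa [show z (i, j₁) * (φ (yA j₁))⁻¹ = φ (xA i) from mul_inv_cancel_right₀ (hX _) _] at this
  have hA : ∀ f : A, φ f ∈ Cl := by
    intro f
    induction f using MvPolynomial.induction_on with
    | C t =>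
      rw [show φ (MvPolynomial.C t) = algebraMap k K t from
        (IsScalarTower.algebraMap_apply k A K t).symm]
      exact Cl.algebraMap_mem (⟨algebraMap k K t, T.algebraMap_mem t⟩ : T)
    | add p q hp hq => rw [map_add]; exact Cl.add_mem hp hq
    | mul_X p v hp =>
      rw [map_mul]
      refine Cl.mul_mem hp ?_
      cases v with
      | inl i => exact hx' i
      | inr j => exact hy' j
  haveI : Algebra.IsAlgebraic T K := ⟨fun x => by
    obtain ⟨f, g', -, rfl⟩ := IsFractionRing.div_surjective (A := A) x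
    rw [div_eq_mul_inv]
    exact Cl.mul_mem (hA f) (IsAlgebraic.inv (hA g'))⟩
  have hle := Algebra.IsAlgebraic.trdeg_le_cardinalMk k (Set.range g)
  have hle' : Algebra.trdeg k A ≤ Algebra.trdeg k K :=
    trdeg_le_of_injective (IsScalarTower.toAlgHom k A K) (IsFractionRing.injective A K)
  rw [MvPolynomial.trdeg_of_isDomain] at hle'
  have hfin : Cardinal.mk (Set.range g) ≤ ((c + 1 : ℕ) : Cardinal) := by
    rw [Cardinal.mk_fintype, Nat.cast_le]
    exact (Fintype.card_range_le g).trans (by simp)
  have := (hle'.trans hle).trans hfin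
  rw [Cardinal.mk_fintype, Cardinal.lift_natCast, Fintype.card_sum, Fintype.card_fin,
    Fintype.card_fin, Nat.cast_le] at this
  exact this

end Groth.L03.OneGeneric
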