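import Groth.Prelude.Def_P1
import Groth.Agent.L20.PnPic.Over
import Mathlib.AlgebraicGeometry.Morphisms.UniversallyOpen
import Mathlib.AlgebraicGeometry.Morphisms.Finite

/-!
# Clopen subsets of finite flat covers of the projective line
-/

set_option autoImplicit false

universe u

open CategoryTheory AlgebraicGeometry TopologicalSpace

noncomputable section

namespace Groth.L03.P1Fin

variable (S : Scheme.{u})

theorem sect_toBase (i : Fin (1 + 1)) : P1.sect S i ≫ CohB1.ProjSpaceOver.toBase 1 S = 𝟙 S :=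
  Limits.pullback.lift_snd _ _ _

theorem toBase_sect (i : Fin (1 + 1)) (s : S) : CohB1.ProjSpaceOver.toBase 1 S (P1.sect S i s) = s := by
  rw [← Scheme.Hom.comp_apply, sect_toBase]
  rfl

theorem isPreconnected_fibre (s : S) : _root_.IsPreconnected (CohB1.ProjSpaceOver.toBase 1 S ⁻¹' {s}) := by
  rw [← (CohB1.ProjSpaceOver.toBase 1 S).range_fiberι, ← Set.image_univ]
  exact isPreconnected_univ.image _ ((CohB1.ProjSpaceOver.toBase 1 S).fiberι s).continuous.continuousOn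

variable {S}

/-- Clopen sets of the projective line are unions of fibres. -/
theorem mem_of_mem_clopen {A : Set ↥(CohB1.ProjSpaceOver 1 S)} (hA : IsClopen A) {a b : ↥(CohB1.ProjSpaceOver 1 S)}
    (ha : a ∈ A) (h : CohB1.ProjSpaceOver.toBase 1 S b = CohB1.ProjSpaceOver.toBase 1 S a) : b ∈ A :=
  (isPreconnected_fibre S _).subset_isClopen hA ⟨a, rfl, ha⟩ h

/-- A non-empty clopen subset of the projective line meets every section. -/
theorem exists_sect_mem {A : Set ↥(CohB1.ProjSpaceOver 1 S)} (hA : IsClopen A) (hne : A.Nonempty)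
    (i : Fin (1 + 1)) : ∃ s, P1.sect S i s ∈ A :=
  ⟨_, mem_of_mem_clopen hA hne.some_mem (toBase_sect S i _)⟩

theorem eq_univ_of_isClopen [PreconnectedSpace S] {A : Set ↥(CohB1.ProjSpaceOver 1 S)} (hA : IsClopen A)
    (hne : A.Nonempty) : A = Set.univ := by
  have hop : IsOpenMap (CohB1.ProjSpaceOver.toBase 1 S) := (CohB1.ProjSpaceOver.toBase 1 S).isOpenMap
  have hc : IsClopen (CohB1.ProjSpaceOver.toBase 1 S '' A) := by
    refine ⟨?_, hop _ hA.2⟩
    have h : (CohB1.ProjSpaceOver.toBase 1 S '' A)ᶜ = CohB1.ProjSpaceOver.toBase 1 S '' Aᶜ := by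
      ext s
      refine ⟨fun hs => ⟨P1.sect S 0 s, fun hA' => hs ⟨_, hA', toBase_sect S 0 s⟩, toBase_sect S 0 s⟩, ?_⟩
      rintro ⟨b, hb, rfl⟩ ⟨a, ha, hab⟩
      exact hb (mem_of_mem_clopen hA ha hab.symm)
    rw [← isOpen_compl_iff, h]
    exact hop _ hA.compl.2
  refine Set.eq_univ_of_forall fun b => ?_
  obtain ⟨a, ha, hab⟩ : CohB1.ProjSpaceOver.toBase 1 S b ∈ CohB1.ProjSpaceOver.toBase 1 S '' A := by
    rw [hc.eq_univ (hne.image _)]
    trivial
  exact mem_of_mem_clopen hA ha hab.symm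

variable {X : Scheme.{u}} (g : X ⟶ CohB1.ProjSpaceOver 1 S) [IsFinite g] [Flat g] [LocallyOfFinitePresentation g]

theorem isClopen_image {W : Set X} (hW : IsClopen W) : IsClopen (g '' W) :=
  ⟨g.isClosedMap _ hW.1, g.isOpenMap _ hW.2⟩

theorem eq_univ_of_sect {W : Set X} (hW : IsClopen W) (h0 : ∀ x : X, g x ∈ Set.range (P1.sect S 0) → x ∈ W) :
    W = Set.univ := by
  refine Set.eq_univ_of_forall fun x => by_contra fun hx => ?_
  obtain ⟨s, y, hy, hys⟩ := exists_sect_mem (isClopen_image g hW.compl) ⟨g x, x, hx, rfl⟩ 0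
  exact hy (h0 y ⟨s, hys.symm⟩)

theorem exists_mem_connectedComponent [PreconnectedSpace S] (x : X) (p : CohB1.ProjSpaceOver 1 S) :
    ∃ y ∈ connectedComponent x, g y = p := by
  classical
  have hfin : (g ⁻¹' {p}).Finite := g.finite_preimage_singleton p
  have hsurj : ∀ W : Set X, IsClopen W → W.Nonempty → ∃ y ∈ W, g y = p := fun W hW hne => by
    obtain ⟨y, hy, hyp⟩ : p ∈ g '' W := by
      rw [eq_univ_of_isClopen (isClopen_image g hW) (hne.image _)]
      trivial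
    exact ⟨y, hy, hyp⟩
  have hex : ∃ n, ∃ W : Set X, IsClopen W ∧ x ∈ W ∧ (W ∩ g ⁻¹' {p}).ncard = n :=
    ⟨_, Set.univ, isClopen_univ, trivial, rfl⟩
  obtain ⟨W, hW, hxW, hn⟩ := Nat.find_spec hex
  have hmin : ∀ W' : Set X, IsClopen W' → x ∈ W' → Nat.find hex ≤ (W' ∩ g ⁻¹' {p}).ncard :=
    fun W' h1 h2 => Nat.find_min' hex ⟨W', h1, h2, rfl⟩
  have hpc : _root_.IsPreconnected W := by
    rw [isPreconnected_iff_subset_of_disjoint]
    intro u v hu hv hsub hdis
    by_contra hne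
    simp only [not_or] at hne
    -- the two pieces are clopen
    have key : ∀ u v : Set X, IsOpen u → IsOpen v → W ⊆ u ∪ v → W ∩ (u ∩ v) = ∅ → IsClopen (W ∩ u) := by
      intro u v hu hv hsub hdis
      refine ⟨?_, hW.2.inter hu⟩
      have h : (W ∩ u)ᶜ = Wᶜ ∪ W ∩ v := by
        ext z
        constructor
        · intro hz
          by_cases hzW : z ∈ W
          · exact Or.inr ⟨hzW, (hsub hzW).resolve_left fun h => hz ⟨hzW, h⟩⟩
          · exact Or.inl hzW
        · rintro (h | ⟨h1, h2⟩) ⟨h3, h4⟩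
          · exact h h3
          · exact (Set.eq_empty_iff_forall_notMem.1 hdis) z ⟨h3, h4, h2⟩
      rw [← isOpen_compl_iff, h]
      exact hW.compl.2.union (hW.2.inter hv)
    obtain ⟨z1, hz1, hz1u⟩ := Set.not_subset.1 hne.1
    obtain ⟨z2, hz2, hz2v⟩ := Set.not_subset.1 hne.2
    have hcu := key u v hu hv hsub hdis
    have hcv := key v u hv hu (Set.union_comm u v ▸ hsub) (Set.inter_comm u v ▸ hdis)
    have hlt : ∀ u v : Set X, IsClopen (W ∩ v) → (W ∩ v).Nonempty → W ∩ (u ∩ v) = ∅ →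
        (W ∩ u ∩ g ⁻¹' {p}).ncard < (W ∩ g ⁻¹' {p}).ncard := by
      intro u v hcv hne hdis
      obtain ⟨y, ⟨hyW, hyv⟩, hyp⟩ := hsurj _ hcv hne
      refine Set.ncard_lt_ncard ⟨fun z hz => ⟨hz.1.1, hz.2⟩, fun hsub' => ?_⟩ (hfin.subset Set.inter_subset_right)
      exact (Set.eq_empty_iff_forall_notMem.1 hdis) y ⟨hyW, (hsub' ⟨hyW, hyp⟩).1.2, hyv⟩
    rcases hsub hxW with hxu | hxv
    · exact absurd (hmin _ hcu ⟨hxW, hxu⟩) (not_le.2 (hn ▸ hlt u v hcv ⟨z1, hz1, (hsub hz1).resolve_left hz1u⟩ hdis))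
    · exact absurd (hmin _ hcv ⟨hxW, hxv⟩) (not_le.2 (hn ▸ hlt v u hcu ⟨z2, hz2, (hsub hz2).resolve_right hz2v⟩
        (Set.inter_comm u v ▸ hdis)))
  obtain ⟨y, hy, hyp⟩ := hsurj W hW ⟨x, hxW⟩
  exact ⟨y, hpc.subset_connectedComponent hxW hy, hyp⟩

end Groth.L03.P1Fin
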