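import Groth.Agent.L12.PowSer
import Mathlib.RingTheory.MvPowerSeries.Inverse

/-! Lifting maps out of power series rings along square-zero extensions. -/

set_option autoImplicit false
universe u v w

namespace Groth.L03.PSLift

/-- A map out of a power series ring into `C ⧸ J` killing a power of the maximal ideal lifts, once its restriction
to the constants lifts. -/
theorem exists_lift {σ : Type v} [Finite σ] {Λ : Type u} [CommRing Λ] [IsLocalRing Λ] {C : Type w} [CommRing C]
    (J : Ideal C) (hJ : J ^ 2 = ⊥) (ψ : MvPowerSeries σ Λ →+* C ⧸ J)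
    (hψ : ∃ k : ℕ, ∀ x ∈ IsLocalRing.maximalIdeal (MvPowerSeries σ Λ) ^ k, ψ x = 0)
    (φ : Λ →+* C) (hφ : (Ideal.Quotient.mk J).comp φ = ψ.comp MvPowerSeries.C) :
    ∃ χ : MvPowerSeries σ Λ →+* C, (Ideal.Quotient.mk J).comp χ = ψ := by
  obtain ⟨k, hk⟩ := hψ
  choose c hc using fun i : σ => Ideal.Quotient.mk_surjective (ψ (MvPowerSeries.X i : MvPowerSeries σ Λ))
  let Ic := Ideal.span (Set.range c)
  let SX := Ideal.span (Set.range (MvPowerSeries.X : σ → MvPowerSeries σ Λ))
  have hX : SX ≤ IsLocalRing.maximalIdeal (MvPowerSeries σ Λ) := Ideal.span_le.2 (by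
    rintro - ⟨i, rfl⟩
    rw [SetLike.mem_coe, IsLocalRing.mem_maximalIdeal, mem_nonunits_iff, MvPowerSeries.isUnit_iff_constantCoeff,
      MvPowerSeries.constantCoeff_X]
    exact not_isUnit_zero)
  have hIc : Ic ^ k ≤ J := by
    rw [← Ideal.mk_ker (I := J), RingHom.ker_eq_comap_bot, ← Ideal.map_le_iff_le_comap, Ideal.map_pow]
    have e : Ic.map (Ideal.Quotient.mk J) = SX.map ψ := by
      rw [Ideal.map_span, Ideal.map_span, ← Set.range_comp, ← Set.range_comp]
      congr 2
      exact funext hc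
    rw [e, ← Ideal.map_pow, Ideal.map_le_iff_le_comap]
    exact fun x hx => hk x (Ideal.pow_right_mono hX k hx)
  have hIc2 : Ic ^ (2 * k) = ⊥ := by
    rw [mul_comm, pow_mul]
    exact eq_bot_iff.2 ((Ideal.pow_right_mono hIc 2).trans hJ.le)
  let ev : MvPolynomial σ Λ →+* C := MvPolynomial.eval₂Hom φ c
  have hev : ∀ q ∈ MvPolynomial.idealOfVars σ Λ ^ (2 * k), ev q = 0 := fun q hq => by
    have h1 := Ideal.mem_map_of_mem ev hq
    have e : (MvPolynomial.idealOfVars σ Λ).map ev = Ic := by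
      rw [MvPolynomial.idealOfVars, Ideal.map_span, ← Set.range_comp]
      congr 2
      exact funext fun i => MvPolynomial.eval₂Hom_X' _ _ _
    rwa [Ideal.map_pow, e, hIc2, Submodule.mem_bot] at h1
  have hmk : ∀ q : MvPolynomial σ Λ, Ideal.Quotient.mk J (ev q) = ψ (q : MvPowerSeries σ Λ) := fun q => by
    refine RingHom.congr_fun (MvPolynomial.ringHom_ext (f := (Ideal.Quotient.mk J).comp ev)
      (g := ψ.comp MvPolynomial.coeToMvPowerSeries.ringHom) (fun r => ?_) (fun i => ?_)) q
    · simp [ev]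
      exact RingHom.congr_fun hφ r
    · simp [ev, hc]
  refine ⟨(Ideal.Quotient.lift _ ev hev).comp
    (MvPowerSeries.truncTotalAlgHom σ Λ (2 * k)).toRingHom, RingHom.ext fun f => ?_⟩
  show Ideal.Quotient.mk J (ev (MvPowerSeries.truncTotal (2 * k) f)) = ψ f
  rw [hmk, eq_comm, ← sub_eq_zero, ← map_sub]
  exact hk _ (Ideal.pow_le_pow_right (by omega) (Ideal.pow_right_mono hX _ (Groth.L12.sub_truncTotal_mem f (2 * k))))

end Groth.L03.PSLift
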