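import Groth.Agent.L03.PairNoeth
import Groth.Agent.L02.CAlg.RegularDescend
import Groth.Agent.L06.GRingCrit
import Groth.Agent.L21.Nodal.Completion
import Groth.Agent.L27.EtSite.SplitCover

/-!
The henselization of a G-ring along an ideal is a G-ring.
-/

namespace Groth.L03.PairGRing

universe u

open Groth.L06 Groth.L06.GeomHom Groth.L06.PropLoc Groth.L06.GeomFG

theorem isRegularHom_local {A B : Type u} [CommRing A] [CommRing B] [IsNoetherianRing A] [IsNoetherianRing B]
    [Algebra A B] [Module.Flat A B] (hie : EtPBC.IsIndEtale A B) (m : Ideal B) [m.IsMaximal]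
    (hm : (m.comap (algebraMap A B)).map (algebraMap A B) = m)
    (hres : ∀ b : B, ∃ a : A, b - algebraMap A B a ∈ m)
    (hA : CAlg.IsRegularHom (Localization.AtPrime (m.comap (algebraMap A B)))
      (EGA4.Cpl (Localization.AtPrime (m.comap (algebraMap A B))))) :
    CAlg.IsRegularHom (Localization.AtPrime m) (EGA4.Cpl (Localization.AtPrime m)) := by
  set n := m.comap (algebraMap A B) with hn
  let An := Localization.AtPrime n
  let Bm := Localization.AtPrime m
  letI : Algebra An Bm := (Localization.localRingHom n m (algebraMap A B) hn).toAlgebra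
  haveI : IsScalarTower A An Bm := IsScalarTower.of_algebraMap_eq fun a => by
    rw [IsScalarTower.algebraMap_apply A B Bm]
    exact (Localization.localRingHom_to_map n m (algebraMap A B) hn a).symm
  haveI : IsLocalHom (algebraMap An Bm) := Localization.isLocalHom_localRingHom n m (algebraMap A B) hn
  haveI : Module.Flat A Bm := Module.Flat.trans A B Bm
  haveI : Module.Flat An Bm := (Module.flat_iff_of_isLocalization (R := A) An n.primeCompl (M := Bm)).mpr inferInstance
  have hmax : (IsLocalRing.maximalIdeal An).map (algebraMap An Bm) = IsLocalRing.maximalIdeal Bm := by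
    rw [← Localization.AtPrime.map_eq_maximalIdeal, Ideal.map_map, ← IsScalarTower.algebraMap_eq,
      IsScalarTower.algebraMap_eq A B Bm, ← Ideal.map_map, hm, Localization.AtPrime.map_eq_maximalIdeal]
  have hres' : ∀ b : Bm, ∃ a : An, b - algebraMap An Bm a ∈ IsLocalRing.maximalIdeal Bm := by
    intro y
    obtain ⟨b, s, rfl⟩ := IsLocalization.exists_mk'_eq m.primeCompl y
    obtain ⟨a, ha⟩ := hres b
    obtain ⟨t, ht⟩ := hres s
    have htn : t ∈ n.primeCompl := fun h => s.2 (by
      have := add_mem ht (show algebraMap A B t ∈ m from h)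
      simpa using this)
    refine ⟨IsLocalization.mk' An a ⟨t, htn⟩, ?_⟩
    have hu : IsUnit (algebraMap An Bm (algebraMap A An t)) :=
      (IsLocalization.map_units An (⟨t, htn⟩ : n.primeCompl)).map _
    refine (Ideal.unit_mul_mem_iff_mem _ ((IsLocalization.map_units Bm s).mul hu)).1 ?_
    have h1 : algebraMap B Bm s * algebraMap An Bm (algebraMap A An t) *
        (IsLocalization.mk' Bm b s - algebraMap An Bm (IsLocalization.mk' An a ⟨t, htn⟩)) =
        algebraMap B Bm (algebraMap A B t * (b - algebraMap A B a) - algebraMap A B a * (s - algebraMap A B t)) := by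
      have e1 := IsLocalization.mk'_spec' Bm b s
      have e2 := congrArg (algebraMap An Bm) (IsLocalization.mk'_spec' An a (⟨t, htn⟩ : n.primeCompl))
      rw [map_mul] at e2
      simp only at e2
      have ht' : algebraMap An Bm (algebraMap A An t) = algebraMap B Bm (algebraMap A B t) := by
        rw [← IsScalarTower.algebraMap_apply, ← IsScalarTower.algebraMap_apply]
      have ha' : algebraMap An Bm (algebraMap A An a) = algebraMap B Bm (algebraMap A B a) := by
        rw [← IsScalarTower.algebraMap_apply, ← IsScalarTower.algebraMap_apply]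
      rw [ha'] at e2
      simp only [map_sub, map_mul]
      rw [← ht', ← e2, ← e1]
      ring
    rw [h1]
    exact (IsLocalization.AtPrime.to_map_mem_maximal_iff Bm m _).2
      (sub_mem (Ideal.mul_mem_left _ _ ha) (Ideal.mul_mem_left _ _ ht))
  haveI : IsNoetherianRing An := IsLocalization.isNoetherianRing n.primeCompl An inferInstance
  haveI : IsNoetherianRing Bm := IsLocalization.isNoetherianRing m.primeCompl Bm inferInstance
  obtain ⟨ε, hε⟩ := Groth.L21.Nodal.exists_completion_equiv An Bm hmax hres'
  haveI : IsNoetherianRing (EGA4.Cpl An) := Groth.Agent.S0543.result _ _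
  haveI : IsNoetherianRing (EGA4.Cpl Bm) := Groth.Agent.S0543.result _ _
  haveI := NormalAscent.faithfullyFlat_cpl An
  haveI := NormalAscent.faithfullyFlat_cpl Bm
  -- A → completion of A_n is regular
  haveI : Module.Flat A (EGA4.Cpl An) := Module.Flat.trans A An (EGA4.Cpl An)
  have h1 : CAlg.IsRegularHom A (EGA4.Cpl An) := isRegularHom_of_geomHom
    (comp good_reg (geomHom_localization n.primeCompl An) (geomHom_reg_of_isRegularHom hA))
  have h2 : CAlg.IsRegularHom A (EGA4.Cpl Bm) :=
    GRingTransport.isRegularHom_of_ringEquiv (RingEquiv.refl A) ε (fun a => by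
      rw [RingEquiv.refl_apply, IsScalarTower.algebraMap_apply A An (EGA4.Cpl An), hε,
        ← IsScalarTower.algebraMap_apply A An Bm, ← IsScalarTower.algebraMap_apply]) h1
  have hie' : EtPBC.IsIndEtale A Bm :=
    Groth.L27.IndEtale.trans A B Bm hie (Groth.L27.EtSite.isIndEtale_localization B m.primeCompl Bm)
  exact Groth.L02.RegularDescend.isRegularHom_of_indEtale hie' h2

theorem isGRing (A : Type u) [CommRing A] [IsNoetherianRing A] (hA : CAlg.IsGRing A) (I : Ideal A)
    (B : Type u) [CommRing B] [Algebra A B] (hB : Hens2.IsPairHenselization A I B) : CAlg.IsGRing B := by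
  haveI := Groth.L03.PairNoeth.isNoetherianRing_of_isPairHenselization A I hB
  haveI := Groth.L05.Henselization.flat_of_isPairHenselization A I hB
  have hie : EtPBC.IsIndEtale A B := by
    obtain ⟨e, -⟩ := Groth.L05.Henselization.isPairHenselization_algEquiv A I
      (Groth.L05.Henselization.isPairHenselization A I) hB
    exact Groth.L05.Henselization.isIndEtale_of_algEquiv e Groth.L05.Henselization.isIndEtale
  refine GRingCrit.isGRing_of_maximal fun m hm => ?_
  have hIm : I.map (algebraMap A B) ≤ m :=
    hB.1.jac.trans (by rw [Ideal.jacobson]; exact sInf_le ⟨bot_le, hm⟩)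
  obtain ⟨hi, hs⟩ := Groth.L05.Henselization.quotientMap_pow_bijective A I hB 1
  have hres : ∀ b : B, ∃ a : A, b - algebraMap A B a ∈ m := by
    intro b
    obtain ⟨x, hx⟩ := hs (Ideal.Quotient.mk _ b)
    obtain ⟨a, rfl⟩ := Ideal.Quotient.mk_surjective x
    rw [Ideal.quotientMap_mk, Ideal.Quotient.eq, pow_one] at hx
    exact ⟨a, by simpa using neg_mem (hIm hx)⟩
  have hcm : (m.comap (algebraMap A B)).map (algebraMap A B) = m := by
    refine le_antisymm Ideal.map_comap_le fun b hb => ?_
    obtain ⟨x, hx⟩ := hs (Ideal.Quotient.mk _ b)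
    obtain ⟨a, rfl⟩ := Ideal.Quotient.mk_surjective x
    rw [Ideal.quotientMap_mk, Ideal.Quotient.eq, pow_one] at hx
    have ha : algebraMap A B a ∈ m := by
      have := add_mem (hIm hx) hb
      simpa using this
    have hIn : I.map (algebraMap A B) ≤ (m.comap (algebraMap A B)).map (algebraMap A B) :=
      Ideal.map_mono (Ideal.map_le_iff_le_comap.1 hIm)
    have := sub_mem (Ideal.mem_map_of_mem (algebraMap A B) (show a ∈ m.comap (algebraMap A B) from ha)) (hIn hx)
    simpa using this
  haveI : IsNoetherianRing (EGA4.Cpl (Localization.AtPrime (m.comap (algebraMap A B)))) := Groth.Agent.S0543.result _ _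
  exact isRegularHom_local hie m hcm hres (hA.2 _)

end Groth.L03.PairGRing
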