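import Groth.Agent.L04.RegularPd
import Mathlib.RingTheory.RegularLocalRing.Polynomial
import Mathlib.RingTheory.KrullDimension.Polynomial
import Mathlib.RingTheory.MvPolynomial.Homogeneous
import Mathlib.RingTheory.LocalProperties.ProjectiveDimension
import Mathlib.Algebra.Polynomial.AlgebraMap

/-!
The homogeneous ideal of finitely many points of the plane has projective dimension at most one.
-/

universe u

open MvPolynomial CategoryTheory IsLocalRing

namespace Groth.L03.PointsPd

variable {k : Type u} [Field k]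

/-- restriction to the line through `p` -/
noncomputable def lineMap (p : Fin 3 → k) : MvPolynomial (Fin 3) k →ₐ[k] Polynomial k :=
  aeval fun i => Polynomial.C (p i) * Polynomial.X

theorem coeff_lineMap (p : Fin 3 → k) (f : MvPolynomial (Fin 3) k) (j : ℕ) :
    (lineMap p f).coeff j = eval p (homogeneousComponent j f) := by
  induction f using MvPolynomial.induction_on' with
  | monomial d a =>
    have h : lineMap p (monomial d a) = Polynomial.C (a * d.prod fun i e => p i ^ e) * Polynomial.X ^ d.degree := by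
      rw [lineMap, aeval_monomial, Finsupp.degree_apply]
      simp only [Finsupp.prod, mul_pow, Finset.prod_mul_distrib, Finset.prod_pow_eq_pow_sum,
        ← map_pow, ← map_prod, map_mul, Polynomial.algebraMap_eq]
      ring
    rw [h, Polynomial.coeff_C_mul_X_pow, homogeneousComponent_of_mem
      ((mem_homogeneousSubmodule _ _).2 (isHomogeneous_monomial a (rfl : d.degree = d.degree)))]
    split_ifs with h1
    · simp [eval_monomial]
    · rw [map_zero]
  | add p q hp hq => simp [hp, hq]

theorem lineMap_eq_zero_iff (p : Fin 3 → k) (f : MvPolynomial (Fin 3) k) :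
    lineMap p f = 0 ↔ ∀ j : ℕ, eval p (homogeneousComponent j f) = 0 := by
  simp [Polynomial.ext_iff, coeff_lineMap]

/-- a maximal ideal is not contained in the ideal of a line -/
theorem exists_notMem_line (p : Fin 3 → k) (hp : p ≠ 0) (m : Ideal (MvPolynomial (Fin 3) k)) [m.IsMaximal] :
    ∃ a ∈ m, lineMap p a ≠ 0 := by
  by_contra hcon
  push Not at hcon
  have hle : m ≤ RingHom.ker (lineMap p).toRingHom := fun a ha => hcon a ha
  have heq := (Ideal.IsMaximal.eq_of_le ‹m.IsMaximal› (RingHom.ker_ne_top _) hle)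
  obtain ⟨i, hi⟩ := Function.ne_iff.1 hp
  have hnot : (X i : MvPolynomial (Fin 3) k) ∉ m := by
    intro h
    have := hle h
    simp [RingHom.mem_ker, lineMap] at this
    exact hi this
  obtain ⟨y, z, hz, hyz⟩ := Ideal.IsMaximal.exists_inv ‹m.IsMaximal› hnot
  have := congrArg (lineMap p) hyz
  rw [map_add, map_mul, hcon z hz, add_zero, map_one] at this
  have hu : IsUnit (lineMap p (X i)) := IsUnit.of_mul_eq_one_right _ this
  simp only [lineMap, aeval_X] at hu
  exact Polynomial.not_isUnit_X (isUnit_of_mul_isUnit_right hu)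

/-- `pd S/I ≤ 2` -/
theorem hasProjectiveDimensionLE_quotient (Z : Finset (Fin 3 → k)) (hZ : ∀ p ∈ Z, p ≠ 0)
    (I : Ideal (MvPolynomial (Fin 3) k))
    (hI : ∀ f : MvPolynomial (Fin 3) k, f ∈ I ↔ ∀ p ∈ Z, ∀ j : ℕ, eval p (homogeneousComponent j f) = 0) :
    HasProjectiveDimensionLE (ModuleCat.of (MvPolynomial (Fin 3) k) (MvPolynomial (Fin 3) k ⧸ I)) 2 := by
  classical
  rw [ModuleCat.hasProjectiveDimensionLE_iff_forall_maximalSpectrum]
  intro ⟨m, hm⟩
  let M : ModuleCat (MvPolynomial (Fin 3) k) := ModuleCat.of _ (MvPolynomial (Fin 3) k ⧸ I)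
  let R := Localization.AtPrime m
  let g := M.localizedModuleMkLinearMap m.primeCompl
  haveI : IsLocalizedModule m.primeCompl g := ModuleCat.localizedModule_isLocalizedModule M _
  haveI : Module.Finite R (M.localizedModule m.primeCompl) :=
    Module.Finite.of_isLocalizedModule m.primeCompl g
  have hh : m.height ≤ 3 := by
    have h1 := Ideal.height_le_ringKrullDim_of_ne_top hm.ne_top
    rw [MvPolynomial.ringKrullDim_of_isNoetherianRing, ringKrullDim_eq_zero_of_field, zero_add] at h1
    rw [Nat.card_fin] at h1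
    exact WithBot.coe_le_coe.1 h1
  obtain ⟨d, hd⟩ : ∃ d : ℕ, m.height = d := ⟨m.height.toNat, (ENat.natCast_toNat fun h => by simp [h] at hh).symm⟩
  have hdim : ringKrullDim R = (d : ℕ) := by
    rw [IsLocalization.AtPrime.ringKrullDim_eq_height m R, hd]; rfl
  haveI : IsRegularLocalRing R := inferInstance
  refine Groth.L04.hasProjectiveDimensionLE_of_dim_le_add_depth (R := R) (M.localizedModule m.primeCompl) hdim ?_
  have hd3 : d ≤ 3 := by rw [hd] at hh; exact_mod_cast hh
  have hdep : (1 : ℕ∞) ≤ LocCoh.depth R (M.localizedModule m.primeCompl) := by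
    rcases Groth.L04.exists_regular_or_killed (maximalIdeal R) (M.localizedModule m.primeCompl) with ⟨r, hr, hreg⟩ | ⟨z, hz0, hz⟩
    · exact Groth.L04.one_le_idealDepth_of_regular hr hreg
    · exfalso
      obtain ⟨⟨x, s⟩, rfl⟩ := IsLocalizedModule.mk'_surjective m.primeCompl g z
      obtain ⟨f, rfl⟩ := Ideal.Quotient.mk_surjective x
      have key : ∀ p ∈ Z, ∃ t : m.primeCompl, lineMap p ((t : MvPolynomial (Fin 3) k) * f) = 0 := by
        intro p hp
        obtain ⟨a, ha, hap⟩ := exists_notMem_line p (hZ p hp) m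
        have h0 := hz (algebraMap _ R a) ((IsLocalization.AtPrime.to_map_mem_maximal_iff R m a).2 ha)
        rw [algebraMap_smul] at h0
        simp only [Function.uncurry] at h0
        rw [← IsLocalizedModule.mk'_smul, IsLocalizedModule.mk'_eq_zero'] at h0
        obtain ⟨t, ht⟩ := h0
        refine ⟨t, ?_⟩
        have h1 : (t : MvPolynomial (Fin 3) k) * (a * f) ∈ I := Ideal.Quotient.eq_zero_iff_mem.1 ht
        have h2 := (lineMap_eq_zero_iff p _).2 ((hI _).1 h1 p hp)
        rw [mul_left_comm, map_mul] at h2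
        exact (mul_eq_zero.1 h2).resolve_left hap
      choose t ht using key
      have hmem : (∏ p ∈ Z.attach, (t p.1 p.2 : MvPolynomial (Fin 3) k)) * f ∈ I := by
        rw [hI]
        intro p hp
        rw [← lineMap_eq_zero_iff, ← Finset.mul_prod_erase _ _ (Finset.mem_attach Z ⟨p, hp⟩), mul_right_comm,
          map_mul, ht p hp, zero_mul]
      apply hz0
      simp only [Function.uncurry]
      rw [IsLocalizedModule.mk'_eq_zero']
      refine ⟨⟨∏ p ∈ Z.attach, (t p.1 p.2 : MvPolynomial (Fin 3) k), ?_⟩, Ideal.Quotient.eq_zero_iff_mem.2 hmem⟩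
      exact Submonoid.prod_mem _ fun p _ => (t p.1 p.2).2
  calc (d : ℕ∞) ≤ (3 : ℕ) := by exact_mod_cast hd3
    _ ≤ (2 : ℕ) + LocCoh.depth R (M.localizedModule m.primeCompl) := by
      refine le_trans ?_ (add_le_add le_rfl hdep)
      norm_num

/-- `pd I ≤ 1` -/
theorem hasProjectiveDimensionLE_ideal (Z : Finset (Fin 3 → k)) (hZ : ∀ p ∈ Z, p ≠ 0)
    (I : Ideal (MvPolynomial (Fin 3) k))
    (hI : ∀ f : MvPolynomial (Fin 3) k, f ∈ I ↔ ∀ p ∈ Z, ∀ j : ℕ, eval p (homogeneousComponent j f) = 0) :
    HasProjectiveDimensionLE (ModuleCat.of (MvPolynomial (Fin 3) k) I) 1 := by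
  let S := MvPolynomial (Fin 3) k
  let T : ShortComplex (ModuleCat.{u} S) := ShortComplex.mk
    (ModuleCat.ofHom (Submodule.subtype I)) (ModuleCat.ofHom (Submodule.mkQ I))
    (by ext x; exact (Submodule.Quotient.mk_eq_zero I).2 x.2)
  have hT : T.ShortExact :=
    { exact := (ShortComplex.moduleCat_exact_iff _).mpr fun x hx => ⟨⟨x, (Submodule.Quotient.mk_eq_zero I).1 hx⟩, rfl⟩
      mono_f := (ModuleCat.mono_iff_injective _).mpr Subtype.val_injective
      epi_g := (ModuleCat.epi_iff_surjective _).mpr (Submodule.mkQ_surjective I) }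
  haveI : Projective T.X₂ := (IsProjective.iff_projective T.X₂).mp inferInstance
  exact hT.hasProjectiveDimensionLT_X₁ 2 inferInstance (hasProjectiveDimensionLE_quotient Z hZ I hI)

end Groth.L03.PointsPd
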