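import Mathlib.RingTheory.Flat.Equalizer
import Mathlib.RingTheory.TensorProduct.Basic
import Mathlib.Algebra.Module.Projective
import Groth.Agent.L03.FlatDescent

/-!
Projectivity descends along finite injective maps (Noetherian base): a proof by lifting of maps.
-/

set_option autoImplicit false
set_option linter.style.haveILetI false

open TensorProduct LinearMap

universe u

namespace Groth.L03.ProjDescent

variable {R : Type u} [CommRing R]

/-- The kernel of a surjection from a flat module onto a flat module is flat. -/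
theorem flat_ker {F P : Type u} [AddCommGroup F] [Module R F] [Module.Flat R F] [AddCommGroup P]
    [Module R P] [Module.Flat R P] (p : F →ₗ[R] P) (hp : Function.Surjective p) :
    Module.Flat R (LinearMap.ker p) := by
  rw [Module.Flat.iff_rTensor_injective']
  intro I
  have h1 : Function.Injective ((LinearMap.ker p).subtype.lTensor I) :=
    lTensor_injective_of_exact_of_flat p hp _ (Submodule.injective_subtype _)
      (by rw [LinearMap.exact_iff, Submodule.range_subtype]) I
  have h2 : Function.Injective (I.subtype.rTensor F) :=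
    Module.Flat.rTensor_preserves_injective_linearMap _ I.injective_subtype
  have h : (LinearMap.ker p).subtype.lTensor R ∘ₗ I.subtype.rTensor (LinearMap.ker p) =
      I.subtype.rTensor F ∘ₗ (LinearMap.ker p).subtype.lTensor I := by
    rw [LinearMap.lTensor_comp_rTensor, LinearMap.rTensor_comp_lTensor]
  refine Function.Injective.of_comp (f := (LinearMap.ker p).subtype.lTensor R) ?_
  rw [← LinearMap.coe_comp, h, LinearMap.coe_comp]
  exact h2.comp h1

section Extend

variable {F P : Type u} [AddCommGroup F] [Module R F] [AddCommGroup P] [Module R P]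
  [Module.Flat R P]

/-- After base change to an algebra over which `P` becomes projective the kernel splits off. -/
theorem exists_retraction (B : Type u) [CommRing B] [Algebra R B] [Module.Projective B (B ⊗[R] P)]
    (p : F →ₗ[R] P) (hp : Function.Surjective p) :
    ∃ r : B ⊗[R] F →ₗ[B] B ⊗[R] LinearMap.ker p,
      r ∘ₗ (LinearMap.ker p).subtype.baseChange B = LinearMap.id := by
  set ι := (LinearMap.ker p).subtype with hι
  have hexact : Function.Exact ι p := by
    rw [LinearMap.exact_iff, hι, Submodule.range_subtype]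
  have hinj : Function.Injective (ι.baseChange B) := by
    rw [baseChange_eq_ltensor]
    exact lTensor_injective_of_exact_of_flat p hp _ (Submodule.injective_subtype _) hexact B
  have hsurj : Function.Surjective (p.baseChange B) := by
    rw [baseChange_eq_ltensor]
    exact lTensor_surjective B hp
  have hex : Function.Exact (ι.baseChange B) (p.baseChange B) := by
    rw [baseChange_eq_ltensor, baseChange_eq_ltensor]
    exact lTensor_exact B hexact hp
  obtain ⟨s, hs⟩ := Module.projective_lifting_property (p.baseChange B) LinearMap.id hsurj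
  let d : B ⊗[R] F →ₗ[B] LinearMap.range (ι.baseChange B) :=
    (LinearMap.id - s ∘ₗ p.baseChange B).codRestrict _ fun x => by
      apply (hex _).1
      have := LinearMap.congr_fun hs (p.baseChange B x)
      simp only [LinearMap.comp_apply, LinearMap.id_apply] at this
      simp [this]
  refine ⟨(LinearEquiv.ofInjective _ hinj).symm.toLinearMap ∘ₗ d, LinearMap.ext fun x => ?_⟩
  rw [LinearMap.comp_apply, LinearMap.comp_apply, LinearEquiv.coe_coe, LinearEquiv.symm_apply_eq,
    LinearMap.id_apply]
  refine Subtype.ext ?_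
  show ι.baseChange B x - s (p.baseChange B (ι.baseChange B x)) = ι.baseChange B x
  rw [hex.apply_apply_eq_zero, map_zero, sub_zero]

theorem projective_baseChange_ker (B : Type u) [CommRing B] [Algebra R B] [Module.Projective R F]
    [Module.Projective B (B ⊗[R] P)] (p : F →ₗ[R] P) (hp : Function.Surjective p) :
    Module.Projective B (B ⊗[R] LinearMap.ker p) := by
  obtain ⟨r, hr⟩ := exists_retraction B p hp
  exact Module.Projective.of_split _ r hr

/-- Maps from the kernel to modules over such an algebra extend. -/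
theorem exists_extend (B : Type u) [CommRing B] [Algebra R B] [Module.Projective B (B ⊗[R] P)]
    {A : Type u} [AddCommGroup A] [Module R A] [Module B A] [IsScalarTower R B A]
    (p : F →ₗ[R] P) (hp : Function.Surjective p) (f : LinearMap.ker p →ₗ[R] A) :
    ∃ g : F →ₗ[R] A, g ∘ₗ (LinearMap.ker p).subtype = f := by
  obtain ⟨r, hr⟩ := exists_retraction B p hp
  refine ⟨((f.liftBaseChange B ∘ₗ r).restrictScalars R) ∘ₗ TensorProduct.mk R B F 1,
    LinearMap.ext fun x => ?_⟩
  have h := LinearMap.congr_fun hr ((1 : B) ⊗ₜ x)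
  rw [LinearMap.comp_apply, LinearMap.baseChange_tmul, LinearMap.id_apply] at h
  simp only [LinearMap.comp_apply, LinearMap.restrictScalars_apply, TensorProduct.mk_apply, h,
    LinearMap.liftBaseChange_tmul, one_smul]

/-- Maps from the kernel to modules killed by `J` extend. -/
theorem exists_extend_killed (J : Ideal R) [Module.Projective (R ⧸ J) ((R ⧸ J) ⊗[R] P)]
    {A : Type u} [AddCommGroup A] [Module R A] (hA : ∀ r ∈ J, ∀ x : A, r • x = 0)
    (p : F →ₗ[R] P) (hp : Function.Surjective p) (f : LinearMap.ker p →ₗ[R] A) :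
    ∃ g : F →ₗ[R] A, g ∘ₗ (LinearMap.ker p).subtype = f := by
  have hA' : Module.IsTorsionBySet R A J := fun x r => hA r r.2 x
  letI := hA'.module
  haveI : IsScalarTower R (R ⧸ J) A := hA'.isScalarTower
  exact exists_extend (R ⧸ J) p hp f

end Extend

variable {S : Type u} [CommRing S] [Algebra R S]
variable {P : Type u} [AddCommGroup P] [Module R P]

/-- The induction step. -/
theorem projective_of_step [IsNoetherianRing R] [Module.Finite R S]
    (hinj : Function.Injective (algebraMap R S)) [Module.Flat R P]
    [Module.Projective S (S ⊗[R] P)]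
    (hQ : ∀ J : Ideal R, J ≠ ⊥ → (J.map (algebraMap R S)).comap (algebraMap R S) = J →
      Module.Projective (R ⧸ J) ((R ⧸ J) ⊗[R] P)) : Module.Projective R P := by
  classical
  let p : (P →₀ R) →ₗ[R] P := Finsupp.linearCombination R (fun x => x)
  have hp : Function.Surjective p := fun x => ⟨Finsupp.single x 1, by simp [p]⟩
  let F := P →₀ R
  let K : Submodule R (P →₀ R) := LinearMap.ker p
  letI : AddCommGroup K := K.addCommGroup
  suffices hE : ∀ (N : Type u) [AddCommGroup N] [Module R N] (f : K →ₗ[R] N),
      ∃ g : (P →₀ R) →ₗ[R] N, g ∘ₗ K.subtype = f by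
    obtain ⟨r, hr⟩ := hE K LinearMap.id
    have hker : LinearMap.ker p ≤ LinearMap.ker (LinearMap.id - K.subtype ∘ₗ r) := fun x hx => by
      have := LinearMap.congr_fun hr ⟨x, hx⟩
      simp only [LinearMap.comp_apply, Submodule.coe_subtype, LinearMap.id_apply] at this
      simp [this]
    refine Module.Projective.of_split
      ((LinearMap.ker p).liftQ _ hker ∘ₗ (p.quotKerEquivOfSurjective hp).symm.toLinearMap) p
      (LinearMap.ext fun x => ?_)
    obtain ⟨y, rfl⟩ := hp x
    have hsymm : (p.quotKerEquivOfSurjective hp).symm (p y) = Submodule.Quotient.mk y := by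
      rw [LinearEquiv.symm_apply_eq]; simp
    simp only [LinearMap.comp_apply, LinearEquiv.coe_coe, hsymm, Submodule.liftQ_apply,
      LinearMap.sub_apply, LinearMap.id_apply, map_sub]
    rw [show p (K.subtype (r y)) = 0 from (r y).2, sub_zero]
  intro N _ _ f
  by_cases hdom : IsDomain R
  · obtain ⟨n, e, e', c₀, hc₀, hee, -⟩ := Groth.L03.Lattice.exists_free_comp (R := R) S
    obtain ⟨φ, hc⟩ : ∃ φ : S →ₗ[R] R, φ 1 ≠ 0 := by
      by_contra h
      simp only [not_exists, not_not] at h
      have hf1 : e 1 = 0 := funext fun i => h (LinearMap.proj i ∘ₗ e)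
      have h0 := hee 1
      rw [hf1, map_zero, ← Algebra.algebraMap_eq_smul_one] at h0
      exact hc₀ (hinj (h0.symm.trans (map_zero _).symm))
    set c := φ 1 with hcdef
    have hφ : ∀ r, φ (algebraMap R S r) = r * c := fun r => by
      rw [Algebra.algebraMap_eq_smul_one, map_smul, smul_eq_mul]
    let J : Ideal R := ((Ideal.span {c ^ 2}).map (algebraMap R S)).comap (algebraMap R S)
    have hJle : ∀ r ∈ J, ∃ s, r = s * c := by
      intro r hr
      rw [Ideal.mem_comap, Ideal.map_span, Set.image_singleton, Ideal.mem_span_singleton'] at hr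
      obtain ⟨s, hs⟩ := hr
      refine ⟨φ s, mul_right_cancel₀ hc ?_⟩
      rw [← hφ r, ← hs, mul_comm s, ← Algebra.smul_def, map_smul, smul_eq_mul]
      ring
    have hJ0 : J ≠ ⊥ := fun h => by
      have : c ^ 2 ∈ J := Ideal.le_comap_map (Ideal.mem_span_singleton_self _)
      rw [h, Ideal.mem_bot] at this
      exact hc (eq_zero_of_pow_eq_zero this)
    have := hQ J hJ0 (by simp only [J, Ideal.map_comap_map])
    -- reduce modulo `c`
    let cN : N →ₗ[R] N := c • LinearMap.id
    obtain ⟨g, hg⟩ := exists_extend_killed J (A := N ⧸ LinearMap.range cN) (fun r hr x => by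
      obtain ⟨x, rfl⟩ := Submodule.Quotient.mk_surjective _ x
      obtain ⟨s, rfl⟩ := hJle r hr
      rw [← Submodule.Quotient.mk_smul, Submodule.Quotient.mk_eq_zero]
      exact ⟨s • x, by show c • s • x = _; rw [smul_smul, mul_comm]⟩) p hp
      ((LinearMap.range cN).mkQ ∘ₗ f)
    obtain ⟨g₁, hg₁⟩ := Module.projective_lifting_property (LinearMap.range cN).mkQ g
      (Submodule.mkQ_surjective _)
    let f₁ : K →ₗ[R] LinearMap.range cN := (f - g₁ ∘ₗ K.subtype).codRestrict _ fun x => by
      rw [← Submodule.Quotient.mk_eq_zero, ← Submodule.mkQ_apply, LinearMap.sub_apply, map_sub,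
        sub_eq_zero]
      exact (LinearMap.congr_fun hg x).symm.trans (LinearMap.congr_fun hg₁ x.1).symm
    -- divide by `c`
    haveI : Module.Flat R K := flat_ker p hp
    haveI : Module.Projective (R ⧸ J) ((R ⧸ J) ⊗[R] K) := projective_baseChange_ker (R ⧸ J) p hp
    let q : (K →₀ R) →ₗ[R] K := Finsupp.linearCombination R (fun x => x)
    have hq : Function.Surjective q := fun x => ⟨Finsupp.single x 1, by simp [q]⟩
    obtain ⟨h, hh⟩ := Module.projective_lifting_property cN.rangeRestrict (f₁ ∘ₗ q)
      cN.surjective_rangeRestrict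
    obtain ⟨h', hh'⟩ := exists_extend_killed J (A := LinearMap.ker cN) (fun r hr x => by
      obtain ⟨s, rfl⟩ := hJle r hr
      refine Subtype.ext ?_
      rw [Submodule.coe_smul, mul_smul, show c • (x : N) = 0 from x.2, smul_zero]
      rfl) q hq ((h ∘ₗ (LinearMap.ker q).subtype).codRestrict _ fun x => by
        rw [← LinearMap.ker_rangeRestrict, LinearMap.mem_ker]
        refine (LinearMap.congr_fun hh x.1).trans ?_
        rw [LinearMap.comp_apply, show q x.1 = 0 from x.2, map_zero])
    have hkq : LinearMap.ker q ≤ LinearMap.ker (h - (LinearMap.ker cN).subtype ∘ₗ h') := fun x hx => by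
      have := congrArg Subtype.val (LinearMap.congr_fun hh' ⟨x, hx⟩)
      rw [LinearMap.mem_ker, LinearMap.sub_apply, sub_eq_zero]
      exact this.symm
    let f₂ : K →ₗ[R] N :=
      (LinearMap.ker q).liftQ _ hkq ∘ₗ (q.quotKerEquivOfSurjective hq).symm.toLinearMap
    have hf₂ : ∀ x, c • f₂ x = f x - g₁ x.1 := by
      intro x
      obtain ⟨y, rfl⟩ := hq x
      have hsymm : (q.quotKerEquivOfSurjective hq).symm (q y) = Submodule.Quotient.mk y := by
        rw [LinearEquiv.symm_apply_eq]; simp
      have h1 := congrArg Subtype.val (LinearMap.congr_fun hh y)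
      simp only [f₂, LinearMap.comp_apply, LinearEquiv.coe_coe, hsymm, Submodule.liftQ_apply,
        LinearMap.sub_apply, smul_sub]
      rw [show c • ((LinearMap.ker cN).subtype (h' y) : N) = 0 from (h' y).2, sub_zero]
      exact h1
    -- multiples of `c` extend
    obtain ⟨g₂, hg₂⟩ := exists_extend S (A := S ⊗[R] N) p hp ((TensorProduct.mk R S N 1) ∘ₗ f₂)
    refine ⟨g₁ + ((TensorProduct.lid R N).toLinearMap ∘ₗ φ.rTensor N) ∘ₗ g₂,
      LinearMap.ext fun x => ?_⟩
    have h1 := LinearMap.congr_fun hg₂ x
    simp only [LinearMap.comp_apply, Submodule.coe_subtype] at h1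
    simp only [LinearMap.comp_apply, LinearMap.add_apply, Submodule.coe_subtype, LinearEquiv.coe_coe]
    rw [h1]
    simp [← hcdef, hf₂]
  · cases subsingleton_or_nontrivial R
    · haveI : Subsingleton N := Module.subsingleton R N
      exact ⟨0, Subsingleton.elim _ _⟩
    obtain ⟨a, b, hab, ha, hb⟩ : ∃ a b : R, a * b = 0 ∧ a ≠ 0 ∧ b ≠ 0 := by
      by_contra h
      refine hdom (@IsDomain.mk _ _ ?_ ?_) <;> try infer_instance
      have : NoZeroDivisors R := ⟨fun {a b} hab => by
        by_contra hne
        rw [not_or] at hne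
        exact h ⟨a, b, hab, hne.1, hne.2⟩⟩
      exact NoZeroDivisors.to_isCancelMulZero R
    let J₀ : Ideal R := LinearMap.ker (LinearMap.mulRight R b)
    have hJ₀mem : ∀ r, r ∈ J₀ ↔ r * b = 0 := fun r => Iff.rfl
    let J₁ : Ideal R := J₀.annihilator
    have hJ₁mem : ∀ r, r ∈ J₁ ↔ ∀ j ∈ J₀, r * j = 0 := fun r => Submodule.mem_annihilator
    have hbJ₁ : b ∈ J₁ := (hJ₁mem b).2 fun j hj => by rw [mul_comm]; exact (hJ₀mem j).1 hj
    have hJ₀ : J₀ ≠ ⊥ := fun h => ha (by
      have : a ∈ J₀ := (hJ₀mem a).2 hab
      rwa [h, Ideal.mem_bot] at this)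
    have hJ₁ : J₁ ≠ ⊥ := fun h => hb (by rwa [h, Ideal.mem_bot] at hbJ₁)
    have hJ₁c : (J₁.map (algebraMap R S)).comap (algebraMap R S) = J₁ := by
      refine le_antisymm (fun r hr => (hJ₁mem r).2 fun j hj => hinj ?_) Ideal.le_comap_map
      rw [Ideal.mem_comap] at hr
      rw [map_mul, map_zero]
      generalize algebraMap R S r = s at hr
      induction hr using Submodule.span_induction with
      | mem x hx =>
        obtain ⟨k, hk, rfl⟩ := hx
        rw [← map_mul, (hJ₁mem k).1 hk j hj, map_zero]
      | zero => simp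
      | add x y _ _ hx hy => rw [add_mul, hx, hy, add_zero]
      | smul c x _ hx => rw [smul_eq_mul, mul_assoc, hx, mul_zero]
    have := hQ J₀ hJ₀ (FlatDescent.comap_map_eq_of_forall J₀ b hinj hJ₀mem)
    have := hQ J₁ hJ₁ hJ₁c
    let N₀ : Submodule R N := J₀ • ⊤
    obtain ⟨g, hg⟩ := exists_extend_killed J₀ (A := N ⧸ N₀) (fun r hr x => by
      obtain ⟨x, rfl⟩ := Submodule.Quotient.mk_surjective _ x
      rw [← Submodule.Quotient.mk_smul, Submodule.Quotient.mk_eq_zero]
      exact Submodule.smul_mem_smul hr Submodule.mem_top) p hp (N₀.mkQ ∘ₗ f)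
    obtain ⟨g₁, hg₁⟩ := Module.projective_lifting_property N₀.mkQ g (Submodule.mkQ_surjective _)
    let f₁ : K →ₗ[R] N₀ := (f - g₁ ∘ₗ K.subtype).codRestrict _ fun x => by
      rw [← Submodule.Quotient.mk_eq_zero, ← Submodule.mkQ_apply, LinearMap.sub_apply, map_sub,
        sub_eq_zero]
      exact (LinearMap.congr_fun hg x).symm.trans (LinearMap.congr_fun hg₁ x.1).symm
    obtain ⟨g₂, hg₂⟩ := exists_extend_killed J₁ (A := N₀) (fun r hr x => by
      obtain ⟨x, hx⟩ := x
      refine Subtype.ext ?_
      show r • x = 0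
      refine Submodule.smul_induction_on hx (fun j hj y _ => ?_) (fun y z hy hz => ?_)
      · rw [smul_smul, (hJ₁mem r).1 hr j hj, zero_smul]
      · rw [smul_add, hy, hz, add_zero]) p hp f₁
    refine ⟨g₁ + N₀.subtype ∘ₗ g₂, LinearMap.ext fun x => ?_⟩
    have h1 := congrArg Subtype.val (LinearMap.congr_fun hg₂ x)
    simp only [LinearMap.comp_apply, LinearMap.add_apply, Submodule.coe_subtype] at h1 ⊢
    rw [h1]
    simp [f₁]

/-- Projectivity descends along finite injective maps of a Noetherian ring. -/
theorem projective_of_finite_injective (R S : Type u) [CommRing R] [IsNoetherianRing R]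
    [CommRing S] [Algebra R S] [Module.Finite R S] (hinj : Function.Injective (algebraMap R S))
    (P : Type u) [AddCommGroup P] [Module R P] [Module.Projective S (S ⊗[R] P)] :
    Module.Projective R P := by
  haveI : Module.Flat R P := FlatDescent.flat_of_finite_injective R S hinj P
  suffices key : ∀ I : Ideal R, (I.map (algebraMap R S)).comap (algebraMap R S) = I →
      Module.Projective (R ⧸ I) ((R ⧸ I) ⊗[R] P) from
    projective_of_step hinj fun J _ hJ => key J hJ
  intro I
  induction I using (wellFounded_gt (α := Ideal R)).induction with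
  | h I ih =>
    intro hI
    let S' := S ⧸ I.map (algebraMap R S)
    letI : Algebra (R ⧸ I) S' := Ideal.Quotient.algebraQuotientOfLEComap Ideal.le_comap_map
    haveI : IsScalarTower R (R ⧸ I) S' := IsScalarTower.of_algebraMap_eq fun r => rfl
    haveI : Module.Finite (R ⧸ I) S' := Module.Finite.of_restrictScalars_finite R _ _
    have hinj' : Function.Injective (algebraMap (R ⧸ I) S') :=
      Ideal.quotientMap_injective' hI.le
    haveI : Module.Projective S' (S' ⊗[R ⧸ I] ((R ⧸ I) ⊗[R] P)) :=
      Module.Projective.of_equiv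
        ((AlgebraTensorModule.cancelBaseChange R S S' S' P).trans
          (AlgebraTensorModule.cancelBaseChange R (R ⧸ I) S' S' P).symm)
    refine projective_of_step hinj' fun J hJ0 hJc => ?_
    let J' : Ideal R := J.comap (Ideal.Quotient.mk I)
    have hlt : I < J' := by
      refine lt_of_le_of_ne (fun r hr => ?_) fun h => hJ0 ?_
      · rw [Ideal.mem_comap, Ideal.Quotient.eq_zero_iff_mem.2 hr]
        exact J.zero_mem
      · rw [← Ideal.map_comap_of_surjective _ Ideal.Quotient.mk_surjective J]
        show Ideal.map _ J' = ⊥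
        rw [← h, Ideal.map_quotient_self]
    have hJ'c : (J'.map (algebraMap R S)).comap (algebraMap R S) = J' := by
      refine le_antisymm ?_ Ideal.le_comap_map
      have hmap : J'.map (algebraMap R S) ≤
          (J.map (algebraMap (R ⧸ I) S')).comap (Ideal.Quotient.mk (I.map (algebraMap R S))) := by
        rw [Ideal.map_le_iff_le_comap]
        intro r hr
        rw [Ideal.mem_comap, Ideal.mem_comap]
        exact Ideal.mem_map_of_mem (algebraMap (R ⧸ I) S') (Ideal.mem_comap.1 hr)
      intro r hr
      rw [Ideal.mem_comap, ← hJc, Ideal.mem_comap]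
      exact hmap hr
    haveI := ih J' hlt hJ'c
    let R₂ := (R ⧸ I) ⧸ J
    letI : Algebra (R ⧸ J') R₂ := (Ideal.quotientMap J (Ideal.Quotient.mk I) le_rfl).toAlgebra
    haveI : IsScalarTower R (R ⧸ J') R₂ := IsScalarTower.of_algebraMap_eq fun r => rfl
    exact Module.Projective.of_equiv
      ((AlgebraTensorModule.cancelBaseChange R (R ⧸ J') R₂ R₂ P).trans
        (AlgebraTensorModule.cancelBaseChange R (R ⧸ I) R₂ R₂ P).symm)

end Groth.L03.ProjDescent
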