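import Mathlib.Algebra.Module.Projective
import Mathlib.RingTheory.Finiteness.Projective
import Mathlib.RingTheory.Ideal.Maps
import Mathlib.LinearAlgebra.TensorProduct.Finiteness
import Mathlib.LinearAlgebra.Pi
import Mathlib.LinearAlgebra.Basis.Basic

/-!
Rings in which every proper finitely generated ideal has nonzero annihilator: injective maps from
finite projective modules into projective modules split.
-/

set_option autoImplicit false

universe u v w

namespace Groth.L03.PropP

open LinearMap

variable {R : Type u} [CommRing R]

/-- The property: every proper finitely generated ideal has a nonzero annihilator. -/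
def P (R : Type u) [CommRing R] : Prop := ∀ I : Ideal R, I.FG → I ≠ ⊤ → I.annihilator ≠ ⊥

/-- A unimodular element: an element of a projective module killed by nothing has a functional with
value one. -/
theorem exists_functional (hP : P R) {M : Type v} [AddCommGroup M] [Module R M]
    [Module.Projective R M] (x : M) (hx : ∀ a : R, a • x = 0 → a = 0) :
    ∃ φ : M →ₗ[R] R, φ x = 1 := by
  classical
  obtain ⟨s, hs⟩ := Module.projective_def'.1 (inferInstance : Module.Projective R M)
  have htop : Ideal.span (Set.range fun j : (s x).support => s x j.1) = ⊤ := by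
    by_contra hne
    refine hP _ (Submodule.fg_span (Set.finite_range _)) hne (eq_bot_iff.2 fun a ha => ?_)
    rw [Submodule.mem_bot]
    apply hx
    have h0 : a • s x = 0 := by
      ext j
      by_cases hj : j ∈ (s x).support
      · exact Submodule.mem_annihilator.1 ha _ (Ideal.subset_span ⟨⟨j, hj⟩, rfl⟩)
      · simp [Finsupp.notMem_support_iff.1 hj]
    have h1 := congrArg (Finsupp.linearCombination R id) h0
    rw [map_smul, map_zero] at h1
    rwa [show Finsupp.linearCombination R id (s x) = x from LinearMap.congr_fun hs x] at h1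
  obtain ⟨g, hg⟩ := Ideal.mem_span_range_iff_exists_fun.1 (htop ▸ Submodule.mem_top (x := (1 : R)))
  refine ⟨(∑ j : (s x).support, g j • Finsupp.lapply j.1) ∘ₗ s, ?_⟩
  simpa using hg

/-- An injective map from a finite free module to a projective module has a retraction. -/
theorem exists_retraction_fin (hP : P R) (m : ℕ) {M : Type v} [AddCommGroup M] [Module R M]
    [Module.Projective R M] (u : (Fin m → R) →ₗ[R] M) (hu : Function.Injective u) :
    ∃ v : M →ₗ[R] (Fin m → R), v ∘ₗ u = LinearMap.id := by
  induction m with
  | zero => exact ⟨0, LinearMap.ext fun x => Subsingleton.elim _ _⟩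
  | succ m ih =>
    classical
    set x : M := u (Pi.single 0 1) with hx
    obtain ⟨φ, hφ⟩ := exists_functional hP x fun a ha => by
      have h := hu (show u (a • Pi.single 0 1) = u 0 by rw [map_smul, ← hx, ha, map_zero])
      simpa using congrFun h 0
    let tail : (Fin m → R) →ₗ[R] (Fin (m + 1) → R) :=
      LinearMap.pi (Fin.cons 0 fun i => LinearMap.proj i)
    let head : M →ₗ[R] M := LinearMap.id - φ.smulRight x
    have htail : ∀ z, tail z = Fin.cons 0 z := fun z => by
      funext i
      refine Fin.cases ?_ (fun j => ?_) i <;> simp [tail]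
    have hu' : Function.Injective (head ∘ₗ u ∘ₗ tail) := by
      rw [← LinearMap.ker_eq_bot, LinearMap.ker_eq_bot']
      intro z hz
      have h1 : u (tail z) = u (φ (u (tail z)) • Pi.single 0 1) := by
        rw [map_smul, ← hx]
        simpa [head, sub_eq_zero] using hz
      have h2 := hu h1
      funext i
      simpa [htail] using congrFun h2 i.succ
    obtain ⟨v, hv⟩ := ih _ hu'
    refine ⟨LinearMap.pi (Fin.cons (φ - φ ∘ₗ u ∘ₗ tail ∘ₗ v ∘ₗ head)
      fun i => LinearMap.proj i ∘ₗ v ∘ₗ head), LinearMap.ext fun w => ?_⟩
    have hw : w = w 0 • Pi.single 0 1 + tail (fun i => w i.succ) := by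
      funext i
      refine Fin.cases ?_ (fun j => ?_) i <;> simp [htail]
    have hhead : head (u w) = head (u (tail fun i => w i.succ)) := by
      conv_lhs => rw [hw]
      rw [map_add, map_smul, ← hx, map_add, map_smul]
      simp [head, hφ]
    have hvv : v (head (u w)) = fun i => w i.succ := by
      rw [hhead]
      exact LinearMap.congr_fun hv _
    funext i
    refine Fin.cases ?_ (fun j => ?_) i
    · simp only [LinearMap.comp_apply, LinearMap.pi_apply, Fin.cons_zero, LinearMap.sub_apply,
        LinearMap.id_apply, hvv]
      have hh := congrArg (fun t => φ (u t)) hw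
      simp only [map_add, map_smul, ← hx, hφ, smul_eq_mul, mul_one] at hh
      rw [hh, add_sub_cancel_right]
    · simp only [LinearMap.comp_apply, LinearMap.pi_apply, Fin.cons_succ, LinearMap.coe_proj,
        Function.eval, LinearMap.id_apply, hvv]

/-- An injective map from a finite projective module to a projective module has a retraction. -/
theorem exists_retraction (hP : P R) {N : Type w} {M : Type v} [AddCommGroup N] [Module R N]
    [Module.Finite R N] [Module.Projective R N] [AddCommGroup M] [Module R M]
    [Module.Projective R M] (u : N →ₗ[R] M) (hu : Function.Injective u) :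
    ∃ v : M →ₗ[R] N, v ∘ₗ u = LinearMap.id := by
  obtain ⟨k, π, s, -, hs, hπs⟩ := Module.Finite.exists_comp_eq_id_of_projective R N
  have hπs' : ∀ n, π (s n) = n := fun n => LinearMap.congr_fun hπs n
  let u' : (Fin k → R) →ₗ[R] M × (Fin k → R) := (u ∘ₗ π).prod (LinearMap.id - s ∘ₗ π)
  have hu' : Function.Injective u' := by
    rw [← LinearMap.ker_eq_bot, LinearMap.ker_eq_bot']
    intro f hf
    have h1 : π f = 0 := hu (by simpa [u'] using congrArg Prod.fst hf)
    simpa [u', h1] using congrArg Prod.snd hf
  obtain ⟨v, hv⟩ := exists_retraction_fin hP k u' hu'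
  refine ⟨π ∘ₗ v ∘ₗ LinearMap.inl R M (Fin k → R), LinearMap.ext fun n => ?_⟩
  have : u' (s n) = (u n, 0) := by simp [u', hπs']
  have h2 := LinearMap.congr_fun hv (s n)
  simp only [LinearMap.comp_apply, this, LinearMap.id_apply] at h2
  simp [h2, hπs']

/-- The cokernel of an injective map of finite projective modules is projective. -/
theorem projective_quotient (hP : P R) {N : Type w} {M : Type v} [AddCommGroup N] [Module R N]
    [Module.Finite R N] [Module.Projective R N] [AddCommGroup M] [Module R M]
    [Module.Projective R M] (u : N →ₗ[R] M) (hu : Function.Injective u) :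
    Module.Projective R (M ⧸ LinearMap.range u) := by
  obtain ⟨v, hv⟩ := exists_retraction hP u hu
  have hv' : ∀ n, v (u n) = n := fun n => LinearMap.congr_fun hv n
  refine Module.Projective.of_split ((LinearMap.range u).liftQ (LinearMap.id - u ∘ₗ v) ?_)
    (LinearMap.range u).mkQ ?_
  · rintro _ ⟨n, rfl⟩
    simp [hv']
  · refine Submodule.linearMap_qext _ (LinearMap.ext fun y => ?_)
    simp

open TensorProduct in
/-- An injective map between projective modules stays injective after tensoring with any module. -/
theorem rTensor_injective (hP : P R) {N : Type w} {M : Type v} [AddCommGroup N] [Module R N]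
    [Module.Projective R N] [AddCommGroup M] [Module R M] [Module.Projective R M]
    (u : N →ₗ[R] M) (hu : Function.Injective u) (Q : Type*) [AddCommGroup Q] [Module R Q] :
    Function.Injective (u.rTensor Q) := by
  classical
  obtain ⟨s, hs⟩ := Module.projective_def'.1 (inferInstance : Module.Projective R N)
  set π : (N →₀ R) →ₗ[R] N := Finsupp.linearCombination R id
  have hπs' : ∀ n, π (s n) = n := fun n => LinearMap.congr_fun hs n
  let u' : (N →₀ R) →ₗ[R] M × (N →₀ R) := (u ∘ₗ π).prod (LinearMap.id - s ∘ₗ π)
  have hu' : Function.Injective u' := by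
    rw [← LinearMap.ker_eq_bot, LinearMap.ker_eq_bot']
    intro f hf
    have h1 : π f = 0 := hu (by simpa [u'] using congrArg Prod.fst hf)
    simpa [u', h1] using congrArg Prod.snd hf
  -- every tensor is supported on a finite set
  have hsupp : ∀ z : (N →₀ R) ⊗[R] Q, ∃ T : Finset N, ∀ T' : Finset N, T ⊆ T' →
      (∑ i ∈ T', Finsupp.lsingle i ∘ₗ Finsupp.lapply i : (N →₀ R) →ₗ[R] (N →₀ R)).rTensor Q z
        = z := by
    intro z
    induction z using TensorProduct.induction_on with
    | zero => exact ⟨∅, fun T' _ => map_zero _⟩
    | tmul f q =>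
      refine ⟨f.support, fun T' hT' => ?_⟩
      rw [rTensor_tmul]
      congr 1
      ext i
      simp only [LinearMap.sum_apply, LinearMap.comp_apply, Finsupp.lapply_apply,
        Finsupp.lsingle_apply, Finsupp.finsetSum_apply, Finsupp.single_apply]
      rw [Finset.sum_ite_eq']
      split
      · rfl
      · rename_i hi
        exact (Finsupp.notMem_support_iff.1 fun h => hi (hT' h)).symm
    | add x y hx hy =>
      obtain ⟨Tx, hx⟩ := hx
      obtain ⟨Ty, hy⟩ := hy
      exact ⟨Tx ∪ Ty, fun T' hT' => by
        rw [map_add, hx T' (Finset.union_subset_left hT'), hy T' (Finset.union_subset_right hT')]⟩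
  have hfree : Function.Injective (u'.rTensor Q) := by
    rw [injective_iff_map_eq_zero]
    intro z hz
    obtain ⟨T, hT⟩ := hsupp z
    let j : (T → R) →ₗ[R] (N →₀ R) := ∑ i : T, Finsupp.lsingle i.1 ∘ₗ LinearMap.proj i
    let p : (N →₀ R) →ₗ[R] (T → R) := LinearMap.pi fun i => Finsupp.lapply i.1
    have hjp : j ∘ₗ p = ∑ i ∈ T, Finsupp.lsingle i ∘ₗ Finsupp.lapply i := by
      rw [← Finset.sum_coe_sort]
      refine LinearMap.ext fun f => ?_
      simp [j, p]
    have hj : Function.Injective j := by
      intro a b hab
      funext i
      have := DFunLike.congr_fun hab i.1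
      simpa [j, Finsupp.single_apply, Subtype.coe_inj] using this
    obtain ⟨v, hv⟩ := exists_retraction hP (u' ∘ₗ j) (hu'.comp hj)
    have hz' := hT T subset_rfl
    rw [← hjp, rTensor_comp_apply] at hz'
    have h0 : p.rTensor Q z = 0 := by
      have h1 : (u' ∘ₗ j).rTensor Q (p.rTensor Q z) = 0 := by rw [rTensor_comp_apply, hz', hz]
      have h2 := congrArg (v.rTensor Q) h1
      rwa [← rTensor_comp_apply, hv, rTensor_id, LinearMap.id_apply, map_zero] at h2
    rw [← hz', h0, map_zero]
  rw [injective_iff_map_eq_zero]
  intro z hz
  have hcomm : u' ∘ₗ s = LinearMap.inl R M (N →₀ R) ∘ₗ u := by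
    ext n <;> simp [u', hπs']
  have h1 : s.rTensor Q z = 0 := by
    apply hfree
    rw [← rTensor_comp_apply, hcomm, rTensor_comp_apply, hz, map_zero, map_zero]
  have h2 := congrArg (π.rTensor Q) h1
  rwa [← rTensor_comp_apply, show π ∘ₗ s = LinearMap.id from hs, rTensor_id, LinearMap.id_apply,
    map_zero] at h2

end Groth.L03.PropP
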