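import Groth.Agent.L00.RankSemi
import Groth.Agent.L02.FlatDVR
import Mathlib.RingTheory.Flat.EquationalCriterion
import Mathlib.RingTheory.Flat.Localization
import Mathlib.RingTheory.TensorProduct.Quotient
import Mathlib.Topology.LocallyConstant.Basic
import Mathlib.LinearAlgebra.FreeModule.StrongRankCondition

/-!
Finitely presented modules with locally constant fibre dimension over a reduced ring are projective;
homology of complexes of finite projective modules with locally constant Betti number.
-/

universe u

open TensorProduct Groth.L00.RankSemi Groth.L02.FlatDVR Filter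

namespace Groth.L03.ReducedRank

/-- locally constant fibre dimension, finitely presented, reduced base: projective -/
theorem projective_of_locallyConstant {A : Type u} [CommRing A] [IsReduced A] (M : Type u) [AddCommGroup M]
    [Module A M] [Module.FinitePresentation A M]
    (h : IsLocallyConstant fun p : PrimeSpectrum A =>
      Module.finrank p.asIdeal.ResidueField (p.asIdeal.ResidueField ⊗[A] M)) :
    Module.Projective A M := by
  have : Module.Flat A M := by
    refine Module.flat_of_localized_maximal M fun P _ => ?_
    let T := Localization.AtPrime P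
    have : IsReduced T := isReduced_localizationPreserves P.primeCompl T inferInstance
    have hpt : ∀ (Q : Ideal T) [Q.IsPrime], dimAt (A := T) (T ⊗[A] M) Q.ResidueField =
        dimAt M (Q.comap (algebraMap A T)).ResidueField (A := A) := fun Q _ => by
      let f := Ideal.ResidueField.mapₐ (Q.comap (algebraMap A T)) Q (Algebra.ofId A T) rfl
      letI := f.toRingHom.toAlgebra
      have : IsScalarTower A (Q.comap (algebraMap A T)).ResidueField Q.ResidueField :=
        .of_algebraMap_eq fun a => (f.commutes a).symm
      rw [dimAt_baseChange, dimAt_tower M (Q.comap (algebraMap A T)).ResidueField Q.ResidueField]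
    have hc : ∀ (Q : Ideal T) [Q.IsPrime], dimAt (A := T) (T ⊗[A] M) Q.ResidueField =
        dimAt M P.ResidueField (A := A) := fun Q _ => by
      rw [hpt Q]
      have hle : Q.comap (algebraMap A T) ≤ P := by
        intro a ha
        by_contra haP
        exact Ideal.IsPrime.ne_top ‹Q.IsPrime›
          (Ideal.eq_top_of_isUnit_mem Q ha (IsLocalization.map_units T (⟨a, haP⟩ : P.primeCompl)))
      have hs : (⟨Q.comap (algebraMap A T), inferInstance⟩ : PrimeSpectrum A) ⤳ ⟨P, inferInstance⟩ :=
        (PrimeSpectrum.le_iff_specializes _ _).mp hle
      have := hs.mem_open (h.isOpen_fiber (Module.finrank P.ResidueField (P.ResidueField ⊗[A] M))) rfl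
      exact this
    have : Module.Free T (T ⊗[A] M) := free_of_dimAt_eq _ fun q _ => by
      rw [hc q, ← hc (IsLocalRing.maximalIdeal T)]
      letI : Algebra (IsLocalRing.ResidueField T) (IsLocalRing.maximalIdeal T).ResidueField :=
        (algebraMap (T ⧸ IsLocalRing.maximalIdeal T) (IsLocalRing.maximalIdeal T).ResidueField).toAlgebra
      haveI : IsScalarTower T (IsLocalRing.ResidueField T) (IsLocalRing.maximalIdeal T).ResidueField :=
        .of_algebraMap_eq fun _ => rfl
      exact dimAt_tower (T ⊗[A] M) _ _
    have : Module.Flat A T := IsLocalization.flat T P.primeCompl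
    have : Module.Flat A (T ⊗[A] M) := Module.Flat.trans A T _
    exact Module.Flat.of_linearEquiv
      ((LocalizedModule.equivTensorProduct P.primeCompl M).restrictScalars A)
  exact Module.Flat.projective_of_finitePresentation

variable {A : Type u} [CommRing A]

/-- fibre dimension of a cokernel -/
theorem finrank_coker_add {X Y : Type u} [AddCommGroup X] [AddCommGroup Y] [Module A X] [Module A Y]
    [Module.Finite A Y] (f : X →ₗ[A] Y) (p : PrimeSpectrum A) :
    Module.finrank p.asIdeal.ResidueField (p.asIdeal.ResidueField ⊗[A] (Y ⧸ LinearMap.range f)) + rkAt f p =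
      Module.finrank p.asIdeal.ResidueField (p.asIdeal.ResidueField ⊗[A] Y) := by
  let K := p.asIdeal.ResidueField
  have hs : Function.Surjective ((LinearMap.range f).mkQ.baseChange K) :=
    LinearMap.lTensor_surjective K (Submodule.mkQ_surjective _)
  have hker : LinearMap.ker ((LinearMap.range f).mkQ.baseChange K) = LinearMap.range (f.baseChange K) := by
    ext z
    exact lTensor_exact K (LinearMap.exact_map_mkQ_range f) (Submodule.mkQ_surjective _) z
  have := ((LinearMap.range f).mkQ.baseChange K).finrank_range_add_finrank_ker
  rwa [LinearMap.range_eq_top.2 hs, finrank_top, hker] at this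

/-- two lower semicontinuous functions with locally constant sum -/
theorem locallyConstant_of_add {T : Type*} [TopologicalSpace T] {r₀ r₁ : T → ℕ}
    (h₀ : ∀ x, ∀ᶠ y in nhds x, r₀ x ≤ r₀ y) (h₁ : ∀ x, ∀ᶠ y in nhds x, r₁ x ≤ r₁ y)
    (h : IsLocallyConstant fun x => r₀ x + r₁ x) : IsLocallyConstant r₀ ∧ IsLocallyConstant r₁ := by
  constructor <;>
  · refine (IsLocallyConstant.iff_eventually_eq _).mpr fun x => ?_
    filter_upwards [h₀ x, h₁ x, (IsLocallyConstant.iff_eventually_eq _).mp h x] with y a b c
    omega

/-- homology of finite projective modules with locally constant Betti number -/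
theorem finite_projective_homology [IsReduced A] {X Y Z : Type u} [AddCommGroup X] [AddCommGroup Y] [AddCommGroup Z]
    [Module A X] [Module A Y] [Module A Z] [Module.Finite A X] [Module.Finite A Y] [Module.Finite A Z]
    [Module.Projective A X] [Module.Projective A Y] [Module.Projective A Z]
    (f : X →ₗ[A] Y) (g : Y →ₗ[A] Z) (hgf : g.comp f = 0)
    (hY : IsLocallyConstant fun p : PrimeSpectrum A =>
      Module.finrank p.asIdeal.ResidueField (p.asIdeal.ResidueField ⊗[A] Y))
    (hZ : IsLocallyConstant fun p : PrimeSpectrum A =>
      Module.finrank p.asIdeal.ResidueField (p.asIdeal.ResidueField ⊗[A] Z))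
    (h : IsLocallyConstant fun p : PrimeSpectrum A => rkAt f p + rkAt g p) :
    Module.Finite A (LinearMap.ker g ⧸ (LinearMap.range f).submoduleOf (LinearMap.ker g)) ∧
      Module.Projective A (LinearMap.ker g ⧸ (LinearMap.range f).submoduleOf (LinearMap.ker g)) := by
  obtain ⟨hf', hg'⟩ := locallyConstant_of_add (le_rkAt_eventually f) (le_rkAt_eventually g) h
  haveI : Module.FinitePresentation A Y := Module.finitePresentation_of_projective A Y
  haveI : Module.FinitePresentation A Z := Module.finitePresentation_of_projective A Z
  have hfY : (LinearMap.range f).FG := Module.Finite.iff_fg.mp inferInstance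
  have hgZ : (LinearMap.range g).FG := Module.Finite.iff_fg.mp inferInstance
  haveI : Module.FinitePresentation A (Y ⧸ LinearMap.range f) :=
    Module.finitePresentation_of_surjective _ (Submodule.mkQ_surjective _) (by rwa [Submodule.ker_mkQ])
  haveI : Module.FinitePresentation A (Z ⧸ LinearMap.range g) :=
    Module.finitePresentation_of_surjective _ (Submodule.mkQ_surjective _) (by rwa [Submodule.ker_mkQ])
  haveI : Module.Projective A (Y ⧸ LinearMap.range f) := projective_of_locallyConstant _ (by
    refine (IsLocallyConstant.iff_eventually_eq _).mpr fun p => ?_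
    filter_upwards [(IsLocallyConstant.iff_eventually_eq _).mp hY p,
      (IsLocallyConstant.iff_eventually_eq _).mp hf' p] with q a b
    have := finrank_coker_add f p; have := finrank_coker_add f q; omega)
  haveI : Module.Projective A (Z ⧸ LinearMap.range g) := projective_of_locallyConstant _ (by
    refine (IsLocallyConstant.iff_eventually_eq _).mpr fun p => ?_
    filter_upwards [(IsLocallyConstant.iff_eventually_eq _).mp hZ p,
      (IsLocallyConstant.iff_eventually_eq _).mp hg' p] with q a b
    have := finrank_coker_add g p; have := finrank_coker_add g q; omega)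
  -- the range of `g` is a direct summand
  obtain ⟨t, ht⟩ := Module.projective_lifting_property (LinearMap.range g).mkQ LinearMap.id
    (Submodule.mkQ_surjective _)
  haveI : Module.Projective A (LinearMap.range g) := by
    refine Module.Projective.of_split (LinearMap.range g).subtype
      ((LinearMap.id - t.comp (LinearMap.range g).mkQ).codRestrict (LinearMap.range g) fun z => ?_) ?_
    · ext z
      simp [(Submodule.Quotient.mk_eq_zero (LinearMap.range g)).mpr z.2]
    · rw [← Submodule.Quotient.mk_eq_zero]
      have := LinearMap.congr_fun ht (Submodule.Quotient.mk z)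
      simp at this
      simp [this]
  have hle : LinearMap.range f ≤ LinearMap.ker g := LinearMap.range_le_ker_iff.2 hgf
  have hle' : LinearMap.range f ≤ LinearMap.ker g.rangeRestrict := by rwa [LinearMap.ker_rangeRestrict]
  let φ : (Y ⧸ LinearMap.range f) →ₗ[A] LinearMap.range g := (LinearMap.range f).liftQ g.rangeRestrict hle'
  have hφ : Function.Surjective φ := by
    intro z
    obtain ⟨y, hy⟩ := g.surjective_rangeRestrict z
    exact ⟨Submodule.Quotient.mk y, hy⟩
  obtain ⟨s, hs⟩ := Module.projective_lifting_property φ LinearMap.id hφ
  have hs' : ∀ z, φ (s z) = z := fun z => LinearMap.congr_fun hs z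
  let π : (Y ⧸ LinearMap.range f) →ₗ[A] LinearMap.ker φ :=
    (LinearMap.id - s.comp φ).codRestrict _ fun z => by simp [hs']
  have hπ : π.comp (LinearMap.ker φ).subtype = LinearMap.id := by
    ext z
    simp [π, LinearMap.mem_ker.mp z.2]
  haveI : Module.Projective A (LinearMap.ker φ) := Module.Projective.of_split _ π hπ
  haveI : Module.Finite A (LinearMap.ker φ) := Module.Finite.of_surjective π fun z =>
    ⟨z, LinearMap.congr_fun hπ z⟩
  let ι : LinearMap.ker g →ₗ[A] LinearMap.ker φ :=
    ((LinearMap.range f).mkQ.comp (LinearMap.ker g).subtype).codRestrict _ fun z => by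
      refine LinearMap.mem_ker.mpr (Subtype.ext ?_)
      simp [φ, LinearMap.mem_ker.mp z.2]
  have hι : Function.Surjective ι := by
    rintro ⟨z, hz⟩
    obtain ⟨y, rfl⟩ := Submodule.mkQ_surjective _ z
    exact ⟨⟨y, congrArg Subtype.val (LinearMap.mem_ker.mp hz)⟩, rfl⟩
  have hker : LinearMap.ker ι = (LinearMap.range f).submoduleOf (LinearMap.ker g) := by
    rw [LinearMap.ker_codRestrict, LinearMap.ker_comp, Submodule.ker_mkQ]
    rfl
  let e := (Submodule.quotEquivOfEq _ _ hker).symm.trans (ι.quotKerEquivOfSurjective hι)
  exact ⟨Module.Finite.equiv e.symm, Module.Projective.of_equiv e.symm⟩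

end Groth.L03.ReducedRank
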