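import Groth.Agent.L03.Reflexive
import Groth.Agent.L04.RegularPd
import Mathlib.RingTheory.LocalRing.Module
import Mathlib.RingTheory.UniqueFactorizationDomain.Defs
import Mathlib.RingTheory.UniqueFactorizationDomain.Basic

/-!
Reflexive modules over regular local rings of dimension at most two and over factorial domains.
-/

set_option autoImplicit false

universe u

open CategoryTheory

namespace Groth.L03.RefRegAlg

/-- A reflexive module over a regular local ring of dimension at most two is free. -/
theorem free_of_isReflexive {R : Type u} [CommRing R] [IsDomain R] [IsRegularLocalRing R]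
    (hd : ringKrullDim R ≤ (2 : ℕ)) (M : Type u) [AddCommGroup M] [Module R M] [Module.Finite R M]
    [Module.IsReflexive R M] : Module.Free R M := by
  obtain ⟨n, k, f, g, hf, hfg⟩ := Groth.L03.Reflexive.exists_exact (R := R) M
  obtain ⟨d, hdR⟩ : ∃ d : ℕ, ringKrullDim R = d := Groth.L01.exists_dim_eq_nat
  have hd2 : d ≤ 2 := by rw [hdR] at hd; exact_mod_cast hd
  let I := LinearMap.range g
  have hS2 := Groth.L04.shortExact_mk (N' := I) (N := Fin k → R) (N'' := (Fin k → R) ⧸ I)
    (Submodule.injective_subtype I) (Submodule.mkQ_surjective I) (LinearMap.exact_subtype_mkQ I)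
  have hQ : HasProjectiveDimensionLT (ModuleCat.of R ((Fin k → R) ⧸ I)) (2 + 1) := by
    haveI : HasProjectiveDimensionLE (ModuleCat.of R ((Fin k → R) ⧸ I)) d :=
      Groth.L04.hasProjectiveDimensionLE_of_regularLocal hdR _
    exact hasProjectiveDimensionLT_of_ge _ (d + 1) _ (by omega)
  have hfree : ∀ m e : ℕ, 1 ≤ e → HasProjectiveDimensionLT (ModuleCat.of R (Fin m → R)) e := fun m e he => by
    haveI : Projective (ModuleCat.of R (Fin m → R)) :=
      (IsProjective.iff_projective (R := R) (Fin m → R)).1 inferInstance
    exact hasProjectiveDimensionLT_of_ge _ 1 _ he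
  have hI : HasProjectiveDimensionLT (ModuleCat.of R I) 2 :=
    hS2.hasProjectiveDimensionLT_X₁ (n := 2) (hfree k 2 (by omega)) hQ
  have hS1 := Groth.L04.shortExact_mk (N' := M) (N := Fin n → R) (N'' := I) hf g.surjective_rangeRestrict
    (fun v => by rw [← hfg v]; exact ⟨fun h => congrArg Subtype.val h, fun h => Subtype.ext h⟩)
  haveI : HasProjectiveDimensionLT (ModuleCat.of R M) 1 :=
    hS1.hasProjectiveDimensionLT_X₁ (n := 1) (hfree n 1 le_rfl) hI
  haveI : Projective (ModuleCat.of R M) := projective_iff_hasProjectiveDimensionLT_one.2 inferInstance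
  haveI : Module.Projective R M := (IsProjective.iff_projective (R := R) M).2 inferInstance
  haveI : Module.FinitePresentation R M := Module.finitePresentation_of_finite R M
  exact Module.free_of_flat_of_isLocalRing

/-- A nonzero reflexive module embedded in a factorial domain is free of rank one. -/
theorem nonempty_equiv_of_embedding {R : Type u} [CommRing R] [IsDomain R] [IsNoetherianRing R]
    [UniqueFactorizationMonoid R] (M : Type u) [AddCommGroup M] [Module R M] [Module.Finite R M]
    [Module.IsReflexive R M] [Nontrivial M] (j : M →ₗ[R] R) (hj : Function.Injective j) :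
    Nonempty (R ≃ₗ[R] M) := by
  classical
  letI : NormalizationMonoid R := Nonempty.some inferInstance
  letI : GCDMonoid R := UniqueFactorizationMonoid.toGCDMonoid R
  obtain ⟨G, hG⟩ := Module.Finite.fg_top (R := R) (M := M)
  obtain ⟨m₀, hm₀, hj₀⟩ : ∃ m₀ ∈ G, j m₀ ≠ 0 := by
    by_contra! h
    obtain ⟨v, hv⟩ := exists_ne (0 : M)
    refine hv (hj ?_)
    rw [map_zero]
    have : (⊤ : Submodule R M) ≤ LinearMap.ker j := by rw [← hG, Submodule.span_le]; exact h
    exact this Submodule.mem_top
  letI : NormalizedGCDMonoid R := Nonempty.some inferInstance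
  obtain ⟨g, hgdef⟩ : ∃ g, g = G.gcd fun m => j m := ⟨_, rfl⟩
  have hg0 : g ≠ 0 := fun e => hj₀ (Finset.gcd_eq_zero_iff.1 (hgdef.symm.trans e) m₀ hm₀)
  -- every functional is a multiple of `j / g`
  have hdiv : ∀ v, g ∣ j v := by
    intro v
    have hmem : v ∈ Submodule.span R (G : Set M) := by rw [hG]; trivial
    induction hmem using Submodule.span_induction with
    | mem m hm => rw [hgdef]; exact Finset.gcd_dvd (f := fun m => j m) hm
    | zero => rw [map_zero]; exact dvd_zero g
    | add x y _ _ hx hy => rw [map_add]; exact dvd_add hx hy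
    | smul r x _ hx => rw [map_smul, smul_eq_mul]; exact hx.mul_left r
  choose a ha using hdiv
  let ψ : Module.Dual R M :=
    { toFun := a
      map_add' := fun v w => mul_left_cancel₀ hg0 (by rw [mul_add, ← ha, ← ha, ← ha, map_add])
      map_smul' := fun r v => mul_left_cancel₀ hg0 (by
        rw [RingHom.id_apply, smul_eq_mul, ← ha, mul_left_comm, ← ha, map_smul, smul_eq_mul]) }
  let L : R →ₗ[R] Module.Dual R M := LinearMap.toSpanSingleton R _ ψ
  have hL : Function.Bijective L := by
    constructor
    · refine (injective_iff_map_eq_zero L).2 fun r hr => ?_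
      have h1 : r * a m₀ = 0 := LinearMap.congr_fun hr m₀
      refine (mul_eq_zero.1 h1).resolve_right fun e => hj₀ ?_
      rw [ha m₀, e, mul_zero]
    · intro φ
      -- `φ m₀ * a v = a m₀ * φ v`
      have hsym : ∀ v, φ m₀ * a v = a m₀ * φ v := by
        intro v
        refine mul_left_cancel₀ hg0 ?_
        rw [mul_left_comm, ← ha, ← mul_assoc, ← ha]
        have e : j (j v • m₀) = j (j m₀ • v) := by rw [map_smul, map_smul, smul_eq_mul, smul_eq_mul, mul_comm]
        have := congrArg φ (hj e)
        rw [map_smul, map_smul, smul_eq_mul, smul_eq_mul] at this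
        rw [← this, mul_comm]
      have hgcd : IsUnit (G.gcd fun m => a m) := by
        have h1 : Associated g (g * G.gcd fun m => a m) := by
          refine Associated.trans (Associated.of_eq (hgdef.trans (Finset.gcd_congr rfl fun m _ => ha m))) ?_
          exact Finset.gcd_mul_left' G (fun m => a m) g
        exact isUnit_of_associated_mul h1.symm hg0
      have hdvd : a m₀ ∣ φ m₀ := by
        have h1 : a m₀ ∣ G.gcd fun m => φ m₀ * a m := Finset.dvd_gcd fun m _ => ⟨φ m, hsym m⟩
        have h2 := (Finset.gcd_mul_left' G (fun m => a m) (φ m₀)).dvd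
        exact (hgcd.dvd_mul_right).1 (h1.trans h2)
      obtain ⟨r, hr⟩ := hdvd
      refine ⟨r, LinearMap.ext fun v => mul_left_cancel₀ (fun e : a m₀ = 0 => hj₀ (by rw [ha m₀, e, mul_zero])) ?_⟩
      rw [← hsym v, hr, mul_assoc]
      rfl
  let e : R ≃ₗ[R] Module.Dual R M := LinearEquiv.ofBijective L hL
  exact ⟨(LinearMap.ringLmapEquivSelf R R R).symm ≪≫ₗ e.symm.dualMap ≪≫ₗ (Module.evalEquiv R M).symm⟩

end Groth.L03.RefRegAlg
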