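import Mathlib.RingTheory.Ideal.GoingUp
import Mathlib.RingTheory.KrullDimension.Basic
import Mathlib.RingTheory.RegularLocalRing.Defs

/-!
Regular local rings finite over a regular local ring.
-/

set_option autoImplicit false
universe u

namespace Groth.L03.RegularFiniteExt

/-- integral injective extensions preserve dimension -/
theorem ringKrullDim_eq_of_integral {A B : Type u} [CommRing A] [CommRing B] [Algebra A B] [Algebra.IsIntegral A B]
    (hinj : Function.Injective (algebraMap A B)) : ringKrullDim A = ringKrullDim B := by
  refine le_antisymm ?_ (Order.krullDim_le_of_strictMono (PrimeSpectrum.comap (algebraMap A B)) fun P Q hPQ => ?_)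
  · refine iSup_le fun s => ?_
    have H : ∀ P : PrimeSpectrum B, PrimeSpectrum.comap (algebraMap A B) P = s.head →
        ∃ t : LTSeries (PrimeSpectrum B), t.head = P ∧ t.length = s.length := by
      induction s using RelSeries.inductionOn with
      | singleton x => exact fun P _ => ⟨RelSeries.singleton _ P, rfl, rfl⟩
      | cons p x hx ih =>
        intro P hP
        rw [RelSeries.head_cons] at hP
        have hlt : x < p.head := hx
        obtain ⟨Q, hQ, hQp, hQc⟩ := Ideal.exists_ideal_over_prime_of_isIntegral p.head.asIdeal P.asIdeal (by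
          rw [← PrimeSpectrum.comap_asIdeal, hP]; exact hlt.le)
        obtain ⟨t, ht, htl⟩ := ih ⟨Q, hQp⟩ (PrimeSpectrum.ext hQc)
        have hPt : P < t.head := by
          rw [ht]
          refine lt_of_le_of_ne hQ fun e => hlt.ne ?_
          rw [← hP, e]
          exact PrimeSpectrum.ext hQc
        exact ⟨t.cons P hPt, RelSeries.head_cons _ _ _, by simp [htl]⟩
    obtain ⟨Q, -, hQp, hQc⟩ := Ideal.exists_ideal_over_prime_of_isIntegral s.head.asIdeal (⊥ : Ideal B) (by
      rw [← RingHom.ker_eq_comap_bot, (RingHom.injective_iff_ker_eq_bot _).1 hinj]; exact bot_le)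
    obtain ⟨t, -, ht⟩ := H ⟨Q, hQp⟩ (PrimeSpectrum.ext hQc)
    rw [← ht]
    exact Order.LTSeries.length_le_krullDim t
  · haveI := P.isPrime
    exact Ideal.IsIntegral.comap_lt_comap (A := B) hPQ

end Groth.L03.RegularFiniteExt
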