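import Groth.Agent.L20.LocalCriterion
import Mathlib.RingTheory.Regular.RegularSequence
import Mathlib.RingTheory.Regular.Flat

/-!
Flatness over a Noetherian local ring tested modulo an ideal generated by a regular sequence on the module.
-/

set_option autoImplicit false
set_option linter.unusedSectionVars false
universe u

open TensorProduct RingTheory.Sequence
open scoped Pointwise

namespace Groth.L03.RegularFlatCrit

variable {A : Type u} [CommRing A] {M : Type u} [AddCommGroup M] [Module A M]

/-- The multiplication map `M ⊗ I → M`. -/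
noncomputable def mult (M : Type u) [AddCommGroup M] [Module A M] (I : Ideal A) : M ⊗[A] I →ₗ[A] M :=
  (TensorProduct.rid A M).toLinearMap ∘ₗ I.subtype.lTensor M

theorem mult_tmul (I : Ideal A) (m : M) (a : I) : mult M I (m ⊗ₜ a) = (a : A) • m := by
  simp [mult]

theorem mult_mem (I : Ideal A) (w : M ⊗[A] I) : mult M I w ∈ I • (⊤ : Submodule A M) := by
  induction w using TensorProduct.induction_on with
  | zero => simp
  | add a b ha hb => rw [map_add]; exact add_mem ha hb
  | tmul m a => rw [mult_tmul]; exact Submodule.smul_mem_smul a.2 trivial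

theorem exists_mult_eq {I : Ideal A} {m : M} (hm : m ∈ I • (⊤ : Submodule A M)) :
    ∃ w : M ⊗[A] I, mult M I w = m := by
  refine Submodule.smul_induction_on (p := fun v => ∃ w : M ⊗[A] I, mult M I w = v) hm
    (fun r hr v _ => ⟨v ⊗ₜ ⟨r, hr⟩, mult_tmul I v ⟨r, hr⟩⟩) fun u v hu hv => ?_
  obtain ⟨a, rfl⟩ := hu
  obtain ⟨b, rfl⟩ := hv
  exact ⟨a + b, map_add _ a b⟩

/-- An `M`-regular sequence makes `(rs) ⊗ M → M` injective. -/
theorem injective_lTensor_ofList (rs : List A) (h : IsWeaklyRegular M rs) :
    Function.Injective ((Ideal.ofList rs).subtype.lTensor M) := by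
  suffices hs : Function.Injective (mult M (Ideal.ofList rs)) by
    intro a b hab
    exact hs (congrArg (TensorProduct.rid A M) hab)
  induction rs using List.reverseRecOn with
  | nil =>
    haveI : Subsingleton ↥(Ideal.ofList ([] : List A)) := by
      rw [Ideal.ofList_nil]; infer_instance
    haveI : Subsingleton (M ⊗[A] ↥(Ideal.ofList ([] : List A))) := inferInstance
    exact fun a b _ => Subsingleton.elim a b
  | append_singleton t x ih =>
    obtain ⟨ht, hx⟩ := (isWeaklyRegular_append_iff _ _ _).mp h
    have hx' : IsSMulRegular (M ⧸ (Ideal.ofList t • (⊤ : Submodule A M))) x :=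
      ((isWeaklyRegular_cons_iff _ x []).mp hx).1
    have hle : Ideal.ofList t ≤ Ideal.ofList (t ++ [x]) := by
      rw [Ideal.ofList_append]; exact le_sup_left
    have hxmem : x ∈ Ideal.ofList (t ++ [x]) := Ideal.subset_span (by simp)
    let x' : Ideal.ofList (t ++ [x]) := ⟨x, hxmem⟩
    let ι := (Submodule.inclusion hle).lTensor M
    have hdec : ∀ z : M ⊗[A] Ideal.ofList (t ++ [x]), ∃ w m, z = ι w + m ⊗ₜ[A] x' := by
      intro z
      induction z using TensorProduct.induction_on with
      | zero => exact ⟨0, 0, by simp⟩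
      | add a b ha hb =>
        obtain ⟨w, m, rfl⟩ := ha
        obtain ⟨w', m', rfl⟩ := hb
        exact ⟨w + w', m + m', by rw [map_add, TensorProduct.add_tmul]; abel⟩
      | tmul m y =>
        obtain ⟨y, hy⟩ := y
        have hy' : y ∈ Ideal.ofList t ⊔ Ideal.span {x} := by
          rw [Ideal.ofList_append, Ideal.ofList_singleton] at hy; exact hy
        obtain ⟨a, ha, b, hb, rfl⟩ := Submodule.mem_sup.mp hy'
        obtain ⟨c, rfl⟩ := Ideal.mem_span_singleton'.mp hb
        refine ⟨m ⊗ₜ ⟨a, ha⟩, c • m, ?_⟩
        rw [LinearMap.lTensor_tmul, TensorProduct.smul_tmul, ← TensorProduct.tmul_add]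
        rfl
    have hι : ∀ w, mult M _ (ι w) = mult M _ w := fun w => by
      induction w using TensorProduct.induction_on with
      | zero => simp
      | add a b ha hb => rw [map_add, map_add, ha, hb, map_add]
      | tmul m a => rw [LinearMap.lTensor_tmul, mult_tmul, mult_tmul]; rfl
    refine (injective_iff_map_eq_zero _).mpr fun z hz => ?_
    obtain ⟨w, m, rfl⟩ := hdec z
    rw [map_add, hι, mult_tmul] at hz
    have hmem : m ∈ Ideal.ofList t • (⊤ : Submodule A M) := by
      refine (Submodule.Quotient.mk_eq_zero _).mp (hx'.right_eq_zero_of_smul ?_)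
      rw [← Submodule.Quotient.mk_smul, Submodule.Quotient.mk_eq_zero]
      rw [show x • m = -mult M _ w from eq_neg_of_add_eq_zero_right hz]
      exact neg_mem (mult_mem _ w)
    obtain ⟨v, rfl⟩ := exists_mult_eq hmem
    have hw : w = -(x • v) := eq_neg_of_add_eq_zero_left (ih ht (by
      rw [map_add, map_smul, map_zero]; exact hz))
    have hv : mult M _ v ⊗ₜ[A] x' = x • ι v := by
      clear hw hz hmem
      induction v using TensorProduct.induction_on with
      | zero => simp
      | add a b ha hb => rw [map_add, TensorProduct.add_tmul, ha, hb, map_add, smul_add]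
      | tmul n a =>
        rw [mult_tmul, LinearMap.lTensor_tmul, TensorProduct.smul_tmul, ← TensorProduct.tmul_smul]
        congr 1
        exact Subtype.ext (mul_comm _ _)
    rw [hw, map_neg, map_smul, hv, neg_add_cancel]

variable (M)

/-- `(A/J) ⊗ M ≅ M/JM` over `A/J`. -/
noncomputable def quotEquiv (J : Ideal A) :
    (A ⧸ J) ⊗[A] M ≃ₗ[A ⧸ J] M ⧸ (J • (⊤ : Submodule A M)) :=
  (quotTensorEquivQuotSMul M J).extendScalarsOfSurjective Ideal.Quotient.mk_surjective

theorem flat_quotient_of_flat [Module.Flat A M] (J : Ideal A) :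
    Module.Flat (A ⧸ J) (M ⧸ (J • (⊤ : Submodule A M))) :=
  Module.Flat.of_linearEquiv (quotEquiv M J).symm

variable (B : Type u) [CommRing B] [IsLocalRing A] [IsNoetherianRing A] [IsLocalRing B] [IsNoetherianRing B]
  [Algebra A B] [IsLocalHom (algebraMap A B)] [Module B M] [IsScalarTower A B M] [Module.Finite B M]

include B in
/-- Flat modulo an ideal generated by an `M`-regular sequence implies flat. -/
theorem flat_of_flat_quotient (rs : List A) (hI : ∀ r ∈ rs, r ∈ IsLocalRing.maximalIdeal A)
    (h : IsWeaklyRegular M rs)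
    (hflat : Module.Flat (A ⧸ Ideal.ofList rs) (M ⧸ (Ideal.ofList rs • (⊤ : Submodule A M)))) :
    Module.Flat A M := by
  haveI : Module.Flat (A ⧸ Ideal.ofList rs) ((A ⧸ Ideal.ofList rs) ⊗[A] M) :=
    Module.Flat.of_linearEquiv (quotEquiv M (Ideal.ofList rs))
  refine Groth.L20.flat_of_lTensor_injective_of_flat_quotient (M := M) B (Ideal.ofList rs) ?_
    (injective_lTensor_ofList rs h)
  exact ne_top_of_le_ne_top (IsLocalRing.maximalIdeal.isMaximal A).ne_top (Ideal.span_le.mpr hI)

end Groth.L03.RegularFlatCrit
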