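import Mathlib.RingTheory.Finiteness.ModuleFinitePresentation
import Mathlib.RingTheory.LocalProperties.FinitePresentation
import Mathlib.RingTheory.FinitePresentation
import Mathlib.RingTheory.Localization.Away.Basic
import Mathlib.Algebra.Module.LocalizedModule.Away
import Mathlib.RingTheory.TensorProduct.Basic

/-!
# Relative finite presentation of modules

`FPVia φ M`: the `B`-module `M` is finitely presented over `P` through `φ : P →+* B`.
-/

universe u v w

namespace Groth.L03.RelFP

open TensorProduct

/-- `M` is finitely presented over `P` through `φ`. -/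
def FPVia {P : Type*} {B : Type*} [CommRing P] [CommRing B] (φ : P →+* B) (M : Type*)
    [AddCommGroup M] [Module B M] : Prop :=
  @Module.FinitePresentation P M _ _ (Module.compHom M φ)

variable {P Q B : Type*} [CommRing P] [CommRing Q] [CommRing B]
variable {M : Type*} [AddCommGroup M] [Module B M]

theorem fpVia_iff [Module P M] (φ : P →+* B) (h : ∀ (p : P) (m : M), p • m = φ p • m) :
    FPVia φ M ↔ Module.FinitePresentation P M := by
  have : (inferInstance : Module P M) = Module.compHom M φ := Module.ext' _ _ h
  unfold FPVia
  rw [← this]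

theorem fpVia_id : FPVia (RingHom.id B) M ↔ Module.FinitePresentation B M :=
  fpVia_iff _ fun _ _ => rfl

/-- A module finitely presented over a ring is so over any finite algebra acting on it. -/
theorem fp_of_tower [Algebra P Q] [Module Q M] [Module P M] [IsScalarTower P Q M]
    [Module.Finite P Q] [Module.FinitePresentation P M] : Module.FinitePresentation Q M := by
  have : Module.Finite Q M := Module.Finite.of_restrictScalars_finite P Q M
  obtain ⟨n, f, hf⟩ := Module.Finite.exists_fin' Q M
  refine Module.finitePresentation_of_surjective f hf (Submodule.FG.of_restrictScalars P ?_)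
  have := Module.FinitePresentation.fg_ker (f.restrictScalars P) hf
  rwa [LinearMap.ker_restrictScalars] at this

theorem fpVia_of_comp (φ : P →+* Q) (ψ : Q →+* B) (hφ : φ.Finite) (h : FPVia (ψ.comp φ) M) :
    FPVia ψ M := by
  let _ : Algebra P Q := φ.toAlgebra
  let _ : Module Q M := Module.compHom M ψ
  let _ : Module P M := Module.compHom M (ψ.comp φ)
  have : IsScalarTower P Q M := ⟨fun p q m => by
    show ψ (φ p * q) • m = ψ (φ p) • ψ q • m
    rw [map_mul, mul_smul]⟩
  have : Module.Finite P Q := hφ
  have : Module.FinitePresentation P M := h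
  exact fp_of_tower (P := P)

theorem fpVia_comp_iff {R : Type*} [CommRing R] [Algebra R P] [Algebra R Q]
    [Algebra.FinitePresentation R P] [Algebra.FinitePresentation R Q]
    (φ : P →ₐ[R] Q) (hφ : φ.toRingHom.Finite) (ψ : Q →+* B) :
    FPVia (ψ.comp φ.toRingHom) M ↔ FPVia ψ M := by
  refine ⟨fpVia_of_comp _ _ hφ, fun h => ?_⟩
  let _ : Algebra P Q := φ.toRingHom.toAlgebra
  have : IsScalarTower R P Q := IsScalarTower.of_algebraMap_eq fun r => (φ.commutes r).symm
  have : Module.Finite P Q := hφ
  have : Algebra.FinitePresentation P Q :=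
    Algebra.FinitePresentation.of_restrict_scalars_finitePresentation R P Q
  have : Module.FinitePresentation P Q := Module.FinitePresentation.of_finite_of_finitePresentation P Q
  let _ : Module Q M := Module.compHom M ψ
  let _ : Module P M := Module.compHom M (ψ.comp φ.toRingHom)
  have : IsScalarTower P Q M := ⟨fun p q m => by
    show ψ (φ p * q) • m = ψ (φ p) • ψ q • m
    rw [map_mul, mul_smul]⟩
  have : Module.FinitePresentation Q M := h
  exact Module.FinitePresentation.trans P M Q

section Indep

variable {R : Type*} [CommRing R] [Algebra R P] [Algebra R Q] [Algebra R B]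

open MvPolynomial in
/-- Independence of the presentation, polynomial case. -/
theorem fpVia_mvPolynomial_iff {n k : ℕ} (α : MvPolynomial (Fin n) R →ₐ[R] B)
    (hα : Function.Surjective α) (β : MvPolynomial (Fin k) R →ₐ[R] B) (hβ : Function.Surjective β) :
    FPVia α.toRingHom M ↔ FPVia β.toRingHom M := by
  choose p hp using fun j => hα (β (X j))
  choose q hq using fun i => hβ (α (X i))
  let ξ : MvPolynomial (Fin n ⊕ Fin k) R →ₐ[R] B := aeval (Sum.elim (fun i => α (X i)) (fun j => β (X j)))
  let π₁ : MvPolynomial (Fin n ⊕ Fin k) R →ₐ[R] MvPolynomial (Fin n) R := aeval (Sum.elim X p)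
  let π₂ : MvPolynomial (Fin n ⊕ Fin k) R →ₐ[R] MvPolynomial (Fin k) R := aeval (Sum.elim q X)
  have h₁ : α.comp π₁ = ξ := by
    refine algHom_ext fun i => ?_
    rcases i with i | j <;> simp [π₁, ξ, hp]
  have h₂ : β.comp π₂ = ξ := by
    refine algHom_ext fun i => ?_
    rcases i with i | j <;> simp [π₂, ξ, hq]
  have s₁ : Function.Surjective π₁ := fun f => ⟨rename Sum.inl f, by
    have : π₁.comp (rename Sum.inl) = AlgHom.id R _ := algHom_ext fun i => by simp [π₁]
    exact DFunLike.congr_fun this f⟩
  have s₂ : Function.Surjective π₂ := fun f => ⟨rename Sum.inr f, by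
    have : π₂.comp (rename Sum.inr) = AlgHom.id R _ := algHom_ext fun i => by simp [π₂]
    exact DFunLike.congr_fun this f⟩
  rw [← fpVia_comp_iff π₁ (RingHom.Finite.of_surjective _ s₁) α.toRingHom,
    ← fpVia_comp_iff π₂ (RingHom.Finite.of_surjective _ s₂) β.toRingHom,
    show α.toRingHom.comp π₁.toRingHom = ξ.toRingHom from congrArg AlgHom.toRingHom h₁,
    show β.toRingHom.comp π₂.toRingHom = ξ.toRingHom from congrArg AlgHom.toRingHom h₂]

/-- Independence of the presentation, for finitely presented algebras. -/
theorem fpVia_iff_fpVia [Algebra.FinitePresentation R P] [Algebra.FinitePresentation R Q]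
    (α : P →ₐ[R] B) (hα : Function.Surjective α) (β : Q →ₐ[R] B) (hβ : Function.Surjective β) :
    FPVia α.toRingHom M ↔ FPVia β.toRingHom M := by
  obtain ⟨n, p, hp, -⟩ := Algebra.FinitePresentation.out (R := R) (A := P)
  obtain ⟨k, q, hq, -⟩ := Algebra.FinitePresentation.out (R := R) (A := Q)
  rw [← fpVia_comp_iff p (RingHom.Finite.of_surjective _ hp) α.toRingHom,
    ← fpVia_comp_iff q (RingHom.Finite.of_surjective _ hq) β.toRingHom]
  exact fpVia_mvPolynomial_iff (α.comp p) (hα.comp hp) (β.comp q) (hβ.comp hq)

/-- Independence of the presentation, one of the two maps being only finite. -/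
theorem fpVia_finite_iff {R : Type u} {P B : Type v} {Q : Type*} [CommRing R] [CommRing P]
    [CommRing Q] [CommRing B] [Algebra R P] [Algebra R Q] [Algebra R B]
    [Algebra.FinitePresentation R P] [Algebra.FinitePresentation R Q] {M : Type*} [AddCommGroup M]
    [Module B M] (α : P →ₐ[R] B) (hα : α.toRingHom.Finite) (β : Q →ₐ[R] B)
    (hβ : Function.Surjective β) : FPVia α.toRingHom M ↔ FPVia β.toRingHom M := by
  let _ : Algebra P B := α.toRingHom.toAlgebra
  have : IsScalarTower R P B := IsScalarTower.of_algebraMap_eq fun r => (α.commutes r).symm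
  have : Module.Finite P B := hα
  obtain ⟨D, _, _, _, _, _, f, hf⟩ := Module.Finite.exists_free_surjective P B
  let _ : Algebra R D := ((algebraMap P D).comp (algebraMap R P)).toAlgebra
  have : IsScalarTower R P D := IsScalarTower.of_algebraMap_eq fun r => rfl
  have : Algebra.FinitePresentation R D := Algebra.FinitePresentation.trans R P D
  rw [← fpVia_iff_fpVia (f.restrictScalars R) hf β hβ,
    ← fpVia_comp_iff (IsScalarTower.toAlgHom R P D) (RingHom.finite_algebraMap.mpr inferInstance)]
  have : (f.restrictScalars R).toRingHom.comp (IsScalarTower.toAlgHom R P D).toRingHom = α.toRingHom :=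
    RingHom.ext fun p => f.commutes p
  rw [this]

end Indep

section Localization

variable {A : Type*} [CommRing A] {N : Type*} [AddCommGroup N] [Module A N]

/-- Localising the two rings. -/
theorem fpVia_away (φ : P →+* A) (g : P) (h : FPVia φ N) :
    FPVia (Localization.awayMap φ g) (LocalizedModule (Submonoid.powers (φ g)) N) := by
  let _ : Algebra P A := φ.toAlgebra
  let _ : Module P N := Module.compHom N φ
  have : IsScalarTower P A N := ⟨fun p a m => by
    show (φ p * a) • m = φ p • a • m
    rw [mul_smul]⟩
  have : Module.FinitePresentation P N := h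
  let L := LocalizedModule (Submonoid.powers (φ g)) N
  let _ : Module (Localization.Away g) L := Module.compHom L (Localization.awayMap φ g)
  have hmap : ∀ p : P, Localization.awayMap φ g (algebraMap P _ p) = algebraMap A _ (φ p) := fun p => by
    simp [Localization.awayMap, IsLocalization.Away.map]
  have : IsScalarTower P (Localization.Away g) L := ⟨fun p q m => by
    show Localization.awayMap φ g (p • q) • m = p • Localization.awayMap φ g q • m
    rw [Algebra.smul_def, map_mul, hmap, mul_smul, IsScalarTower.algebraMap_smul]
    rw [← IsScalarTower.algebraMap_smul A p (Localization.awayMap φ g q • m)]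
    rfl⟩
  have : IsLocalizedModule (Submonoid.powers (algebraMap P A g))
      (LocalizedModule.mkLinearMap (Submonoid.powers (φ g)) N) :=
    inferInstanceAs (IsLocalizedModule (Submonoid.powers (φ g)) (LocalizedModule.mkLinearMap (Submonoid.powers (φ g)) N))
  have := IsLocalizedModule.restrictScalars_powers g (LocalizedModule.mkLinearMap (Submonoid.powers (φ g)) N)
  have hb := (isLocalizedModule_iff_isBaseChange (Submonoid.powers g) (Localization.Away g)
    ((LocalizedModule.mkLinearMap (Submonoid.powers (φ g)) N).restrictScalars P)).mp this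
  exact (fpVia_iff _ fun _ _ => rfl).2 (FinitePresentation.of_isBaseChange _ hb)

/-- Finite presentation through `φ` is local on the target. -/
theorem fpVia_of_away {ι : Type*} (φ : P →+* A) (g : ι → P)
    (hg : Ideal.span (Set.range fun i => φ (g i)) = ⊤) (hφ : Function.Surjective φ)
    (h : ∀ i, FPVia (Localization.awayMap φ (g i)) (LocalizedModule (Submonoid.powers (φ (g i))) N)) :
    FPVia φ N := by
  let _ : Algebra P A := φ.toAlgebra
  let _ : Module P N := Module.compHom N φ
  have : IsScalarTower P A N := ⟨fun p a m => by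
    show (φ p * a) • m = φ p • a • m
    rw [mul_smul]⟩
  have hs : Ideal.span (Set.range g ∪ (RingHom.ker φ : Set P)) = ⊤ := by
    rw [Ideal.span_union, Ideal.span_eq]
    have h1 : (Ideal.span (Set.range g)).map φ = ⊤ := by
      rw [Ideal.map_span, ← Set.range_comp]; exact hg
    have := congrArg (Ideal.comap φ) h1
    rwa [Ideal.comap_map_of_surjective φ hφ, Ideal.comap_top, ← RingHom.ker_eq_comap_bot] at this
  refine (fpVia_iff _ fun _ _ => rfl).2 (Module.FinitePresentation.of_localizationSpan _ hs ?_)
  rintro ⟨x, ⟨i, rfl⟩ | hx⟩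
  · let L := LocalizedModule (Submonoid.powers (φ (g i))) N
    let _ : Module (Localization.Away (g i)) L := Module.compHom L (Localization.awayMap φ (g i))
    have hmap : ∀ p : P, Localization.awayMap φ (g i) (algebraMap P _ p) = algebraMap A _ (φ p) := fun p => by
      simp [Localization.awayMap, IsLocalization.Away.map]
    have : IsScalarTower P (Localization.Away (g i)) L := ⟨fun p q m => by
      show Localization.awayMap φ (g i) (p • q) • m = p • Localization.awayMap φ (g i) q • m
      rw [Algebra.smul_def, map_mul, hmap, mul_smul, IsScalarTower.algebraMap_smul]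
      rw [← IsScalarTower.algebraMap_smul A p (Localization.awayMap φ (g i) q • m)]
      rfl⟩
    have : IsLocalizedModule (Submonoid.powers (algebraMap P A (g i)))
        (LocalizedModule.mkLinearMap (Submonoid.powers (φ (g i))) N) :=
      inferInstanceAs (IsLocalizedModule (Submonoid.powers (φ (g i))) (LocalizedModule.mkLinearMap (Submonoid.powers (φ (g i))) N))
    have := IsLocalizedModule.restrictScalars_powers (g i) (LocalizedModule.mkLinearMap (Submonoid.powers (φ (g i))) N)
    have : Module.FinitePresentation (Localization.Away (g i)) L := (fpVia_iff _ fun _ _ => rfl).1 (h i)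
    let e := IsLocalizedModule.iso (Submonoid.powers (g i))
      ((LocalizedModule.mkLinearMap (Submonoid.powers (φ (g i))) N).restrictScalars P)
    exact Module.FinitePresentation.of_equiv
      (LinearEquiv.extendScalarsOfIsLocalization (Submonoid.powers (g i)) (Localization.Away (g i)) e).symm
  · have : Subsingleton (LocalizedModule.Away x N) := LocalizedModule.subsingleton_iff.2 fun m =>
      ⟨x, ⟨1, pow_one x⟩, by
        show φ x • m = 0
        rw [RingHom.mem_ker.1 hx, zero_smul]⟩
    infer_instance

end Localization

section BaseChange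

variable {A A' T : Type*} [CommRing A] [CommRing A'] [CommRing T] [Algebra A A'] [Algebra P T]
variable {N : Type*} [AddCommGroup N] [Module A N]

/-- Base change along a surjection `τ : T → A'` over `φ : P → A` with `ker τ = (ker φ) T`. -/
theorem fpVia_tensor (φ : P →+* A) (τ : T →+* A') (hφ : Function.Surjective φ)
    (hcomp : ∀ p, τ (algebraMap P T p) = algebraMap A A' (φ p)) (hτ : Function.Surjective τ)
    (hker : RingHom.ker τ ≤ (RingHom.ker φ).map (algebraMap P T)) (h : FPVia φ N) :
    FPVia τ (A' ⊗[A] N) := by
  let _ : Algebra P A := φ.toAlgebra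
  let _ : Module P N := Module.compHom N φ
  have : IsScalarTower P A N := ⟨fun p a m => by
    show (φ p * a) • m = φ p • a • m
    rw [mul_smul]⟩
  let _ : Algebra P A' := ((algebraMap A A').comp φ).toAlgebra
  have : IsScalarTower P A A' := IsScalarTower.of_algebraMap_eq fun _ => rfl
  have : Module.FinitePresentation P N := h
  have : TensorProduct.CompatibleSMul P A A' N :=
    TensorProduct.CompatibleSMul.of_algebraMap_surjective A' N hφ
  let τₗ : T →ₗ[P] A' :=
    { toFun := τ
      map_add' := map_add τ
      map_smul' := fun p t => by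
        rw [Algebra.smul_def, map_mul, hcomp, RingHom.id_apply, Algebra.smul_def]
        rfl }
  let F : T ⊗[P] N →ₗ[P] A' ⊗[A] N :=
    (TensorProduct.equivOfCompatibleSMul P A P A' N).symm.toLinearMap ∘ₗ τₗ.rTensor N
  have hF : ∀ t m, F (t ⊗ₜ m) = τ t ⊗ₜ m := fun t m => rfl
  have hinj : Function.Injective F := by
    rw [← LinearMap.ker_eq_bot, LinearMap.ker_comp, LinearEquiv.ker, Submodule.comap_bot, eq_bot_iff,
      LinearMap.exact_iff.1 (rTensor_exact N (LinearMap.exact_subtype_ker_map τₗ) hτ)]
    rintro _ ⟨z, rfl⟩
    induction z with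
    | zero => simp
    | add a b ha hb => rw [map_add]; exact add_mem ha hb
    | tmul x m =>
      have key : ∀ y ∈ (RingHom.ker φ).map (algebraMap P T), y ⊗ₜ[P] m = 0 := by
        intro y hy
        induction hy using Submodule.span_induction with
        | mem y hy =>
          obtain ⟨c, hc, rfl⟩ := hy
          rw [Algebra.algebraMap_eq_smul_one, smul_tmul, show c • m = φ c • m from rfl,
            RingHom.mem_ker.1 hc, zero_smul, tmul_zero]
        | zero => simp
        | add a b _ _ ha hb => rw [add_tmul, ha, hb, add_zero]
        | smul t y _ hy => rw [← smul_tmul', hy, smul_zero]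
      simpa using key x.1 (hker (RingHom.mem_ker.2 x.2))
  have hsurj : Function.Surjective F :=
    (TensorProduct.equivOfCompatibleSMul P A P A' N).symm.surjective.comp (LinearMap.rTensor_surjective N hτ)
  let _ : Module T (A' ⊗[A] N) := Module.compHom _ τ
  let F' : T ⊗[P] N →ₗ[T] A' ⊗[A] N :=
    { toFun := F
      map_add' := map_add F
      map_smul' := fun t z => by
        show F (t • z) = τ t • F z
        induction z with
        | zero => simp
        | add a b ha hb => rw [smul_add, map_add, map_add, smul_add, ha, hb]
        | tmul x m => rw [smul_tmul', hF, hF, smul_tmul', smul_eq_mul, smul_eq_mul, map_mul] }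
  exact (fpVia_iff _ fun _ _ => rfl).2
    (Module.FinitePresentation.of_equiv (LinearEquiv.ofBijective F' ⟨hinj, hsurj⟩))

end BaseChange


section Extension

variable {R : Type u} [CommRing R]

/-- Extension of scalars along a finitely presented algebra. -/
theorem fpVia_extend {P A A' : Type u} {Q : Type u} [CommRing P] [CommRing A] [CommRing A']
    [CommRing Q] [Algebra R P] [Algebra R A] [Algebra R A'] [Algebra R Q] [Algebra A A']
    [IsScalarTower R A A'] [Algebra.FinitePresentation R P] [Algebra.FinitePresentation R Q]
    [Algebra.FinitePresentation A A'] {M : Type u} [AddCommGroup M] [Module A M]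
    (α : P →ₐ[R] A) (hα : Function.Surjective α) (hM : FPVia α.toRingHom M)
    (γ : Q →ₐ[R] A') (hγ : Function.Surjective γ) :
    FPVia γ.toRingHom (A' ⊗[A] M) := by
  classical
  obtain ⟨w, q, hq, G, hG⟩ := Algebra.FinitePresentation.out (R := A) (A := A')
  let μ : MvPolynomial (Fin w) P →+* MvPolynomial (Fin w) A := MvPolynomial.map α.toRingHom
  have hμ : Function.Surjective μ := MvPolynomial.map_surjective _ hα
  choose l hl using hμ
  let J : Ideal (MvPolynomial (Fin w) P) := Ideal.span (G.image l : Finset _)
  have hJ : J.FG := ⟨G.image l, rfl⟩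
  let τ₀ : MvPolynomial (Fin w) P →ₐ[R] A' :=
    (q.restrictScalars R).comp (MvPolynomial.mapAlgHom α)
  have hτ₀ : ∀ v, τ₀ v = q (μ v) := fun v => rfl
  have hJker : J ≤ RingHom.ker τ₀.toRingHom := by
    rw [Ideal.span_le]
    intro v hv
    obtain ⟨g, hg, rfl⟩ := Finset.mem_image.1 hv
    show τ₀ (l g) = 0
    rw [hτ₀, hl]
    exact (hG ▸ Ideal.subset_span hg : g ∈ RingHom.ker q.toRingHom)
  let τ := Ideal.Quotient.liftₐ J τ₀ hJker
  have : Algebra.FinitePresentation R (MvPolynomial (Fin w) P) :=
    Algebra.FinitePresentation.trans R P _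
  have : Algebra.FinitePresentation R (MvPolynomial (Fin w) P ⧸ J) :=
    Algebra.FinitePresentation.quotient hJ
  have hτ : Function.Surjective τ := fun a => by
    obtain ⟨b, rfl⟩ := hq a
    exact ⟨Ideal.Quotient.mk J (l b), (hτ₀ (l b)).trans (congrArg q (hl b))⟩
  refine (fpVia_iff_fpVia τ hτ γ hγ).1 ?_
  refine fpVia_tensor α.toRingHom τ.toRingHom hα ?_ hτ ?_ hM
  · intro p
    show τ₀ (MvPolynomial.C p) = _
    rw [hτ₀]
    show q (MvPolynomial.map α.toRingHom (MvPolynomial.C p)) = _
    rw [MvPolynomial.map_C, ← MvPolynomial.algebraMap_eq]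
    exact q.commutes _
  · intro x hx
    obtain ⟨v, rfl⟩ := Ideal.Quotient.mk_surjective x
    have h1 : μ v ∈ RingHom.ker q.toRingHom := (hτ₀ v).symm.trans hx
    have h2 : RingHom.ker q.toRingHom ≤ J.map μ := by
      rw [← hG, Ideal.span_le]
      intro g hg
      rw [← hl g]
      exact Ideal.mem_map_of_mem _ (Ideal.subset_span (Finset.mem_image_of_mem l hg))
    have h3 : v ∈ J ⊔ RingHom.ker μ := by
      rw [RingHom.ker_eq_comap_bot, ← Ideal.comap_map_of_surjective μ (fun b => ⟨l b, hl b⟩) J, Ideal.mem_comap]
      exact h2 h1
    obtain ⟨a, ha, b, hb, rfl⟩ := Submodule.mem_sup.1 h3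
    rw [map_add, Ideal.Quotient.eq_zero_iff_mem.2 ha, zero_add]
    rw [MvPolynomial.ker_map] at hb
    have := Ideal.mem_map_of_mem (Ideal.Quotient.mk J) hb
    rw [Ideal.map_map] at this
    exact this

end Extension

end Groth.L03.RelFP
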