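import Mathlib.RingTheory.Spectrum.Maximal.Topology
import Mathlib.RingTheory.Spectrum.Prime.Topology
import Mathlib.Topology.NoetherianSpace
import Mathlib.Topology.KrullDimension
import Mathlib.LinearAlgebra.Dual.Lemmas
import Mathlib.LinearAlgebra.Matrix.NonsingularInverse
import Mathlib.LinearAlgebra.Matrix.ToLin
import Mathlib.RingTheory.Ideal.Quotient.Operations
import Mathlib.RingTheory.Finiteness.Basic
import Mathlib.Algebra.Module.Torsion.Basic
import Mathlib.LinearAlgebra.FiniteDimensional.Basic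

/-!
Serre's splitting: sections independent in the spaces `V(x)` off closed sets of large codimension.
-/

set_option autoImplicit false
set_option linter.style.haveILetI false

universe u

namespace Groth.L03.SerreSplit

open Submodule

variable {R : Type u} [CommRing R] {M : Type u} [AddCommGroup M] [Module R M]

variable (M) in
/-- The classes of elements on which all linear forms take values in `x`. -/
abbrev Bq (x : Ideal R) : Submodule (R ⧸ x) (M ⧸ (x • ⊤ : Submodule R M)) :=
  Submodule.span (R ⧸ x)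
    ((x • ⊤ : Submodule R M).mkQ '' {m : M | ∀ φ : M →ₗ[R] R, φ m ∈ x})

variable (M) in
/-- The space `V(x)`. -/
abbrev Vs (x : Ideal R) := (M ⧸ (x • ⊤ : Submodule R M)) ⧸ Bq M x

/-- The class of an element in `V(x)`. -/
noncomputable def img (x : Ideal R) : M →ₗ[R] Vs M x :=
  (Bq M x).mkQ.restrictScalars R ∘ₗ (x • ⊤ : Submodule R M).mkQ

theorem img_apply (x : Ideal R) (m : M) :
    img x m = (Bq M x).mkQ ((x • ⊤ : Submodule R M).mkQ m) := rfl

theorem img_surjective (x : Ideal R) : Function.Surjective (img (M := M) x) :=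
  (Bq M x).mkQ_surjective.comp (x • ⊤ : Submodule R M).mkQ_surjective

theorem smul_img (x : Ideal R) (r : R) (m : M) :
    (Ideal.Quotient.mk x r) • img x m = img x (r • m) := by
  rw [map_smul, ← IsScalarTower.algebraMap_smul (R ⧸ x) r (img x m)]
  rfl

theorem img_smul_eq_zero {x : Ideal R} {r : R} (hr : r ∈ x) (m : M) : img x (r • m) = 0 := by
  rw [← smul_img, Ideal.Quotient.eq_zero_iff_mem.2 hr, zero_smul]

/-- A linear form as a functional on `M / xM`. -/
noncomputable def ψ (x : Ideal R) (φ : M →ₗ[R] R) :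
    (M ⧸ (x • ⊤ : Submodule R M)) →ₗ[R ⧸ x] R ⧸ x :=
  ((x • ⊤ : Submodule R M).liftQ (x.mkQ ∘ₗ φ) (by
    rw [Submodule.smul_le]
    intro r hr m _
    rw [LinearMap.mem_ker, LinearMap.comp_apply, map_smul, smul_eq_mul, Submodule.mkQ_apply,
      Submodule.Quotient.mk_eq_zero]
    exact x.mul_mem_right _ hr)).extendScalarsOfSurjective Ideal.Quotient.mk_surjective

/-- A linear form as a functional on `V(x)`. -/
noncomputable def Ψ (x : Ideal R) (φ : M →ₗ[R] R) : Vs M x →ₗ[R ⧸ x] R ⧸ x :=
  (Bq M x).liftQ (ψ x φ) (by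
    rw [Submodule.span_le]
    rintro _ ⟨m, hm, rfl⟩
    rw [SetLike.mem_coe, LinearMap.mem_ker]
    exact Ideal.Quotient.eq_zero_iff_mem.2 (hm φ))

theorem Ψ_img (x : Ideal R) (φ : M →ₗ[R] R) (m : M) :
    Ψ x φ (img x m) = Ideal.Quotient.mk x (φ m) := rfl

theorem img_ne_zero_iff (x : Ideal R) (m : M) :
    img x m ≠ 0 ↔ ∃ φ : M →ₗ[R] R, φ m ∉ x := by
  constructor
  · intro h
    by_contra hcon
    simp only [not_exists, not_not] at hcon
    exact h ((Submodule.Quotient.mk_eq_zero _).2 (Submodule.subset_span ⟨m, hcon, rfl⟩))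
  · rintro ⟨φ, hφ⟩ h
    refine hφ (Ideal.Quotient.eq_zero_iff_mem.1 ?_)
    rw [← Ψ_img, h, map_zero]

instance finite_Vs [Module.Finite R M] (x : Ideal R) : Module.Finite (R ⧸ x) (Vs M x) := by
  haveI : Module.Finite (R ⧸ x) (M ⧸ (x • ⊤ : Submodule R M)) :=
    Module.Finite.of_restrictScalars_finite R _ _
  infer_instance

/-- Independence in `V(x)` is detected by determinants of linear forms. -/
theorem linearIndependent_iff_exists_det [Module.Finite R M] (x : Ideal R) [x.IsMaximal]
    {h : ℕ} (s : Fin h → M) :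
    LinearIndependent (R ⧸ x) (fun i => img x (s i)) ↔
      ∃ φ : Fin h → M →ₗ[R] R, (Matrix.of fun a b => φ a (s b)).det ∉ x := by
  classical
  letI := Ideal.Quotient.field x
  constructor
  · intro hli
    have hspan : Submodule.span (R ⧸ x) (Set.range (Ψ (M := M) x)) = ⊤ := by
      refine Submodule.span_eq_top_of_ne_zero fun z hz => ?_
      obtain ⟨m, rfl⟩ := img_surjective x z
      obtain ⟨φ, hφ⟩ := (img_ne_zero_iff x m).1 hz
      exact ⟨Ψ x φ, ⟨φ, rfl⟩, fun h0 => hφ (Ideal.Quotient.eq_zero_iff_mem.1 h0)⟩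
    have hrange : ∀ δ ∈ Submodule.span (R ⧸ x) (Set.range (Ψ (M := M) x)),
        ∃ φ, ∀ m, δ (img x m) = Ψ x φ (img x m) := by
      intro δ hδ
      induction hδ using Submodule.span_induction with
      | mem δ hδ => obtain ⟨φ, rfl⟩ := hδ; exact ⟨φ, fun m => rfl⟩
      | zero => exact ⟨0, fun m => by simp [Ψ_img]⟩
      | add a b _ _ ha hb =>
        obtain ⟨φ, hφ⟩ := ha
        obtain ⟨φ', hφ'⟩ := hb
        exact ⟨φ + φ', fun m => by simp [hφ, hφ', Ψ_img]⟩
      | smul c a _ ha =>
        obtain ⟨φ, hφ⟩ := ha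
        obtain ⟨c, rfl⟩ := Ideal.Quotient.mk_surjective c
        exact ⟨c • φ, fun m => by simp [hφ, Ψ_img]⟩
    have hinj : Function.Injective
        (Fintype.linearCombination (R ⧸ x) fun i => img x (s i)) := by
      rw [injective_iff_map_eq_zero]
      intro c hc
      funext i
      exact Fintype.linearIndependent_iff.1 hli c hc i
    have hchoose : ∀ a, ∃ φ : M →ₗ[R] R, ∀ b,
        Ideal.Quotient.mk x (φ (s b)) = if a = b then 1 else 0 := by
      intro a
      obtain ⟨δ, hδ⟩ := LinearMap.dualMap_surjective_of_injective hinj (LinearMap.proj a)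
      obtain ⟨φ, hφ⟩ := hrange δ (hspan ▸ Submodule.mem_top)
      refine ⟨φ, fun b => ?_⟩
      rw [← Ψ_img, ← hφ]
      have h1 := LinearMap.congr_fun hδ (Pi.single b 1)
      simpa [Pi.single_apply] using h1
    choose φ hφ using hchoose
    refine ⟨φ, fun hd => one_ne_zero (α := R ⧸ x) ?_⟩
    rw [← Ideal.Quotient.eq_zero_iff_mem.2 hd, RingHom.map_det]
    rw [show (Ideal.Quotient.mk x).mapMatrix (Matrix.of fun a b => φ a (s b)) = 1 by
      ext a b; simp [hφ, Matrix.one_apply], Matrix.det_one]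
  · rintro ⟨φ, hd⟩
    rw [Fintype.linearIndependent_iff]
    intro c hc
    let A := (Ideal.Quotient.mk x).mapMatrix (Matrix.of fun a b => φ a (s b))
    have hA : IsUnit A.det := by
      refine isUnit_iff_ne_zero.2 ?_
      rw [← RingHom.map_det]
      exact fun h0 => hd (Ideal.Quotient.eq_zero_iff_mem.1 h0)
    have h0 : A.mulVec c = 0 := by
      ext a
      have h1 := congrArg (Ψ x (φ a)) hc
      simp only [map_sum, map_smul, Ψ_img, smul_eq_mul, map_zero] at h1
      rw [Pi.zero_apply, ← h1]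
      simp [A, Matrix.mulVec, dotProduct, mul_comm]
    intro i
    have h2 : c = 0 := Matrix.mulVec_injective_iff_isUnit.2 ((Matrix.isUnit_iff_isUnit_det A).2 hA)
      (h0.trans (Matrix.mulVec_zero A).symm)
    rw [h2]
    rfl

/-- The points where the sections are dependent. -/
def bad {h : ℕ} (s : Fin h → M) : Set (MaximalSpectrum R) :=
  {x | ¬ LinearIndependent (R ⧸ x.asIdeal) (fun i => img x.asIdeal (s i))}

theorem isClosed_bad [Module.Finite R M] {h : ℕ} (s : Fin h → M) : IsClosed (bad (R := R) s) := by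
  rw [← isOpen_compl_iff]
  have : (bad (R := R) s)ᶜ = ⋃ φ : Fin h → M →ₗ[R] R, MaximalSpectrum.toPrimeSpectrum ⁻¹'
      (PrimeSpectrum.basicOpen (Matrix.of fun a b => φ a (s b)).det : Set (PrimeSpectrum R)) := by
    ext x
    haveI := x.isMaximal
    simp only [bad, Set.mem_compl_iff, Set.mem_setOf_eq, not_not, Set.mem_iUnion, Set.mem_preimage,
      SetLike.mem_coe, PrimeSpectrum.mem_basicOpen]
    exact linearIndependent_iff_exists_det x.asIdeal s
  rw [this]
  exact isOpen_iUnion fun φ =>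
    (PrimeSpectrum.basicOpen _).2.preimage MaximalSpectrum.toPrimeSpectrum_continuous

theorem exists_of_finset (T : Finset (MaximalSpectrum R)) (a : MaximalSpectrum R → R) :
    ∃ r : R, ∀ x ∈ T, r - a x ∈ x.asIdeal := by
  obtain ⟨r, hr⟩ := Ideal.exists_forall_sub_mem_ideal (I := fun x : T => x.1.asIdeal)
    (fun x y hxy => by
      haveI := x.1.isMaximal
      haveI := y.1.isMaximal
      exact Ideal.isCoprime_iff_sup_eq.2 (Ideal.IsMaximal.coprime_of_ne x.1.isMaximal y.1.isMaximal
        fun e => hxy (Subtype.ext (MaximalSpectrum.ext e)))) (fun x => a x.1)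
  exact ⟨r, fun x hx => hr ⟨x, hx⟩⟩

theorem exists_img_eq (T : Finset (MaximalSpectrum R)) (v : MaximalSpectrum R → M) :
    ∃ t : M, ∀ x ∈ T, img x.asIdeal t = img x.asIdeal (v x) := by
  classical
  choose e he using fun y => exists_of_finset T fun x => if x = y then (1 : R) else 0
  refine ⟨∑ y ∈ T, e y • v y, fun x hx => ?_⟩
  rw [map_sum, Finset.sum_eq_single x]
  · have h1 := he x x hx
    rw [if_pos rfl] at h1
    rw [← sub_eq_zero, ← map_sub, show e x • v x - v x = (e x - 1) • v x by rw [sub_smul, one_smul]]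
    exact img_smul_eq_zero h1 _
  · intro y _ hy
    have h1 := he y x hx
    rw [if_neg hy.symm, sub_zero] at h1
    exact img_smul_eq_zero h1 _
  · exact fun h => absurd hx h

variable [Module.Finite R M] [TopologicalSpace.NoetherianSpace (MaximalSpectrum R)]

/-- Points in the components of a closed set outside another one. -/
theorem exists_points {C F : Set (MaximalSpectrum R)} (hC : IsClosed C) :
    ∃ (S : Set (TopologicalSpace.IrreducibleCloseds (MaximalSpectrum R)))
      (Y : Finset (MaximalSpectrum R)), S.Finite ∧ (∀ c ∈ S, (c : Set _) ⊆ C) ∧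
      C \ F ⊆ (⋃ c ∈ S, (c : Set _)) ∧ (∀ y ∈ Y, y ∈ C ∧ y ∉ F) ∧
      ∀ c ∈ S, ∃ y ∈ Y, y ∈ (c : Set _) := by
  classical
  obtain ⟨S₀, hfin, hcl, hirr, hS₀⟩ :=
    TopologicalSpace.NoetherianSpace.exists_finite_set_isClosed_irreducible hC
  let S : Set (TopologicalSpace.IrreducibleCloseds (MaximalSpectrum R)) :=
    {c | (c : Set _) ∈ S₀ ∧ ¬ (c : Set _) ⊆ F}
  have hSfin : S.Finite := by
    refine Set.Finite.of_finite_image (hfin.subset ?_)
      (SetLike.coe_injective (A := TopologicalSpace.IrreducibleCloseds (MaximalSpectrum R))).injOn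
    rintro _ ⟨c, hc, rfl⟩
    exact hc.1
  have hch : ∀ c : S, ∃ y, y ∈ (c.1 : Set _) ∧ y ∉ F := fun c => Set.not_subset.1 c.2.2
  choose y hy using hch
  haveI := hSfin.fintype
  refine ⟨S, Finset.univ.image y, hSfin, fun c hc => hS₀ ▸ Set.subset_sUnion_of_mem hc.1,
    fun z hz => ?_, fun z hz => ?_, fun c hc => ⟨y ⟨c, hc⟩, by simp, (hy ⟨c, hc⟩).1⟩⟩
  · obtain ⟨t, ht, hzt⟩ := (Set.mem_sUnion.1 (hS₀ ▸ hz.1 : z ∈ ⋃₀ S₀))
    exact Set.mem_iUnion₂.2 ⟨⟨t, hirr t ht, hcl t ht⟩, ⟨ht, fun h => hz.2 (h hzt)⟩, hzt⟩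
  · obtain ⟨c, -, rfl⟩ := Finset.mem_image.1 hz
    exact ⟨hS₀ ▸ Set.subset_sUnion_of_mem c.2.1 (hy c).1, (hy c).2⟩

theorem exists_section : ∀ (k h : ℕ) (s : Fin h → M) (F : Set (MaximalSpectrum R)), IsClosed F →
    (∀ x : MaximalSpectrum R, h + k ≤ Module.finrank (R ⧸ x.asIdeal) (Vs M x.asIdeal)) →
    bad s ⊆ F → ∀ (T : Finset (MaximalSpectrum R)), (∀ x ∈ T, x ∈ F) →
    ∀ v : MaximalSpectrum R → M,
    ∃ (t : M) (F' : Set (MaximalSpectrum R)), IsClosed F' ∧
      (∀ x ∈ T, img x.asIdeal t = img x.asIdeal (v x)) ∧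
      bad (Fin.snoc s t) ⊆ F ∪ F' ∧
      ∀ Z : TopologicalSpace.IrreducibleCloseds (MaximalSpectrum R), (Z : Set (MaximalSpectrum R)) ⊆ F' →
        (k : ℕ∞) ≤ Order.coheight Z := by
  classical
  intro k
  induction k with
  | zero =>
    intro h s F _ _ _ T _ v
    obtain ⟨t, ht⟩ := exists_img_eq T v
    exact ⟨t, Set.univ, isClosed_univ, ht, fun x _ => Or.inr (Set.mem_univ x),
      fun Z _ => by simp⟩
  | succ k ih =>
    intro h s F hF hdim hs T hT v
    obtain ⟨t₀, F₁, hF₁, ht₀, hbad₀, hcod₁⟩ :=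
      ih h s F hF (fun x => le_trans (by omega) (hdim x)) hs T hT v
    obtain ⟨S₁, Y, hS₁fin, hS₁sub, hS₁cov, hY, hS₁Y⟩ := exists_points (F := F) hF₁
    -- values off the span of the sections
    have hw : ∀ y : MaximalSpectrum R, y ∉ F →
        ∃ w : M, LinearIndependent (R ⧸ y.asIdeal) (Fin.snoc (fun i => img y.asIdeal (s i)) (img y.asIdeal w)) := by
      intro y hy
      haveI := y.isMaximal
      letI := Ideal.Quotient.field y.asIdeal
      have hli : LinearIndependent (R ⧸ y.asIdeal) (fun i => img y.asIdeal (s i)) :=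
        not_not.1 fun hn => hy (hs hn)
      have hne : Submodule.span (R ⧸ y.asIdeal) (Set.range fun i => img y.asIdeal (s i)) ≠ ⊤ := by
        intro htop
        have h1 := finrank_span_eq_card hli
        rw [htop, finrank_top, Fintype.card_fin] at h1
        have h2 := hdim y
        omega
      obtain ⟨z, -, hz⟩ := SetLike.exists_of_lt (lt_top_iff_ne_top.2 hne)
      obtain ⟨w, rfl⟩ := img_surjective y.asIdeal z
      exact ⟨w, linearIndependent_finSnoc.2 ⟨hli, hz⟩⟩
    choose w hw using hw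
    let v₁ : MaximalSpectrum R → M := fun y => if hy : y ∈ F then 0 else w y hy
    obtain ⟨t₁, F₂, hF₂, ht₁, hbad₁, hcod₂⟩ := ih (h + 1) (Fin.snoc s t₀) (F ∪ F₁) (hF.union hF₁)
      (fun x => le_trans (by omega) (hdim x)) hbad₀ (T ∪ Y)
      (fun x hx => (Finset.mem_union.1 hx).elim (fun hx => Or.inl (hT x hx))
        (fun hx => Or.inr (hY x hx).1)) v₁
    obtain ⟨S₂, Zp, hS₂fin, hS₂sub, hS₂cov, hZp, hS₂Z⟩ := exists_points (F := F ∪ F₁) hF₂
    obtain ⟨r, hr⟩ := exists_of_finset (T ∪ Y ∪ Zp) fun x =>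
      if x ∈ Y ∧ ¬ LinearIndependent (R ⧸ x.asIdeal)
        (Fin.snoc (fun i => img x.asIdeal (s i)) (img x.asIdeal t₀)) then 1 else 0
    set t := t₀ + r • t₁ with ht
    have himg : ∀ (x : MaximalSpectrum R) {m : ℕ} (u : Fin m → M) (z : M),
        (fun i => img x.asIdeal ((Fin.snoc u z : Fin (m + 1) → M) i)) =
          Fin.snoc (fun i => img x.asIdeal (u i)) (img x.asIdeal z) := fun x m u z => by
      exact Fin.comp_snoc (img x.asIdeal) u z
    -- independence at the chosen points
    have hgood : ∀ y ∈ Y ∪ Zp, LinearIndependent (R ⧸ y.asIdeal)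
        (Fin.snoc (fun i => img y.asIdeal (s i)) (img y.asIdeal t)) := by
      intro y hy
      haveI := y.isMaximal
      letI := Ideal.Quotient.field y.asIdeal
      have hry := hr y (by
        rcases Finset.mem_union.1 hy with hy | hy <;> simp [hy])
      by_cases hc : y ∈ Y ∧ ¬ LinearIndependent (R ⧸ y.asIdeal)
          (Fin.snoc (fun i => img y.asIdeal (s i)) (img y.asIdeal t₀))
      · rw [if_pos hc] at hry
        have hrt : img y.asIdeal (r • t₁) = img y.asIdeal (w y (hY y hc.1).2) := by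
          rw [← sub_add_cancel r 1, add_smul, map_add, img_smul_eq_zero hry, zero_add, one_smul,
            ht₁ y (Finset.mem_union_right _ hc.1)]
          simp only [v₁, dif_neg (hY y hc.1).2]
        have hwy := linearIndependent_finSnoc.1 (hw y (hY y hc.1).2)
        refine linearIndependent_finSnoc.2 ⟨hwy.1, fun hmem => hwy.2 ?_⟩
        rw [ht, map_add, hrt] at hmem
        have h0 : img y.asIdeal t₀ ∈ Submodule.span (R ⧸ y.asIdeal)
            (Set.range fun i => img y.asIdeal (s i)) := by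
          by_contra h0
          exact hc.2 (linearIndependent_finSnoc.2 ⟨hwy.1, h0⟩)
        simpa using sub_mem hmem h0
      · rw [if_neg hc, sub_zero] at hry
        rw [ht, map_add, img_smul_eq_zero hry, add_zero]
        by_cases hyY : y ∈ Y
        · exact not_not.1 fun h' => hc ⟨hyY, h'⟩
        · obtain hyZ := (Finset.mem_union.1 hy).resolve_left hyY
          have := not_not.1 fun h' => (hZp y hyZ).2 (hbad₀ h')
          rwa [himg] at this
    have hbadt : bad (Fin.snoc s t) ⊆ F ∪ F₁ ∪ F₂ := by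
      intro x hx
      by_contra hcon
      refine hx ?_
      haveI := x.isMaximal
      letI := Ideal.Quotient.field x.asIdeal
      have hli := not_not.1 fun h' => hcon (hbad₁ h')
      rw [himg, himg, linearIndependent_finSnoc] at hli
      obtain ⟨hli₀, hnot⟩ := hli
      rw [linearIndependent_finSnoc] at hli₀
      rw [himg, linearIndependent_finSnoc]
      refine ⟨hli₀.1, fun hmem => ?_⟩
      rw [ht, map_add, ← smul_img] at hmem
      rw [Fin.range_snoc] at hnot
      by_cases hrx : Ideal.Quotient.mk x.asIdeal r = 0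
      · rw [hrx, zero_smul, add_zero] at hmem
        exact hli₀.2 hmem
      · refine hnot ?_
        obtain ⟨c, hc⟩ := Ideal.Quotient.exists_inv (I := x.asIdeal) hrx
        have h1 : img x.asIdeal t₁ = c • ((img x.asIdeal t₀ + (Ideal.Quotient.mk x.asIdeal r) • img x.asIdeal t₁) - img x.asIdeal t₀) := by
          rw [add_sub_cancel_left, smul_smul, mul_comm, hc, one_smul]
        rw [h1]
        exact Submodule.smul_mem _ _ (sub_mem
          (Submodule.span_mono (Set.subset_insert _ _) hmem)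
          (Submodule.subset_span (Set.mem_insert _ _)))
    refine ⟨t, closure (bad (Fin.snoc s t) \ F), isClosed_closure, fun x hx => ?_, fun x hx => ?_,
      fun Z hZ => ?_⟩
    · have hrx := hr x (by simp [hx])
      rw [if_neg (fun hc => (hY x hc.1).2 (hT x hx)), sub_zero] at hrx
      rw [ht, map_add, img_smul_eq_zero hrx, add_zero, ht₀ x hx]
    · by_cases hxF : x ∈ F
      · exact Or.inl hxF
      · exact Or.inr (subset_closure ⟨hx, hxF⟩)
    · have hZbad : (Z : Set (MaximalSpectrum R)) ⊆ bad (Fin.snoc s t) := hZ.trans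
        (closure_minimal Set.sdiff_subset (isClosed_bad _))
      have hcov : (Z : Set (MaximalSpectrum R)) ⊆ ⋃ c ∈ S₁ ∪ S₂, (c : Set (MaximalSpectrum R)) := by
        refine hZ.trans (closure_minimal ?_ ((hS₁fin.union hS₂fin).isClosed_biUnion fun c _ => c.isClosed))
        rintro x ⟨hxb, hxF⟩
        rw [Set.biUnion_union]
        by_cases hx1 : x ∈ F₁
        · exact Or.inl (hS₁cov ⟨hx1, hxF⟩)
        · rcases hbadt hxb with (h1 | h1) | h1
          · exact absurd h1 hxF
          · exact absurd h1 hx1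
          · exact Or.inr (hS₂cov ⟨h1, fun h2 => h2.elim hxF hx1⟩)
      obtain ⟨z, hz, hZz⟩ := isIrreducible_iff_sUnion_isClosed.1 Z.isIrreducible
        ((hS₁fin.union hS₂fin).toFinset.image fun c : TopologicalSpace.IrreducibleCloseds (MaximalSpectrum R) =>
          (c : Set (MaximalSpectrum R)))
        (fun z hz => by
          obtain ⟨c, -, rfl⟩ := Finset.mem_image.1 hz
          exact c.isClosed)
        (by
          intro x hx
          obtain ⟨c, hc, hxc⟩ := Set.mem_iUnion₂.1 (hcov hx)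
          exact Set.mem_sUnion.2 ⟨c, Finset.mem_coe.2 (Finset.mem_image.2 ⟨c, (Set.Finite.mem_toFinset _).2 hc, rfl⟩), hxc⟩)
      obtain ⟨c, hc, rfl⟩ := Finset.mem_image.1 hz
      rw [Set.Finite.mem_toFinset] at hc
      obtain ⟨y, hyc, hy, hk⟩ : ∃ y, y ∈ (c : Set (MaximalSpectrum R)) ∧ y ∈ Y ∪ Zp ∧ (k : ℕ∞) ≤ Order.coheight c := by
        rcases hc with hc | hc
        · obtain ⟨y, hy, hyc⟩ := hS₁Y c hc
          exact ⟨y, hyc, Finset.mem_union_left _ hy, hcod₁ c (hS₁sub c hc)⟩
        · obtain ⟨y, hy, hyc⟩ := hS₂Z c hc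
          exact ⟨y, hyc, Finset.mem_union_right _ hy, hcod₂ c (hS₂sub c hc)⟩
      have hlt : Z < c := by
        refine lt_of_le_of_ne hZz fun he => ?_
        have hyb := hZbad (he ▸ hyc : y ∈ (Z : Set (MaximalSpectrum R)))
        refine hyb ?_
        rw [himg]
        exact hgood y hy
      refine le_trans ?_ (Order.coheight_add_one_le hlt)
      push_cast
      gcongr

end Groth.L03.SerreSplit
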