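import Groth.Agent.L03.FlatQuotientNil
import Mathlib.RingTheory.Smooth.Fiber
import Mathlib.RingTheory.Smooth.Flat

/-!
Quotient by a sequence that is quasi-regular modulo a locally nilpotent ideal of the base, with
smooth reduced quotient, is smooth.
-/

namespace Groth.L03.SmoothQuotientNil

universe u

open TensorProduct

variable {A' B' : Type u} [CommRing A'] [CommRing B'] [Algebra A' B']

theorem formallySmooth_fibre (I : Ideal A') (p : Ideal A') [p.IsPrime] (hIp : I ≤ p) {r : ℕ} (f' : Fin r → B')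
    (hsm : Algebra.Smooth (A' ⧸ I)
      ((B' ⧸ Ideal.map (algebraMap A' B') I) ⧸
        Ideal.span (Set.range (fun i => Ideal.Quotient.mk (Ideal.map (algebraMap A' B') I) (f' i))))) :
    Algebra.FormallySmooth p.ResidueField (p.Fiber (B' ⧸ Ideal.span (Set.range f'))) := by
  set IB := Ideal.map (algebraMap A' B') I with hIB
  set Jb := Ideal.span (Set.range (fun i => Ideal.Quotient.mk IB (f' i))) with hJb
  set J' := Ideal.span (Set.range f') with hJ'
  let φ : A' ⧸ I →+* p.ResidueField := Ideal.Quotient.lift I (algebraMap A' p.ResidueField)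
    fun a ha => Ideal.algebraMap_residueField_eq_zero.2 (hIp ha)
  letI : Algebra (A' ⧸ I) p.ResidueField := φ.toAlgebra
  haveI : IsScalarTower A' (A' ⧸ I) p.ResidueField := .of_algebraMap_eq' rfl
  let C : Type u := p.ResidueField ⊗[A'] (B' ⧸ J')
  haveI : IsScalarTower A' (A' ⧸ I) ((B' ⧸ IB) ⧸ Jb) := IsScalarTower.of_algebraMap_smul fun a q => by
    obtain ⟨q, rfl⟩ := Ideal.Quotient.mk_surjective q
    obtain ⟨q, rfl⟩ := Ideal.Quotient.mk_surjective q
    simp [Algebra.smul_def]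
    rfl
  let π : (B' ⧸ J') →ₐ[A'] ((B' ⧸ IB) ⧸ Jb) :=
    Ideal.Quotient.liftₐ J' ((Ideal.Quotient.mkₐ A' Jb).comp (Ideal.Quotient.mkₐ A' IB)) (fun b hb => by
      have hle : J' ≤ RingHom.ker ((Ideal.Quotient.mkₐ A' Jb).comp (Ideal.Quotient.mkₐ A' IB)) := by
        rw [hJ', Ideal.span_le]
        rintro _ ⟨i, rfl⟩
        exact Ideal.Quotient.eq_zero_iff_mem.2 (Ideal.subset_span ⟨i, rfl⟩)
      exact hle hb)
  let ρ : B' →ₐ[A'] C := (Algebra.TensorProduct.includeRight).comp (Ideal.Quotient.mkₐ A' J')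
  let ρ1 : B' ⧸ IB →ₐ[A'] C := Ideal.Quotient.liftₐ IB ρ (fun b hb => by
    refine (Ideal.map_le_iff_le_comap.2 (fun a ha => ?_) hb : b ∈ RingHom.ker ρ)
    show ρ (algebraMap A' B' a) = 0
    rw [ρ.commutes, Algebra.TensorProduct.algebraMap_apply,
      Ideal.algebraMap_residueField_eq_zero.2 (hIp ha), TensorProduct.zero_tmul])
  let ρ2 : ((B' ⧸ IB) ⧸ Jb) →ₐ[A'] C := Ideal.Quotient.liftₐ Jb ρ1 (fun b hb => by
    have hle : Jb ≤ RingHom.ker ρ1 := by
      rw [hJb, Ideal.span_le]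
      rintro _ ⟨i, rfl⟩
      show ρ (f' i) = 0
      show (1 : p.ResidueField) ⊗ₜ[A'] Ideal.Quotient.mk J' (f' i) = 0
      rw [Ideal.Quotient.eq_zero_iff_mem.2 (Ideal.subset_span ⟨i, rfl⟩ : f' i ∈ J'), TensorProduct.tmul_zero]
    exact hle hb)
  let ρ3 : ((B' ⧸ IB) ⧸ Jb) →ₐ[A' ⧸ I] C :=
    { toRingHom := ρ2.toRingHom
      commutes' := fun a => by
        obtain ⟨a, rfl⟩ := Ideal.Quotient.mk_surjective a
        exact ρ2.commutes a }
  let F : p.ResidueField ⊗[A' ⧸ I] ((B' ⧸ IB) ⧸ Jb) →ₐ[p.ResidueField] C :=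
    Algebra.TensorProduct.lift (Algebra.ofId p.ResidueField C) ρ3 (fun _ _ => Commute.all _ _)
  let G : C →ₐ[p.ResidueField] p.ResidueField ⊗[A' ⧸ I] ((B' ⧸ IB) ⧸ Jb) :=
    Algebra.TensorProduct.lift (Algebra.ofId p.ResidueField _)
      (((Algebra.TensorProduct.includeRight : ((B' ⧸ IB) ⧸ Jb) →ₐ[A' ⧸ I] p.ResidueField ⊗[A' ⧸ I] ((B' ⧸ IB) ⧸ Jb)).restrictScalars A').comp π)
      (fun x y => by
        letI : CommRing (p.ResidueField ⊗[A' ⧸ I] ((B' ⧸ IB) ⧸ Jb)) := inferInstance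
        show _ * _ = _ * _
        exact mul_comm _ _)
  have hFG : ∀ x, F (G x) = x := by
    intro x
    induction x using TensorProduct.induction_on with
    | zero => simp
    | tmul k b =>
      obtain ⟨b, rfl⟩ := Ideal.Quotient.mk_surjective b
      simp [F, G, ρ3, ρ2, ρ1, ρ, π, C, Algebra.TensorProduct.tmul_mul_tmul,
        Algebra.TensorProduct.algebraMap_apply]
    | add x y hx hy => rw [map_add, map_add, hx, hy]
  have hGF : ∀ x, G (F x) = x := by
    intro x
    induction x using TensorProduct.induction_on with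
    | zero => simp
    | tmul k b =>
      obtain ⟨b, rfl⟩ := Ideal.Quotient.mk_surjective b
      obtain ⟨b, rfl⟩ := Ideal.Quotient.mk_surjective b
      simp [F, G, ρ3, ρ2, ρ1, ρ, π, C, Algebra.TensorProduct.tmul_mul_tmul,
        Algebra.TensorProduct.algebraMap_apply]
    | add x y hx hy => rw [map_add, map_add, hx, hy]
  let e : p.ResidueField ⊗[A' ⧸ I] ((B' ⧸ IB) ⧸ Jb) ≃ₐ[p.ResidueField] C :=
    AlgEquiv.ofAlgHom F G (AlgHom.ext hFG) (AlgHom.ext hGF)
  haveI : Algebra.FormallySmooth p.ResidueField (p.ResidueField ⊗[A' ⧸ I] ((B' ⧸ IB) ⧸ Jb)) := inferInstance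
  show Algebra.FormallySmooth p.ResidueField C
  refine Algebra.FormallySmooth.of_equiv (R := p.ResidueField)
    (A := p.ResidueField ⊗[A' ⧸ I] ((B' ⧸ IB) ⧸ Jb)) (B := C) ?_
  exact e

theorem smooth_quotient [Module.Flat A' B'] [Algebra.FinitePresentation A' B']
    (I : Ideal A') (hI : ∀ x ∈ I, IsNilpotent x) {r : ℕ} (f' : Fin r → B')
    (hq : CAlgX.IsQuasiRegular (fun i => Ideal.Quotient.mk (Ideal.map (algebraMap A' B') I) (f' i)))
    (hsm : Algebra.Smooth (A' ⧸ I)
      ((B' ⧸ Ideal.map (algebraMap A' B') I) ⧸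
        Ideal.span (Set.range (fun i => Ideal.Quotient.mk (Ideal.map (algebraMap A' B') I) (f' i))))) :
    Algebra.Smooth A' (B' ⧸ Ideal.span (Set.range f')) := by
  haveI := Groth.L03.FlatQuotientNil.flat_quotient I hI f' hq
    (Algebra.Smooth.flat _ _)
  haveI : Algebra.FinitePresentation A' (B' ⧸ Ideal.span (Set.range f')) :=
    Algebra.FinitePresentation.quotient (Submodule.fg_span (Set.finite_range f'))
  exact Algebra.Smooth.of_formallySmooth_fiber fun p _ =>
    formallySmooth_fibre I p (Groth.L03.FlatQuotientNil.le_prime hI p) f' hsm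

end Groth.L03.SmoothQuotientNil
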