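import Mathlib.RingTheory.Smooth.Basic
import Mathlib.RingTheory.Etale.Basic
import Mathlib.RingTheory.Extension.Presentation.Basic
import Mathlib.RingTheory.Extension.Cotangent.Basic
import Mathlib.RingTheory.Kaehler.Polynomial
import Mathlib.Algebra.MvPolynomial.PDeriv
import Mathlib.LinearAlgebra.TensorProduct.Finiteness
import Mathlib.LinearAlgebra.TensorProduct.Vanishing
import Mathlib.RingTheory.TensorProduct.DirectLimitFG
import Mathlib.RingTheory.Noetherian.Basic

/-!
Smoothness and unramifiedness of a finitely presented algebra are witnessed by finitely many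
polynomial identities, hence descend along filtered colimits of rings.
-/

set_option autoImplicit false
universe u

open MvPolynomial

namespace Groth.L03.SmoothStage

section data

variable {R : Type u} [CommRing R] {σ κ : Type} [Fintype σ] [Fintype κ]

/-- Witness of a section `C → R[X]/I²`. -/
def SmData (r : κ → MvPolynomial σ R) : Prop :=
  ∃ (h : σ → MvPolynomial σ R) (q : σ → κ → MvPolynomial σ R) (p : κ → κ × κ → MvPolynomial σ R),
    (∀ j, h j - X j = ∑ l, q j l * r l) ∧ ∀ l, aeval h (r l) = ∑ c, p l c * (r c.1 * r c.2)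

open Classical in
/-- Witness that the Jacobian rows generate. -/
def UnrData (r : κ → MvPolynomial σ R) : Prop :=
  ∃ (e : σ → κ → MvPolynomial σ R) (q : σ × σ → κ → MvPolynomial σ R),
    ∀ c : σ × σ, (if c.1 = c.2 then 1 else 0) - ∑ l, e c.1 l * pderiv c.2 (r l) = ∑ l, q c l * r l

variable {C : Type u} [CommRing C] [Algebra R C] (P : Algebra.Presentation R C σ κ)

omit [Fintype σ] in
lemma mem_ker_iff (x : MvPolynomial σ R) :
    aeval P.val x = 0 ↔ ∃ q : κ → MvPolynomial σ R, ∑ l, q l * P.relation l = x := by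
  rw [← Ideal.mem_span_range_iff_exists_fun, P.span_range_relation_eq_ker, P.ker_eq_ker_aeval_val,
    RingHom.mem_ker]

lemma formallySmooth_of_smData (H : SmData P.relation) : Algebra.FormallySmooth R C := by
  obtain ⟨h, q, p, hq, hp⟩ := H
  let f : MvPolynomial σ R →ₐ[R] C := aeval P.val
  have hker : ∀ x, f x = 0 ↔ ∃ q : κ → MvPolynomial σ R, ∑ l, q l * P.relation l = x := mem_ker_iff P
  have hf : Function.Surjective f := fun c => by
    obtain ⟨x, hx⟩ := P.algebraMap_surjective c
    exact ⟨x, by rw [← hx]; exact (P.algebraMap_apply x).symm⟩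
  let J : Ideal (MvPolynomial σ R) := RingHom.ker f.toRingHom
  let σ₀ : MvPolynomial σ R →ₐ[R] MvPolynomial σ R ⧸ J ^ 2 := (Ideal.Quotient.mkₐ R _).comp (aeval h)
  have h0 : ∀ x ∈ J, σ₀ x = 0 := by
    intro x hx
    obtain ⟨c, rfl⟩ := (hker x).mp hx
    rw [map_sum]
    refine Finset.sum_eq_zero fun l _ => ?_
    rw [map_mul]
    suffices σ₀ (P.relation l) = 0 by rw [this, mul_zero]
    show Ideal.Quotient.mk _ (aeval h (P.relation l)) = 0
    rw [hp l, Ideal.Quotient.eq_zero_iff_mem, pow_two]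
    refine Ideal.sum_mem _ fun c _ => Ideal.mul_mem_left _ _ (Ideal.mul_mem_mul ?_ ?_) <;>
      exact P.aeval_val_relation _
  let g : C →ₐ[R] MvPolynomial σ R ⧸ J ^ 2 :=
    (Ideal.Quotient.liftₐ J σ₀ h0).comp (Ideal.quotientKerAlgEquivOfSurjective hf).symm.toAlgHom
  have hg : ∀ x, g (f x) = σ₀ x := by
    intro x
    show Ideal.Quotient.liftₐ J σ₀ h0 ((Ideal.quotientKerAlgEquivOfSurjective hf).symm (f x)) = σ₀ x
    have : (Ideal.quotientKerAlgEquivOfSurjective hf).symm (f x) = Ideal.Quotient.mk _ x :=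
      (AlgEquiv.symm_apply_eq _).mpr rfl
    rw [this]; rfl
  refine Algebra.FormallySmooth.of_split f g (AlgHom.ext fun c => ?_)
  obtain ⟨x, rfl⟩ := hf c
  rw [AlgHom.comp_apply, hg]
  show f.kerSquareLift (Ideal.Quotient.mk _ (aeval h x)) = f x
  show f (aeval h x) = f x
  have : f.comp (aeval h) = f := algHom_ext fun j => by
    show f (aeval h (X j)) = f (X j)
    rw [aeval_X, ← sub_eq_zero, ← map_sub]
    exact (hker _).mpr ⟨q j, (hq j).symm⟩
  exact DFunLike.congr_fun this x

lemma smData_of_formallySmooth [Algebra.FormallySmooth R C] : SmData P.relation := by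
  let f : MvPolynomial σ R →ₐ[R] C := aeval P.val
  have hf : Function.Surjective f := fun c => by
    obtain ⟨x, hx⟩ := P.algebraMap_surjective c
    exact ⟨x, by rw [← hx]; exact (P.algebraMap_apply x).symm⟩
  have hJ : RingHom.ker f.toRingHom = Ideal.span (Set.range P.relation) := by
    rw [P.span_range_relation_eq_ker, P.ker_eq_ker_aeval_val]; rfl
  obtain ⟨g, hg⟩ := (Algebra.FormallySmooth.iff_split_surjection f hf).mp inferInstance
  choose h hh using fun j => Ideal.Quotient.mk_surjective (g (f (X j)))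
  have hcomp : (Ideal.Quotient.mkₐ R _).comp (aeval h) = g.comp f := algHom_ext fun j => by
    show Ideal.Quotient.mkₐ R _ (aeval h (X j)) = g (f (X j))
    rw [aeval_X]; exact hh j
  have h1 : ∀ j, ∃ q : κ → MvPolynomial σ R, ∑ l, q l * P.relation l = h j - X j := by
    intro j
    refine (mem_ker_iff P _).mp ?_
    have := DFunLike.congr_fun hg (f (X j))
    rw [AlgHom.comp_apply, ← hh j] at this
    show f (h j - X j) = 0
    rw [map_sub, sub_eq_zero]
    exact this
  have h2 : ∀ l, ∃ p : κ × κ → MvPolynomial σ R, ∑ c, p c * (P.relation c.1 * P.relation c.2) = aeval h (P.relation l) := by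
    intro l
    rw [← Ideal.mem_span_range_iff_exists_fun]
    have h3 : Ideal.Quotient.mkₐ R _ (aeval h (P.relation l)) = g (f (P.relation l)) :=
      DFunLike.congr_fun hcomp _
    rw [show f (P.relation l) = 0 from P.aeval_val_relation l, map_zero] at h3
    have h4 := Ideal.Quotient.eq_zero_iff_mem.mp h3
    rw [hJ, pow_two, Ideal.span_mul_span'] at h4
    refine Ideal.span_mono ?_ h4
    rintro _ ⟨_, ⟨a, rfl⟩, _, ⟨b, rfl⟩, rfl⟩
    exact ⟨(a, b), rfl⟩
  choose q hq using h1
  choose p hp using h2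
  exact ⟨h, q, p, fun j => (hq j).symm, fun l => (hp l).symm⟩

lemma formallyUnramified_of_unrData (H : UnrData P.relation) : Algebra.FormallyUnramified R C := by
  classical
  obtain ⟨e, q, hq⟩ := H
  have hD : ∀ x : MvPolynomial σ R, KaehlerDifferential.D R C (aeval P.val x) =
      ∑ k, aeval P.val (pderiv k x) • KaehlerDifferential.D R C (P.val k) := by
    intro x
    induction x using MvPolynomial.induction_on with
    | C a => simp
    | add x y hx hy => simp [hx, hy, add_smul, Finset.sum_add_distrib]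
    | mul_X x j hx =>
      simp [hx, Derivation.leibniz, pderiv_X, Pi.single_apply, Finset.smul_sum, smul_smul,
        add_smul, Finset.sum_add_distrib, apply_ite (aeval P.val), mul_ite, ite_smul, mul_comm]
      abel
  have hX : ∀ j, KaehlerDifferential.D R C (P.val j) = 0 := by
    intro j
    calc KaehlerDifferential.D R C (P.val j)
        = ∑ k, aeval P.val (∑ l, e j l * pderiv k (P.relation l)) • KaehlerDifferential.D R C (P.val k) := by
          have : ∀ k, aeval P.val (∑ l, e j l * pderiv k (P.relation l)) = if j = k then (1 : C) else 0 := by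
            intro k
            have h1 := congrArg (aeval P.val) (hq (j, k))
            rw [map_sub, (mem_ker_iff P _).mpr ⟨q (j, k), rfl⟩, sub_eq_zero] at h1
            rw [← h1]; split_ifs <;> simp
          simp [this, ite_smul]
      _ = ∑ l, aeval P.val (e j l) • KaehlerDifferential.D R C (aeval P.val (P.relation l)) := by
          simp only [map_sum, map_mul, Finset.sum_smul, hD, Finset.smul_sum, smul_smul]
          exact Finset.sum_comm
      _ = 0 := by simp [P.aeval_val_relation]
  refine ⟨subsingleton_of_forall_eq 0 fun w => ?_⟩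
  have hw : w ∈ Submodule.span C (Set.range (KaehlerDifferential.D R C)) := by
    rw [KaehlerDifferential.span_range_derivation]; exact Submodule.mem_top
  refine (Submodule.mem_bot C).mp (Submodule.span_le.mpr ?_ hw)
  rintro _ ⟨c, rfl⟩
  obtain ⟨x, rfl⟩ := P.algebraMap_surjective c
  rw [P.algebraMap_apply, hD]
  simp [hX]

lemma unrData_of_formallyUnramified [Algebra.FormallyUnramified R C] : UnrData P.relation := by
  classical
  have hval : ∀ x, algebraMap P.Ring C x = aeval P.val x := fun x => P.algebraMap_apply x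
  have h1 : ∀ j, ∃ c : κ → MvPolynomial σ R, ∀ k,
      aeval P.val (∑ l, c l * pderiv k (P.relation l)) = if j = k then (1 : C) else 0 := by
    intro j
    obtain ⟨y, hy⟩ := (P.toExtension.exact_cotangentComplex_toKaehler
      ((1 : C) ⊗ₜ[P.toExtension.Ring] KaehlerDifferential.D R P.toExtension.Ring (X j))).mp (Subsingleton.elim _ _)
    obtain ⟨⟨x, hx⟩, rfl⟩ := Algebra.Extension.Cotangent.mk_surjective y
    rw [Algebra.Extension.cotangentComplex_mk] at hy
    have hx' : aeval P.val x = 0 := (hval x).symm.trans (RingHom.mem_ker.mp hx)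
    obtain ⟨c, rfl⟩ := (mem_ker_iff P x).mp hx'
    refine ⟨c, fun k => ?_⟩
    have h := congrArg (fun z => P.cotangentSpaceBasis.repr z k) hy
    have h3 : aeval P.val (pderiv k (∑ l, c l * P.relation l)) = aeval P.val (pderiv k (X j : MvPolynomial σ R)) :=
      (P.cotangentSpaceBasis_repr_one_tmul (∑ l, c l * P.relation l) k).symm.trans
        (h.trans (P.cotangentSpaceBasis_repr_one_tmul (X j) k))
    simp only [map_sum, Derivation.leibniz, map_add, smul_eq_mul, map_mul, P.aeval_val_relation, zero_mul,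
      mul_zero, add_zero, pderiv_X, Pi.single_apply, apply_ite (aeval P.val), map_one, map_zero] at h3
    simp only [map_sum, map_mul]
    exact h3
  choose e he using h1
  have h2 : ∀ c : σ × σ, ∃ q : κ → MvPolynomial σ R, ∑ l, q l * P.relation l =
      (if c.1 = c.2 then 1 else 0) - ∑ l, e c.1 l * pderiv c.2 (P.relation l) := by
    intro c
    refine (mem_ker_iff P _).mp ?_
    rw [map_sub, he]
    split_ifs <;> simp
  choose q hq using h2
  exact ⟨e, q, fun c => (hq c).symm⟩

end data

section descent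

variable {B : Type u} [CommRing B] {ι : Type u} (G : ι → Type u) [∀ i, CommRing (G i)]
  [∀ i, Algebra B (G i)] {A : Type u} [CommRing A] [Algebra B A] (g : ∀ i, G i →ₐ[B] A)

lemma map_map_eq {σ : Type} {R S T : Type u} [CommRing R] [CommRing S] [CommRing T] {φ : R →+* S} {ψ : S →+* T}
    {θ : R →+* T} (h : ψ.comp φ = θ) (x : MvPolynomial σ R) : map ψ (map φ x) = map θ x := by
  rw [map_map, h]

/-- A filtered system of rings with colimit `A`, phrased without transition functoriality. -/
structure IsColim : Prop where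
  nonempty : Nonempty ι
  dir : ∀ i j, ∃ k, ∃ (φ : G i →ₐ[B] G k) (ψ : G j →ₐ[B] G k), (g k).comp φ = g i ∧ (g k).comp ψ = g j
  surj : ∀ a : A, ∃ i x, g i x = a
  ker : ∀ i (x : G i), g i x = 0 → ∃ k, ∃ φ : G i →ₐ[B] G k, (g k).comp φ = g i ∧ φ x = 0

variable {G g} (hc : IsColim G g)
include hc

lemma exists_lift {σ : Type} (s : Finset (MvPolynomial σ A)) :
    ∃ i, ∀ p ∈ s, ∃ p' : MvPolynomial σ (G i), map (g i).toRingHom p' = p := by
  classical
  have mono : ∀ i k (φ : G i →ₐ[B] G k), (g k).comp φ = g i → ∀ p : MvPolynomial σ A,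
      (∃ p', map (g i).toRingHom p' = p) → ∃ p', map (g k).toRingHom p' = p := by
    rintro i k φ hφ p ⟨p', rfl⟩
    exact ⟨map φ.toRingHom p', map_map_eq (congrArg AlgHom.toRingHom hφ) p'⟩
  have one : ∀ p : MvPolynomial σ A, ∃ i p', map (g i).toRingHom p' = p := by
    intro p
    induction p using MvPolynomial.induction_on with
    | C a => obtain ⟨i, x, rfl⟩ := hc.surj a; exact ⟨i, C x, by simp⟩
    | add p q hp hq =>
      obtain ⟨i, hp⟩ := hp; obtain ⟨j, hq⟩ := hq
      obtain ⟨k, φ, ψ, hφ, hψ⟩ := hc.dir i j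
      obtain ⟨p', rfl⟩ := mono i k φ hφ p hp
      obtain ⟨q', rfl⟩ := mono j k ψ hψ q hq
      exact ⟨k, p' + q', map_add _ _ _⟩
    | mul_X p n hp => obtain ⟨i, p', rfl⟩ := hp; exact ⟨i, p' * X n, by simp⟩
  induction s using Finset.induction_on with
  | empty => exact ⟨hc.nonempty.some, by simp⟩
  | insert p s _ ih =>
    obtain ⟨i, hi⟩ := ih
    obtain ⟨j, hj⟩ := one p
    obtain ⟨k, φ, ψ, hφ, hψ⟩ := hc.dir i j
    refine ⟨k, fun q hq => ?_⟩
    rcases Finset.mem_insert.mp hq with rfl | hq
    · exact mono j k ψ hψ _ hj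
    · exact mono i k φ hφ _ (hi q hq)

lemma exists_kill (i : ι) (s : Finset (G i)) (hs : ∀ x ∈ s, g i x = 0) :
    ∃ k, ∃ φ : G i →ₐ[B] G k, (g k).comp φ = g i ∧ ∀ x ∈ s, φ x = 0 := by
  classical
  induction s using Finset.induction_on with
  | empty => exact ⟨i, AlgHom.id B _, AlgHom.comp_id _, by simp⟩
  | insert a s _ ih =>
    obtain ⟨k, φ, hφ, h⟩ := ih fun x hx => hs x (Finset.mem_insert_of_mem hx)
    obtain ⟨m, ψ, hψ, h'⟩ := hc.ker k (φ a) (by rw [← AlgHom.comp_apply, hφ]; exact hs a (Finset.mem_insert_self _ _))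
    refine ⟨m, ψ.comp φ, by rw [← AlgHom.comp_assoc, hψ, hφ], fun x hx => ?_⟩
    rcases Finset.mem_insert.mp hx with rfl | hx
    · exact h'
    · simp [h x hx]

lemma exists_kill_poly {σ τ : Type} [Finite τ] (i : ι) (E : τ → MvPolynomial σ (G i))
    (hE : ∀ t, map (g i).toRingHom (E t) = 0) :
    ∃ k, ∃ φ : G i →ₐ[B] G k, (g k).comp φ = g i ∧ ∀ t, map φ.toRingHom (E t) = 0 := by
  classical
  cases nonempty_fintype τ
  obtain ⟨k, φ, hφ, h⟩ := exists_kill hc i
    (Finset.univ.biUnion fun t => (E t).support.image fun m => (E t).coeff m) (by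
      intro x hx
      simp only [Finset.mem_biUnion, Finset.mem_image] at hx
      obtain ⟨t, -, m, -, rfl⟩ := hx
      have := congrArg (coeff m) (hE t)
      simpa [coeff_map] using this)
  refine ⟨k, φ, hφ, fun t => ?_⟩
  ext m
  rw [coeff_map, coeff_zero]
  by_cases hm : m ∈ (E t).support
  · exact h _ (Finset.mem_biUnion.mpr ⟨t, Finset.mem_univ _, Finset.mem_image.mpr ⟨m, hm, rfl⟩⟩)
  · rw [notMem_support_iff.mp hm, map_zero]

omit hc in
lemma map_aeval_poly {σ : Type} {R S : Type u} [CommRing R] [CommRing S] (φ : R →+* S)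
    (h : σ → MvPolynomial σ R) (x : MvPolynomial σ R) :
    map φ (aeval h x) = aeval (fun j => map φ (h j)) (map φ x) := by
  induction x using MvPolynomial.induction_on with
  | C a => simp
  | add x y hx hy => simp [hx, hy]
  | mul_X x j hx => simp [hx]

lemma exists_smData {σ κ : Type} [Fintype σ] [Fintype κ] (r : κ → MvPolynomial σ B)
    (H : SmData fun l => map (algebraMap B A) (r l)) :
    ∃ i, ∀ k (φ : G i →ₐ[B] G k), SmData fun l => map (algebraMap B (G k)) (r l) := by
  classical
  obtain ⟨h, q, p, hq, hp⟩ := H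
  obtain ⟨i, hi⟩ := exists_lift hc
    (Finset.univ.image h ∪ Finset.univ.image (Function.uncurry q) ∪ Finset.univ.image (Function.uncurry p))
  choose h' hh using fun j => hi (h j) (by simp)
  choose q' hq' using fun j l => hi (q j l) (Finset.mem_union_left _ (Finset.mem_union_right _
    (Finset.mem_image.mpr ⟨(j, l), Finset.mem_univ _, rfl⟩)))
  choose p' hp' using fun l c => hi (p l c) (Finset.mem_union_right _
    (Finset.mem_image.mpr ⟨(l, c), Finset.mem_univ _, rfl⟩))
  let r' : κ → MvPolynomial σ (G i) := fun l => map (algebraMap B (G i)) (r l)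
  have hr : ∀ l, map (g i).toRingHom (r' l) = map (algebraMap B A) (r l) := fun l =>
    map_map_eq (g i).comp_algebraMap _
  obtain ⟨k, φ, hφ, hk⟩ := exists_kill_poly hc i
    (Sum.elim (fun j => h' j - X j - ∑ l, q' j l * r' l)
      (fun l => aeval h' (r' l) - ∑ c, p' l c * (r' c.1 * r' c.2))) (by
      rintro (j | l)
      · simp only [Sum.elim_inl, map_sub, map_sum, map_mul, map_X, hh, hq', hr, hq j, sub_self]
      · simp only [Sum.elim_inr, map_sub, map_sum, map_mul, hp', hr, map_aeval_poly, hh, hp l, sub_self])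
  refine ⟨k, fun m ψ => ?_⟩
  have hr' : ∀ l, map (ψ.comp φ).toRingHom (r' l) = map (algebraMap B (G m)) (r l) := fun l =>
    map_map_eq (ψ.comp φ).comp_algebraMap _
  have hz : ∀ t, map (ψ.comp φ).toRingHom ((Sum.elim (fun j => h' j - X j - ∑ l, q' j l * r' l)
      (fun l => aeval h' (r' l) - ∑ c, p' l c * (r' c.1 * r' c.2))) t) = 0 := fun t => by
    rw [← map_map_eq (φ := φ.toRingHom) (ψ := ψ.toRingHom) (θ := (ψ.comp φ).toRingHom) rfl, hk t, map_zero]
  refine ⟨fun j => map (ψ.comp φ).toRingHom (h' j), fun j l => map (ψ.comp φ).toRingHom (q' j l),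
    fun l c => map (ψ.comp φ).toRingHom (p' l c), fun j => ?_, fun l => ?_⟩
  · have := hz (Sum.inl j)
    simp only [Sum.elim_inl, map_sub, map_sum, map_mul, map_X, hr', sub_eq_zero] at this
    exact this
  · have := hz (Sum.inr l)
    simp only [Sum.elim_inr, map_sub, map_sum, map_mul, hr', map_aeval_poly, sub_eq_zero] at this
    exact this

lemma exists_unrData {σ κ : Type} [Fintype σ] [Fintype κ] (r : κ → MvPolynomial σ B)
    (H : UnrData fun l => map (algebraMap B A) (r l)) :
    ∃ i, ∀ k (φ : G i →ₐ[B] G k), UnrData fun l => map (algebraMap B (G k)) (r l) := by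
  classical
  obtain ⟨e, q, hq⟩ := H
  obtain ⟨i, hi⟩ := exists_lift hc
    (Finset.univ.image (Function.uncurry e) ∪ Finset.univ.image (Function.uncurry q))
  choose e' he' using fun j l => hi (e j l) (Finset.mem_union_left _
    (Finset.mem_image.mpr ⟨(j, l), Finset.mem_univ _, rfl⟩))
  choose q' hq' using fun c l => hi (q c l) (Finset.mem_union_right _
    (Finset.mem_image.mpr ⟨(c, l), Finset.mem_univ _, rfl⟩))
  let r' : κ → MvPolynomial σ (G i) := fun l => map (algebraMap B (G i)) (r l)
  have hr : ∀ l, map (g i).toRingHom (r' l) = map (algebraMap B A) (r l) := fun l =>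
    map_map_eq (g i).comp_algebraMap _
  obtain ⟨k, φ, hφ, hk⟩ := exists_kill_poly hc i
    (fun c : σ × σ => (if c.1 = c.2 then 1 else 0) - ∑ l, e' c.1 l * pderiv c.2 (r' l) - ∑ l, q' c l * r' l) (by
      intro c
      simp only [map_sub, map_sum, map_mul, apply_ite (map (g i).toRingHom), map_one, map_zero,
        ← pderiv_map, he', hq', hr, hq c, sub_self])
  refine ⟨k, fun m ψ => ?_⟩
  have hr' : ∀ l, map (ψ.comp φ).toRingHom (r' l) = map (algebraMap B (G m)) (r l) := fun l =>
    map_map_eq (ψ.comp φ).comp_algebraMap _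
  refine ⟨fun j l => map (ψ.comp φ).toRingHom (e' j l), fun c l => map (ψ.comp φ).toRingHom (q' c l), fun c => ?_⟩
  have := congrArg (map ψ.toRingHom) (hk c)
  rw [map_map_eq (φ := φ.toRingHom) (ψ := ψ.toRingHom) (θ := (ψ.comp φ).toRingHom) rfl, map_zero] at this
  simp only [map_sub, map_sum, map_mul, apply_ite (map (ψ.comp φ).toRingHom), map_one, map_zero,
    ← pderiv_map, hr', sub_eq_zero] at this
  exact this

variable (C : Type u) [CommRing C] [Algebra B C] [Algebra.FinitePresentation B C]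
open TensorProduct

/-- Smoothness descends to all later stages. -/
theorem exists_smooth (h : Algebra.Smooth A (A ⊗[B] C)) :
    ∃ i, ∀ k, (G i →ₐ[B] G k) → Algebra.Smooth (G k) (G k ⊗[B] C) := by
  let P := Algebra.Presentation.ofFinitePresentation B C
  haveI := h
  obtain ⟨i, hi⟩ := exists_smData hc P.relation (smData_of_formallySmooth (P.baseChange A))
  exact ⟨i, fun k φ => ⟨formallySmooth_of_smData (P.baseChange (G k)) (hi k φ), inferInstance⟩⟩

/-- Etaleness descends to some stage. -/
theorem exists_etale (h : Algebra.Etale A (A ⊗[B] C)) :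
    ∃ i, Algebra.Etale (G i) (G i ⊗[B] C) := by
  let P := Algebra.Presentation.ofFinitePresentation B C
  haveI := h
  obtain ⟨i, hi⟩ := exists_smData hc P.relation (smData_of_formallySmooth (P.baseChange A))
  obtain ⟨j, hj⟩ := exists_unrData hc P.relation (unrData_of_formallyUnramified (P.baseChange A))
  obtain ⟨k, φ, ψ, -, -⟩ := hc.dir i j
  haveI := formallySmooth_of_smData (P.baseChange (G k)) (hi k φ)
  haveI := formallyUnramified_of_unrData (P.baseChange (G k)) (hj k ψ)
  exact ⟨k, ⟨Algebra.FormallyEtale.iff_formallyUnramified_and_formallySmooth.mpr ⟨inferInstance, inferInstance⟩, inferInstance⟩⟩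

end descent

section tensor

open TensorProduct

variable {ι : Type u} [Preorder ι] [IsDirected ι (· ≤ ·)] [Nonempty ι] {A₀ : Type u} [CommRing A₀]
  {G : ι → Type u} [∀ i, CommRing (G i)] [∀ i, Algebra A₀ (G i)]
  (f : ∀ i j, i ≤ j → (G i →ₐ[A₀] G j)) {A : Type u} [CommRing A] [Algebra A₀ A]
  (g : ∀ i, G i →ₐ[A₀] A) (hg : ∀ i j (h : i ≤ j), (g j).comp (f i j h) = g i)
  (hsurj : ∀ a : A, ∃ i, ∃ x : G i, g i x = a)
  (hker : ∀ i (x : G i), g i x = 0 → ∃ j, ∃ h : i ≤ j, f i j h x = 0)
  (B₀ : Type u) [CommRing B₀] [Algebra A₀ B₀]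

include hg hsurj hker in
/-- Tensoring a directed system with an algebra. -/
theorem isColim_tensor :
    IsColim (B := B₀) (fun i => B₀ ⊗[A₀] G i)
      (fun i => Algebra.TensorProduct.map (AlgHom.id B₀ B₀) (g i)) := by
  classical
  have hcomp : ∀ i j (φ : G i →ₐ[A₀] G j), (g j).comp φ = g i →
      (Algebra.TensorProduct.map (AlgHom.id B₀ B₀) (g j)).comp (Algebra.TensorProduct.map (AlgHom.id B₀ B₀) φ) =
        Algebra.TensorProduct.map (AlgHom.id B₀ B₀) (g i) := fun i j φ h => by
    rw [← Algebra.TensorProduct.map_comp, AlgHom.id_comp, h]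
  have h0 : IsColim (B := A₀) G g :=
    ⟨inferInstance, fun i j => by
      obtain ⟨k, hik, hjk⟩ := directed_of (· ≤ ·) i j
      exact ⟨k, f i k hik, f j k hjk, hg _ _ hik, hg _ _ hjk⟩,
      hsurj, fun i x hx => by
        obtain ⟨j, h, hj⟩ := hker i x hx
        exact ⟨j, f i j h, hg _ _ h, hj⟩⟩
  refine ⟨inferInstance, fun i j => ?_, fun a => ?_, fun i z hz => ?_⟩
  · obtain ⟨k, φ, ψ, hφ, hψ⟩ := h0.dir i j
    exact ⟨k, _, _, hcomp _ _ φ hφ, hcomp _ _ ψ hψ⟩
  · induction a with
    | zero => exact ⟨Classical.arbitrary ι, 0, map_zero _⟩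
    | tmul b a => obtain ⟨i, x, rfl⟩ := hsurj a; exact ⟨i, b ⊗ₜ x, rfl⟩
    | add a b ha hb =>
      obtain ⟨i, x, rfl⟩ := ha; obtain ⟨j, y, rfl⟩ := hb
      obtain ⟨k, φ, ψ, hφ, hψ⟩ := h0.dir i j
      refine ⟨k, Algebra.TensorProduct.map (AlgHom.id B₀ B₀) φ x + Algebra.TensorProduct.map (AlgHom.id B₀ B₀) ψ y, ?_⟩
      rw [map_add]; congr 1
      · exact DFunLike.congr_fun (hcomp _ _ φ hφ) x
      · exact DFunLike.congr_fun (hcomp _ _ ψ hψ) y
  · -- the element vanishes over a finitely generated submodule of `B₀`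
    obtain ⟨T, hT⟩ := TensorProduct.exists_finset z
    have hz' : ∑ t : T, t.1.1 ⊗ₜ[A₀] g i t.1.2 = 0 := by
      rw [Finset.sum_coe_sort T fun t => t.1 ⊗ₜ[A₀] g i t.2]
      rw [hT, map_sum] at hz
      simpa using hz
    obtain ⟨M', hM', hle, hMz⟩ : ∃ M' : Submodule A₀ B₀, M'.FG ∧ ∃ hle : ∀ t : T, t.1.1 ∈ M',
        ∑ t : T, (⟨t.1.1, hle t⟩ : M') ⊗ₜ[A₀] g i t.1.2 = 0 := by
      let N : Submodule A₀ B₀ := Submodule.span A₀ (Set.range fun t : T => t.1.1)
      have hmem : ∀ t : T, t.1.1 ∈ N := fun t => Submodule.subset_span ⟨t, rfl⟩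
      obtain ⟨N', hle, hN', h⟩ := TensorProduct.eq_zero_of_fg_of_subtype_eq_zero (P := N)
        (Submodule.fg_span (Set.finite_range _)) (t := ∑ t : T, (⟨t.1.1, hmem t⟩ : N) ⊗ₜ[A₀] g i t.1.2)
        (by simpa using hz')
      refine ⟨N', hN', fun t => hle (hmem t), ?_⟩
      rw [map_sum] at h; exact h
    haveI : Module.Finite A₀ M' := Module.Finite.iff_fg.mpr hM'
    obtain ⟨n, e, he⟩ := Module.Finite.exists_fin (R := A₀) (M := M')
    let m : T ⊕ Fin n → M' := Sum.elim (fun t => ⟨t.1.1, hle t⟩) e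
    obtain ⟨k, a, y, hy, ha⟩ := TensorProduct.vanishesTrivially_of_sum_tmul_eq_zero A₀
      (m := m) (n := Sum.elim (fun t => g i t.1.2) 0)
      (top_le_iff.mp (he.ge.trans (Submodule.span_mono (by rintro _ ⟨x, rfl⟩; exact ⟨Sum.inr x, rfl⟩))))
      (by simpa [Fintype.sum_sum_type, m] using hMz)
    obtain ⟨i₁, hi₁⟩ : ∃ i₁, ∀ j : Fin k, ∃ x : G i₁, g i₁ x = y j := by
      have : ∀ s : Finset (Fin k), ∃ i₁, ∀ j ∈ s, ∃ x : G i₁, g i₁ x = y j := fun s => by
        induction s using Finset.induction_on with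
        | empty => exact ⟨i, by simp⟩
        | insert a s _ ih =>
          obtain ⟨p, hp⟩ := ih
          obtain ⟨q, x, hx⟩ := hsurj (y a)
          obtain ⟨r, φ, ψ, hφ, hψ⟩ := h0.dir p q
          refine ⟨r, fun j hj => ?_⟩
          rcases Finset.mem_insert.mp hj with rfl | hj
          · exact ⟨ψ x, by rw [← AlgHom.comp_apply, hψ, hx]⟩
          · obtain ⟨x', hx'⟩ := hp j hj
            exact ⟨φ x', by rw [← AlgHom.comp_apply, hφ, hx']⟩
      obtain ⟨i₁, h⟩ := this Finset.univ
      exact ⟨i₁, fun j => h j (Finset.mem_univ _)⟩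
    choose y' hy' using hi₁
    obtain ⟨k₁, φ, ψ, hφ, hψ⟩ := h0.dir i i₁
    let xi : T ⊕ Fin n → G k₁ := Sum.elim (fun t => φ t.1.2) 0
    let d : T ⊕ Fin n → G k₁ := fun c => xi c - ∑ j, a c j • ψ (y' j)
    obtain ⟨k₂, χ, hχ, hk₂⟩ := exists_kill h0 k₁ (Finset.univ.image d) (by
      simp only [Finset.mem_image, Finset.mem_univ, true_and]
      rintro _ ⟨c, rfl⟩
      have h1 : g k₁ (xi c) = Sum.elim (fun t : T => g i t.1.2) 0 c := by
        rcases c with t | x
        · show g k₁ (φ t.1.2) = g i t.1.2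
          rw [← AlgHom.comp_apply, hφ]
        · simp [xi]
      have h2 : ∀ j, g k₁ (ψ (y' j)) = y j := fun j => by rw [← AlgHom.comp_apply, hψ, hy']
      simp only [d, map_sub, map_sum, map_smul, h1, h2, hy c, sub_self])
    have h3 : ∀ c, χ (xi c) = ∑ j, a c j • χ (ψ (y' j)) := fun c => by
      have := hk₂ (d c) (Finset.mem_image_of_mem _ (Finset.mem_univ _))
      simpa [d, sub_eq_zero] using this
    refine ⟨k₂, Algebra.TensorProduct.map (AlgHom.id B₀ B₀) (χ.comp φ),
      hcomp _ _ _ (by rw [← AlgHom.comp_assoc, hχ, hφ]), ?_⟩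
    have h4 : ∑ c, (m c : B₀) ⊗ₜ[A₀] χ (xi c) = 0 := by
      simp only [h3, TensorProduct.tmul_sum, TensorProduct.tmul_smul, ← TensorProduct.smul_tmul']
      rw [Finset.sum_comm]
      refine Finset.sum_eq_zero fun j _ => ?_
      have := congrArg Subtype.val (ha j)
      simp only [Submodule.coe_sum, Submodule.coe_smul, ZeroMemClass.coe_zero] at this
      simp only [← Finset.smul_sum, TensorProduct.smul_tmul', ← TensorProduct.sum_tmul, this, TensorProduct.zero_tmul]
    rw [Fintype.sum_sum_type] at h4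
    simp only [m, xi, Sum.elim_inl, Sum.elim_inr, Pi.zero_apply, map_zero, TensorProduct.tmul_zero,
      Finset.sum_const_zero, add_zero] at h4
    rw [hT, map_sum, ← Finset.sum_coe_sort T]
    exact h4

end tensor

end Groth.L03.SmoothStage
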