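import Groth.Agent.L01.CohenFinite
import Mathlib.RingTheory.KrullDimension.Regular

/-! Systems of parameters through an element outside all minimal primes. -/

set_option autoImplicit false

universe u

open IsLocalRing

namespace Groth.L03.Sop

variable {R : Type u} [CommRing R] [IsNoetherianRing R] [IsLocalRing R]

theorem exists_sop_insert {d : ℕ} (hd : ringKrullDim R = d) {f : R} (hf : f ∈ maximalIdeal R)
    (hmin : ∀ p ∈ minimalPrimes R, f ∉ p) :
    ∃ (g : Fin (d - 1) → R) (N : ℕ), (∀ i, g i ∈ maximalIdeal R) ∧
      maximalIdeal R ^ N ≤ Ideal.span (insert f (Set.range g)) := by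
  obtain ⟨n, x, N, hx, hN, hn⟩ := Groth.L01.CohenFinite.exists_sop (Ideal.span {f})
    ((Ideal.span_singleton_le_iff_mem _).2 hf)
  have hle : n + 1 ≤ d := by
    have h : Module.supportDim R (QuotSMulTop f R) + 1 ≤ Module.supportDim R R :=
      Module.supportDim_quotSMulTop_succ_le_of_notMem_minimalPrimes fun p hp => hmin p (by
        rwa [Module.annihilator_eq_bot.mpr inferInstance] at hp)
    rw [Module.supportDim_self_eq_ringKrullDim, hd, Module.supportDim_quotient_eq_ringKrullDim] at h
    rw [← Submodule.ideal_span_singleton_smul, Ideal.smul_eq_mul, Ideal.mul_top, ← hn] at h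
    exact_mod_cast h
  refine ⟨fun i => if h : (i : ℕ) < n then x ⟨i, h⟩ else 0, N, fun i => ?_, hN.trans ?_⟩
  · dsimp only
    split
    · exact hx _
    · exact zero_mem _
  · rw [Ideal.span_insert, sup_comm]
    refine sup_le_sup_left (Ideal.span_mono ?_) _
    rintro _ ⟨i, rfl⟩
    exact ⟨⟨i, by omega⟩, by simp⟩

/-- Perturbing an element by the square of the defining ideal does not change the generated ideal. -/
theorem span_insert_add_eq {f h : R} {s : Set R} (hf : f ∈ maximalIdeal R)
    (hh : h ∈ maximalIdeal R * Ideal.span (insert f s)) :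
    Ideal.span (insert (f + h) s) = Ideal.span (insert f s) := by
  have hh' : h ∈ Ideal.span (insert f s) := Ideal.mul_le_right hh
  refine le_antisymm (Ideal.span_le.2 (Set.insert_subset
    (add_mem (Ideal.subset_span (Set.mem_insert _ _)) hh')
    ((Set.subset_insert _ _).trans Ideal.subset_span))) ?_
  refine Submodule.le_of_le_smul_of_le_jacobson_bot (IsNoetherian.noetherian _)
    (by rw [IsLocalRing.jacobson_eq_maximalIdeal ⊥ bot_ne_top]) (Ideal.span_le.2 (Set.insert_subset ?_
      ((Set.subset_insert _ _).trans (Ideal.subset_span.trans fun z hz => Submodule.mem_sup_left hz))))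
  have h1 := Submodule.add_mem_sup (T := maximalIdeal R • Ideal.span (insert f s))
    (Ideal.subset_span (α := R) (Set.mem_insert (f + h) s)) (neg_mem (show h ∈ maximalIdeal R • _ from hh))
  rwa [add_neg_cancel_right] at h1

end Groth.L03.Sop
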