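import Mathlib.Algebra.Module.FinitePresentation
import Mathlib.RingTheory.Localization.Finiteness
import Mathlib.RingTheory.Localization.BaseChange

/-!
Finitely presented modules over a localisation come from finitely presented modules.
-/

namespace Groth.L03.SpreadFP

universe u

variable {R : Type u} [CommRing R] (S : Submonoid R)

theorem exists_of_mem_span {M : Type u} [AddCommGroup M] [Module R M] (N : Submodule R M)
    (y : LocalizedModule S M)
    (hy : y ∈ Submodule.span (Localization S) ((LocalizedModule.mkLinearMap S M) '' (N : Set M))) :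
    ∃ v ∈ N, ∃ s : S, LocalizedModule.mk v s = y := by
  induction hy using Submodule.span_induction with
  | mem y hy =>
    obtain ⟨v, hv, rfl⟩ := hy
    exact ⟨v, hv, 1, rfl⟩
  | zero => exact ⟨0, zero_mem _, 1, LocalizedModule.zero_mk _⟩
  | add a b _ _ ha hb =>
    obtain ⟨v, hv, s, rfl⟩ := ha
    obtain ⟨w, hw, t, rfl⟩ := hb
    exact ⟨t • v + s • w, add_mem (N.smul_mem _ hv) (N.smul_mem _ hw), s * t,
      LocalizedModule.mk_add_mk.symm⟩
  | smul c a _ ha =>
    obtain ⟨v, hv, s, rfl⟩ := ha
    induction c using Localization.induction_on with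
    | H d =>
      exact ⟨d.1 • v, N.smul_mem _ hv, d.2 * s, LocalizedModule.mk_smul_mk _ _ _ _ |>.symm⟩

theorem exists_spread (M : Type u) [AddCommGroup M] [Module R M]
    [Module.FinitePresentation (Localization S) (LocalizedModule S M)] :
    ∃ (n : ℕ) (K : Submodule R (Fin n → R)) (φ : ((Fin n → R) ⧸ K) →ₗ[R] M),
      K.FG ∧ Function.Bijective (LocalizedModule.map S φ) := by
  classical
  obtain ⟨G, hG⟩ := Module.Finite.fg_top (R := Localization S) (M := LocalizedModule S M)
  choose m t hmt using fun y : LocalizedModule S M =>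
    show ∃ (m : M) (t : S), LocalizedModule.mk m t = y by
      induction y using LocalizedModule.induction_on with
      | h m t => exact ⟨m, t, rfl⟩
  let n := G.card
  let gen : Fin n → M := fun i => m (G.equivFin.symm i : LocalizedModule S M)
  let h : (Fin n → R) →ₗ[R] M := Fintype.linearCombination R gen
  let hS := LocalizedModule.map S h
  have hsurj : Function.Surjective hS := by
    rw [← LinearMap.range_eq_top, eq_top_iff, ← hG, Submodule.span_le]
    intro y hy
    refine ⟨LocalizedModule.mk (Pi.single (G.equivFin ⟨y, hy⟩) 1) (t y), ?_⟩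
    conv_rhs => rw [← hmt y]
    simp [hS, h, gen, LocalizedModule.map_mk, Fintype.linearCombination_apply_single]
  obtain ⟨T, hT⟩ := Module.FinitePresentation.fg_ker hS hsurj
  have hker : ∀ y ∈ T, ∃ v : Fin n → R, h v = 0 ∧ ∃ s : S, LocalizedModule.mk v s = y := by
    intro y hy
    have h0 : hS y = 0 := by
      have : y ∈ LinearMap.ker hS := hT ▸ Submodule.subset_span hy
      exact this
    induction y using LocalizedModule.induction_on with
    | h v s =>
      rw [show hS (LocalizedModule.mk v s) = LocalizedModule.mk (h v) s from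
        LocalizedModule.map_mk S h v s, ← LocalizedModule.zero_mk s, LocalizedModule.mk_eq] at h0
      obtain ⟨u, hu⟩ := h0
      rw [smul_zero, smul_zero] at hu
      refine ⟨(u * s) • v, ?_, u * s * s, ?_⟩
      · rw [Submonoid.smul_def, map_smul, ← Submonoid.smul_def, mul_smul]
        exact hu
      · exact LocalizedModule.mk_cancel_common_left (u * s) s v
  choose v hv0 s hvs using hker
  let K : Submodule R (Fin n → R) := Submodule.span R (Set.range fun y : T => v y.1 y.2)
  have hKh : K ≤ LinearMap.ker h := Submodule.span_le.2 (by rintro _ ⟨y, rfl⟩; exact hv0 _ _)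
  refine ⟨n, K, K.liftQ h hKh, Submodule.fg_span (Set.finite_range _), ?_, ?_⟩
  · rw [← LinearMap.ker_eq_bot, LinearMap.ker_eq_bot']
    intro z hz
    induction z using LocalizedModule.induction_on with
    | h q r =>
      obtain ⟨w, rfl⟩ := K.mkQ_surjective q
      rw [LocalizedModule.map_mk] at hz
      have hw : LocalizedModule.mk w r ∈ LinearMap.ker hS :=
        LinearMap.mem_ker.2 ((LocalizedModule.map_mk S h w r).trans hz)
      rw [← hT] at hw
      have hw' : LocalizedModule.mk w r ∈ Submodule.span (Localization S)
          ((LocalizedModule.mkLinearMap S (Fin n → R)) '' (K : Set (Fin n → R))) := by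
        refine Submodule.span_le.2 ?_ hw
        intro y hy
        rw [← hvs y hy]
        have : LocalizedModule.mk (v y hy) (s y hy) =
            Localization.mk 1 (s y hy) • LocalizedModule.mk (v y hy) 1 := by
          rw [LocalizedModule.mk_smul_mk, one_smul, mul_one]
        rw [SetLike.mem_coe, this]
        exact Submodule.smul_mem _ _ (Submodule.subset_span
          ⟨v y hy, Submodule.subset_span ⟨⟨y, hy⟩, rfl⟩, rfl⟩)
      obtain ⟨w', hw'K, r', hr'⟩ := exists_of_mem_span S K _ hw'
      obtain ⟨u, hu⟩ := LocalizedModule.mk_eq.1 hr'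
      rw [← LocalizedModule.zero_mk r, LocalizedModule.mk_eq]
      refine ⟨u * r', ?_⟩
      rw [smul_zero, smul_zero, mul_smul, smul_comm r' r, Submonoid.smul_def, Submonoid.smul_def,
        Submonoid.smul_def, ← map_smul, ← map_smul, ← map_smul]
      refine (Submodule.Quotient.mk_eq_zero K).2 ?_
      rw [← Submonoid.smul_def, ← Submonoid.smul_def, ← Submonoid.smul_def, smul_comm u r, ← hu,
        Submonoid.smul_def, Submonoid.smul_def, Submonoid.smul_def]
      exact K.smul_mem _ (K.smul_mem _ (K.smul_mem _ hw'K))
  · intro y
    obtain ⟨z, rfl⟩ := hsurj y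
    induction z using LocalizedModule.induction_on with
    | h w r =>
      refine ⟨LocalizedModule.mk (K.mkQ w) r, ?_⟩
      rw [LocalizedModule.map_mk]
      exact (LocalizedModule.map_mk S h w r).symm

end Groth.L03.SpreadFP
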