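import Groth.Agent.L04.RegularPd
import Mathlib.RingTheory.PicardGroup
import Mathlib.RingTheory.LocalRing.Module
import Mathlib.RingTheory.Localization.Module
import Mathlib.Algebra.Category.ModuleCat.Projective
import Mathlib.Algebra.Module.FinitePresentation
import Mathlib.Algebra.Homology.ShortComplex.ModuleCat
import Mathlib.LinearAlgebra.Determinant
import Mathlib.LinearAlgebra.TensorProduct.Prod
import Mathlib.Algebra.Exact.Basic

/-!
Stably free invertible modules are free; invertible modules over localizations of regular local rings
are free.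
-/

set_option autoImplicit false
universe u

open CategoryTheory

namespace Groth.L03.StablyFree

/-- A module is stably free when adding a finite free module makes it finite free. -/
def IsStablyFree (A : Type u) [CommRing A] (M : Type u) [AddCommGroup M] [Module A M] : Prop :=
  ∃ a b : ℕ, Nonempty ((M × (Fin a → A)) ≃ₗ[A] (Fin b → A))

variable {A : Type u} [CommRing A] {M : Type u} [AddCommGroup M] [Module A M]

/-- A stably free invertible module is free. -/
theorem free_of_invertible [Module.Invertible A M] (h : IsStablyFree A M) : Module.Free A M := by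
  classical
  obtain ⟨n, b, ⟨e⟩⟩ := h
  rcases subsingleton_or_nontrivial A with hA | hA
  · haveI : Subsingleton M := Module.subsingleton A M
    exact Module.Free.of_subsingleton A M
  have hb : b = n + 1 := by
    obtain ⟨P, hP⟩ := Ideal.exists_maximal A
    letI := Ideal.Quotient.field P
    let κ := A ⧸ P
    have e' := (e.baseChange A κ).finrank_eq
    rw [(TensorProduct.prodRight A κ κ M (Fin n → A)).finrank_eq, Module.finrank_prod,
      Module.finrank_baseChange (R := κ) (S := A) (M' := Fin n → A), Module.finrank_baseChange (R := κ) (S := A) (M' := Fin b → A),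
      Module.finrank_fin_fun, Module.finrank_fin_fun, Module.Invertible.finrank_eq_one κ (TensorProduct A κ M)] at e'
    omega
  subst hb
  let w : Fin n → (Fin (n + 1) → A) := fun i => e (0, Pi.single i 1)
  let φ : M →ₗ[A] A :=
    { toFun := fun m => Matrix.detRowAlternating (Fin.cons (e (m, 0)) w : Fin (n + 1) → Fin (n + 1) → A)
      map_add' := fun m m' => by
        have h1 : e (m + m', 0) = e (m, 0) + e (m', 0) := by rw [← map_add]; congr 1; simp
        rw [h1]
        have := (Matrix.detRowAlternating (R := A) (n := Fin (n + 1))).map_update_add (Fin.cons 0 w) 0 (e (m, 0)) (e (m', 0))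
        simpa only [Fin.update_cons_zero] using this
      map_smul' := fun c m => by
        have h1 : e (c • m, 0) = c • e (m, 0) := by rw [← map_smul]; congr 1; simp
        rw [h1]
        have := (Matrix.detRowAlternating (R := A) (n := Fin (n + 1))).map_update_smul (Fin.cons 0 w) 0 c (e (m, 0))
        simpa only [Fin.update_cons_zero, RingHom.id_apply, smul_eq_mul] using this }
  have hs : Function.Surjective φ := by
    rw [← LinearMap.range_eq_top]
    by_contra hne
    obtain ⟨P, hP, hle⟩ := Ideal.exists_le_maximal _ hne
    letI := Ideal.Quotient.field P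
    let red : (Fin (n + 1) → A) →ₗ[A] (Fin (n + 1) → A ⧸ P) :=
      LinearMap.compLeft (Ideal.Quotient.mkₐ A P).toLinearMap (Fin (n + 1))
    have hred : ∀ v i, red v i = Ideal.Quotient.mk P (v i) := fun _ _ => rfl
    have hwli : LinearIndependent (A ⧸ P) (fun i => red (w i)) := by
      rw [Fintype.linearIndependent_iff]
      intro c hc
      choose c' hc' using fun i => Ideal.Quotient.mk_surjective (c i)
      have h1 : red (e (0, c')) = 0 := by
        rw [show c' = ∑ i, c' i • Pi.single i (1 : A) from by
          simpa using (pi_eq_sum_univ' c'), ← hc]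
        have h2 : e (0, ∑ i, c' i • Pi.single i (1 : A)) = ∑ i, c' i • w i := by
          simp only [w, ← map_smul, ← map_sum]
          congr 1
          ext <;> simp [Prod.fst_sum, Prod.snd_sum]
        rw [h2, map_sum]
        refine Finset.sum_congr rfl fun i _ => funext fun j => ?_
        rw [map_smul]
        show c' i • red (w i) j = c i * red (w i) j
        rw [← hc', Algebra.smul_def]
        rfl
      have h3 : ∀ v : Fin (n + 1) → A, red v = 0 → ∀ j, (e.symm v).2 j ∈ P := fun v hv j => by
        rw [pi_eq_sum_univ' v, map_sum, Prod.snd_sum, Finset.sum_apply]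
        refine sum_mem fun l _ => ?_
        rw [map_smul, Prod.smul_snd, Pi.smul_apply, smul_eq_mul]
        exact P.mul_mem_right _ (Ideal.Quotient.eq_zero_iff_mem.1 (by rw [← hred]; exact congrFun hv l))
      intro i
      have h4 := h3 _ h1 i
      rw [e.symm_apply_apply] at h4
      rw [← hc', Ideal.Quotient.eq_zero_iff_mem]
      exact h4
    have hW : ∀ m, red (e (m, 0)) ∈ Submodule.span (A ⧸ P) (Set.range fun i => red (w i)) := fun m => by
      by_contra h
      have h1 := linearIndependent_finCons.2 ⟨hwli, h⟩
      have h2 : IsUnit (Matrix.of (Fin.cons (red (e (m, 0))) (fun i => red (w i)) : Fin (n + 1) → Fin (n + 1) → A ⧸ P)) :=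
        Matrix.linearIndependent_rows_iff_isUnit.1 h1
      rw [Matrix.isUnit_iff_isUnit_det] at h2
      refine h2.ne_zero ?_
      rw [show (Matrix.of (Fin.cons (red (e (m, 0))) (fun i => red (w i)) : Fin (n + 1) → Fin (n + 1) → A ⧸ P)) =
          (Ideal.Quotient.mk P).mapMatrix (Matrix.of (Fin.cons (e (m, 0)) w : Fin (n + 1) → Fin (n + 1) → A)) by
        ext i j
        refine Fin.cases ?_ (fun i => ?_) i <;> simp [hred], ← RingHom.map_det, Ideal.Quotient.eq_zero_iff_mem]
      exact hle ⟨m, rfl⟩
    have htop : ∀ v : Fin (n + 1) → A, red v ∈ Submodule.span (A ⧸ P) (Set.range fun i => red (w i)) := fun v => by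
      have h1 : red v = red (e ((e.symm v).1, 0)) + ∑ i, (e.symm v).2 i • red (w i) := by
        simp only [w, ← map_smul, ← map_sum, ← map_add]
        congr 1
        conv_lhs => rw [← e.apply_symm_apply v]
        congr 1
        refine Prod.ext ?_ ?_
        · simp [Prod.fst_sum]
        · simpa [Prod.snd_sum] using (pi_eq_sum_univ' (e.symm v).2)
      rw [h1]
      refine add_mem (hW _) (sum_mem fun i _ => ?_)
      rw [← IsScalarTower.algebraMap_smul (A ⧸ P) ((e.symm v).2 i) (red (w i))]
      exact Submodule.smul_mem _ _ (Submodule.subset_span ⟨i, rfl⟩)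
    have hspan : Submodule.span (A ⧸ P) (Set.range fun i => red (w i)) = ⊤ := by
      refine eq_top_iff.2 fun v _ => ?_
      choose v' hv' using fun j => Ideal.Quotient.mk_surjective (v j)
      rw [show v = red v' from funext fun j => by rw [hred, hv']]
      exact htop v'
    have hcard := finrank_range_le_card (R := A ⧸ P) (fun i => red (w i))
    rw [Set.finrank, hspan, finrank_top, Module.finrank_fin_fun, Fintype.card_fin] at hcard
    omega
  exact Module.Free.of_equiv (LinearEquiv.ofBijective φ (Module.Invertible.bijective_of_surjective hs)).symm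

theorem isStablyFree_of_basis [Module.Finite A M] [Module.Free A M] [Nontrivial A] : IsStablyFree A M :=
  ⟨0, Fintype.card (Module.Free.ChooseBasisIndex A M),
    ⟨(LinearEquiv.prodUnique (R := A) (M := M) (M₂ := Fin 0 → A)).trans
      (((Module.Free.chooseBasis A M).reindex (Fintype.equivFin _)).equivFun)⟩⟩

theorem IsStablyFree.congr {M' : Type u} [AddCommGroup M'] [Module A M'] (e : M ≃ₗ[A] M') (h : IsStablyFree A M) :
    IsStablyFree A M' := by
  obtain ⟨a, b, ⟨f⟩⟩ := h
  exact ⟨a, b, ⟨(e.symm.prodCongr (LinearEquiv.refl A _)).trans f⟩⟩

theorem IsStablyFree.of_prod {K : Type u} [AddCommGroup K] [Module A K] {n : ℕ}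
    (e : (K × M) ≃ₗ[A] (Fin n → A)) (h : IsStablyFree A K) : IsStablyFree A M := by
  obtain ⟨a, b, ⟨f⟩⟩ := h
  let cat : ∀ m l : ℕ, ((Fin m → A) × (Fin l → A)) ≃ₗ[A] (Fin (m + l) → A) := fun m l =>
    (LinearEquiv.sumArrowLequivProdArrow (Fin m) (Fin l) A A).symm.trans
      (LinearEquiv.funCongrLeft A A finSumFinEquiv.symm)
  refine ⟨b, n + a, ⟨?_⟩⟩
  exact ((LinearEquiv.refl A M).prodCongr f.symm).trans <| (LinearEquiv.prodAssoc A M K _).symm.trans <|
    ((((LinearEquiv.prodComm A M K).trans e)).prodCongr (LinearEquiv.refl A _)).trans (cat n a)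

/-- Projective localizations of modules of finite projective dimension over a local ring are stably free. -/
theorem isStablyFree_localizedModule {R : Type u} [CommRing R] [IsLocalRing R] [IsNoetherianRing R] (S : Submonoid R)
    [Nontrivial (Localization S)] :
    ∀ (d : ℕ) (N : Type u) [AddCommGroup N] [Module R N] [Module.Finite R N],
      HasProjectiveDimensionLE (ModuleCat.of R N) d → Module.Projective (Localization S) (LocalizedModule S N) →
      IsStablyFree (Localization S) (LocalizedModule S N) := by
  intro d
  induction d with
  | zero =>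
    intro N _ _ _ h _
    haveI : CategoryTheory.Projective (ModuleCat.of R N) :=
      projective_iff_hasProjectiveDimensionLT_one.2 h
    haveI : Module.Projective R N := (IsProjective.iff_projective N).2 inferInstance
    haveI : Module.Free R N := Module.free_of_flat_of_isLocalRing
    haveI : Module.Free (Localization S) (LocalizedModule S N) :=
      Module.free_of_isLocalizedModule S (LocalizedModule.mkLinearMap S N)
    haveI : Module.Finite (Localization S) (LocalizedModule S N) :=
      Module.Finite.of_isLocalizedModule S (LocalizedModule.mkLinearMap S N)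
    exact isStablyFree_of_basis
  | succ d ih =>
    intro N _ _ _ h hproj
    obtain ⟨n, π, hπ⟩ := Module.Finite.exists_fin' R N
    let K := LinearMap.ker π
    haveI : Module.Finite R K := inferInstance
    let sc : ShortComplex (ModuleCat.{u} R) :=
      ShortComplex.mk (ModuleCat.ofHom K.subtype) (ModuleCat.ofHom π) (by
        ext x; exact x.2)
    have hsc : sc.ShortExact :=
      { exact := (ShortComplex.ShortExact.moduleCat_exact_iff_function_exact sc).2 (LinearMap.exact_subtype_ker_map π)
        mono_f := (ModuleCat.mono_iff_injective _).2 K.injective_subtype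
        epi_g := (ModuleCat.epi_iff_surjective _).2 hπ }
    haveI : CategoryTheory.Projective sc.X₂ := (IsProjective.iff_projective (Fin n → R)).1 inferInstance
    have hK : HasProjectiveDimensionLE (ModuleCat.of R K) d :=
      hsc.hasProjectiveDimensionLT_X₁ (d + 1) (hasProjectiveDimensionLT_of_ge _ 1 _ (by omega)) h
    let i' := LocalizedModule.map S K.subtype
    let p' := LocalizedModule.map S π
    have hi : Function.Injective i' := LocalizedModule.map_injective S _ K.injective_subtype
    have hp : Function.Surjective p' := LocalizedModule.map_surjective S _ hπ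
    have hex : Function.Exact i' p' := LocalizedModule.map_exact S _ _ (LinearMap.exact_subtype_ker_map π)
    obtain ⟨s, hs⟩ := Module.projective_lifting_property p' LinearMap.id hp
    have h1 : ∀ x, p' (s x) = x := LinearMap.congr_fun hs
    have h2 : ∀ x, p' (i' x) = 0 := fun x => (hex (i' x)).2 ⟨x, rfl⟩
    let e0 := LinearEquiv.ofBijective (i'.coprod s) ⟨fun x y hxy => by
        rw [LinearMap.coprod_apply, LinearMap.coprod_apply] at hxy
        have h3 := congrArg p' hxy
        rw [map_add, map_add, h1, h1, h2, h2, zero_add, zero_add] at h3
        rw [h3, add_left_inj] at hxy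
        exact Prod.ext (hi hxy) h3,
      fun y => by
        obtain ⟨x, hx⟩ := (hex (y - s (p' y))).1 (by rw [map_sub, h1, sub_self])
        exact ⟨(x, p' y), by rw [LinearMap.coprod_apply, hx, sub_add_cancel]⟩⟩
    let e := e0.symm
    haveI : Module.Free (Localization S) (LocalizedModule S (Fin n → R)) :=
      Module.free_of_isLocalizedModule S (LocalizedModule.mkLinearMap S (Fin n → R))
    haveI : Module.Finite (Localization S) (LocalizedModule S (Fin n → R)) :=
      Module.Finite.of_isLocalizedModule S (LocalizedModule.mkLinearMap S (Fin n → R))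
    haveI : Module.Projective (Localization S) (LocalizedModule S K) :=
      Module.Projective.of_split i' (LinearMap.fst _ _ _ ∘ₗ e.toLinearMap) (by
        ext x
        have : e (i' x) = (x, 0) := by
          rw [LinearEquiv.symm_apply_eq]; show i' x = (i'.coprod s) (x, 0); rw [LinearMap.coprod_apply, map_zero, add_zero]
        simp [this])
    exact IsStablyFree.of_prod (e.symm.trans ((Module.Free.chooseBasis (Localization S) _).reindex (Fintype.equivFin _)).equivFun) (ih K hK inferInstance)

end Groth.L03.StablyFree
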