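import Mathlib.LinearAlgebra.Finsupp.Pi
import Mathlib.LinearAlgebra.Prod
import Mathlib.Logic.Equiv.Nat
import Mathlib.LinearAlgebra.Finsupp.Defs
import Mathlib.LinearAlgebra.Finsupp.SumProd
import Mathlib.LinearAlgebra.Projection

/-!
The Eilenberg swindle.
-/

namespace Groth.L03.Swindle

universe u

variable {R : Type u} [CommRing R]

/-- Splitting off the first summand of a countable direct sum of copies. -/
noncomputable def natSplit (P : Type*) [AddCommGroup P] [Module R P] :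
    (P × (ℕ →₀ P)) ≃ₗ[R] (ℕ →₀ P) :=
  ((Finsupp.LinearEquiv.finsuppUnique R P PUnit.{1}).symm.prodCongr (LinearEquiv.refl R (ℕ →₀ P))).trans
    ((Finsupp.sumFinsuppLEquivProdFinsupp R).symm.trans
      (Finsupp.domLCongr ((Equiv.sumComm PUnit.{1} ℕ).trans Equiv.natSumPUnitEquivNat)))

/-- A countable direct sum of products. -/
noncomputable def prodSplit (P Q : Type*) [AddCommGroup P] [Module R P] [AddCommGroup Q] [Module R Q] :
    (ℕ →₀ P × Q) ≃ₗ[R] ((ℕ →₀ P) × (ℕ →₀ Q)) :=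
  LinearEquiv.ofLinear
    ((Finsupp.mapRange.linearMap (LinearMap.fst R P Q)).prod (Finsupp.mapRange.linearMap (LinearMap.snd R P Q)))
    ((Finsupp.mapRange.linearMap (LinearMap.inl R P Q)).coprod (Finsupp.mapRange.linearMap (LinearMap.inr R P Q)))
    (by
      refine LinearMap.ext fun x => Prod.ext ?_ ?_ <;>
      · ext i
        simp)
    (by
      refine LinearMap.ext fun x => ?_
      ext i <;> simp)

/-- If `P ⊕ Q` is free, then `P ⊕ F = F` for `F` a countable sum of copies of it. -/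
noncomputable def equiv' {P Q ι : Type*} [AddCommGroup P] [Module R P] [AddCommGroup Q] [Module R Q]
    (e : (P × Q) ≃ₗ[R] (ι →₀ R)) : (P × (ℕ →₀ (ι →₀ R))) ≃ₗ[R] (ℕ →₀ (ι →₀ R)) :=
  let e' : (ℕ →₀ (ι →₀ R)) ≃ₗ[R] ((ℕ →₀ P) × (ℕ →₀ Q)) :=
    (Finsupp.mapRange.linearEquiv e).symm.trans (prodSplit P Q)
  ((LinearEquiv.refl R P).prodCongr e').trans
    ((LinearEquiv.prodAssoc R P (ℕ →₀ P) (ℕ →₀ Q)).symm.trans
      (((natSplit P).prodCongr (LinearEquiv.refl R _)).trans e'.symm))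

/-- The same with `F` free on `ℕ × ι`. -/
noncomputable def equiv'' {P Q ι : Type*} [AddCommGroup P] [Module R P] [AddCommGroup Q] [Module R Q]
    (e : (P × Q) ≃ₗ[R] (ι →₀ R)) : (P × (ι × ℕ →₀ R)) ≃ₗ[R] (ι × ℕ →₀ R) :=
  let c : (ι × ℕ →₀ R) ≃ₗ[R] (ℕ →₀ (ι →₀ R)) :=
    (Finsupp.domLCongr (Equiv.prodComm ι ℕ)).trans (Finsupp.finsuppProdLEquiv R)
  ((LinearEquiv.refl R P).prodCongr c).trans ((equiv' e).trans c.symm)

/-- The same with `F` free on an infinite type. -/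
noncomputable def equiv {P Q ι : Type*} [AddCommGroup P] [Module R P] [AddCommGroup Q] [Module R Q]
    (e : (P × Q) ≃ₗ[R] (ι →₀ R)) (eι : ι × ℕ ≃ ι) : (P × (ι →₀ R)) ≃ₗ[R] (ι →₀ R) :=
  let d : (ι →₀ R) ≃ₗ[R] (ι × ℕ →₀ R) := (Finsupp.domLCongr eι).symm
  ((LinearEquiv.refl R P).prodCongr d).trans ((equiv'' e).trans d.symm)

theorem isCompl_range_ker {A B : Type*} [AddCommGroup A] [Module R A] [AddCommGroup B] [Module R B]
    {h : A →ₗ[R] B} {r : B →ₗ[R] A} (hrh : Function.LeftInverse r h) :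
    IsCompl (LinearMap.range h) (LinearMap.ker r) := by
  rw [isCompl_iff, Submodule.disjoint_def, codisjoint_iff, eq_top_iff]
  refine ⟨?_, fun b _ => Submodule.mem_sup.2 ⟨h (r b), LinearMap.mem_range_self _ _, b - h (r b), ?_, ?_⟩⟩
  · rintro _ ⟨a, rfl⟩ ha
    rw [← hrh a, LinearMap.mem_ker.1 ha, map_zero]
  · rw [LinearMap.mem_ker, map_sub, hrh, sub_self]
  · rw [add_sub_cancel]

end Groth.L03.Swindle
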