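import Groth.Agent.L02.CMMor.FlatDepth

/-!
`dim (N ⊗[A] M) ≤ dim M + dim (N / m N)` without flatness, and the comparison of dimensions along a
local homomorphism whose closed fibre has dimension zero.
-/

set_option autoImplicit false
set_option linter.style.haveILetI false
set_option maxSynthPendingDepth 3
universe u

open IsLocalRing TensorProduct L02.CMMor

namespace Groth.L03.TensorSuppDim

variable {A B : Type u} [CommRing A] [CommRing B] [Algebra A B] [IsLocalRing A] [IsNoetherianRing A]
  [IsLocalRing B] [IsNoetherianRing B] [IsLocalHom (algebraMap A B)]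
variable (N : Type u) [AddCommGroup N] [Module B N] [Module A N] [IsScalarTower A B N] [Module.Finite B N]
variable (M : Type u) [AddCommGroup M] [Module A M] [Module.Finite A M]

/-- `dim (N ⊗ M) ≤ dim M + dim N̄`. -/
theorem supportDim_tensor_le :
    Module.supportDim B (N ⊗[A] M) ≤ Module.supportDim A M + Module.supportDim B (EGA4.FibMod A B N) := by
  classical
  rcases subsingleton_or_nontrivial N with hN | hN
  · haveI : Subsingleton (N ⊗[A] M) := inferInstance
    rw [Module.supportDim_eq_bot_of_subsingleton B (N ⊗[A] M)]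
    exact bot_le
  rcases subsingleton_or_nontrivial M with hM | hM
  · haveI : Subsingleton (N ⊗[A] M) := inferInstance
    rw [Module.supportDim_eq_bot_of_subsingleton B (N ⊗[A] M)]
    exact bot_le
  haveI := finite_tensor (A := A) (B := B) N M
  let aM := Module.annihilator A M
  let aN := Module.annihilator B N
  let mB := (maximalIdeal A).map (algebraMap A B)
  have haM : aM ≤ maximalIdeal A := IsLocalRing.le_maximalIdeal (by
    rw [Ne, Module.annihilator_eq_top_iff]; exact not_subsingleton M)
  let I := aN ⊔ aM.map (algebraMap A B)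
  have hsupp : Module.support B (N ⊗[A] M) = Module.support B (B ⧸ I) := by
    rw [support_tensor, Module.support_eq_zeroLocus, Module.support_eq_zeroLocus, Module.support_eq_zeroLocus,
      Ideal.annihilator_quotient, PrimeSpectrum.preimage_comap_zeroLocus, ← PrimeSpectrum.zeroLocus_span (_ '' _),
      PrimeSpectrum.zeroLocus_sup]
    rfl
  have hI : I ≤ maximalIdeal B := sup_le (IsLocalRing.le_maximalIdeal (by
      rw [Ne, Module.annihilator_eq_top_iff]; exact not_subsingleton N))
    ((Ideal.map_mono haM).trans (IsLocalRing.map_maximalIdeal_le _))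
  have h1 : Module.supportDim B (N ⊗[A] M) = ringKrullDim (B ⧸ I) := by
    rw [← Module.supportDim_quotient_eq_ringKrullDim, Module.supportDim, Module.supportDim, hsupp]
  have h2 : Module.supportDim B (EGA4.FibMod A B N) = ringKrullDim (B ⧸ (aN ⊔ mB)) := by
    rw [← Module.supportDim_quotient_eq_ringKrullDim, Module.supportDim, Module.supportDim, Module.support_quotient,
      Module.support_eq_zeroLocus (M := B ⧸ (aN ⊔ mB)), Ideal.annihilator_quotient, PrimeSpectrum.zeroLocus_sup,
      Module.support_eq_zeroLocus]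
  rw [h1, h2, Module.supportDim_eq_ringKrullDim_quotient_annihilator]
  let C := B ⧸ I
  let A' := A ⧸ aM
  letI : Algebra A' C := (Ideal.quotientMap I (algebraMap A B)
    (Ideal.map_le_iff_le_comap.mp le_sup_right)).toAlgebra
  haveI : Nontrivial C := Ideal.Quotient.nontrivial_iff.mpr (ne_top_of_le_ne_top (maximalIdeal.isMaximal B).ne_top hI)
  haveI : Nontrivial A' := Ideal.Quotient.nontrivial_iff.mpr (ne_top_of_le_ne_top (maximalIdeal.isMaximal A).ne_top haM)
  haveI : IsLocalRing C := IsLocalRing.of_surjective' _ Ideal.Quotient.mk_surjective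
  haveI : IsLocalRing A' := IsLocalRing.of_surjective' _ Ideal.Quotient.mk_surjective
  haveI : IsLocalHom (Ideal.Quotient.mk I) := IsLocalHom.of_surjective _ Ideal.Quotient.mk_surjective
  haveI : IsLocalHom (algebraMap A' C) := ⟨fun x hx => by
    obtain ⟨x, rfl⟩ := Ideal.Quotient.mk_surjective x
    exact (IsUnit.of_map (algebraMap A B) _ (IsUnit.of_map (Ideal.Quotient.mk I) _ hx)).map _⟩
  haveI : (maximalIdeal C).LiesOver (maximalIdeal A') :=
    ⟨(IsLocalRing.maximalIdeal_comap (algebraMap A' C)).symm⟩
  let K := (maximalIdeal A').map (algebraMap A' C)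
  have hK : K ≠ ⊤ := ne_top_of_le_ne_top (maximalIdeal.isMaximal C).ne_top (IsLocalRing.map_maximalIdeal_le _)
  haveI : Nontrivial (C ⧸ K) := Ideal.Quotient.nontrivial_iff.mpr hK
  haveI : IsLocalRing (C ⧸ K) := IsLocalRing.of_surjective' _ Ideal.Quotient.mk_surjective
  have hmaxK : (maximalIdeal C).map (Ideal.Quotient.mk K) = maximalIdeal (C ⧸ K) :=
    IsLocalRing.map_maximalIdeal_of_surjective _ Ideal.Quotient.mk_surjective
  have h3 := Ideal.height_le_height_add_of_liesOver (maximalIdeal A') (maximalIdeal C)
  rw [hmaxK] at h3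
  have hKI : K = mB.map (Ideal.Quotient.mk I) := by
    show (maximalIdeal A').map (algebraMap A' C) = _
    rw [← IsLocalRing.map_maximalIdeal_of_surjective (Ideal.Quotient.mk aM) Ideal.Quotient.mk_surjective,
      Ideal.map_map, Ideal.map_map]
    rfl
  have he : ringKrullDim (C ⧸ K) = ringKrullDim (B ⧸ (aN ⊔ mB)) :=
    ringKrullDim_eq_of_ringEquiv ((Ideal.quotEquivOfEq hKI).trans ((DoubleQuot.quotQuotEquivQuotSup I mB).trans
      (Ideal.quotEquivOfEq (show aN ⊔ aM.map (algebraMap A B) ⊔ mB = aN ⊔ mB by rw [sup_assoc, sup_eq_right.mpr (Ideal.map_mono haM : aM.map (algebraMap A B) ≤ mB)]))))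
  rw [← he, ← maximalIdeal_height_eq_ringKrullDim (R := C), ← maximalIdeal_height_eq_ringKrullDim (R := C ⧸ K)]
  show ((maximalIdeal C).height : WithBot ℕ∞) ≤ ringKrullDim A' + _
  rw [← maximalIdeal_height_eq_ringKrullDim (R := A'), ← WithBot.coe_add]
  exact WithBot.coe_le_coe.mpr h3

omit [IsLocalHom (algebraMap A B)] [IsLocalRing A] [IsNoetherianRing A] [IsLocalRing B] [IsNoetherianRing B] [Module.Finite B N] in
theorem supportDim_tensor_self :
    Module.supportDim B (N ⊗[A] A) = Module.supportDim B N :=
  Module.supportDim_eq_of_equiv (AlgebraTensorModule.rid A B N)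

end Groth.L03.TensorSuppDim
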