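import Groth.Agent.L03.TorResidue
import Mathlib.LinearAlgebra.Prod
import Mathlib.RingTheory.Flat.Basic

/-!
The cone of a map of complexes of modules, on elements.
-/

set_option autoImplicit false
universe u

open TensorProduct

namespace Groth.L03.TorCone

variable {A : Type u} [CommRing A]

section elem

variable {V X Y Z W : Type u} [AddCommGroup V] [Module A V]
  [AddCommGroup X] [Module A X] [AddCommGroup Y] [Module A Y] [AddCommGroup Z] [Module A Z]
  [AddCommGroup W] [Module A W]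

lemma fst_inl (x : V ⊗[A] X) : (LinearMap.fst A X Y).lTensor V ((LinearMap.inl A X Y).lTensor V x) = x := by
  rw [← LinearMap.lTensor_comp_apply, LinearMap.fst_comp_inl, LinearMap.lTensor_id, LinearMap.id_apply]
lemma snd_inl (x : V ⊗[A] X) : (LinearMap.snd A X Y).lTensor V ((LinearMap.inl A X Y).lTensor V x) = 0 := by
  rw [← LinearMap.lTensor_comp_apply, LinearMap.snd_comp_inl, LinearMap.lTensor_zero, LinearMap.zero_apply]
lemma fst_inr (x : V ⊗[A] Y) : (LinearMap.fst A X Y).lTensor V ((LinearMap.inr A X Y).lTensor V x) = 0 := by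
  rw [← LinearMap.lTensor_comp_apply, LinearMap.fst_comp_inr, LinearMap.lTensor_zero, LinearMap.zero_apply]
lemma snd_inr (x : V ⊗[A] Y) : (LinearMap.snd A X Y).lTensor V ((LinearMap.inr A X Y).lTensor V x) = x := by
  rw [← LinearMap.lTensor_comp_apply, LinearMap.snd_comp_inr, LinearMap.lTensor_id, LinearMap.id_apply]

lemma coprod_apply (f : X →ₗ[A] Z) (g : Y →ₗ[A] Z) (z : V ⊗[A] (X × Y)) :
    (f ∘ₗ LinearMap.fst A X Y + g ∘ₗ LinearMap.snd A X Y).lTensor V z =
      f.lTensor V ((LinearMap.fst A X Y).lTensor V z) + g.lTensor V ((LinearMap.snd A X Y).lTensor V z) := by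
  rw [LinearMap.lTensor_add, LinearMap.add_apply, LinearMap.lTensor_comp_apply, LinearMap.lTensor_comp_apply]

lemma fst_prod (a : X →ₗ[A] Z) (b : X →ₗ[A] W) (z : V ⊗[A] X) :
    (LinearMap.fst A Z W).lTensor V ((LinearMap.prod a b).lTensor V z) = a.lTensor V z := by
  rw [← LinearMap.lTensor_comp_apply, LinearMap.fst_prod]

lemma snd_prod (a : X →ₗ[A] Z) (b : X →ₗ[A] W) (z : V ⊗[A] X) :
    (LinearMap.snd A Z W).lTensor V ((LinearMap.prod a b).lTensor V z) = b.lTensor V z := by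
  rw [← LinearMap.lTensor_comp_apply, LinearMap.snd_prod]

lemma ext₂ {z z' : V ⊗[A] (X × Y)} (h₁ : (LinearMap.fst A X Y).lTensor V z = (LinearMap.fst A X Y).lTensor V z')
    (h₂ : (LinearMap.snd A X Y).lTensor V z = (LinearMap.snd A X Y).lTensor V z') : z = z' := by
  have key : ∀ w : V ⊗[A] (X × Y), w = (LinearMap.inl A X Y).lTensor V ((LinearMap.fst A X Y).lTensor V w) +
      (LinearMap.inr A X Y).lTensor V ((LinearMap.snd A X Y).lTensor V w) := fun w => by
    induction w with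
    | zero => simp
    | tmul v p => simp [← tmul_add]
    | add a b ha hb => simp only [map_add]; rw [add_add_add_comm, ← ha, ← hb]
  rw [key z, key z', h₁, h₂]

lemma flat_prod [Module.Flat A X] [Module.Flat A Y] : Module.Flat A (X × Y) := by
  rw [Module.Flat.iff_rTensor_preserves_injective_linearMap]
  intro N N' _ _ _ _ g hg z z' h
  have key : ∀ {U : Type u} [AddCommGroup U] [Module A U] (p : (X × Y) →ₗ[A] U) (w : N ⊗[A] (X × Y)),
      p.lTensor N' (g.rTensor _ w) = g.rTensor U (p.lTensor N w) := fun p w => by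
    rw [← LinearMap.comp_apply, ← LinearMap.comp_apply, LinearMap.rTensor_comp_lTensor,
      LinearMap.lTensor_comp_rTensor]
  refine ext₂ ?_ ?_
  · apply Module.Flat.rTensor_preserves_injective_linearMap (M := X) g hg
    rw [← key, ← key, h]
  · apply Module.Flat.rTensor_preserves_injective_linearMap (M := Y) g hg
    rw [← key, ← key, h]

end elem

variable (X Y : ℕ → ModuleCat.{u} A) (dX : ∀ j, X (j + 1) →ₗ[A] X j) (dY : ∀ j, Y (j + 1) →ₗ[A] Y j)
  (f : ∀ j, X j →ₗ[A] Y j)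

/-- The terms of the shifted cone: `0, Y 0, X 0 × Y (0 + 1), X 1 × Y 2, …`. -/
def obj : ℕ → ModuleCat.{u} A
  | 0 => ModuleCat.of A PUnit
  | 1 => Y 0
  | j + 2 => ModuleCat.of A (X j × Y (j + 1))

/-- The differential of the shifted cone. -/
def d : ∀ j, obj X Y (j + 1) →ₗ[A] obj X Y j
  | 0 => 0
  | 1 => f 0 ∘ₗ LinearMap.fst A (X 0) (Y (0 + 1)) + dY 0 ∘ₗ LinearMap.snd A (X 0) (Y (0 + 1))
  | j + 2 => LinearMap.prod (-(dX j ∘ₗ LinearMap.fst A (X (j + 1)) (Y (j + 1 + 1))))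
      (f (j + 1) ∘ₗ LinearMap.fst A (X (j + 1)) (Y (j + 1 + 1)) + dY (j + 1) ∘ₗ LinearMap.snd A (X (j + 1)) (Y (j + 1 + 1)))

theorem flat [∀ j, Module.Flat A (X j)] [∀ j, Module.Flat A (Y j)] : ∀ j, Module.Flat A (obj X Y j)
  | 0 => inferInstanceAs (Module.Flat A PUnit)
  | 1 => inferInstanceAs (Module.Flat A (Y 0))
  | j + 2 => flat_prod (X := X j) (Y := Y (j + 1))

variable (hX : ∀ j x, dX j (dX (j + 1) x) = 0) (hY : ∀ j y, dY j (dY (j + 1) y) = 0)
  (hf : ∀ j x, f j (dX j x) = dY j (f (j + 1) x))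

include hX hY hf in
theorem dd : ∀ j, d X Y dX dY f j ∘ₗ d X Y dX dY f (j + 1) = 0
  | 0 => LinearMap.zero_comp _
  | 1 => LinearMap.ext fun (z : X 1 × Y 2) => by
      show f 0 (-dX 0 z.1) + dY 0 (f 1 z.1 + dY (0 + 1) z.2) = 0
      rw [map_neg, map_add, hY 0, add_zero, hf 0, neg_add_cancel]
  | j + 2 => LinearMap.ext fun (z : X (j + 1 + 1) × Y (j + 1 + 1 + 1)) => by
      show (-dX j (-dX (j + 1) z.1), f (j + 1) (-dX (j + 1) z.1) + dY (j + 1) (f (j + 1 + 1) z.1 + dY (j + 1 + 1) z.2)) = 0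
      refine Prod.ext ?_ ?_
      · dsimp only
        rw [map_neg, neg_neg, hX]
        rfl
      · dsimp only
        rw [map_neg, map_add, hY (j + 1), add_zero, hf (j + 1), neg_add_cancel]
        rfl

variable (V : Type u) [AddCommGroup V] [Module A V]

/-- `x` is a cycle of `V ⊗ X` in degree `j`. -/
def Cyc : ∀ j, V ⊗[A] X j → Prop
  | 0, _ => True
  | j + 1, x => (dX j).lTensor V x = 0

/-- `V ⊗ f` is surjective in homology. -/
def HomSurj : Prop :=
  (∀ z : V ⊗[A] Y 0, ∃ (x : V ⊗[A] X 0) (w : V ⊗[A] Y (0 + 1)), (f 0).lTensor V x + (dY 0).lTensor V w = z) ∧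
  ∀ j (z : V ⊗[A] Y (j + 1)), (dY j).lTensor V z = 0 → ∃ (x : V ⊗[A] X (j + 1)) (w : V ⊗[A] Y (j + 1 + 1)),
    (dX j).lTensor V x = 0 ∧ (f (j + 1)).lTensor V x + (dY (j + 1)).lTensor V w = z

/-- `V ⊗ f` is injective in homology. -/
def HomInj : Prop :=
  ∀ j (p : V ⊗[A] X j) (w : V ⊗[A] Y (j + 1)), Cyc X dX V j p → (f j).lTensor V p = (dY j).lTensor V w →
    ∃ a, (dX j).lTensor V a = p

include hf in
theorem exact_aux (hs : HomSurj X Y dX dY f V) (hi : HomInj X Y dX dY f V) (j : ℕ) (z : V ⊗[A] (X j × Y (j + 1)))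
    (hp : Cyc X dX V j ((LinearMap.fst A (X j) (Y (j + 1))).lTensor V z))
    (hq : (f j).lTensor V ((LinearMap.fst A (X j) (Y (j + 1))).lTensor V z) +
      (dY j).lTensor V ((LinearMap.snd A (X j) (Y (j + 1))).lTensor V z) = 0) :
    ∃ w : V ⊗[A] (X (j + 1) × Y (j + 1 + 1)), (LinearMap.prod (-(dX j ∘ₗ LinearMap.fst A _ _))
      (f (j + 1) ∘ₗ LinearMap.fst A _ _ + dY (j + 1) ∘ₗ LinearMap.snd A _ _)).lTensor V w = z := by
  obtain ⟨a, ha⟩ := hi j _ (-((LinearMap.snd A (X j) (Y (j + 1))).lTensor V z)) hp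
    (by rw [map_neg]; exact eq_neg_of_add_eq_zero_left hq)
  have hy : (dY j).lTensor V ((LinearMap.snd A (X j) (Y (j + 1))).lTensor V z + (f (j + 1)).lTensor V a) = 0 := by
    have hh : (dY j).lTensor V ((f (j + 1)).lTensor V a) =
        (f j).lTensor V ((LinearMap.fst A (X j) (Y (j + 1))).lTensor V z) := by
      rw [← LinearMap.comp_apply, ← LinearMap.lTensor_comp,
        show dY j ∘ₗ f (j + 1) = f j ∘ₗ dX j from LinearMap.ext fun x => (hf j x).symm,
        LinearMap.lTensor_comp_apply, ha]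
    rw [map_add, hh, add_comm]
    exact hq
  obtain ⟨x, e, hx, he⟩ := hs.2 j _ hy
  refine ⟨(LinearMap.inl A _ _).lTensor V (x - a) + (LinearMap.inr A _ _).lTensor V e, ext₂ ?_ ?_⟩
  · rw [fst_prod, LinearMap.lTensor_neg, LinearMap.neg_apply, LinearMap.lTensor_comp_apply, map_add, fst_inl,
      fst_inr, add_zero, map_sub, hx, ha, zero_sub, neg_neg]
  · rw [snd_prod, coprod_apply]
    simp only [map_add, fst_inl, fst_inr, snd_inl, snd_inr, add_zero, zero_add, map_zero]
    rw [map_sub, sub_add_eq_add_sub, he, add_sub_cancel_right]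

include hf in
theorem ex (hs : HomSurj X Y dX dY f V) (hi : HomInj X Y dX dY f V) :
    Groth.L03.TorResidue.Ex (d X Y dX dY f) 0 V
  | 0, _ => fun (z : V ⊗[A] Y 0) _ => by
      obtain ⟨x, w, he⟩ := hs.1 z
      refine ⟨(LinearMap.inl A (X 0) (Y (0 + 1))).lTensor V x + (LinearMap.inr A (X 0) (Y (0 + 1))).lTensor V w, ?_⟩
      refine (coprod_apply (f 0) (dY 0) _).trans ?_
      simp only [map_add, fst_inl, fst_inr, snd_inl, snd_inr, add_zero, zero_add, map_zero]
      exact he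
  | 1, _ => fun (z : V ⊗[A] (X 0 × Y (0 + 1))) hz =>
      exact_aux X Y dX dY f hf V hs hi 0 z trivial ((coprod_apply (f 0) (dY 0) z).symm.trans hz)
  | j + 2, _ => fun (z : V ⊗[A] (X (j + 1) × Y (j + 1 + 1))) hz => by
      have h1 : ((LinearMap.prod (-(dX j ∘ₗ LinearMap.fst A (X (j + 1)) (Y (j + 1 + 1))))
        (f (j + 1) ∘ₗ LinearMap.fst A _ _ + dY (j + 1) ∘ₗ LinearMap.snd A _ _))).lTensor V z = 0 := hz
      refine exact_aux X Y dX dY f hf V hs hi (j + 1) z ?_ ?_
      · have h2 := congrArg ((LinearMap.fst A _ _).lTensor V) h1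
        rw [fst_prod, map_zero, LinearMap.lTensor_neg, LinearMap.neg_apply, neg_eq_zero, LinearMap.lTensor_comp_apply] at h2
        exact h2
      · have h2 := congrArg ((LinearMap.snd A _ _).lTensor V) h1
        rw [snd_prod, map_zero, coprod_apply] at h2
        exact h2

end Groth.L03.TorCone
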