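import Mathlib.Algebra.Category.ModuleCat.Basic
import Mathlib.RingTheory.Flat.Basic
import Mathlib.RingTheory.Noetherian.Basic
import Mathlib.RingTheory.LocalRing.ResidueField.Ideal
import Mathlib.LinearAlgebra.TensorProduct.RightExactness
import Mathlib.RingTheory.TensorProduct.DirectLimitFG

/-!
A complex of flat modules over a Noetherian ring which becomes exact after tensoring with every
residue field becomes exact after tensoring with every module (in a given range of degrees).
-/

set_option autoImplicit false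
universe u

open TensorProduct

namespace Groth.L03.TorResidue

variable {A : Type u} [CommRing A] {C : ℕ → ModuleCat.{u} A} (d : ∀ i, C (i + 1) →ₗ[A] C i)

/-- `N ⊗ C` is exact in degrees `> n`. -/
def Ex (n : ℕ) (N : Type u) [AddCommGroup N] [Module A N] : Prop :=
  ∀ i, n ≤ i → ∀ z : N ⊗[A] C (i + 1), (d i).lTensor N z = 0 → ∃ w, (d (i + 1)).lTensor N w = z

variable {n : ℕ} {N N' N'' : Type u} [AddCommGroup N] [Module A N] [AddCommGroup N'] [Module A N']
  [AddCommGroup N''] [Module A N'']

lemma swap (f : N →ₗ[A] N') {X Y : ModuleCat.{u} A} (g : X →ₗ[A] Y) (z : N ⊗[A] X) :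
    f.rTensor Y (g.lTensor N z) = g.lTensor N' (f.rTensor X z) := by
  rw [← LinearMap.comp_apply, ← LinearMap.comp_apply, LinearMap.rTensor_comp_lTensor,
    LinearMap.lTensor_comp_rTensor]

lemma Ex.of_equiv (h : Ex d n N) (e : N ≃ₗ[A] N') : Ex d n N' := by
  intro i hi z hz
  obtain ⟨w, hw⟩ := h i hi (e.symm.toLinearMap.rTensor _ z) (by rw [← swap, hz, map_zero])
  refine ⟨e.toLinearMap.rTensor _ w, ?_⟩
  rw [← swap, hw, ← LinearMap.comp_apply, ← LinearMap.rTensor_comp]
  simp

lemma Ex.of_subsingleton [Subsingleton N] : Ex d n N := fun i _ z _ =>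
  ⟨0, (subsingleton_tensor N _ z).symm ▸ map_zero _⟩
where
  subsingleton_tensor (N : Type u) [AddCommGroup N] [Module A N] [Subsingleton N]
      (X : ModuleCat.{u} A) (z : N ⊗[A] X) : z = 0 := by
    induction z with
    | zero => rfl
    | tmul x y => rw [Subsingleton.elim x 0, zero_tmul]
    | add x y hx hy => rw [hx, hy, add_zero]

variable (hd : ∀ i, d i ∘ₗ d (i + 1) = 0)
include hd

lemma dd (i : ℕ) (w : N ⊗[A] C (i + 1 + 1)) : (d i).lTensor N ((d (i + 1)).lTensor N w) = 0 := by
  rw [← LinearMap.lTensor_comp_apply, hd, LinearMap.lTensor_zero, LinearMap.zero_apply]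

variable [∀ i, Module.Flat A (C i)]

lemma Ex.of_exact {f : N' →ₗ[A] N} {g : N →ₗ[A] N''} (hf : Function.Injective f)
    (hg : Function.Surjective g) (he : Function.Exact f g) (h' : Ex d n N') (h'' : Ex d n N'') :
    Ex d n N := by
  intro i hi z hz
  obtain ⟨w'', hw''⟩ := h'' i hi (g.rTensor _ z) (by rw [← swap, hz, map_zero])
  obtain ⟨w, rfl⟩ := LinearMap.rTensor_surjective _ hg w''
  rw [← swap] at hw''
  obtain ⟨z', hz'⟩ := (rTensor_exact (C (i + 1)) he hg (z - (d (i + 1)).lTensor N w)).mp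
    (by rw [map_sub, hw'', sub_self])
  obtain ⟨v, hv⟩ := h' i hi z' (Module.Flat.rTensor_preserves_injective_linearMap f hf (by
    rw [swap, hz', map_sub, hz, dd d hd, sub_zero, map_zero]))
  refine ⟨f.rTensor _ v + w, ?_⟩
  rw [map_add, ← swap, hv, hz', sub_add_cancel]

lemma ex_of_bigger (p : Ideal A) [p.IsPrime] (hκ : Ex d n p.ResidueField)
    (hbig : ∀ a ∉ p, Ex d n (A ⧸ (p ⊔ Ideal.span {a}))) : Ex d n (A ⧸ p) := by
  intro i hi z hz
  let ι : (A ⧸ p) →ₗ[A] p.ResidueField := (IsScalarTower.toAlgHom A (A ⧸ p) p.ResidueField).toLinearMap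
  have hι : Function.Injective ι := IsFractionRing.injective (A ⧸ p) p.ResidueField
  obtain ⟨w, hw⟩ := hκ i hi (ι.rTensor _ z) (by rw [← swap, hz, map_zero])
  have key : ∀ (X : ModuleCat.{u} A) (w : p.ResidueField ⊗[A] X),
      ∃ a ∉ p, ∃ w' : (A ⧸ p) ⊗[A] X, ι.rTensor X w' = a • w := by
    intro X w
    induction w with
    | zero => exact ⟨1, fun h => Ideal.IsPrime.ne_top' ((Ideal.eq_top_iff_one p).mpr h), 0, by simp⟩
    | tmul x y =>
      obtain ⟨b, c, hc, rfl⟩ := IsFractionRing.div_surjective (A ⧸ p) x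
      obtain ⟨c₀, rfl⟩ := Ideal.Quotient.mk_surjective c
      have hc0 : c₀ ∉ p := fun h => nonZeroDivisors.ne_zero hc (Ideal.Quotient.eq_zero_iff_mem.mpr h)
      refine ⟨c₀, hc0, b ⊗ₜ y, ?_⟩
      rw [LinearMap.rTensor_tmul, smul_tmul', Algebra.smul_def]
      congr 1
      show algebraMap (A ⧸ p) p.ResidueField b = _
      rw [IsScalarTower.algebraMap_apply A (A ⧸ p) p.ResidueField, Ideal.Quotient.algebraMap_eq, mul_div_cancel₀]
      · exact fun h => nonZeroDivisors.ne_zero hc
          (IsFractionRing.injective (A ⧸ p) p.ResidueField (h.trans (map_zero _).symm))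
    | add x y hx hy =>
      obtain ⟨a, ha, x', hx'⟩ := hx
      obtain ⟨b, hb, y', hy'⟩ := hy
      refine ⟨a * b, (inferInstance : p.IsPrime).mul_notMem ha hb, b • x' + a • y', ?_⟩
      rw [map_add, map_smul, map_smul, hx', hy', smul_add, smul_smul, smul_smul, mul_comm b a]
  obtain ⟨a, ha, w', hw'⟩ := key _ w
  have h1 : a • z = (d (i + 1)).lTensor (A ⧸ p) w' :=
    Module.Flat.rTensor_preserves_injective_linearMap ι hι
      (by rw [map_smul, swap, hw', map_smul, hw])
  let f : (A ⧸ p) →ₗ[A] (A ⧸ p) := a • LinearMap.id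
  let g : (A ⧸ p) →ₗ[A] (A ⧸ (p ⊔ Ideal.span {a})) :=
    (Ideal.Quotient.factorₐ A (le_sup_left : p ≤ p ⊔ Ideal.span {a})).toLinearMap
  have hfr : ∀ (X : ModuleCat.{u} A) (u : (A ⧸ p) ⊗[A] X), f.rTensor X u = a • u := fun X u => by
    simp [f, LinearMap.rTensor_smul]
  have hf : Function.Injective f := by
    intro x y h
    obtain ⟨x, rfl⟩ := Ideal.Quotient.mk_surjective x
    obtain ⟨y, rfl⟩ := Ideal.Quotient.mk_surjective y
    have h' : Ideal.Quotient.mk p (a * x) = Ideal.Quotient.mk p (a * y) := h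
    rw [Ideal.Quotient.eq, ← mul_sub] at h'
    exact Ideal.Quotient.eq.mpr (((inferInstance : p.IsPrime).mem_or_mem h').resolve_left ha)
  have hg : Function.Surjective g := Ideal.Quotient.factor_surjective le_sup_left
  have he : Function.Exact f g := by
    intro y
    obtain ⟨y, rfl⟩ := Ideal.Quotient.mk_surjective y
    show Ideal.Quotient.mk _ y = 0 ↔ _
    rw [Ideal.Quotient.eq_zero_iff_mem, Submodule.mem_sup]
    constructor
    · rintro ⟨u, hu, v, hv, rfl⟩
      obtain ⟨c, rfl⟩ := Ideal.mem_span_singleton'.mp hv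
      refine ⟨Ideal.Quotient.mk p c, ?_⟩
      show Ideal.Quotient.mk p (a * c) = _
      rw [map_add, Ideal.Quotient.eq_zero_iff_mem.mpr hu, zero_add, mul_comm]
    · rintro ⟨x, hx⟩
      obtain ⟨x, rfl⟩ := Ideal.Quotient.mk_surjective x
      have hx' : Ideal.Quotient.mk p (a * x) = Ideal.Quotient.mk p y := hx
      exact ⟨y - a * x, Ideal.Quotient.eq.mp hx'.symm, a * x,
        Ideal.mul_mem_right _ _ (Ideal.mem_span_singleton_self a), sub_add_cancel _ _⟩
  have hga : ∀ x, g (a • x) = 0 := fun x => (he (a • x)).mpr ⟨x, rfl⟩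
  have hgz : ∀ (X : ModuleCat.{u} A) (u : (A ⧸ p) ⊗[A] X), g.rTensor X (a • u) = 0 := fun X u =>
    (rTensor_exact X he hg (a • u)).mpr ⟨u, hfr X u⟩
  obtain ⟨v'', hv''⟩ := hbig a ha (i + 1) (hi.trans (Nat.le_succ _)) (g.rTensor _ w')
    (by rw [← swap, ← h1, hgz])
  obtain ⟨v, rfl⟩ := LinearMap.rTensor_surjective _ hg v''
  rw [← swap] at hv''
  obtain ⟨t, ht⟩ := (rTensor_exact (C (i + 1 + 1)) he hg (w' - (d (i + 1 + 1)).lTensor _ v)).mp
    (by rw [map_sub, hv'', sub_self])
  refine ⟨t, Module.Flat.rTensor_preserves_injective_linearMap f hf ?_⟩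
  rw [hfr (C (i + 1)) z, h1, swap, ht, map_sub, dd d hd, sub_zero]

theorem ex_of_residue [IsNoetherianRing A] (h : ∀ (p : Ideal A) [p.IsPrime], Ex d n p.ResidueField)
    (N : Type u) [AddCommGroup N] [Module A N] : Ex d n N := by
  have hcyc : ∀ J : Ideal A, Ex d n (A ⧸ J) := fun J => by
    induction J using WellFoundedGT.induction with
    | _ J ih =>
      by_cases hJ : J = ⊤
      · haveI : Subsingleton (A ⧸ J) := Ideal.Quotient.subsingleton_iff.mpr hJ
        exact Ex.of_subsingleton d
      by_cases hp : J.IsPrime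
      · exact ex_of_bigger d hd J (h J) fun a ha =>
          ih _ (left_lt_sup.mpr fun hle => ha (hle (Ideal.mem_span_singleton_self a)))
      obtain ⟨a, ha, b, hb, hab⟩ := (Ideal.not_isPrime_iff.mp hp).resolve_left hJ
      let K : Ideal A := J.colon {a}
      have hK : J < K := lt_of_le_of_ne (fun x hx => Submodule.mem_colon_singleton.mpr (J.mul_mem_right a hx))
        (fun he => hb (he ▸ (Submodule.mem_colon_singleton.mpr (by rw [smul_eq_mul, mul_comm]; exact hab) : b ∈ K)))
      have hJa : J < J ⊔ Ideal.span {a} := left_lt_sup.mpr fun hle => ha (hle (Ideal.mem_span_singleton_self a))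
      let f : (A ⧸ K) →ₗ[A] (A ⧸ J) := Submodule.mapQ K J (LinearMap.toSpanSingleton A A a) fun x hx => by
        simpa [Submodule.mem_colon_singleton, K] using hx
      let g : (A ⧸ J) →ₗ[A] (A ⧸ (J ⊔ Ideal.span {a})) :=
        (Ideal.Quotient.factorₐ A (le_sup_left : J ≤ J ⊔ Ideal.span {a})).toLinearMap
      refine Ex.of_exact d hd (f := f) (g := g) ?_ (Ideal.Quotient.factor_surjective le_sup_left) ?_
        (ih K hK) (ih _ hJa)
      · intro x y hxy
        obtain ⟨x, rfl⟩ := Ideal.Quotient.mk_surjective x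
        obtain ⟨y, rfl⟩ := Ideal.Quotient.mk_surjective y
        have h' : Ideal.Quotient.mk J (x * a) = Ideal.Quotient.mk J (y * a) := hxy
        rw [Ideal.Quotient.eq, ← sub_mul] at h'
        exact Ideal.Quotient.eq.mpr (Submodule.mem_colon_singleton.mpr h')
      · intro y
        obtain ⟨y, rfl⟩ := Ideal.Quotient.mk_surjective y
        show Ideal.Quotient.mk _ y = 0 ↔ _
        rw [Ideal.Quotient.eq_zero_iff_mem, Submodule.mem_sup]
        constructor
        · rintro ⟨u, hu, v, hv, rfl⟩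
          obtain ⟨c, rfl⟩ := Ideal.mem_span_singleton'.mp hv
          refine ⟨Ideal.Quotient.mk K c, ?_⟩
          show Ideal.Quotient.mk J (c * a) = _
          rw [map_add, Ideal.Quotient.eq_zero_iff_mem.mpr hu, zero_add]
        · rintro ⟨x, hx⟩
          obtain ⟨x, rfl⟩ := Ideal.Quotient.mk_surjective x
          have hx' : Ideal.Quotient.mk J (x * a) = Ideal.Quotient.mk J y := hx
          exact ⟨y - x * a, Ideal.Quotient.eq.mp hx'.symm, x * a,
            Ideal.mul_mem_left _ _ (Ideal.mem_span_singleton_self a), sub_add_cancel _ _⟩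
  have hfin : ∀ (k : ℕ) (M : Type u) (_ : AddCommGroup M) (_ : Module A M) (g : Fin k → M),
      Submodule.span A (Set.range g) = ⊤ → Ex d n M := fun k => by
    induction k with
    | zero =>
      intro M _ _ g hg
      haveI : Subsingleton M := subsingleton_of_forall_eq 0 fun x => by
        have hx : x ∈ (Submodule.span A (Set.range g)) := hg ▸ Submodule.mem_top
        rwa [Set.range_eq_empty, Submodule.span_empty, Submodule.mem_bot] at hx
      exact Ex.of_subsingleton d
    | succ k ih =>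
      intro M _ _ g hg
      let x := g 0
      let f : (A ⧸ LinearMap.ker (LinearMap.toSpanSingleton A M x)) →ₗ[A] M :=
        Submodule.liftQ _ (LinearMap.toSpanSingleton A M x) le_rfl
      refine Ex.of_exact d hd (f := f) (g := (LinearMap.range f).mkQ)
        (LinearMap.ker_eq_bot.mp (Submodule.ker_liftQ_eq_bot _ _ _ le_rfl))
        (Submodule.mkQ_surjective _) (LinearMap.exact_map_mkQ_range f) (hcyc _)
        (ih _ _ _ (fun j => (LinearMap.range f).mkQ (g j.succ)) (top_le_iff.mp ?_))
      rintro y -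
      obtain ⟨y, rfl⟩ := Submodule.mkQ_surjective _ y
      obtain ⟨c, rfl⟩ := (Submodule.mem_span_range_iff_exists_fun A).mp (hg ▸ Submodule.mem_top : y ∈ Submodule.span A (Set.range g))
      rw [map_sum]
      refine Submodule.sum_mem _ fun j _ => ?_
      rw [map_smul]
      refine Submodule.smul_mem _ _ ?_
      refine Fin.cases ?_ (fun j => Submodule.subset_span ⟨j, rfl⟩) j
      have hx0 : (LinearMap.range f).mkQ x = 0 := (Submodule.Quotient.mk_eq_zero _).mpr
        ⟨Submodule.Quotient.mk 1, by show LinearMap.toSpanSingleton A M x 1 = x; simp⟩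
      show (LinearMap.range f).mkQ x ∈ _
      rw [hx0]; exact Submodule.zero_mem _
  have hfg : ∀ Q : Submodule A N, Q.FG → Ex d n Q := fun Q hQ => by
    haveI : Module.Finite A Q := Module.Finite.iff_fg.mpr hQ
    obtain ⟨k, g, hg⟩ := Module.Finite.exists_fin (R := A) (M := Q)
    exact hfin k Q _ _ g hg
  intro i hi z hz
  obtain ⟨Q, hQ, z', rfl⟩ := TensorProduct.exists_of_fg z
  obtain ⟨w, hw⟩ := hfg Q hQ i hi z' (Module.Flat.rTensor_preserves_injective_linearMap (Submodule.subtype Q)
    Subtype.val_injective (by rw [swap, hz, map_zero]))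
  exact ⟨(Submodule.subtype Q).rTensor _ w, by rw [← swap, hw]⟩

end Groth.L03.TorResidue
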